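import Cfsg.Agent.Lib.Blocks12.PRegularInd
import Cfsg.Agent.Lib.Blocks.WeakOrth
import Cfsg.Agent.Lib.Blocks.ClassCount
import Cfsg.Agent.Lib.Blocks.Idempotent

/-!
Contributions `c(χ, ψ) = p^d ⟨χ restricted to p-regular, ψ⟩` of a block of defect `d`:
integrality, congruence to `u_χ u_ψ γ`, nonvanishing at height zero.
-/

namespace CfsgLib.Contribution

open Cfsg CfsgLib.Characters CfsgLib.Blocks
open scoped ComplexConjugate

universe u

variable {G : Type u} [Group G] [Fintype G] {p : ℕ} {M : Ideal AlgInt}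

/-- The least exponent of `p` in a degree of `B`, that is `a - d`. -/
noncomputable def minExp (p : ℕ) (B : Set (IrrCharacter G)) : ℕ :=
  sInf ((fun χ : IrrCharacter G => (charDegree (χ : G → ℂ)).factorization p) '' B)

omit [Fintype G] in
theorem blockDefect_eq (p : ℕ) (B : Set (IrrCharacter G)) :
    blockDefect p B = (Nat.card G).factorization p - minExp p B := rfl

omit [Fintype G] in
theorem minExp_le {B : Set (IrrCharacter G)} {χ : IrrCharacter G} (hχ : χ ∈ B) :
    minExp p B ≤ (charDegree (χ : G → ℂ)).factorization p :=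
  Nat.sInf_le ⟨χ, hχ, rfl⟩

theorem exp_le (p : ℕ) (χ : IrrCharacter G) :
    (charDegree (χ : G → ℂ)).factorization p ≤ (Nat.card G).factorization p :=
  (Nat.factorization_le_iff_dvd (CfsgLib.ClassCount.degree_eq χ).2.2.ne' Nat.card_pos.ne').2
    (CfsgLib.ClassCount.degree_eq χ).2.1 p

/-- The degree divided by `p ^ minExp`. -/
noncomputable def red (p : ℕ) (B : Set (IrrCharacter G)) (χ : IrrCharacter G) : ℕ :=
  charDegree (χ : G → ℂ) / p ^ minExp p B

theorem degree_red {B : Set (IrrCharacter G)} {χ : IrrCharacter G} (hχ : χ ∈ B) :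
    charDegree (χ : G → ℂ) = p ^ minExp p B * red p B χ :=
  (Nat.mul_div_cancel' ((pow_dvd_pow p (minExp_le hχ)).trans (Nat.ordProj_dvd _ p))).symm

theorem apply_one_red {B : Set (IrrCharacter G)} {χ : IrrCharacter G} (hχ : χ ∈ B) :
    (χ : G → ℂ) 1 = (p : ℂ) ^ minExp p B * (red p B χ : ℂ) := by
  rw [(CfsgLib.ClassCount.degree_eq χ).1, degree_red (p := p) hχ]
  push_cast; rfl

theorem red_pos {B : Set (IrrCharacter G)} {χ : IrrCharacter G} (hχ : χ ∈ B) :
    0 < red p B χ := by
  have h := (CfsgLib.ClassCount.degree_eq χ).2.2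
  rw [degree_red (p := p) hχ] at h
  exact Nat.pos_of_ne_zero fun h0 => by rw [h0, mul_zero] at h; exact lt_irrefl 0 h

theorem pow_dvd_red (hp : p.Prime) {B : Set (IrrCharacter G)} {χ : IrrCharacter G} (hχ : χ ∈ B)
    {k : ℕ} : p ^ k ∣ red p B χ ↔ minExp p B + k ≤ (charDegree (χ : G → ℂ)).factorization p := by
  rw [← hp.pow_dvd_iff_le_factorization (CfsgLib.ClassCount.degree_eq χ).2.2.ne',
    degree_red (p := p) hχ, pow_add]
  exact (Nat.mul_dvd_mul_iff_left (pow_pos hp.pos _)).symm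

theorem exists_height_zero (hM : IsPModular p M) {B : Set (IrrCharacter G)} (hB : IsPBlock M B) :
    ∃ χ ∈ B, ¬ p ∣ red p B χ ∧ (charDegree (χ : G → ℂ)).factorization p = minExp p B := by
  obtain ⟨χ, hχ, hv⟩ := Nat.sInf_mem ((IsPBlock.nonempty hM hB).image
    (fun χ : IrrCharacter G => (charDegree (χ : G → ℂ)).factorization p))
  refine ⟨χ, hχ, fun h => ?_, hv⟩
  have h1 := (pow_dvd_red hM.1 hχ (k := 1)).mp (by rwa [pow_one])
  have h2 : (charDegree (χ : G → ℂ)).factorization p = minExp p B := hv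
  omega

theorem minExp_add_defect (hM : IsPModular p M) {B : Set (IrrCharacter G)} (hB : IsPBlock M B) :
    minExp p B + blockDefect p B = (Nat.card G).factorization p := by
  obtain ⟨χ, -, -, hv⟩ := exists_height_zero hM hB
  rw [blockDefect_eq, ← hv]
  have := exp_le p χ
  omega

/-- An integer which is `p^k` times a local integer is divisible by `p^k`. -/
theorem int_pow_dvd (hM : IsPModular p M) {z : ℤ} {c : ℂ} (hc : MemLocalRing M c) :
    ∀ {k : ℕ}, (z : ℂ) = (p : ℂ) ^ k * c → (p : ℤ) ^ k ∣ z := by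
  intro k
  induction k generalizing z with
  | zero => intro _; simp
  | succ k ih =>
    intro h
    have h1 : (z : ℂ) = (p : ℂ) * ((p : ℂ) ^ k * c) := by rw [h, pow_succ']; ring
    have hmem : MemLocalRing M ((p : ℂ) ^ k * c) :=
      (lRing hM).mul_mem ((lRing hM).pow_mem (natCast_mem (lRing hM) p) k) hc
    have hI : MemLocalIdeal M (((z : AlgInt)) : ℂ) := by
      rw [show (((z : AlgInt)) : ℂ) = (z : ℂ) by simp, h1]
      exact MemLocalIdeal.mul_right hM (memLocalIdeal_p hM) hmem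
    obtain ⟨w, hw⟩ := (intCast_mem_iff hM z).mp ((memLocalIdeal_coe_iff hM _).mp hI)
    rw [hw, pow_succ']
    refine mul_dvd_mul_left _ (ih (mul_left_cancel₀ (Nat.cast_ne_zero.mpr hM.1.ne_zero : (p : ℂ) ≠ 0) ?_))
    rw [← h1, hw]; push_cast; rfl

theorem memLocalIdeal_intCast_iff (hM : IsPModular p M) (z : ℤ) :
    MemLocalIdeal M (z : ℂ) ↔ (p : ℤ) ∣ z := by
  rw [← intCast_mem_iff hM z, ← memLocalIdeal_coe_iff hM (z : AlgInt)]
  simp

open scoped Classical in
/-- The sum over the `p`-regular elements. -/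
noncomputable def regSum (p : ℕ) (φ ψ : G → ℂ) : ℂ :=
  ∑ x ∈ Finset.univ.filter (fun x : G => ¬ p ∣ orderOf x), φ x * conj (ψ x)

/-- The contribution. -/
noncomputable def contrib (p d : ℕ) (χ ψ : IrrCharacter G) : ℂ :=
  (p : ℂ) ^ d * (Nat.card G : ℂ)⁻¹ * regSum p (χ : G → ℂ) (ψ : G → ℂ)

theorem contrib_conj (d : ℕ) (χ ψ : IrrCharacter G) :
    conj (contrib p d χ ψ) = contrib p d ψ χ := by
  classical
  simp only [contrib, regSum, map_mul, map_pow, map_inv₀, Complex.conj_natCast, map_sum,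
    Complex.conj_conj]
  congr 1
  exact Finset.sum_congr rfl fun x _ => mul_comm _ _

theorem exists_int_sum (hp : p.Prime) (χ ψ : IrrCharacter G) :
    ∃ z : ℤ, ((p : ℂ) ^ (Nat.card G).factorization p) * (Nat.card G : ℂ)⁻¹ *
      regSum p (χ : G → ℂ) (ψ : G → ℂ) = z := by
  classical
  obtain ⟨z, hz⟩ := classInner_generalized_int
    (isGeneralizedCharacter_mul (regInd_generalized (G := G) hp) (isGeneralizedCharacter_irr χ))
    (isGeneralizedCharacter_irr ψ)
  refine ⟨z, ?_⟩
  rw [← hz, classInner, regSum, Finset.sum_filter, Finset.mul_sum, Finset.mul_sum]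
  refine Finset.sum_congr rfl fun x _ => ?_
  simp only [Pi.mul_apply, regInd]
  split_ifs <;> (push_cast; ring)

/-- Sum over a group of a class function weighted by inverse class size. -/
theorem sum_div_index (F : G → ℂ) (hF : ∀ g h : G, F (h * g * h⁻¹) = F g) [Fintype (ConjClasses G)] :
    ∑ x : G, F x / ((Subgroup.centralizer ({x} : Set G)).index : ℂ) = ∑ c : ConjClasses G, F c.out := by
  classical
  rw [← Finset.sum_fiberwise Finset.univ ConjClasses.mk]
  refine Finset.sum_congr rfl fun c _ => ?_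
  have hc : ∀ x : G, ConjClasses.mk x = c ↔ IsConj c.out x := by
    intro x
    rw [isConj_comm, ← ConjClasses.mk_eq_mk_iff_isConj,
      show ConjClasses.mk c.out = c from Quotient.out_eq c]
  rw [Finset.sum_congr rfl (fun x hx => ?_ : ∀ x ∈ Finset.univ.filter (ConjClasses.mk · = c),
      F x / ((Subgroup.centralizer ({x} : Set G)).index : ℂ) =
        F c.out / ((Subgroup.centralizer ({c.out} : Set G)).index : ℂ)), Finset.sum_const, nsmul_eq_mul,
    Finset.filter_congr (fun x _ => hc x), ← Fintype.card_subtype, ← Nat.card_eq_fintype_card, natCard_isConj]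
  · exact mul_div_cancel₀ _ (Nat.cast_ne_zero.mpr Subgroup.index_ne_zero_of_finite)
  · have h := (hc x).1 (Finset.mem_filter.1 hx).2
    obtain ⟨e, he⟩ := isConj_iff.1 h
    congr 1
    · rw [← he, hF]
    · rw [← natCard_isConj, ← natCard_isConj, Nat.cast_inj]
      exact Nat.card_congr (Equiv.subtypeEquivRight fun y => ⟨fun H => h.trans H, fun H => h.symm.trans H⟩)

theorem centralizer_singleton_inv (g : G) :
    Subgroup.centralizer ({g⁻¹} : Set G) = Subgroup.centralizer ({g} : Set G) := by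
  ext h
  simp only [Subgroup.mem_centralizer_singleton_iff]
  exact ⟨fun H => (inv_inv g ▸ (Commute.inv_right (show Commute h g⁻¹ from H)) : Commute h g),
    fun H => Commute.inv_right (show Commute h g from H)⟩

theorem centralChar_inv (χ : IrrCharacter G) (g : G) :
    centralChar (χ : G → ℂ) g⁻¹ = conj (centralChar (χ : G → ℂ) g) := by
  rw [centralChar, centralChar, centralizer_singleton_inv, irr_apply_inv, map_div₀, map_mul,
    Complex.conj_natCast, (CfsgLib.ClassCount.degree_eq χ).1, Complex.conj_natCast]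

open scoped Classical in
/-- The local factor: `c(χ, ψ) = u_ψ * tfac χ ψ`. -/
noncomputable def tfac (p : ℕ) [Fintype (ConjClasses G)] (χ ψ : IrrCharacter G) : ℂ :=
  ((Nat.card G / p ^ (Nat.card G).factorization p : ℕ) : ℂ)⁻¹ *
    ∑ c : ConjClasses G, if ¬ p ∣ orderOf c.out then
      (χ : G → ℂ) c.out * centralChar (ψ : G → ℂ) c.out⁻¹ else 0

section Block

variable [Fintype (ConjClasses G)]

theorem cofactor_not_dvd (hp : p.Prime) :
    ¬ p ∣ Nat.card G / p ^ (Nat.card G).factorization p :=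
  Nat.not_dvd_ordCompl hp Nat.card_pos.ne'

theorem cast_card_eq :
    (Nat.card G : ℂ) = (p : ℂ) ^ (Nat.card G).factorization p *
      ((Nat.card G / p ^ (Nat.card G).factorization p : ℕ) : ℂ) := by
  exact_mod_cast (Nat.ordProj_mul_ordCompl_eq_self (Nat.card G) p).symm

theorem tfac_mem (hM : IsPModular p M) (χ ψ : IrrCharacter G) : MemLocalRing M (tfac p χ ψ) := by
  classical
  refine (lRing hM).mul_mem (inv_natCast_mem_lRing hM (cofactor_not_dvd hM.1)) ((lRing hM).sum_mem fun c _ => ?_)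
  by_cases hc : ¬ p ∣ orderOf c.out
  · rw [if_pos hc]
    exact (lRing hM).mul_mem (isIntegral_mem_lRing hM (CfsgLib.ClassCount.irr_isIntegral χ _))
      (centralChar_mem_lRing hM ψ _)
  · rw [if_neg hc]; exact (lRing hM).zero_mem

theorem tfac_congr (hM : IsPModular p M) (χ : IrrCharacter G) {ψ ψ' : IrrCharacter G}
    (h : SameBlock M (ψ : G → ℂ) (ψ' : G → ℂ)) : MemLocalIdeal M (tfac p χ ψ - tfac p χ ψ') := by
  classical
  rw [tfac, tfac, ← mul_sub, ← Finset.sum_sub_distrib]
  refine MemLocalIdeal.mul_left hM (inv_natCast_mem_lRing hM (cofactor_not_dvd hM.1))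
    (MemLocalIdeal.sum hM _ fun c _ => ?_)
  by_cases hc : ¬ p ∣ orderOf c.out
  · rw [if_pos hc, if_pos hc, ← mul_sub]
    exact MemLocalIdeal.mul_left hM (isIntegral_mem_lRing hM (CfsgLib.ClassCount.irr_isIntegral χ _)) (h _)
  · rw [if_neg hc, if_neg hc, sub_zero]; exact memLocalIdeal_zero hM

variable {B : Set (IrrCharacter G)}

theorem contrib_eq (hM : IsPModular p M) (hB : IsPBlock M B) (χ : IrrCharacter G) {ψ : IrrCharacter G}
    (hψ : ψ ∈ B) : contrib p (blockDefect p B) χ ψ = (red p B ψ : ℂ) * tfac p χ ψ := by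
  classical
  let F : G → ℂ := fun x => if ¬ p ∣ orderOf x then (χ : G → ℂ) x * centralChar (ψ : G → ℂ) x⁻¹ else 0
  have hF : ∀ g h : G, F (h * g * h⁻¹) = F g := by
    intro g h
    simp only [F]
    rw [show orderOf (h * g * h⁻¹) = orderOf g from (MulAut.conj h).orderOf_eq g,
      irr_isClassFunction χ g h, show (h * g * h⁻¹)⁻¹ = h * g⁻¹ * h⁻¹ by group,
      centralChar_of_isConj ψ (isConj_iff.mpr ⟨h, rfl⟩ : IsConj g⁻¹ (h * g⁻¹ * h⁻¹))]
  have h1 : regSum p (χ : G → ℂ) (ψ : G → ℂ) = (ψ : G → ℂ) 1 * ∑ c : ConjClasses G, F c.out := by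
    rw [regSum, ← sum_div_index F hF, Finset.sum_filter, Finset.mul_sum]
    refine Finset.sum_congr rfl fun x _ => ?_
    simp only [F]
    by_cases hx : ¬ p ∣ orderOf x
    · simp only [if_pos hx]
      rw [centralChar_inv, centralChar, map_div₀, map_mul, Complex.conj_natCast,
        (CfsgLib.ClassCount.degree_eq ψ).1, Complex.conj_natCast]
      have : (charDegree (ψ : G → ℂ) : ℂ) ≠ 0 := Nat.cast_ne_zero.mpr (CfsgLib.ClassCount.degree_eq ψ).2.2.ne'
      have : ((Subgroup.centralizer ({x} : Set G)).index : ℂ) ≠ 0 :=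
        Nat.cast_ne_zero.mpr Subgroup.index_ne_zero_of_finite
      field_simp
    · simp [hx]
  rw [contrib, tfac, h1, apply_one_red (p := p) hψ, cast_card_eq (p := p),
    ← minExp_add_defect hM hB, pow_add]
  have : (p : ℂ) ≠ 0 := Nat.cast_ne_zero.mpr hM.1.ne_zero
  simp only [F]
  field_simp

theorem contrib_mem (hM : IsPModular p M) (hB : IsPBlock M B) (χ : IrrCharacter G) {ψ : IrrCharacter G}
    (hψ : ψ ∈ B) : MemLocalRing M (contrib p (blockDefect p B) χ ψ) := by
  rw [contrib_eq hM hB χ hψ]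
  exact (lRing hM).mul_mem (natCast_mem (lRing hM) _) (tfac_mem hM χ ψ)

theorem exists_contrib_int (hM : IsPModular p M) (hB : IsPBlock M B) (χ : IrrCharacter G)
    {ψ : IrrCharacter G} (hψ : ψ ∈ B) :
    ∃ z : ℤ, contrib p (blockDefect p B) χ ψ = z := by
  obtain ⟨z, hz⟩ := exists_int_sum hM.1 χ ψ
  have hc := contrib_mem hM hB χ hψ
  have h1 : (z : ℂ) = (p : ℂ) ^ minExp p B * contrib p (blockDefect p B) χ ψ := by
    rw [← hz, contrib, ← minExp_add_defect hM hB, pow_add]; ring
  obtain ⟨w, hw⟩ := int_pow_dvd hM hc h1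
  refine ⟨w, mul_left_cancel₀ (pow_ne_zero (minExp p B) (Nat.cast_ne_zero.mpr hM.1.ne_zero : (p : ℂ) ≠ 0)) ?_⟩
  rw [← h1, hw]; push_cast; rfl

theorem contrib_symm (hM : IsPModular p M) (hB : IsPBlock M B) (χ : IrrCharacter G)
    {ψ : IrrCharacter G} (hψ : ψ ∈ B) :
    contrib p (blockDefect p B) χ ψ = contrib p (blockDefect p B) ψ χ := by
  obtain ⟨z, hz⟩ := exists_contrib_int hM hB χ hψ
  conv_rhs => rw [← contrib_conj, hz, map_intCast]
  exact hz

open scoped Classical in
/-- `p^d` times the `p`-regular restriction of a member, expanded in the block. -/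
theorem expand (hM : IsPModular p M) (hB : IsPBlock M B) {χ : IrrCharacter G} (hχ : χ ∈ B) (g : G) :
    (if ¬ p ∣ orderOf g then (p : ℂ) ^ blockDefect p B * (χ : G → ℂ) g else 0) =
      ∑ φ ∈ Finset.univ.filter (· ∈ B), contrib p (blockDefect p B) χ φ * (φ : G → ℂ) g := by
  set F : G → ℂ := fun x => if ¬ p ∣ orderOf x then (p : ℂ) ^ blockDefect p B * (χ : G → ℂ) x else 0
  have hF : IsClassFunction G F := fun x h => by
    simp only [F]
    rw [show orderOf (h * x * h⁻¹) = orderOf x from (MulAut.conj h).orderOf_eq x, irr_isClassFunction χ x h]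
  have hco : ∀ φ : IrrCharacter G, classInner F (φ : G → ℂ) = contrib p (blockDefect p B) χ φ := by
    intro φ
    rw [classInner, contrib, regSum, Finset.sum_filter, Finset.mul_sum, Finset.mul_sum]
    refine Finset.sum_congr rfl fun x _ => ?_
    simp only [F]
    split_ifs <;> ring
  change F g = _
  conv_lhs => rw [classFunction_eq_sum hF]
  rw [Finset.sum_apply, Finset.sum_filter]
  refine Finset.sum_congr rfl fun φ _ => ?_
  rw [Pi.smul_apply, smul_eq_mul, hco]
  split_ifs with h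
  · rfl
  · have h0 : regSum p (χ : G → ℂ) (φ : G → ℂ) = 0 :=
      sum_regular_eq_zero_of_not_sameBlock hM fun hs => h ((IsPBlock.mem_iff hM hB hχ φ).mpr hs)
    rw [contrib, h0]; ring

open scoped Classical in
/-- Local integral combinations vanishing on nontrivial `p`-elements. -/
theorem vanish_pairing (hM : IsPModular p M) (hB : IsPBlock M B) (y : IrrCharacter G → ℂ)
    (hy : ∀ φ ∈ B, MemLocalRing M (y φ))
    (hv : ∀ x : G, p ∣ orderOf x → ∑ φ ∈ Finset.univ.filter (· ∈ B), y φ * (φ : G → ℂ) x = 0) :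
    ∃ r : ℂ, MemLocalRing M r ∧
      ∑ φ ∈ Finset.univ.filter (· ∈ B), y φ * (red p B φ : ℂ) = (p : ℂ) ^ blockDefect p B * r := by
  haveI := Fact.mk hM.1
  let P : Sylow p G := default
  choose n hn using fun φ : IrrCharacter G => CfsgLib.ClassCount.exists_mult φ (P : Subgroup G)
  refine ⟨∑ φ ∈ Finset.univ.filter (· ∈ B), y φ * (n φ : ℂ),
    (lRing hM).sum_mem fun φ hφ =>
      (lRing hM).mul_mem (hy φ (Finset.mem_filter.mp hφ).2) (natCast_mem (lRing hM) _), ?_⟩
  have h1 : ∑ t : (P : Subgroup G), ∑ φ ∈ Finset.univ.filter (· ∈ B), y φ * (φ : G → ℂ) (t : G)⁻¹ =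
      (p : ℂ) ^ minExp p B * ∑ φ ∈ Finset.univ.filter (· ∈ B), y φ * (red p B φ : ℂ) := by
    rw [Finset.sum_eq_single 1]
    · rw [Finset.mul_sum]
      refine Finset.sum_congr rfl fun φ hφ => ?_
      rw [OneMemClass.coe_one, inv_one, apply_one_red (p := p) (Finset.mem_filter.mp hφ).2]
      ring
    · intro t _ ht
      refine hv _ ?_
      obtain ⟨j, hj⟩ := IsPGroup.iff_orderOf.1 P.isPGroup' t
      rw [orderOf_inv, Subgroup.orderOf_coe, hj]
      refine dvd_pow_self p ?_
      rintro rfl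
      exact ht (orderOf_eq_one_iff.1 (by rw [hj, pow_zero]))
    · simp
  rw [Finset.sum_comm] at h1
  simp only [← Finset.mul_sum, hn] at h1
  have hcard : (Nat.card (P : Subgroup G) : ℂ) =
      (p : ℂ) ^ minExp p B * (p : ℂ) ^ blockDefect p B := by
    rw [P.card_eq_multiplicity, ← minExp_add_defect hM hB, ← pow_add]; push_cast; rfl
  apply mul_left_cancel₀ (pow_ne_zero (minExp p B) (Nat.cast_ne_zero.mpr hM.1.ne_zero : (p : ℂ) ≠ 0))
  rw [← h1, Finset.mul_sum, Finset.mul_sum]
  refine Finset.sum_congr rfl fun φ _ => ?_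
  rw [hcard]; ring

/-- The factor at height zero is a unit. -/
theorem tfac_unit (hM : IsPModular p M) (hB : IsPBlock M B) {χ : IrrCharacter G} (hχ : χ ∈ B)
    (h0 : ¬ p ∣ red p B χ) {ψ : IrrCharacter G} (hψ : ψ ∈ B) :
    ¬ MemLocalIdeal M (tfac p χ ψ) := by
  classical
  intro hI
  -- all contributions of χ are divisible by p
  have hall : ∀ φ ∈ B, ∃ z : ℤ, contrib p (blockDefect p B) χ φ = (p : ℂ) * z := by
    intro φ hφ
    obtain ⟨z, hz⟩ := exists_contrib_int hM hB χ hφ
    have h1 : MemLocalIdeal M (tfac p χ φ) := by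
      have hs : SameBlock M (φ : G → ℂ) (ψ : G → ℂ) := (IsPBlock.mem_iff hM hB hφ ψ).mp hψ
      simpa using MemLocalIdeal.add hM (tfac_congr hM χ hs) hI
    have h2 : MemLocalIdeal M (z : ℂ) := by
      rw [← hz, contrib_eq hM hB χ hφ]
      exact MemLocalIdeal.mul_left hM (natCast_mem (lRing hM) _) h1
    obtain ⟨w, hw⟩ := (memLocalIdeal_intCast_iff hM z).mp h2
    exact ⟨w, by rw [hz, hw]; push_cast; rfl⟩
  choose! z hz using hall
  obtain ⟨r, hr, heq⟩ := vanish_pairing hM hB (fun φ => (z φ : ℂ))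
    (fun φ _ => intCast_mem (lRing hM) _) (fun x hx => by
      have h := expand hM hB hχ x
      rw [if_neg (not_not.mpr hx)] at h
      apply mul_left_cancel₀ (Nat.cast_ne_zero.mpr hM.1.ne_zero : (p : ℂ) ≠ 0)
      rw [mul_zero, Finset.mul_sum]
      refine Eq.trans ?_ h.symm
      refine Finset.sum_congr rfl fun φ hφ => ?_
      rw [hz φ (Finset.mem_filter.mp hφ).2]; ring)
  have h := expand hM hB hχ 1
  rw [if_pos (by rw [orderOf_one]; exact hM.1.not_dvd_one), apply_one_red (p := p) hχ] at h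
  have h3 : ∑ φ ∈ Finset.univ.filter (· ∈ B), contrib p (blockDefect p B) χ φ * (φ : G → ℂ) 1 =
      (p : ℂ) * (p : ℂ) ^ minExp p B *
        ∑ φ ∈ Finset.univ.filter (· ∈ B), (z φ : ℂ) * (red p B φ : ℂ) := by
    rw [Finset.mul_sum]
    refine Finset.sum_congr rfl fun φ hφ => ?_
    rw [hz φ (Finset.mem_filter.mp hφ).2, apply_one_red (p := p) (Finset.mem_filter.mp hφ).2]
    ring
  rw [h3, heq] at h
  have hp0 : (p : ℂ) ≠ 0 := Nat.cast_ne_zero.mpr hM.1.ne_zero
  have h5 : (red p B χ : ℂ) = (p : ℂ) * r := by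
    apply mul_left_cancel₀ (mul_ne_zero (pow_ne_zero (minExp p B) hp0) (pow_ne_zero (blockDefect p B) hp0))
    linear_combination h
  apply h0
  rw [← memLocalIdeal_natCast_iff hM, h5]
  exact MemLocalIdeal.mul_right hM (memLocalIdeal_p hM) hr

/-- A contribution of a height zero character has the exact `p`-part of the degree. -/
theorem contrib_zero_ne (hM : IsPModular p M) (hB : IsPBlock M B) {χ : IrrCharacter G} (hχ : χ ∈ B)
    (h0 : ¬ p ∣ red p B χ) {ψ : IrrCharacter G} (hψ : ψ ∈ B) :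
    contrib p (blockDefect p B) χ ψ ≠ 0 := by
  rw [contrib_eq hM hB χ hψ]
  refine mul_ne_zero (Nat.cast_ne_zero.mpr (red_pos hψ).ne') fun h => tfac_unit hM hB hχ h0 hψ ?_
  rw [h]; exact memLocalIdeal_zero hM

open scoped Classical in
/-- Row norms. -/
theorem row_norm (hM : IsPModular p M) (hB : IsPBlock M B) {χ : IrrCharacter G} (hχ : χ ∈ B) :
    ∑ φ ∈ Finset.univ.filter (· ∈ B), contrib p (blockDefect p B) χ φ * contrib p (blockDefect p B) χ φ =
      (p : ℂ) ^ blockDefect p B * contrib p (blockDefect p B) χ χ := by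
  have key : ∀ φ ∈ Finset.univ.filter (· ∈ B),
      contrib p (blockDefect p B) χ φ * contrib p (blockDefect p B) χ φ =
        (p : ℂ) ^ blockDefect p B * (Nat.card G : ℂ)⁻¹ *
          ∑ x ∈ Finset.univ.filter (fun x : G => ¬ p ∣ orderOf x),
            (contrib p (blockDefect p B) χ φ * (φ : G → ℂ) x) * conj ((χ : G → ℂ) x) := by
    intro φ hφ
    conv_lhs => arg 2; rw [contrib_symm hM hB χ (Finset.mem_filter.mp hφ).2, contrib, regSum]
    rw [Finset.mul_sum, Finset.mul_sum, Finset.mul_sum]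
    exact Finset.sum_congr rfl fun x _ => by ring
  rw [Finset.sum_congr rfl key, ← Finset.mul_sum, Finset.sum_comm, contrib, regSum]
  rw [Finset.mul_sum, Finset.mul_sum, Finset.mul_sum]
  refine Finset.sum_congr rfl fun x hx => ?_
  rw [← Finset.sum_mul, ← expand hM hB hχ x, if_pos (Finset.mem_filter.mp hx).2]
  ring

end Block

end CfsgLib.Contribution
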