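import Cfsg.Agent.Lib.Blichfeldt7.AbelianHall
import Cfsg.Agent.Lib.Characters.Burnside
import Cfsg.Agent.Lib.Characters.ItoMichlerPSolvable
import Cfsg.Agent.Lib.Characters.Clifford

/-!
A group whose nonlinear irreducible degrees are all prime is solvable.
-/

set_option autoImplicit false

noncomputable section

namespace CfsgLib.PrimeDegrees

open Cfsg CfsgLib.Characters CfsgLib.Burnside
open scoped ComplexConjugate

universe u

variable {G : Type u} [Group G] [Finite G]

/-- In a simple group a nonprincipal irreducible character is faithful, as a representation. -/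
theorem rep_injective [IsSimpleGroup G] {n : ℕ} (ρ : Representation ℂ G (Fin n → ℂ))
    (hρ : ρ.IsIrreducible) (hne : ρ.character ≠ fun _ => 1) : Function.Injective ρ := by
  rcases (MonoidHom.normal_ker (ρ : G →* _)).eq_bot_or_eq_top with hk | hk
  · exact (MonoidHom.ker_eq_bot_iff _).mp hk
  · exfalso
    have h := eq_one_of_irr_const (χ := ⟨ρ.character, n, ρ, hρ, rfl⟩) (c := (n : ℂ)) fun x => by
      have : ρ x = 1 := MonoidHom.mem_ker.mp (hk ▸ Subgroup.mem_top x)
      simp [Representation.character, this]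
    exact hne (congrArg Subtype.val h)

/-- A nonabelian simple group has no irreducible character of degree two. -/
theorem degree_ne_two [IsSimpleGroup G] (hcomm : ¬ ∀ a b : G, a * b = b * a)
    (χ : IrrCharacter G) : charDegree (χ : G → ℂ) ≠ 2 := by
  classical
  haveI := Fintype.ofFinite G
  intro h2
  obtain ⟨_, n, ρ, hρ, rfl⟩ := χ
  have hn : n = 2 := by
    rw [← h2]
    simp [charDegree, Representation.char_one]
  subst hn
  have hinj : Function.Injective ρ := rep_injective ρ hρ fun h => by
    have := congrFun h 1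
    simp [Representation.char_one] at this
  have heven : 2 ∣ Nat.card G := by
    have := (CfsgLib.ClassCount.degree_eq (⟨ρ.character, 2, ρ, hρ, rfl⟩ : IrrCharacter G)).2.1
    rwa [h2] at this
  obtain ⟨t, ht⟩ := exists_prime_orderOf_dvd_card' 2 heven
  -- the determinant is trivial
  let D : G →* ℂ := (LinearMap.det).comp (ρ : G →* Module.End ℂ (Fin 2 → ℂ))
  have hD : ∀ g, D g = 1 := by
    intro g
    rcases (MonoidHom.normal_ker D).eq_bot_or_eq_top with hk | hk
    · exact absurd (fun a b => (MonoidHom.ker_eq_bot_iff D).mp hk (by rw [map_mul, map_mul, mul_comm]))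
        hcomm
    · exact MonoidHom.mem_ker.mp (hk ▸ Subgroup.mem_top g)
  obtain ⟨b, ω, hω, hb⟩ := exists_eigenbasis ρ t
  have hfr : Module.finrank ℂ (Fin 2 → ℂ) = 2 := by simp
  have hmat : LinearMap.toMatrix b b (ρ t) = Matrix.diagonal ω := by
    ext i j
    rw [LinearMap.toMatrix_apply, hb, map_smul, Finsupp.smul_apply, b.repr_self, Matrix.diagonal_apply]
    by_cases hij : i = j
    · subst hij; simp
    · simp [hij]
  have hprod : ∏ i, ω i = 1 := by
    rw [← Matrix.det_diagonal, ← hmat, LinearMap.det_toMatrix]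
    exact hD t
  have hsq : ∀ i, ω i = 1 ∨ ω i = -1 := fun i => by
    have := hω i
    rw [ht, sq_eq_one_iff] at this
    exact this
  obtain ⟨c, hc⟩ : ∃ c : ℂ, ∀ i, ω i = c := by
    let e : Fin 2 ≃ Fin (Module.finrank ℂ (Fin 2 → ℂ)) := finCongr hfr.symm
    rw [← e.prod_comp, Fin.prod_univ_two] at hprod
    refine ⟨ω (e 0), fun i => ?_⟩
    obtain ⟨j, rfl⟩ := e.surjective i
    fin_cases j
    · rfl
    · show ω (e 1) = ω (e 0)
      rcases hsq (e 0) with h | h
      · rw [h, one_mul] at hprod; rw [h, hprod]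
      · rw [h, neg_one_mul, neg_eq_iff_eq_neg] at hprod; rw [h, hprod]
  have hscal : ρ t = c • LinearMap.id := b.ext fun i => by rw [hb, hc]; simp
  have hcen : t ∈ Subgroup.center G := by
    refine Subgroup.mem_center_iff.mpr fun x => hinj ?_
    rw [map_mul, map_mul, hscal]
    ext v
    simp
  refine hcomm (isMulCommutative_of_mem_center (fun h => ?_) hcen)
  rw [h, orderOf_one] at ht
  omega

/-- The simple case. -/
theorem comm_of_simple [IsSimpleGroup G]
    (h : ∀ χ : IrrCharacter G, charDegree (χ : G → ℂ) ≠ 1 → (charDegree (χ : G → ℂ)).Prime) :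
    ∀ a b : G, a * b = b * a := by
  classical
  haveI := Fintype.ofFinite G
  by_contra hcomm
  have hdeg1 : charDegree (principalIrr G : G → ℂ) = 1 := by simp [charDegree]
  have hlin : ∀ χ : IrrCharacter G, charDegree (χ : G → ℂ) = 1 → χ = principalIrr G := by
    intro χ hχ
    obtain ⟨_, n, ρ, hρ, rfl⟩ := χ
    have hn : n = 1 := by rw [← hχ]; simp [charDegree, Representation.char_one]
    subst hn
    by_contra hne
    refine hcomm fun a b => rep_injective ρ hρ (fun h => hne (Subtype.ext h)) ?_
    have hfr : Module.finrank ℂ (Fin 1 → ℂ) = 1 := by simp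
    obtain ⟨c, hc, -⟩ := (ρ a).existsUnique_eq_smul_id_of_finrank_eq_one hfr
    obtain ⟨d, hd, -⟩ := (ρ b).existsUnique_eq_smul_id_of_finrank_eq_one hfr
    rw [map_mul, map_mul, hc, hd]
    ext v
    simp [mul_left_comm c d]
  have hne : ∃ χ : IrrCharacter G, charDegree (χ : G → ℂ) ≠ 1 := by
    by_contra hall
    push Not at hall
    exact hcomm (ItoMichler.comm_of_degree_one hall)
  let P : ℕ → Prop := fun d => d ≠ 1 ∧ ∃ χ : IrrCharacter G, charDegree (χ : G → ℂ) = d
  have hP : ∃ d, P d := by
    obtain ⟨χ, hχ⟩ := hne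
    exact ⟨_, hχ, χ, rfl⟩
  obtain ⟨hq1, χ₀, hχ₀⟩ := Nat.find_spec hP
  set q := Nat.find hP
  have hq : q.Prime := hχ₀ ▸ h χ₀ (hχ₀ ▸ hq1)
  have hq2 : q ≠ 2 := hχ₀ ▸ degree_ne_two hcomm χ₀
  have hmin : ∀ χ : IrrCharacter G, χ ≠ principalIrr G → q ≤ charDegree (χ : G → ℂ) := fun χ hχ =>
    Nat.find_min' hP ⟨fun h1 => hχ (hlin χ h1), χ, rfl⟩
  have hqG : q ∣ Nat.card G := hχ₀ ▸ (CfsgLib.ClassCount.degree_eq χ₀).2.1
  have hodd : ∀ r : ℕ, r.Prime → r ≠ q + 1 := by
    intro r hr he
    rcases hq.eq_two_or_odd with hh | hh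
    · exact hq2 hh
    · rcases hr.eq_two_or_odd with hr2 | hr2
      · have := hq.two_le; omega
      · omega
  by_cases hbig : ∃ χ : IrrCharacter G, q < charDegree (χ : G → ℂ)
  · obtain ⟨χ₁, hχ₁⟩ := hbig
    set r := charDegree (χ₁ : G → ℂ)
    have hr : r.Prime := h χ₁ (by have := hq.two_le; omega)
    obtain ⟨_, n, ρ, hρ, hρχ⟩ := χ₀
    subst hρχ
    have hf : ∀ g : G, ρ.character g = ρ.character 1 → g = 1 := by
      intro g hg
      apply rep_injective ρ hρ (fun he => hq1 (by rw [← hχ₀]; simp [charDegree, congrFun he 1]))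
      rw [map_one]
      refine (char_eq_degree_iff ρ g).mp ?_
      rw [hg, Representation.char_one]
    obtain ⟨A, hAc, hAbig, hAidx⟩ :=
      CfsgLib.Blichfeldt7.exists_abelian_hall (isCharacter_of_irr ⟨n, ρ, hρ, rfl⟩) hf hχ₀
    have hA1 : A ≠ ⊥ := by
      rintro rfl
      have hrG : r ∣ Nat.card G := (CfsgLib.ClassCount.degree_eq χ₁).2.1
      rw [← Subgroup.index_bot] at hrG
      have := hAidx r hr hrG
      have := hodd r hr
      omega
    obtain ⟨g, hgA, hg1⟩ := (Subgroup.ne_bot_iff_exists_ne_one.mp hA1 |>.elim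
      fun x hx => (⟨x.1, x.2, fun e => hx (Subtype.ext e)⟩ : ∃ g, g ∈ A ∧ g ≠ 1))
    have hidx : (Subgroup.centralizer ({g} : Set G)).index ∣ A.index :=
      Subgroup.index_dvd_of_le fun x hx => Subgroup.mem_centralizer_singleton_iff.mpr (hAc x hx g hgA)
    have hvan : ∀ χ : IrrCharacter G, χ ≠ principalIrr G → charDegree (χ : G → ℂ) ≠ q →
        (χ : G → ℂ) g = 0 := by
      intro χ hne hdq
      have hge := hmin χ hne
      obtain ⟨_, k, σ, hσ, rfl⟩ := χ
      haveI := hσ
      have hk : charDegree σ.character = k := by simp [charDegree, Representation.char_one]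
      change charDegree σ.character ≠ q at hdq
      change q ≤ charDegree σ.character at hge
      have hkp : k.Prime := hk ▸ h ⟨σ.character, k, σ, hσ, rfl⟩ (by
        intro h1; change charDegree σ.character = 1 at h1; have := hq.two_le; omega)
      have hcop : Nat.Coprime (Module.finrank ℂ (Fin k → ℂ)) (Nat.card {x : G // IsConj g x}) := by
        rw [Module.finrank_fintype_fun_eq_card, Fintype.card_fin, card_isConj_eq_index]
        refine hkp.coprime_iff_not_dvd.mpr fun hd => ?_
        have := hAidx k hkp (hd.trans hidx)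
        have := hodd k hkp
        omega
      rcases eq_zero_or_norm_eq_of_coprime σ g hcop with hz | hz
      · exact hz
      exfalso
      obtain ⟨c, hc⟩ := (norm_char_eq_iff_scalar σ g).mp hz
      refine hcomm (isMulCommutative_of_mem_center hg1 (Subgroup.mem_center_iff.mpr fun x => ?_))
      apply rep_injective σ hσ (fun he => hne (Subtype.ext he))
      rw [map_mul, map_mul, hc]
      ext v
      simp
    have hcol : ∑ χ : IrrCharacter G, (χ : G → ℂ) 1 * (χ : G → ℂ) g = 0 := by
      rw [sum_degree_mul_irr, if_neg hg1]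
    rw [← Finset.add_sum_erase _ _ (Finset.mem_univ (principalIrr G))] at hcol
    simp only [principalIrr_apply, mul_one] at hcol
    have hint : ∀ χ ∈ Finset.univ.erase (principalIrr G),
        IsIntegral ℤ ((χ : G → ℂ) 1 * (χ : G → ℂ) g / (q : ℂ)) := by
      intro χ hχ
      rcases eq_or_ne (charDegree (χ : G → ℂ)) q with hd | hd
      · rw [(CfsgLib.ClassCount.degree_eq χ).1, hd, mul_div_cancel_left₀ _ (Nat.cast_ne_zero.mpr hq.ne_zero)]
        exact isIntegral_of_isCharacter (irr_isCharacter χ) g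
      · rw [hvan χ (Finset.ne_of_mem_erase hχ) hd, mul_zero, zero_div]
        exact isIntegral_zero
    have h1 : IsIntegral ℤ ((1 : ℕ) / (q : ℕ) : ℂ) := by
      have := (IsIntegral.sum _ hint).neg
      rw [← Finset.sum_div, eq_neg_of_add_eq_zero_right hcol] at this
      simpa [neg_div] using this
    exact hq.one_lt.ne' (Nat.dvd_one.mp (nat_dvd_of_isIntegral_div hq.ne_zero h1))
  · push Not at hbig
    have hs : ∑ χ : IrrCharacter G, charDegree (χ : G → ℂ) ^ 2 = Nat.card G := by
      have h := sum_sq_degrees (G := G)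
      simp only [(CfsgLib.ClassCount.degree_eq _).1] at h
      exact_mod_cast h
    rw [← Finset.add_sum_erase _ _ (Finset.mem_univ (principalIrr G)), hdeg1] at hs
    have hdvd : q ∣ ∑ χ ∈ Finset.univ.erase (principalIrr G), charDegree (χ : G → ℂ) ^ 2 :=
      Finset.dvd_sum fun χ hχ => dvd_pow
        (le_antisymm (hbig χ) (hmin χ (Finset.ne_of_mem_erase hχ)) ▸ dvd_rfl) two_ne_zero
    rw [← hs] at hqG
    exact hq.not_dvd_one (by simpa using (Nat.dvd_add_left hdvd).mp hqG)

/-- The general case. -/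
theorem isSolvable : ∀ (N : ℕ) (G : Type u) [Group G] [Finite G], Nat.card G ≤ N →
    (∀ χ : IrrCharacter G, charDegree (χ : G → ℂ) ≠ 1 → (charDegree (χ : G → ℂ)).Prime) →
    Group.IsSolvable G := by
  intro N
  induction N with
  | zero => intro G _ _ hN; exact absurd Nat.card_pos (by omega : ¬ 0 < Nat.card G)
  | succ N ih =>
    intro G _ _ hN h
    classical
    haveI := Fintype.ofFinite G
    rcases subsingleton_or_nontrivial G with hs | hs
    · infer_instance
    by_cases hsimp : IsSimpleGroup G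
    · exact Group.isSolvable_of_comm (comm_of_simple h)
    obtain ⟨K, hK, hK0, hK1⟩ : ∃ K : Subgroup G, K.Normal ∧ K ≠ ⊥ ∧ K ≠ ⊤ := by
      by_contra hc
      push Not at hc
      exact hsimp ⟨fun K hK => or_iff_not_imp_left.mpr (hc K hK)⟩
    have hcard : Nat.card K < Nat.card G :=
      lt_of_le_of_ne (Subgroup.card_le_card_group K) fun he => hK1 (Subgroup.eq_top_of_card_eq K he)
    haveI : Group.IsSolvable K := ih K (by omega) fun θ hθ => by
      obtain ⟨χ, hd⟩ := ItoMichler.exists_degree_dvd K θ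
      have hne : charDegree (χ : G → ℂ) ≠ 1 := fun h1 => hθ (Nat.dvd_one.mp (h1 ▸ hd))
      rcases (Nat.dvd_prime (h χ hne)).mp hd with h1 | h1
      · exact absurd h1 hθ
      · exact h1 ▸ h χ hne
    haveI : Group.IsSolvable (G ⧸ K) := ih (G ⧸ K) (by
        have h1 : 1 < Nat.card K := (Finite.one_lt_card_iff_nontrivial).mpr
          ((Subgroup.nontrivial_iff_ne_bot K).mpr hK0)
        have h2 := Subgroup.card_eq_card_quotient_mul_card_subgroup K
        have h3 : Nat.card (G ⧸ K) * 2 ≤ Nat.card (G ⧸ K) * Nat.card K := Nat.mul_le_mul_left _ h1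
        have h4 : 0 < Nat.card (G ⧸ K) := Nat.card_pos
        omega) fun η hη => by
      have := h ⟨_, CfsgLib.Clifford.isIrrCharacter_pullback η.2 (QuotientGroup.mk' K)
        (QuotientGroup.mk'_surjective K)⟩ (by simpa [charDegree] using hη)
      simpa [charDegree] using this
    exact Group.isSolvable_of_ker_le_range K.subtype (QuotientGroup.mk' K) (by simp)

end CfsgLib.PrimeDegrees
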