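import Cfsg.Agent.Lib.BPStar.NonVanish
import Cfsg.Agent.Lib.Blk7.SubsectionNorm
import Cfsg.Agent.Lib.BrauerPairs.PIndexBlock
import Cfsg.Agent.Lib.Blk4.Gallagher
import Cfsg.Agent.Lib.PermSmall.FeitDual
import Cfsg.Agent.Lib.CharCorr.Solvable

/-!
# A stable block of a normal subgroup of `p`-power index, abelian defect groups
-/

set_option autoImplicit false
set_option linter.unusedSectionVars false
set_option linter.style.haveILetI false

namespace CfsgLib.StableBlock

open Cfsg CfsgLib.Characters CfsgLib.CharCorr CfsgLib.Blocks CfsgLib.BrauerPairs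
open CfsgLib.PermSmall.FeitDual
open scoped ComplexConjugate Classical

universe u

variable {G : Type u} [Group G] [Fintype G] {p : ℕ} [hp : Fact p.Prime] {M : Ideal AlgInt}

/-- With abelian defect group no member vanishes on a whole section of the defect group. -/
theorem exists_value_ne_zero (hM : IsPModular p M) {B : Set (IrrCharacter G)} (hB : IsPBlock M B)
    {P : Subgroup G} (hP : IsDefectGroup p M B P) (hab : ∀ x ∈ P, ∀ y ∈ P, x * y = y * x)
    {χ : IrrCharacter G} (hχ : χ ∈ B) {x : G} (hx : x ∈ P) :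
    ∃ s : G, ¬ p ∣ orderOf s ∧ (χ : G → ℂ) (x * s) ≠ 0 := by
  haveI := hM.2.1
  haveI := charP_res (M := M) hM
  have hD := (isDefectGroup_iff hM hB P).1 hP
  have hfix : eG hM B ∈ fixAlg (ResK M) P := fixAlg_anti le_top (isBlockIdem_eG hM hB).fixed
  obtain ⟨a, ha, hcov⟩ := exists_block_le (hasBlocks hM) (brMap_mem_suppAlg P (eG hM B))
    (brMap_mem_fixAlg (cz_le_normalizer P) (fixAlg_anti le_top (isBlockIdem_eG hM hB).fixed))
    (by rw [← brMap_mul hD.pgroup hfix hfix, (isBlockIdem_eG hM hB).idem]) hD.br_ne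
  obtain ⟨e, he, rfl⟩ := exists_eA_eq hM ha
  have hmax : IsMaximalBrauerPair p M B P e := (isMaximalBrauerPair_iff hM B P e).2
    ⟨(isBrauerPairOf_iff hM B P e).2 ⟨he, hB, ⟨hD.pgroup, bot_le, le_top, ha, hcov⟩⟩, hD⟩
  obtain ⟨c, hc, hle⟩ := exists_pairLE (p := p) (hasBlocks hM)
    (Subgroup.zpowers_le.2 hx : Subgroup.zpowers x ≤ P) hD.pgroup ha
  obtain ⟨b, hb, rfl⟩ := exists_eA_eq hM hc
  have hne := BPStar.blockPart_central_ne_zero hM hmax hχ ⟨x, hx⟩
    (mem_cz.2 fun y hy => hab y hy x hx) hb hle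
  rw [SubsectionNorm.blockPart_regular hM hb _ (by rw [orderOf_one]; exact hM.1.not_dvd_one)] at hne
  obtain ⟨s, hs, hs0⟩ := Finset.exists_ne_zero_of_sum_ne_zero hne
  exact ⟨(s : G), by rw [Subgroup.orderOf_coe]; exact (Finset.mem_filter.1 hs).2,
    fun h => hs0 (by simp [BPStar.secFun, h])⟩

variable (N : Subgroup G) [N.Normal] [Fintype N]

/-- A block with the coefficients of `b` has constituents in `b`. -/
theorem covers_of_coeff {b : Set (IrrCharacter N)} {B : Set (IrrCharacter G)}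
    (hBc : ∀ g : G, blockCoeff B g = subgroupBlockCoeff N b g) {χ : IrrCharacter G} (hχ : χ ∈ B) :
    ∃ θ ∈ b, classInner (fun n : N => (χ : G → ℂ) n) (θ : N → ℂ) ≠ 0 := by
  by_contra h
  push Not at h
  have h1 := BlockCover.sum_blockCoeff_mul B χ
  rw [if_pos hχ] at h1
  have h2 : ∑ g : G, blockCoeff B g * (χ : G → ℂ) g = ∑ n : N, blockCoeff b n * (χ : G → ℂ) n := by
    rw [← Finset.sum_subset (Finset.subset_univ (Finset.univ.filter (· ∈ N))) fun x _ hx => by
        rw [hBc, subgroupBlockCoeff_notMem b (by simpa using hx), zero_mul],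
      Finset.sum_subtype (p := fun x => x ∈ N) (Finset.univ.filter (· ∈ N)) (by simp)
        (fun x => blockCoeff B x * (χ : G → ℂ) x)]
    exact Finset.sum_congr rfl fun n _ => by rw [hBc, subgroupBlockCoeff_coe]
  have h3 := sum_blockCoeff_mul_eq_blockPart b
    (NormalRes.isClassFunction_res N (irr_isClassFunction χ)) (1 : N)
  simp only [mul_one] at h3
  rw [h2, h3, Blocks.blockPart_eq_sum, Finset.sum_eq_zero fun θ hθ => by
    rw [h θ (Finset.mem_filter.1 hθ).2, zero_mul], zero_div] at h1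
  exact zero_ne_one h1

/-- The product with a linear character of the quotient. -/
theorem isIrr_twist (l : G ⧸ N →* ℂˣ) (χ : IrrCharacter G) :
    IsIrrCharacter G (fun g => (l (g : G ⧸ N) : ℂ) * (χ : G → ℂ) g) := by
  have hl : IsCharacter G (fn (l.comp (QuotientGroup.mk' N))) := isCharacter_fn _
  have hc : IsCharacter G (fn (l.comp (QuotientGroup.mk' N)) * (χ : G → ℂ)) :=
    isCharacter_mul hl (irr_isCharacter χ)
  refine (isIrrCharacter_iff_classInner_self hc).2 ?_
  rw [← classInner_irr_self χ.2]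
  unfold classInner
  congr 1
  refine Finset.sum_congr rfl fun g _ => ?_
  simp only [Pi.mul_apply, map_mul, fn, MonoidHom.comp_apply, QuotientGroup.mk'_apply]
  have h1 : (l (g : G ⧸ N) : ℂ) * conj ((l (g : G ⧸ N) : ℂ)) = 1 := by
    rw [conj_apply, ← Units.val_mul, ← map_mul, mul_inv_cancel, map_one, Units.val_one]
  linear_combination ((χ : G → ℂ) g * conj ((χ : G → ℂ) g)) * h1

/-- The statement. -/
theorem stable_block (hM : IsPModular p M) (hNi : ∃ k : ℕ, N.index = p ^ k)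
    {b : Set (IrrCharacter N)} (hb : IsPBlock M b) (hstab : ∀ g : G, StabilizesBlock N b g)
    {B : Set (IrrCharacter G)} (hB : IsPBlock M B)
    (hcov : ∃ χ ∈ B, ∃ θ ∈ b, classInner (fun n : N => (χ : G → ℂ) n) (θ : N → ℂ) ≠ 0)
    {P : Subgroup G} (hPD : IsDefectGroup p M B P) (hab : ∀ x ∈ P, ∀ y ∈ P, x * y = y * x) :
    N ⊔ P = ⊤ ∧ IsDefectGroup p M b ((P ⊓ N).subgroupOf N) ∧
    (∀ χ ∈ B, ∃ θ ∈ b, ∀ n : N, (χ : G → ℂ) n = (θ : N → ℂ) n) ∧
    (∀ θ ∈ b, Nat.card {χ : IrrCharacter G // χ ∈ B ∧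
      ∀ n : N, (χ : G → ℂ) n = (θ : N → ℂ) n} = N.index) ∧
    Nat.card B = N.index * Nat.card b ∧ blockRank p B = blockRank p b := by
  haveI := hM.2.1
  obtain ⟨k, hk⟩ := hNi
  obtain ⟨B', hB', hBc⟩ := exists_block_eq_coeff N hM ⟨k, hk⟩ hb hstab
  obtain ⟨χ', hχ'⟩ := IsPBlock.nonempty hM hB'
  obtain rfl : B = B' := BlockCover.cover_unique N hM ⟨k, hk⟩ hb hB hB' hcov
    ⟨χ', hχ', covers_of_coeff N hBc hχ'⟩
  obtain ⟨hNP, hdef⟩ := defect_of_coeff N hM ⟨k, hk⟩ hb hB hBc hPD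
  -- the quotient is an image of `P`
  have hmk : ∀ a : G ⧸ N, ∃ x ∈ P, (x : G ⧸ N) = a := fun a => by
    obtain ⟨g, rfl⟩ := QuotientGroup.mk_surjective a
    obtain ⟨n, hn, x, hx, rfl⟩ := Subgroup.mem_sup_of_normal_left.1
      (hNP ▸ Subgroup.mem_top g : g ∈ N ⊔ P)
    exact ⟨x, hx, by rw [QuotientGroup.mk_mul, (QuotientGroup.eq_one_iff n).2 hn, one_mul]⟩
  have hA : ∀ a c : G ⧸ N, a * c = c * a := fun a c => by
    obtain ⟨x, hx, rfl⟩ := hmk a
    obtain ⟨y, hy, rfl⟩ := hmk c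
    rw [← QuotientGroup.mk_mul, hab x hx y hy, QuotientGroup.mk_mul]
  haveI : IsMulCommutative (G ⧸ N) := ⟨⟨hA⟩⟩
  have hcardA : Nat.card (G ⧸ N →* ℂˣ) = N.index := by
    rw [card_dual, Subgroup.index_eq_card]
  -- twists
  let tw : (G ⧸ N →* ℂˣ) → IrrCharacter G → IrrCharacter G := fun l χ => ⟨_, isIrr_twist N l χ⟩
  have htwv : ∀ l (χ : IrrCharacter G) g,
      (tw l χ : G → ℂ) g = (l (g : G ⧸ N) : ℂ) * (χ : G → ℂ) g := fun _ _ _ => rfl
  have hfree : ∀ χ ∈ B, ∀ l : G ⧸ N →* ℂˣ, tw l χ = χ → l = 1 := by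
    intro χ hχ l hl
    refine MonoidHom.ext fun a => ?_
    obtain ⟨x, hx, rfl⟩ := hmk a
    obtain ⟨s, hs, hne⟩ := exists_value_ne_zero hM hB hPD hab hχ hx
    have h1 := congrArg (fun φ : IrrCharacter G => (φ : G → ℂ) (x * s)) hl
    simp only [htwv, QuotientGroup.mk_mul,
      (QuotientGroup.eq_one_iff s).2 (BlockCover.mem_of_regular hM.1 hk hs), mul_one] at h1
    rw [MonoidHom.one_apply]
    exact Units.ext (mul_right_cancel₀ hne (h1.trans (one_mul _).symm))
  have hirr : ∀ χ ∈ B, IsIrrCharacter N (fun n : N => (χ : G → ℂ) n) := by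
    intro χ hχ
    refine (isIrrCharacter_iff_classInner_self
      (NormalRes.isCharacter_res N (irr_isCharacter χ))).2 ?_
    have h1 : ∑ l : G ⧸ N →* ℂˣ, classInner (tw l χ : G → ℂ) (χ : G → ℂ) = 1 := by
      rw [Finset.sum_eq_single 1]
      · rw [show tw 1 χ = χ from Subtype.ext (funext fun g => by simp [htwv])]
        exact classInner_irr_self χ.2
      · intro l _ hl
        exact classInner_irr_ne (tw l χ).2 χ.2 fun h => hl (hfree χ hχ l (Subtype.ext h))
      · exact fun h => absurd (Finset.mem_univ _) h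
    rw [← h1]
    simp only [classInner, htwv, ← Finset.mul_sum]
    rw [Finset.sum_comm]
    simp only [mul_assoc, ← Finset.sum_mul]
    simp only [sum_dual, ite_mul, zero_mul, QuotientGroup.eq_one_iff, ← Finset.mul_sum,
      ← Finset.sum_filter]
    rw [Finset.sum_subtype (p := fun x => x ∈ N) (Finset.univ.filter (· ∈ N)) (by simp)
      (fun x => (χ : G → ℂ) x * conj ((χ : G → ℂ) x)),
      Subgroup.card_eq_card_quotient_mul_card_subgroup N, Nat.cast_mul]
    have h2 : (Nat.card (G ⧸ N) : ℂ) ≠ 0 := Nat.cast_ne_zero.2 Nat.card_pos.ne'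
    have h3 : (Nat.card N : ℂ) ≠ 0 := Nat.cast_ne_zero.2 Nat.card_pos.ne'
    field_simp
  have hres : ∀ χ ∈ B, ∃ θ ∈ b, ∀ n : N, (χ : G → ℂ) n = (θ : N → ℂ) n := by
    intro χ hχ
    obtain ⟨θ, hθ, hne⟩ := covers_of_coeff N hBc hχ
    refine ⟨θ, hθ, fun n => ?_⟩
    by_contra hn
    exact hne (classInner_irr_ne (hirr χ hχ) θ.2 fun h => hn (congrFun h n))
  -- the extensions of a member of `b`
  have hover : ∀ θ ∈ b, ∃ χ ∈ B, ∀ n : N, (χ : G → ℂ) n = (θ : N → ℂ) n := by
    intro θ hθ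
    obtain ⟨χ, hχ⟩ := CharCorr.exists_over N θ
    have hne : classInner (fun n : N => (χ : G → ℂ) n) (θ : N → ℂ) ≠ 0 := by
      rw [show (fun n : N => (χ : G → ℂ) n) = (χ : G → ℂ) ∘ N.subtype from rfl, CharCorr.mult_spec]
      exact_mod_cast hχ
    have hχB : χ ∈ B := by
      rw [BlockCover.cover_unique N hM ⟨k, hk⟩ hb hB (isPBlock_blockOf χ) hcov
        ⟨χ, mem_blockOf_self hM χ, θ, hθ, hne⟩]
      exact mem_blockOf_self hM χ
    obtain ⟨θ', -, h'⟩ := hres χ hχB
    refine ⟨χ, hχB, fun n => ?_⟩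
    by_contra hn
    exact hne (classInner_irr_ne (hirr χ hχB) θ.2 fun h => hn (congrFun h n))
  have hfib : ∀ θ ∈ b, Nat.card {χ : IrrCharacter G // χ ∈ B ∧
      ∀ n : N, (χ : G → ℂ) n = (θ : N → ℂ) n} = N.index := by
    intro θ hθ
    obtain ⟨ψ, hψB, hψ⟩ := hover θ hθ
    have hne : ∀ χ : IrrCharacter G, (∀ n : N, (χ : G → ℂ) n = (θ : N → ℂ) n) →
        classInner (fun n : N => (χ : G → ℂ) n) (θ : N → ℂ) ≠ 0 := fun χ h => by
      rw [show (fun n : N => (χ : G → ℂ) n) = (θ : N → ℂ) from funext h, classInner_irr_self θ.2]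
      exact one_ne_zero
    have hmem : ∀ l, tw l ψ ∈ B ∧ ∀ n : N, (tw l ψ : G → ℂ) n = (θ : N → ℂ) n := by
      intro l
      have h1 : ∀ n : N, (tw l ψ : G → ℂ) n = (θ : N → ℂ) n := fun n => by
        rw [htwv, (QuotientGroup.eq_one_iff (n : G)).2 n.2, map_one, Units.val_one, one_mul, hψ]
      refine ⟨?_, h1⟩
      rw [BlockCover.cover_unique N hM ⟨k, hk⟩ hb hB (isPBlock_blockOf (tw l ψ)) hcov
        ⟨_, mem_blockOf_self hM _, θ, hθ, hne _ h1⟩]
      exact mem_blockOf_self hM _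
    rw [← hcardA]
    refine (Nat.card_congr (Equiv.ofBijective (fun l => (⟨tw l ψ, hmem l⟩ :
      {χ : IrrCharacter G // χ ∈ B ∧ ∀ n : N, (χ : G → ℂ) n = (θ : N → ℂ) n})) ⟨?_, ?_⟩)).symm
    · intro l l' h
      have h0 : tw l ψ = tw l' ψ := congrArg Subtype.val h
      refine mul_inv_eq_one.1 (hfree ψ hψB (l * l'⁻¹) (Subtype.ext (funext fun g => ?_)))
      rw [htwv]
      have h1 := congrArg (fun φ : IrrCharacter G => (φ : G → ℂ) g) h0
      simp only [htwv] at h1
      rw [MonoidHom.mul_apply, MonoidHom.inv_apply, mul_comm (l _), Units.val_mul, mul_assoc, h1,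
        ← mul_assoc, ← Units.val_mul, inv_mul_cancel, Units.val_one, one_mul]
    · rintro ⟨χ, hχ, hχn⟩
      obtain ⟨μ, hμ, hμv⟩ := Blk4.Gallagher.exists_linear_factor N hA χ ψ (hirr ψ hψB) (by
        rw [show (fun n : N => (ψ : G → ℂ) n) = (θ : N → ℂ) from funext hψ]
        exact hne χ hχn)
      refine ⟨QuotientGroup.lift N μ fun n hn => MonoidHom.mem_ker.2 (hμ ⟨n, hn⟩), ?_⟩
      exact Subtype.ext (Subtype.ext (funext fun g => by
        rw [htwv, QuotientGroup.lift_mk, hμv, mul_comm]))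
  refine ⟨hNP, hdef, hres, hfib, ?_, ?_⟩
  · choose r hr hrv using hres
    let f : B → b := fun χ => ⟨r χ.1 χ.2, hr χ.1 χ.2⟩
    rw [Nat.card_congr (Equiv.sigmaFiberEquiv f).symm, Nat.card_sigma,
      Finset.sum_congr rfl (g := fun _ => N.index) fun θ _ => ?_, Finset.sum_const,
      smul_eq_mul, Finset.card_univ, ← Nat.card_eq_fintype_card, mul_comm]
    rw [← hfib θ.1 θ.2]
    refine Nat.card_congr
      { toFun := fun χ => ⟨χ.1.1, χ.1.2, fun n => by
          rw [hrv χ.1.1 χ.1.2 n]; exact congrFun (congrArg (fun t : b => (t.1 : N → ℂ)) χ.2) n⟩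
        invFun := fun χ => ⟨⟨χ.1, χ.2.1⟩, Subtype.ext (Subtype.ext (funext fun n =>
          (hrv χ.1 χ.2.1 n).symm.trans (χ.2.2 n)))⟩
        left_inv := fun _ => rfl
        right_inv := fun _ => rfl }
  · let E : (N → ℂ) →ₗ[ℂ] (G → ℂ) :=
      { toFun := fun φ g => if h : g ∈ N then φ ⟨g, h⟩ else 0
        map_add' := fun φ ψ => funext fun g => by
          simp only [Pi.add_apply]; split_ifs <;> simp
        map_smul' := fun c φ => funext fun g => by
          simp only [Pi.smul_apply, RingHom.id_apply]; split_ifs <;> simp }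
    have hE : Function.Injective E := fun φ ψ h => funext fun n => by
      have h1 := congrFun h (n : G)
      simpa [E, dif_pos n.2] using h1
    have himg : ∀ {χ : IrrCharacter G} {θ : IrrCharacter N},
        (∀ n : N, (χ : G → ℂ) n = (θ : N → ℂ) n) →
          E (pRegularPart p (θ : N → ℂ)) = pRegularPart p (χ : G → ℂ) := by
      intro χ θ h
      funext g
      by_cases hg : g ∈ N
      · have e : IsPRegular p (⟨g, hg⟩ : N) ↔ IsPRegular p g := by
          simp [IsPRegular, Subgroup.orderOf_mk]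
        by_cases hr : IsPRegular p g
        · simp [E, hg, pRegularPart, hr, e.2 hr, ← h]
        · simp [E, hg, pRegularPart, hr, mt e.1 hr]
      · have hr : ¬ IsPRegular p g := fun h' => hg (BlockCover.mem_of_regular hM.1 hk h')
        simp [E, hg, pRegularPart, hr]
    have hset : (fun χ : IrrCharacter G => pRegularPart p (χ : G → ℂ)) '' B =
        E '' ((fun θ : IrrCharacter N => pRegularPart p (θ : N → ℂ)) '' b) := by
      ext φ
      simp only [Set.mem_image]
      constructor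
      · rintro ⟨χ, hχ, rfl⟩
        obtain ⟨θ, hθ, h⟩ := hres χ hχ
        exact ⟨_, ⟨θ, hθ, rfl⟩, himg h⟩
      · rintro ⟨_, ⟨θ, hθ, rfl⟩, rfl⟩
        obtain ⟨χ, hχ, h⟩ := hover θ hθ
        exact ⟨χ, hχ, (himg h).symm⟩
    unfold blockRank
    rw [hset, Submodule.span_image]
    exact (Submodule.equivMapOfInjective E hE _).symm.finrank_eq

end CfsgLib.StableBlock
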