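import Cfsg.Agent.Lib.Blocks12.Basic

/-!
Brauer–Feit bound, heights, the `p`-part of the dimension of a block, and defect classes.
-/

namespace CfsgLib.Contribution

open Cfsg CfsgLib.Characters CfsgLib.Blocks
open scoped ComplexConjugate

universe u

variable {G : Type u} [Group G] [Fintype G] [Fintype (ConjClasses G)] {p : ℕ} {M : Ideal AlgInt}
  {B : Set (IrrCharacter G)}

open scoped Classical in
/-- The members of a block as a finset. -/
noncomputable def members (B : Set (IrrCharacter G)) : Finset (IrrCharacter G) :=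
  Finset.univ.filter (· ∈ B)

omit [Fintype (ConjClasses G)] in
theorem mem_members {χ : IrrCharacter G} : χ ∈ members B ↔ χ ∈ B := by
  classical
  simp [members]

omit [Fintype (ConjClasses G)] in
theorem card_members : Nat.card B = (members B).card := by
  classical
  rw [members, ← Fintype.card_subtype, ← Nat.card_eq_fintype_card]

/-- The integer contribution (zero outside the block). -/
noncomputable def contribInt (p : ℕ) (B : Set (IrrCharacter G)) (χ ψ : IrrCharacter G) : ℤ :=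
  ⌊(contrib p (blockDefect p B) χ ψ).re⌋

theorem contribInt_cast (hM : IsPModular p M) (hB : IsPBlock M B) (χ : IrrCharacter G)
    {ψ : IrrCharacter G} (hψ : ψ ∈ B) :
    (contribInt p B χ ψ : ℂ) = contrib p (blockDefect p B) χ ψ := by
  obtain ⟨z, hz⟩ := exists_contrib_int hM hB χ hψ
  rw [contribInt, hz]
  simp

theorem contribInt_row (hM : IsPModular p M) (hB : IsPBlock M B) {χ : IrrCharacter G} (hχ : χ ∈ B) :
    ∑ φ ∈ members B, contribInt p B χ φ ^ 2 = (p : ℤ) ^ blockDefect p B * contribInt p B χ χ := by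
  classical
  have h := row_norm hM hB hχ
  have h2 : ((∑ φ ∈ members B, contribInt p B χ φ ^ 2 : ℤ) : ℂ) =
      (((p : ℤ) ^ blockDefect p B * contribInt p B χ χ : ℤ) : ℂ) := by
    push_cast
    rw [contribInt_cast hM hB χ hχ, ← h, members]
    refine Finset.sum_congr rfl fun φ hφ => ?_
    rw [contribInt_cast hM hB χ (Finset.mem_filter.mp hφ).2, pow_two]
  exact_mod_cast h2

theorem contribInt_zero_ne (hM : IsPModular p M) (hB : IsPBlock M B) {χ : IrrCharacter G} (hχ : χ ∈ B)
    (h0 : ¬ p ∣ red p B χ) {ψ : IrrCharacter G} (hψ : ψ ∈ B) : contribInt p B χ ψ ≠ 0 := by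
  intro h
  apply contrib_zero_ne hM hB hχ h0 hψ
  rw [← contribInt_cast hM hB χ hψ, h, Int.cast_zero]

/-- Brauer and Feit. -/
theorem card_bound (hM : IsPModular p M) (hB : IsPBlock M B) :
    4 * Nat.card B ≤ p ^ (2 * blockDefect p B) + 4 := by
  classical
  obtain ⟨χ, hχ, h0, -⟩ := exists_height_zero hM hB
  have hrow := contribInt_row hM hB hχ
  rw [← Finset.add_sum_erase _ _ (mem_members.mpr hχ)] at hrow
  have h1 : (((members B).erase χ).card : ℤ) ≤ ∑ φ ∈ (members B).erase χ, contribInt p B χ φ ^ 2 := by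
    rw [Finset.card_eq_sum_ones, Nat.cast_sum]
    refine Finset.sum_le_sum fun φ hφ => ?_
    have h2 := contribInt_zero_ne hM hB hχ h0 (mem_members.mp (Finset.mem_of_mem_erase hφ))
    have h3 : 0 < contribInt p B χ φ ^ 2 := by positivity
    push_cast
    omega
  rw [card_members, ← Finset.card_erase_add_one (mem_members.mpr hχ)]
  set m := contribInt p B χ χ
  set N : ℤ := (p : ℤ) ^ blockDefect p B with hN
  have h4 : (4 * (((members B).erase χ).card + 1) : ℤ) ≤ N * N + 4 := by
    nlinarith [sq_nonneg (2 * m - N)]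
  have h5 : N * N = ((p ^ (2 * blockDefect p B) : ℕ) : ℤ) := by
    rw [hN, ← pow_add]; push_cast; ring_nf
  rw [h5] at h4
  exact_mod_cast h4

/-- A character of positive height `h` has `h + 2 ≤ d`. -/
theorem height_bound (hM : IsPModular p M) (hB : IsPBlock M B) {χ : IrrCharacter G} (hχ : χ ∈ B)
    (h : ℕ) (hh : 0 < h) (hdvd : p ^ h ∣ red p B χ) : h + 2 ≤ blockDefect p B := by
  classical
  by_contra hlt
  have hd : blockDefect p B ≤ h + 1 := by omega
  obtain ⟨χ₀, hχ₀, h0, -⟩ := exists_height_zero hM hB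
  obtain ⟨w, hw⟩ := hdvd
  -- the factor of χ lies in the ideal
  have hT : MemLocalIdeal M (tfac p χ χ) := by
    have hc : contrib p (blockDefect p B) χ χ₀ = (red p B χ : ℂ) * tfac p χ₀ χ := by
      rw [contrib_symm hM hB χ hχ₀, contrib_eq hM hB χ₀ hχ]
    rw [contrib_eq hM hB χ hχ₀] at hc
    have h1 : MemLocalIdeal M ((red p B χ₀ : ℂ) * tfac p χ χ₀) := by
      rw [hc]
      refine MemLocalIdeal.mul_right hM ((memLocalIdeal_natCast_iff hM _).mpr ?_) (tfac_mem hM _ _)
      rw [hw]; exact (dvd_pow_self p hh.ne').mul_right _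
    have h2 : MemLocalIdeal M (tfac p χ χ₀) := by
      rcases MemLocalIdeal.mul_cases hM (natCast_mem (lRing hM) _) (tfac_mem hM χ χ₀) h1 with h3 | h3
      · exact absurd ((memLocalIdeal_natCast_iff hM _).mp h3) h0
      · exact h3
    have hs : SameBlock M (χ : G → ℂ) (χ₀ : G → ℂ) := (IsPBlock.mem_iff hM hB hχ χ₀).mp hχ₀
    simpa using MemLocalIdeal.add hM (tfac_congr hM χ hs) h2
  -- so p^(h+1) divides c(χ,χ)
  have hdiv : (p : ℤ) ^ blockDefect p B ∣ contribInt p B χ χ := by
    refine (pow_dvd_pow (p : ℤ) hd).trans ?_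
    have e : (contribInt p B χ χ : ℂ) = (p : ℂ) ^ h * ((w : ℂ) * tfac p χ χ) := by
      rw [contribInt_cast hM hB χ hχ, contrib_eq hM hB χ hχ, hw]; push_cast; ring
    have hcm : MemLocalIdeal M ((w : ℂ) * tfac p χ χ) :=
      MemLocalIdeal.mul_left hM (natCast_mem (lRing hM) w) hT
    obtain ⟨z, hz⟩ := int_pow_dvd hM (CfsgLib.Blocks.MemLocalIdeal.memLocalRing hcm) e
    rw [hz, pow_succ]
    refine mul_dvd_mul_left _ ((memLocalIdeal_intCast_iff hM z).mp ?_)
    have e2 : (z : ℂ) = (w : ℂ) * tfac p χ χ := by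
      apply mul_left_cancel₀ (pow_ne_zero h (Nat.cast_ne_zero.mpr hM.1.ne_zero : (p : ℂ) ≠ 0))
      rw [← e, hz]; push_cast; rfl
    rw [e2]; exact hcm
  have hne : χ ≠ χ₀ := fun he => h0 (he ▸ ⟨p ^ (h - 1) * w, by
    rw [hw, ← mul_assoc, ← pow_succ']; congr 2; omega⟩)
  have hrow := contribInt_row hM hB hχ
  have hsplit : contribInt p B χ χ ^ 2 + contribInt p B χ χ₀ ^ 2 ≤
      ∑ φ ∈ members B, contribInt p B χ φ ^ 2 := by
    rw [← Finset.sum_pair (f := fun φ => contribInt p B χ φ ^ 2) hne]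
    refine Finset.sum_le_sum_of_subset_of_nonneg ?_ fun φ _ _ => sq_nonneg _
    intro φ hφ
    simp only [Finset.mem_insert, Finset.mem_singleton] at hφ
    rcases hφ with rfl | rfl
    · exact mem_members.mpr hχ
    · exact mem_members.mpr hχ₀
  have h7 : contribInt p B χ χ₀ ≠ 0 := by
    intro hz
    apply contribInt_zero_ne hM hB hχ₀ h0 hχ
    have h8 := contribInt_cast hM hB χ₀ hχ
    rw [← contrib_symm hM hB χ hχ₀, ← contribInt_cast hM hB χ hχ₀, hz] at h8
    exact_mod_cast h8
  have hpos : 0 < contribInt p B χ χ₀ ^ 2 := by positivity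
  obtain ⟨k, hk⟩ := hdiv
  set N : ℤ := (p : ℤ) ^ blockDefect p B
  rw [hrow, hk] at hsplit
  have hN : 0 < N := pow_pos (by exact_mod_cast hM.1.pos) _
  have h9 : 0 < (N * N) * (k * (1 - k)) := by nlinarith
  have hk2 : k * (1 - k) ≤ 0 := by
    rcases le_or_gt k 0 with hk3 | hk3
    · exact mul_nonpos_of_nonpos_of_nonneg hk3 (by omega)
    · exact mul_nonpos_of_nonneg_of_nonpos hk3.le (by omega)
  nlinarith [mul_pos hN hN]

/-- Members all have the least `p`-exponent when `d ≤ 2`. -/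
theorem exp_eq_of_defect_le_two (hM : IsPModular p M) (hB : IsPBlock M B) (hd : blockDefect p B ≤ 2)
    {χ : IrrCharacter G} (hχ : χ ∈ B) :
    (charDegree (χ : G → ℂ)).factorization p = minExp p B := by
  have h1 := minExp_le (p := p) hχ
  by_contra hne
  have h3 := height_bound hM hB hχ ((charDegree (χ : G → ℂ)).factorization p - minExp p B) (by omega)
    ((pow_dvd_red hM.1 hχ).mpr (by omega))
  omega

/-- A member divisible by `p^(a-1)` forces all members to be so. -/
theorem near_full_power (hM : IsPModular p M) (hB : IsPBlock M B) {χ : IrrCharacter G} (hχ : χ ∈ B)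
    (hdiv : p ^ ((Nat.card G).factorization p - 1) ∣ charDegree (χ : G → ℂ))
    {ψ : IrrCharacter G} (hψ : ψ ∈ B) :
    p ^ ((Nat.card G).factorization p - 1) ∣ charDegree (ψ : G → ℂ) := by
  set a := (Nat.card G).factorization p
  rw [hM.1.pow_dvd_iff_le_factorization (CfsgLib.ClassCount.degree_eq χ).2.2.ne'] at hdiv
  have hm := minExp_add_defect hM hB
  have hle := minExp_le (p := p) hψ
  rw [hM.1.pow_dvd_iff_le_factorization (CfsgLib.ClassCount.degree_eq ψ).2.2.ne']
  by_cases hd : blockDefect p B ≤ 1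
  · omega
  · exfalso
    have h3 := height_bound hM hB hχ (blockDefect p B - 1) (by omega)
      ((pow_dvd_red hM.1 hχ).mpr (by omega))
    omega

/-- The `p`-part of the dimension of a block. -/
theorem sum_sq_valuation (hM : IsPModular p M) (hB : IsPBlock M B) :
    (∑ᶠ χ ∈ B, charDegree (χ : G → ℂ) ^ 2).factorization p =
      2 * (Nat.card G).factorization p - blockDefect p B := by
  classical
  obtain ⟨χ₀, hχ₀, h0, -⟩ := exists_height_zero hM hB
  have hp := hM.1
  have hm := minExp_add_defect hM hB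
  set m := minExp p B
  set d := blockDefect p B
  set U : ℕ := ∑ φ ∈ members B, red p B φ ^ 2 with hU
  have hsum : ∑ᶠ χ ∈ B, charDegree (χ : G → ℂ) ^ 2 = p ^ (2 * m) * U := by
    rw [finsum_mem_eq_sum_of_inter_support_eq (t := members B), hU, Finset.mul_sum]
    · refine Finset.sum_congr rfl fun φ hφ => ?_
      rw [degree_red (p := p) (mem_members.mp hφ)]; ring
    · ext φ; simp [mem_members]
  -- p^d divides U
  have hUv : ∀ x : G, p ∣ orderOf x →
      ∑ φ ∈ members B, (red p B φ : ℂ) * (φ : G → ℂ) x = 0 := by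
    intro x hx
    have h := weak_orth hM hB (x := (1 : G)) (by rw [orderOf_one]; exact hp.not_dvd_one) hx
    have h' := congrArg conj h
    rw [map_sum, map_zero] at h'
    apply mul_left_cancel₀ (pow_ne_zero m (Nat.cast_ne_zero.mpr hp.ne_zero : (p : ℂ) ≠ 0))
    rw [mul_zero, ← h', Finset.mul_sum, members]
    refine Finset.sum_congr rfl fun φ hφ => ?_
    rw [map_mul, Complex.conj_conj, apply_one_red (p := p) (Finset.mem_filter.mp hφ).2]
    simp only [map_mul, map_pow, Complex.conj_natCast]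
    ring
  obtain ⟨r, hr, hreq⟩ := vanish_pairing hM hB (fun φ => (red p B φ : ℂ))
    (fun φ _ => natCast_mem (lRing hM) _) hUv
  have hUc : ((U : ℤ) : ℂ) = (p : ℂ) ^ d * r := by
    rw [← hreq, hU, members]; push_cast; simp only [pow_two]
  have hdvdU : (p : ℤ) ^ d ∣ (U : ℤ) := int_pow_dvd hM hr hUc
  -- p^(d+1) does not divide U
  have hnot : ¬ (p : ℤ) ^ (d + 1) ∣ (U : ℤ) := by
    intro hdiv
    -- an integer λ with λ c₀₀ ≡ u₀ (mod p)
    have hc00 : ¬ (p : ℤ) ∣ contribInt p B χ₀ χ₀ := by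
      rw [← memLocalIdeal_intCast_iff hM, contribInt_cast hM hB χ₀ hχ₀, contrib_eq hM hB χ₀ hχ₀]
      intro hI
      rcases MemLocalIdeal.mul_cases hM (natCast_mem (lRing hM) _) (tfac_mem hM χ₀ χ₀) hI with h1 | h1
      · exact h0 ((memLocalIdeal_natCast_iff hM _).mp h1)
      · exact tfac_unit hM hB hχ₀ h0 hχ₀ h1
    haveI := Fact.mk hp
    obtain ⟨lam, hlam⟩ : ∃ lam : ℤ, (p : ℤ) ∣ (red p B χ₀ : ℤ) - lam * contribInt p B χ₀ χ₀ := by
      refine ⟨(((red p B χ₀ : ℤ) : ZMod p) * ((contribInt p B χ₀ χ₀ : ZMod p))⁻¹).val, ?_⟩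
      rw [← ZMod.intCast_zmod_eq_zero_iff_dvd]
      have hne : (contribInt p B χ₀ χ₀ : ZMod p) ≠ 0 := fun h => hc00 ((ZMod.intCast_zmod_eq_zero_iff_dvd _ _).mp h)
      push_cast
      rw [ZMod.natCast_zmod_val]
      field_simp
      ring
    have hlT : MemLocalIdeal M (1 - (lam : ℂ) * tfac p χ₀ χ₀) := by
      have h1 := (memLocalIdeal_intCast_iff hM _).mpr hlam
      push_cast at h1
      rw [contribInt_cast hM hB χ₀ hχ₀, contrib_eq hM hB χ₀ hχ₀] at h1
      have h1' : MemLocalIdeal M ((red p B χ₀ : ℂ) * (1 - (lam : ℂ) * tfac p χ₀ χ₀)) := by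
        rw [show (red p B χ₀ : ℂ) * (1 - (lam : ℂ) * tfac p χ₀ χ₀) =
          (red p B χ₀ : ℂ) - (lam : ℂ) * ((red p B χ₀ : ℂ) * tfac p χ₀ χ₀) by ring]
        exact h1
      rcases MemLocalIdeal.mul_cases hM (natCast_mem (lRing hM) _)
        ((lRing hM).sub_mem (lRing hM).one_mem ((lRing hM).mul_mem (intCast_mem (lRing hM) _)
          (tfac_mem hM χ₀ χ₀))) h1' with h2 | h2
      · exact absurd ((memLocalIdeal_natCast_iff hM _).mp h2) h0
      · exact h2
    have hr' : ∀ φ ∈ B, ∃ z : ℤ, (red p B φ : ℤ) - lam * contribInt p B χ₀ φ = (p : ℤ) * z := by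
      intro φ hφ
      refine (memLocalIdeal_intCast_iff hM _).mp ?_
      push_cast
      rw [contribInt_cast hM hB χ₀ hφ, contrib_eq hM hB χ₀ hφ,
        show (red p B φ : ℂ) - (lam : ℂ) * ((red p B φ : ℂ) * tfac p χ₀ φ) =
          (red p B φ : ℂ) * ((1 - (lam : ℂ) * tfac p χ₀ χ₀) + (lam : ℂ) * (tfac p χ₀ χ₀ - tfac p χ₀ φ)) by ring]
      refine MemLocalIdeal.mul_left hM (natCast_mem (lRing hM) _) (MemLocalIdeal.add hM hlT ?_)
      exact MemLocalIdeal.mul_left hM (intCast_mem (lRing hM) _)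
        (tfac_congr hM χ₀ ((IsPBlock.mem_iff hM hB hχ₀ φ).mp hφ))
    choose! z hz using hr'
    have hcv : ∀ x : G, p ∣ orderOf x →
        ∑ φ ∈ members B, (contribInt p B χ₀ φ : ℂ) * (φ : G → ℂ) x = 0 := by
      intro x hx
      have h := expand hM hB hχ₀ x
      rw [if_neg (not_not.mpr hx)] at h
      refine Eq.trans ?_ h.symm
      rw [members]
      refine Finset.sum_congr rfl fun φ hφ => ?_
      rw [contribInt_cast hM hB χ₀ (Finset.mem_filter.mp hφ).2]
    obtain ⟨r2, hr2, hr2eq⟩ := vanish_pairing hM hB (fun φ => (z φ : ℂ))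
      (fun φ _ => intCast_mem (lRing hM) _) (fun x hx => by
        apply mul_left_cancel₀ (Nat.cast_ne_zero.mpr hp.ne_zero : (p : ℂ) ≠ 0)
        rw [mul_zero, Finset.mul_sum]
        have h1 := hUv x hx
        have h2 := hcv x hx
        rw [members] at h1 h2
        calc ∑ φ ∈ Finset.univ.filter (· ∈ B), (p : ℂ) * ((z φ : ℂ) * (φ : G → ℂ) x)
            = ∑ φ ∈ Finset.univ.filter (· ∈ B), ((red p B φ : ℂ) * (φ : G → ℂ) x -
                (lam : ℂ) * ((contribInt p B χ₀ φ : ℂ) * (φ : G → ℂ) x)) := by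
              refine Finset.sum_congr rfl fun φ hφ => ?_
              have h3 := congrArg (Int.cast : ℤ → ℂ) (hz φ (Finset.mem_filter.mp hφ).2)
              push_cast at h3
              linear_combination (-(φ : G → ℂ) x) * h3
          _ = 0 := by rw [Finset.sum_sub_distrib, h1, ← Finset.mul_sum, h2, mul_zero, sub_zero])
    -- ∑ c u = p^d u₀
    have hcu : ∑ φ ∈ members B, (contribInt p B χ₀ φ : ℂ) * (red p B φ : ℂ) =
        (p : ℂ) ^ d * (red p B χ₀ : ℂ) := by
      have h := expand hM hB hχ₀ 1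
      rw [if_pos (by rw [orderOf_one]; exact hp.not_dvd_one), apply_one_red (p := p) hχ₀] at h
      apply mul_left_cancel₀ (pow_ne_zero m (Nat.cast_ne_zero.mpr hp.ne_zero : (p : ℂ) ≠ 0))
      rw [show (p : ℂ) ^ m * ((p : ℂ) ^ d * (red p B χ₀ : ℂ)) = (p : ℂ) ^ d * ((p : ℂ) ^ m * (red p B χ₀ : ℂ)) by ring,
        h, Finset.mul_sum, members]
      refine Finset.sum_congr rfl fun φ hφ => ?_
      rw [contribInt_cast hM hB χ₀ (Finset.mem_filter.mp hφ).2, apply_one_red (p := p) (Finset.mem_filter.mp hφ).2]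
      ring
    have hUeq : ((U : ℤ) : ℂ) = (p : ℂ) ^ d * ((lam : ℂ) * (red p B χ₀ : ℂ) + (p : ℂ) * r2) := by
      rw [mul_add, mul_left_comm, ← hcu, mul_left_comm _ (p : ℂ), ← hr2eq, Finset.mul_sum, Finset.mul_sum,
        hU, members]
      push_cast
      rw [← Finset.sum_add_distrib]
      refine Finset.sum_congr rfl fun φ hφ => ?_
      have h3 := congrArg (Int.cast : ℤ → ℂ) (hz φ (Finset.mem_filter.mp hφ).2)
      push_cast at h3
      linear_combination (red p B φ : ℂ) * h3
    obtain ⟨k, hk⟩ := hdiv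
    have h4 : (lam : ℂ) * (red p B χ₀ : ℂ) + (p : ℂ) * r2 = (p : ℂ) * (k : ℂ) := by
      apply mul_left_cancel₀ (pow_ne_zero d (Nat.cast_ne_zero.mpr hp.ne_zero : (p : ℂ) ≠ 0))
      rw [← hUeq, hk]; push_cast; ring
    have h5 : MemLocalIdeal M (((lam * (red p B χ₀ : ℤ) : ℤ)) : ℂ) := by
      push_cast
      rw [eq_sub_of_add_eq h4, ← mul_sub]
      exact MemLocalIdeal.mul_right hM (memLocalIdeal_p hM) ((lRing hM).sub_mem (intCast_mem (lRing hM) _) hr2)
    rcases (Nat.prime_iff_prime_int.mp hp).dvd_mul.mp ((memLocalIdeal_intCast_iff hM _).mp h5) with h6 | h6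
    · apply h0
      have h7 := dvd_add hlam (h6.mul_right (contribInt p B χ₀ χ₀))
      rw [sub_add_cancel] at h7
      exact_mod_cast h7
    · exact h0 (by exact_mod_cast h6)
  have hU0 : U ≠ 0 := by
    intro h; apply hnot; rw [h]; simp
  have hval : U.factorization p = d := by
    refine le_antisymm ?_ ?_
    · by_contra hcon
      apply hnot
      have : p ^ (d + 1) ∣ U := (hp.pow_dvd_iff_le_factorization hU0).mpr (by omega)
      exact_mod_cast this
    · exact (hp.pow_dvd_iff_le_factorization hU0).mp (by exact_mod_cast hdvdU)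
  rw [hsum, Nat.factorization_mul (pow_pos hp.pos _).ne' hU0, Finsupp.add_apply,
    Nat.Prime.factorization_pow hp, Finsupp.single_eq_same, hval]
  omega

/-- A class with a nonzero idempotent coefficient modulo `M` has `v(|K|) ≥ a - d`. -/
theorem minExp_le_of_coeff (hM : IsPModular p M) (hB : IsPBlock M B) {g : G}
    (hg : ¬ MemLocalIdeal M (blockCoeff B g)) :
    minExp p B ≤ ((Subgroup.centralizer ({g} : Set G)).index).factorization p := by
  classical
  have hp := hM.1
  have hreg : ¬ p ∣ orderOf g := fun h =>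
    hg (by rw [blockCoeff_eq_zero_of_singular hM hB h]; exact memLocalIdeal_zero hM)
  have hi0 : (Subgroup.centralizer ({g} : Set G)).index ≠ 0 := Subgroup.index_ne_zero_of_finite
  set K : ℕ := (Subgroup.centralizer ({g} : Set G)).index
  set m := minExp p B
  have hK0 : (K : ℂ) ≠ 0 := Nat.cast_ne_zero.mpr hi0
  let y : IrrCharacter G → ℂ := fun φ => centralChar (φ : G → ℂ) g⁻¹ * (red p B φ : ℂ)
  have hyv : ∀ φ ∈ B, y φ = (K : ℂ) * conj ((φ : G → ℂ) g) / (p : ℂ) ^ m := by
    intro φ hφ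
    simp only [y]
    rw [centralChar_inv, centralChar, map_div₀, map_mul, Complex.conj_natCast, apply_one_red (p := p) hφ]
    simp only [map_mul, map_pow, Complex.conj_natCast]
    have : (red p B φ : ℂ) ≠ 0 := Nat.cast_ne_zero.mpr (red_pos hφ).ne'
    have : (p : ℂ) ≠ 0 := Nat.cast_ne_zero.mpr hp.ne_zero
    field_simp
    simp only [m, K]; ring
  obtain ⟨r, hr, hreq⟩ := vanish_pairing hM hB y
    (fun φ _ => (lRing hM).mul_mem (centralChar_mem_lRing hM φ _) (natCast_mem (lRing hM) _))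
    (fun x hx => by
      have h := congrArg conj (weak_orth hM hB hreg hx)
      rw [map_sum, map_zero] at h
      rw [← mul_zero ((K : ℂ) / (p : ℂ) ^ m), ← h, Finset.mul_sum]
      refine Finset.sum_congr rfl fun φ hφ => ?_
      rw [hyv φ (Finset.mem_filter.mp hφ).2, map_mul, Complex.conj_conj]
      ring)
  have hg' : ¬ p ∣ Nat.card G / p ^ (Nat.card G).factorization p := Nat.not_dvd_ordCompl hp Nat.card_pos.ne'
  set g' : ℕ := Nat.card G / p ^ (Nat.card G).factorization p
  have hp0 : (p : ℂ) ≠ 0 := Nat.cast_ne_zero.mpr hp.ne_zero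
  have key : (K : ℂ) * blockCoeff B g = (p : ℂ) ^ m * ((g' : ℂ)⁻¹ * r) := by
    rw [blockCoeff_eq_sum]
    have e : ∑ φ ∈ Finset.univ.filter (· ∈ B), (φ : G → ℂ) 1 * conj ((φ : G → ℂ) g) =
        (p : ℂ) ^ m * (p : ℂ) ^ m / (K : ℂ) * ((p : ℂ) ^ blockDefect p B * r) := by
      rw [← hreq, Finset.mul_sum]
      refine Finset.sum_congr rfl fun φ hφ => ?_
      rw [hyv φ (Finset.mem_filter.mp hφ).2, apply_one_red (p := p) (Finset.mem_filter.mp hφ).2]
      field_simp
      simp only [m]; ring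
    have hpow : (p : ℂ) ^ (Nat.card G).factorization p = (p : ℂ) ^ m * (p : ℂ) ^ blockDefect p B := by
      rw [← minExp_add_defect hM hB, pow_add]
    rw [e, cast_card_eq (p := p), hpow]
    field_simp
    simp only [m, g']
  by_contra hlt
  apply hg
  set j := K.factorization p
  have hK' : ¬ p ∣ K / p ^ j := Nat.not_dvd_ordCompl hp hi0
  have hKeq : (K : ℂ) = (p : ℂ) ^ j * ((K / p ^ j : ℕ) : ℂ) := by
    exact_mod_cast (Nat.ordProj_mul_ordCompl_eq_self K p).symm
  have e2 : blockCoeff B g = (p : ℂ) * ((p : ℂ) ^ (m - j - 1) * ((g' : ℂ)⁻¹ * r) *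
      ((K / p ^ j : ℕ) : ℂ)⁻¹) := by
    apply mul_left_cancel₀ hK0
    rw [key, hKeq]
    have h1 : (p : ℂ) ^ m = (p : ℂ) ^ j * ((p : ℂ) * (p : ℂ) ^ (m - j - 1)) := by
      rw [← pow_succ', ← pow_add]; congr 1; omega
    have : ((K / p ^ j : ℕ) : ℂ) ≠ 0 := Nat.cast_ne_zero.mpr fun h => hK' (h ▸ dvd_zero p)
    rw [h1]
    field_simp
  rw [e2]
  refine MemLocalIdeal.mul_right hM (memLocalIdeal_p hM) ?_
  exact (lRing hM).mul_mem ((lRing hM).mul_mem ((lRing hM).pow_mem (natCast_mem (lRing hM) p) _)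
    ((lRing hM).mul_mem (inv_natCast_mem_lRing hM hg') hr)) (inv_natCast_mem_lRing hM hK')

omit [Fintype (ConjClasses G)] in
/-- A class with a unit central character has `v(|K|) ≤ a - d`. -/
theorem le_minExp_of_centralChar (hM : IsPModular p M) (hB : IsPBlock M B) {χ : IrrCharacter G}
    (hχ : χ ∈ B) {g : G} (hg : ¬ MemLocalIdeal M (centralChar (χ : G → ℂ) g)) :
    ((Subgroup.centralizer ({g} : Set G)).index).factorization p ≤ minExp p B := by
  obtain ⟨χ₀, hχ₀, h0, -⟩ := exists_height_zero hM hB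
  by_contra hlt
  apply hg
  have hs := (IsPBlock.mem_iff hM hB hχ₀ χ).mp hχ g
  suffices h : MemLocalIdeal M (centralChar (χ₀ : G → ℂ) g) by
    simpa using MemLocalIdeal.sub hM h hs
  set K := (Subgroup.centralizer ({g} : Set G)).index
  set m := minExp p B
  obtain ⟨k, hk⟩ : p ^ (m + 1) ∣ K :=
    (pow_dvd_pow p (by omega : m + 1 ≤ K.factorization p)).trans (Nat.ordProj_dvd _ p)
  have hp0 : (p : ℂ) ≠ 0 := Nat.cast_ne_zero.mpr hM.1.ne_zero
  have e : centralChar (χ₀ : G → ℂ) g = (p : ℂ) * ((k : ℂ) * (χ₀ : G → ℂ) g * (red p B χ₀ : ℂ)⁻¹) := by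
    rw [centralChar, show (Subgroup.centralizer ({g} : Set G)).index = K from rfl, hk,
      apply_one_red (p := p) hχ₀]
    push_cast
    have : (red p B χ₀ : ℂ) ≠ 0 := Nat.cast_ne_zero.mpr (red_pos hχ₀).ne'
    field_simp
    ring
  rw [e]
  refine MemLocalIdeal.mul_right hM (memLocalIdeal_p hM) ?_
  exact (lRing hM).mul_mem ((lRing hM).mul_mem (natCast_mem (lRing hM) k)
    (isIntegral_mem_lRing hM (CfsgLib.ClassCount.irr_isIntegral χ₀ g))) (inv_natCast_mem_lRing hM h0)

omit [Fintype (ConjClasses G)] in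
theorem index_factorization (hp : p.Prime) (g : G) :
    ((Subgroup.centralizer ({g} : Set G)).index).factorization p +
      (Nat.card (Subgroup.centralizer ({g} : Set G))).factorization p = (Nat.card G).factorization p := by
  rw [← Subgroup.index_mul_card (Subgroup.centralizer ({g} : Set G)),
    Nat.factorization_mul Subgroup.index_ne_zero_of_finite Nat.card_pos.ne', Finsupp.add_apply]

end CfsgLib.Contribution
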