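import Cfsg.Agent.Lib.Blocks12.Bounds
import Cfsg.Agent.Lib.Blocks.Reduced
import Cfsg.Agent.Lib.Blocks.Brauer

/-!
The duality between block idempotents and central characters modulo `M`, on the `p`-regular
classes of a given defect, and its consequence for real blocks at `p = 2`.
-/

namespace CfsgLib.Contribution

open Cfsg CfsgLib.Characters CfsgLib.Blocks
open scoped ComplexConjugate

universe u

variable {G : Type u} [Group G] [Fintype G] [Fintype (ConjClasses G)] {p : ℕ} {M : Ideal AlgInt}
  {B : Set (IrrCharacter G)}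

open scoped Classical in
/-- The `p`-regular classes whose centralizers have `p`-part `p ^ s`. -/
noncomputable def defectClasses (p s : ℕ) : Finset (ConjClasses G) :=
  Finset.univ.filter fun c => ¬ p ∣ orderOf c.out ∧
    (Nat.card (Subgroup.centralizer ({c.out} : Set G))).factorization p = s

omit [Fintype G] in
theorem mem_defectClasses {s : ℕ} {c : ConjClasses G} : c ∈ defectClasses p s ↔
    ¬ p ∣ orderOf c.out ∧ (Nat.card (Subgroup.centralizer ({c.out} : Set G))).factorization p = s := by
  classical
  simp [defectClasses]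

/-- The central character of a character of a block of the same defect at the idempotent of `B`
only sees the classes of that defect. -/
theorem defect_sum_congr (hM : IsPModular p M) (hB : IsPBlock M B) {ψ : IrrCharacter G}
    (hd : blockDefect p (blockOf M (ψ : G → ℂ)) = blockDefect p B) [Decidable (ψ ∈ B)] :
    MemLocalIdeal M (∑ c ∈ defectClasses p (blockDefect p B),
      blockCoeff B c.out * centralChar (ψ : G → ℂ) c.out - if ψ ∈ B then 1 else 0) := by
  classical
  set S := defectClasses (G := G) p (blockDefect p B)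
  have hfull : ∑ c : ConjClasses G, blockCoeff B c.out * centralChar (ψ : G → ℂ) c.out =
      if ψ ∈ B then 1 else 0 := by
    have h := omega_eq_sum_classes ψ (blockIdem_mem_center B)
    rw [omega_blockIdem] at h
    simp only [coeff_blockIdem] at h
    convert h.symm
  rw [← hfull, ← Finset.sum_add_sum_compl S, sub_add_cancel_left]
  refine MemLocalIdeal.neg hM (MemLocalIdeal.sum hM _ fun c hc => ?_)
  have hR := memLocalRing_blockCoeff hM hB c.out
  by_cases h1 : MemLocalIdeal M (blockCoeff B c.out)
  · exact MemLocalIdeal.mul_right hM h1 (centralChar_mem_lRing hM ψ _)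
  refine MemLocalIdeal.mul_left hM hR ?_
  by_contra h2
  have hreg : ¬ p ∣ orderOf c.out := fun h =>
    h1 (by rw [blockCoeff_eq_zero_of_singular hM hB h]; exact memLocalIdeal_zero hM)
  have hle := minExp_le_of_coeff hM hB h1
  have hge := le_minExp_of_centralChar hM (isPBlock_blockOf ψ) (mem_blockOf_self hM ψ) h2
  have e1 := minExp_add_defect hM hB
  have e2 := minExp_add_defect hM (isPBlock_blockOf (M := M) ψ)
  have e3 := index_factorization hM.1 c.out
  exact Finset.mem_compl.mp hc (mem_defectClasses.mpr ⟨hreg, by omega⟩)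

/-- Characters in blocks of defect `d` agreeing on the classes of defect `d` share their block. -/
theorem sameBlock_of_agree (hM : IsPModular p M) {χ ψ : IrrCharacter G}
    (hd : blockDefect p (blockOf M (ψ : G → ℂ)) = blockDefect p (blockOf M (χ : G → ℂ)))
    (h : ∀ x : G, ¬ p ∣ orderOf x →
      (Nat.card (Subgroup.centralizer ({x} : Set G))).factorization p =
        blockDefect p (blockOf M (χ : G → ℂ)) →
      MemLocalIdeal M (centralChar (χ : G → ℂ) x - centralChar (ψ : G → ℂ) x)) :
    SameBlock M (χ : G → ℂ) (ψ : G → ℂ) := by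
  classical
  have hB : IsPBlock M (blockOf M (χ : G → ℂ)) := isPBlock_blockOf χ
  by_contra hne
  have hψ : ψ ∉ blockOf M (χ : G → ℂ) := hne
  have h1 := defect_sum_congr hM hB (ψ := χ) rfl
  have h2 := defect_sum_congr hM hB (ψ := ψ) hd
  rw [if_pos (mem_blockOf_self hM χ)] at h1
  rw [if_neg hψ, sub_zero] at h2
  have h3 : MemLocalIdeal M (∑ c ∈ defectClasses p (blockDefect p (blockOf M (χ : G → ℂ))),
      blockCoeff (blockOf M (χ : G → ℂ)) c.out *
        (centralChar (χ : G → ℂ) c.out - centralChar (ψ : G → ℂ) c.out)) :=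
    MemLocalIdeal.sum hM _ fun c hc => MemLocalIdeal.mul_left hM (memLocalRing_blockCoeff hM hB _)
      (h _ (mem_defectClasses.mp hc).1 (mem_defectClasses.mp hc).2)
  simp only [mul_sub, Finset.sum_sub_distrib] at h3
  apply not_memLocalIdeal_one hM
  simpa using MemLocalIdeal.sub hM (MemLocalIdeal.add hM h3 h2) h1

/-- There are at most as many blocks of defect `s` as regular classes of defect `s`. -/
theorem card_blocks_le (hM : IsPModular p M) (s : ℕ) :
    Nat.card {B : Set (IrrCharacter G) // IsPBlock M B ∧ blockDefect p B = s} ≤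
      (defectClasses (G := G) p s).card := by
  classical
  haveI := hM.2.1
  letI := Ideal.Quotient.field M
  let ι := {B : Set (IrrCharacter G) // IsPBlock M B ∧ blockDefect p B = s}
  haveI : Fintype ι := Fintype.ofFinite ι
  choose χ hχ using fun B : ι => IsPBlock.nonempty hM B.2.1
  set S := defectClasses (G := G) p s
  let v : ι → (↥S → AlgInt ⧸ M) := fun B c => lResD hM (centralChar (χ B : G → ℂ) c.1.out)
  have hblk : ∀ B : ι, blockOf M (χ B : G → ℂ) = B.1 := fun B =>
    (IsPBlock.eq_blockOf hM B.2.1 (hχ B)).symm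
  have key : ∀ B B' : ι, ∑ c : ↥S, lResD hM (blockCoeff B.1 c.1.out) * v B' c =
      if B' = B then 1 else 0 := by
    intro B B'
    have h := defect_sum_congr hM B.2.1 (ψ := χ B') (by rw [hblk B', B'.2.2, B.2.2])
    rw [B.2.2] at h
    have hiff : χ B' ∈ B.1 ↔ B' = B := by
      constructor
      · intro hm
        exact Subtype.ext ((hblk B').symm.trans (IsPBlock.eq_blockOf hM B.2.1 hm).symm)
      · rintro rfl; exact hχ B'
    have hmem : ∀ c : ConjClasses G,
        blockCoeff B.1 c.out * centralChar (χ B' : G → ℂ) c.out ∈ lRing hM := fun c =>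
      (lRing hM).mul_mem (memLocalRing_blockCoeff hM B.2.1 _) (centralChar_mem_lRing hM _ _)
    have h01 : (if χ B' ∈ B.1 then (1 : ℂ) else 0) ∈ lRing hM := by
      split_ifs
      · exact (lRing hM).one_mem
      · exact (lRing hM).zero_mem
    rw [← lResD_eq_iff hM ((lRing hM).sum_mem fun c _ => hmem c) h01,
      lResD_sum hM _ fun c _ => hmem c] at h
    rw [Finset.sum_coe_sort S (fun c => lResD hM (blockCoeff B.1 c.out) *
      lResD hM (centralChar (χ B' : G → ℂ) c.out)),
      Finset.sum_congr rfl fun c _ => (lResD_mul hM (memLocalRing_blockCoeff hM B.2.1 c.out)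
        (centralChar_mem_lRing hM (χ B') c.out)).symm, h]
    by_cases hb : B' = B
    · rw [if_pos hb, if_pos (hiff.mpr hb), lResD_one]
    · rw [if_neg hb, if_neg (mt hiff.mp hb), lResD_zero]
  have hli : LinearIndependent (AlgInt ⧸ M) v := by
    rw [Fintype.linearIndependent_iff]
    intro g hg B
    have h0 : ∑ c : ↥S, lResD hM (blockCoeff B.1 c.1.out) * (∑ B' : ι, g B' • v B') c = 0 := by
      rw [hg]; simp
    simp only [Finset.sum_apply, Pi.smul_apply, smul_eq_mul, Finset.mul_sum] at h0
    rw [Finset.sum_comm] at h0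
    simp only [mul_left_comm _ (g _), ← Finset.mul_sum, key, mul_ite, mul_one, mul_zero,
      ] at h0
    rw [Finset.sum_eq_single B (fun b _ hb => if_neg hb) (by simp), if_pos rfl] at h0
    exact h0
  have := hli.fintype_card_le_finrank
  rwa [Module.finrank_fintype_fun_eq_card, Fintype.card_coe, ← Nat.card_eq_fintype_card] at this

omit [Fintype (ConjClasses G)] in
/-- A real class of an element of odd order other than one has even length. -/
theorem two_dvd_index_of_real {g : G} (h1 : g ≠ 1) (ho : ¬ 2 ∣ orderOf g) (hg : IsConj g g⁻¹) :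
    2 ∣ (Subgroup.centralizer ({g} : Set G)).index := by
  classical
  rw [← natCard_isConj, Nat.card_eq_fintype_card, ← ZMod.natCast_eq_zero_iff_even.trans even_iff_two_dvd,
    Fintype.card_subtype, Finset.cast_card]
  refine Finset.sum_involution (fun x _ => x⁻¹) (fun _ _ => CharTwo.add_self_eq_zero 1) ?_ ?_ ?_
  · intro x hx _ hfix
    obtain ⟨c, rfl⟩ := isConj_iff.mp (Finset.mem_filter.mp hx).2
    have hsq : g * g = 1 := by
      have h2 : c * (g * g) * c⁻¹ = c * 1 * c⁻¹ := by
        rw [mul_one, mul_inv_cancel,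
          show c * (g * g) * c⁻¹ = (c * g * c⁻¹) * (c * g * c⁻¹) by group]
        nth_rewrite 1 [← hfix]
        exact inv_mul_cancel _
      exact mul_left_cancel (mul_right_cancel h2)
    have hdvd : orderOf g ∣ 2 := orderOf_dvd_of_pow_eq_one (by rw [pow_two, hsq])
    rcases (Nat.dvd_prime Nat.prime_two).mp hdvd with h | h
    · exact h1 (orderOf_eq_one_iff.mp h)
    · exact ho (h ▸ dvd_rfl)
  · intro x hx
    obtain ⟨c, rfl⟩ := isConj_iff.mp (Finset.mem_filter.mp hx).2
    exact Finset.mem_filter.mpr ⟨Finset.mem_univ _, hg.trans (isConj_iff.mpr ⟨c, by group⟩)⟩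
  · intro x _; exact inv_inv x

/-- A full defect `2`-block on which `χ ↦ χ (g⁻¹)` acts on regular elements is principal. -/
theorem principal_of_pairing {M : Ideal AlgInt} (hM : IsPModular 2 M) (hB : IsPBlock M B)
    (hm : minExp 2 B = 0)
    (hf : ∃ f : IrrCharacter G → IrrCharacter G, Set.InjOn f B ∧ ∀ χ ∈ B, f χ ∈ B ∧
      (f χ : G → ℂ) 1 = (χ : G → ℂ) 1 ∧
      ∀ g : G, ¬ 2 ∣ orderOf g → (f χ : G → ℂ) g = (χ : G → ℂ) g⁻¹) :
    B = principalBlock M G := by
  classical
  haveI := hM.2.1
  letI := Ideal.Quotient.field M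
  haveI := charP_residue hM
  haveI : Fact (Nat.Prime 2) := ⟨Nat.prime_two⟩
  obtain ⟨f, hinj, hf⟩ := hf
  obtain ⟨χ, hχ, h0, -⟩ := exists_height_zero hM hB
  have hdeg : charDegree (χ : G → ℂ) = red 2 B χ := by
    rw [degree_red (p := 2) hχ, hm, pow_zero, one_mul]
  -- the idempotent is invariant under inversion
  have hbij : (Finset.univ.filter (· ∈ B)).image f = Finset.univ.filter (· ∈ B) := by
    refine Finset.eq_of_subset_of_card_le ?_ ?_
    · intro φ hφ
      obtain ⟨θ, hθ, rfl⟩ := Finset.mem_image.mp hφ
      exact Finset.mem_filter.mpr ⟨Finset.mem_univ _, (hf θ (Finset.mem_filter.mp hθ).2).1⟩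
    · rw [Finset.card_image_of_injOn fun a ha b hb =>
        hinj (Finset.mem_filter.mp ha).2 (Finset.mem_filter.mp hb).2]
  have hainv : ∀ g : G, ¬ 2 ∣ orderOf g → blockCoeff B g⁻¹ = blockCoeff B g := by
    intro g hg
    conv_rhs => rw [blockCoeff_eq_sum, ← hbij]
    rw [blockCoeff_eq_sum, Finset.sum_image fun a ha b hb =>
      hinj (Finset.mem_filter.mp ha).2 (Finset.mem_filter.mp hb).2]
    congr 1
    refine Finset.sum_congr rfl fun θ hθ => ?_
    have := hf θ (Finset.mem_filter.mp hθ).2
    rw [this.2.1, this.2.2 g hg]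
  have homega : ∀ g : G, ¬ 2 ∣ orderOf g →
      MemLocalIdeal M (centralChar (χ : G → ℂ) g⁻¹ - centralChar (χ : G → ℂ) g) := by
    intro g hg
    have h := hf χ hχ
    have e : centralChar (χ : G → ℂ) g⁻¹ = centralChar (f χ : G → ℂ) g := by
      rw [centralChar, centralChar, centralizer_singleton_inv, h.2.1, h.2.2 g hg]
    rw [e]
    exact (IsPBlock.mem_iff hM hB h.1 χ).mp hχ g
  -- evaluation of an invariant functional
  have eval : ∀ w : G → ℂ, (∀ g, MemLocalRing M (w g)) →
      (∀ g h : G, IsConj g h → w g = w h) →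
      (∀ g : G, ¬ 2 ∣ orderOf g → MemLocalIdeal M (w g⁻¹ - w g)) →
      (∀ g : G, g ≠ 1 → ¬ 2 ∣ orderOf g → IsConj g g⁻¹ → MemLocalIdeal M (w g)) →
      MemLocalIdeal M (∑ c : ConjClasses G, blockCoeff B c.out * w c.out - blockCoeff B 1 * w 1) := by
    intro w hwR hwc hwi hwf
    have hmem : ∀ c : ConjClasses G, blockCoeff B c.out * w c.out ∈ lRing hM := fun c =>
      (lRing hM).mul_mem (memLocalRing_blockCoeff hM hB _) (hwR _)
    have hout : ∀ g : G, IsConj (ConjClasses.mk g).out g := fun g =>
      ConjClasses.mk_eq_mk_iff_isConj.mp (Quotient.out_eq _)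
    let F : ConjClasses G → AlgInt ⧸ M := fun c => lResD hM (blockCoeff B c.out * w c.out)
    let inv' : ConjClasses G → ConjClasses G := fun c => ConjClasses.mk c.out⁻¹
    have hinv' : ∀ c, IsConj (inv' c).out c.out⁻¹ := fun c => hout _
    have hinv2 : ∀ c, inv' (inv' c) = c := by
      intro c
      obtain ⟨d, hd⟩ := isConj_iff.mp (hinv' c)
      have h : IsConj (inv' c).out⁻¹ c.out := isConj_iff.mpr ⟨d, by
        rw [show d * (inv' c).out⁻¹ * d⁻¹ = (d * (inv' c).out * d⁻¹)⁻¹ by group, hd, inv_inv]⟩
      calc inv' (inv' c) = ConjClasses.mk c.out := ConjClasses.mk_eq_mk_iff_isConj.mpr h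
        _ = c := Quotient.out_eq c
    have hFinv : ∀ c, F (inv' c) = F c := by
      intro c
      change lResD hM _ = lResD hM _
      rw [blockCoeff_of_isConj B (hinv' c), hwc _ _ (hinv' c)]
      by_cases hc : 2 ∣ orderOf c.out
      · rw [blockCoeff_eq_zero_of_singular hM hB hc,
          blockCoeff_eq_zero_of_singular hM hB (by rwa [orderOf_inv]), zero_mul, zero_mul]
      · rw [hainv _ hc, lResD_eq_iff hM ((lRing hM).mul_mem (memLocalRing_blockCoeff hM hB _) (hwR _))
          (hmem c), ← mul_sub]
        exact MemLocalIdeal.mul_left hM (memLocalRing_blockCoeff hM hB _) (hwi _ hc)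
    have hne : ∑ c ∈ Finset.univ.filter (fun c => inv' c ≠ c), F c = 0 := by
      refine Finset.sum_involution (fun c _ => inv' c) ?_ ?_ ?_ ?_
      · intro c _; rw [hFinv]; exact CharTwo.add_self_eq_zero _
      · intro c hc _; exact (Finset.mem_filter.mp hc).2
      · intro c hc
        refine Finset.mem_filter.mpr ⟨Finset.mem_univ _, ?_⟩
        rw [hinv2]; exact (Finset.mem_filter.mp hc).2.symm
      · intro c _; exact hinv2 c
    have hsum : ∑ c : ConjClasses G, F c = F (ConjClasses.mk 1) := by
      rw [← Finset.sum_filter_add_sum_filter_not Finset.univ (fun c => inv' c ≠ c), hne, zero_add]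
      have h1out : (ConjClasses.mk (1 : G)).out = 1 := isConj_one_left.mp (hout 1)
      refine Finset.sum_eq_single_of_mem _ ?_ ?_
      · simp only [Finset.mem_filter, Finset.mem_univ, true_and, ne_eq, not_not]
        change ConjClasses.mk _ = _
        rw [h1out, inv_one]
      · intro c hc hc1
        simp only [Finset.mem_filter, Finset.mem_univ, true_and, ne_eq, not_not] at hc
        by_cases hs : 2 ∣ orderOf c.out
        · change lResD hM _ = _
          rw [blockCoeff_eq_zero_of_singular hM hB hs, zero_mul, lResD_zero]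
        · change lResD hM _ = _
          rw [lResD_eq_zero_iff hM (hmem c)]
          refine MemLocalIdeal.mul_left hM (memLocalRing_blockCoeff hM hB _) (hwf _ ?_ hs ?_)
          · intro h; exact hc1 (by rw [← h]; exact (Quotient.out_eq c).symm)
          · refine ConjClasses.mk_eq_mk_iff_isConj.mp ?_
            rw [show ConjClasses.mk c.out = c from Quotient.out_eq c]
            exact hc.symm
    rw [← lResD_eq_iff hM ((lRing hM).sum_mem fun c _ => hmem c)
      ((lRing hM).mul_mem (memLocalRing_blockCoeff hM hB _) (hwR _)), lResD_sum hM _ fun c _ => hmem c]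
    change ∑ c, F c = _
    rw [hsum]
    change lResD hM _ = _
    rw [show (ConjClasses.mk (1 : G)).out = 1 from isConj_one_left.mp (hout 1)]
  have hidx : ∀ g : G, g ≠ 1 → ¬ 2 ∣ orderOf g → IsConj g g⁻¹ →
      MemLocalIdeal M ((Subgroup.centralizer ({g} : Set G)).index : ℂ) := fun g h1 ho hg =>
    (memLocalIdeal_natCast_iff hM _).mpr (two_dvd_index_of_real h1 ho hg)
  have e1 := eval (centralChar (χ : G → ℂ)) (fun g => centralChar_mem_lRing hM χ g)
    (fun g h hgh => centralChar_of_isConj χ hgh) homega (fun g h1 ho hg => by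
      rw [centralChar, (CfsgLib.ClassCount.degree_eq χ).1, hdeg, div_eq_mul_inv, mul_assoc]
      exact MemLocalIdeal.mul_right hM (hidx g h1 ho hg) ((lRing hM).mul_mem
        (isIntegral_mem_lRing hM (CfsgLib.ClassCount.irr_isIntegral χ g))
        (inv_natCast_mem_lRing hM h0)))
  have hwone : ∀ φ : IrrCharacter G, centralChar (φ : G → ℂ) 1 = 1 := by
    intro φ
    rw [centralChar, show (Subgroup.centralizer ({(1 : G)} : Set G)).index = 1 by
      rw [Subgroup.index_eq_one, eq_top_iff]; intro x _; simp [Subgroup.mem_centralizer_singleton_iff]]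
    simp [irr_one_ne_zero φ]
  rw [show (∑ c : ConjClasses G, blockCoeff B c.out * centralChar (χ : G → ℂ) c.out) = 1 by
    convert sum_blockCoeff_mul_centralChar hχ, hwone] at e1
  have e2 := eval (centralChar (principalIrr G : G → ℂ))
    (fun g => centralChar_mem_lRing hM _ g) (fun g h hgh => centralChar_of_isConj _ hgh)
    (fun g _ => by
      rw [show centralChar (principalIrr G : G → ℂ) g⁻¹ = centralChar (principalIrr G : G → ℂ) g by
        simp [centralChar, centralizer_singleton_inv], sub_self]
      exact memLocalIdeal_zero hM)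
    (fun g h1 ho hg => by simpa [centralChar] using hidx g h1 ho hg)
  rw [hwone] at e2
  by_contra hne
  have hnot : principalIrr G ∉ B := fun h => hne <| by
    rw [principalBlock_eq]; exact IsPBlock.eq_blockOf hM hB h
  have h := omega_eq_sum_classes (principalIrr G) (blockIdem_mem_center B)
  rw [omega_blockIdem, if_neg hnot] at h
  simp only [coeff_blockIdem] at h
  rw [show (∑ c : ConjClasses G, blockCoeff B c.out *
    centralChar (principalIrr G : G → ℂ) c.out) = 0 by convert h.symm] at e2
  apply not_memLocalIdeal_one hM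
  simpa using MemLocalIdeal.sub hM e1 e2

end CfsgLib.Contribution
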