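import Cfsg.Agent.Lib.Blocks12.Bounds
import Cfsg.Agent.Lib.BlockCover.Regular

/-!
# Brauer and Feit: the size of a block with a character of positive height
-/

set_option autoImplicit false

namespace CfsgLib.Contribution

open Cfsg CfsgLib.Characters CfsgLib.Blocks

universe u

variable {G : Type u} [Group G] [Fintype G] [Fintype (ConjClasses G)] {p : ℕ} {M : Ideal AlgInt}
  {B : Set (IrrCharacter G)}

omit [Fintype G] [Fintype (ConjClasses G)] in
theorem four_mul_le_of_sum_sq {α : Type*} [DecidableEq α] (T : Finset α) {x : α} (hx : x ∈ T)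
    (F : α → ℤ) (N : ℤ) (hrow : ∑ φ ∈ T, F φ ^ 2 = N * F x) (S : Finset α) (hS : S ⊆ T)
    (hxS : x ∉ S) (P : ℤ) (hP : ∀ φ ∈ S, P ^ 2 ≤ F φ ^ 2) : 4 * (S.card * P ^ 2) ≤ N ^ 2 := by
  have h1 : (S.card : ℤ) * P ^ 2 ≤ ∑ φ ∈ S, F φ ^ 2 := by
    have := Finset.sum_le_sum hP
    simpa using this
  have h2 : ∑ φ ∈ S, F φ ^ 2 + F x ^ 2 ≤ N * F x := by
    rw [← hrow, add_comm, ← Finset.sum_insert (f := fun φ => F φ ^ 2) hxS]
    refine Finset.sum_le_sum_of_subset_of_nonneg ?_ fun φ _ _ => sq_nonneg _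
    exact Finset.insert_subset hx hS
  nlinarith [sq_nonneg (2 * F x - N)]

theorem two_mul_card_le (hM : IsPModular p M) (hB : IsPBlock M B) {χ : IrrCharacter G}
    (hχ : χ ∈ B) (hh : p ∣ red p B χ) :
    2 * Nat.card B ≤ p ^ (2 * blockDefect p B - 2) := by
  classical
  obtain ⟨η, hη, h0, -⟩ := exists_height_zero hM hB
  have hd := height_bound hM hB hχ 1 one_pos (by rwa [pow_one])
  have hdiv : ∀ φ ψ : IrrCharacter G, φ ∈ B → ψ ∈ B → p ∣ red p B ψ → contribInt p B φ ψ ≠ 0 →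
      (p : ℤ) ^ 2 ≤ contribInt p B φ ψ ^ 2 := by
    intro φ ψ hφ hψ hdvd hne
    have h1 : MemLocalIdeal M (contribInt p B φ ψ : ℂ) := by
      rw [contribInt_cast hM hB φ hψ, contrib_eq hM hB φ hψ]
      exact MemLocalIdeal.mul_right hM ((memLocalIdeal_natCast_iff hM _).2 hdvd) (tfac_mem hM _ _)
    have h2 := Int.le_of_dvd (by positivity) (pow_dvd_pow_of_dvd ((memLocalIdeal_intCast_iff hM _).1 h1) 2)
    exact h2
  have hsymm : ∀ φ ∈ B, contribInt p B χ φ = contribInt p B φ χ := fun φ hφ => by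
    have h := contribInt_cast hM hB χ hφ
    rw [contrib_symm hM hB χ hφ, ← contribInt_cast hM hB φ hχ] at h
    exact_mod_cast h
  set N : ℤ := (p : ℤ) ^ blockDefect p B
  set S0 := (members B).filter fun φ => ¬ p ∣ red p B φ
  set S1 := (members B).filter fun φ => ¬ ¬ p ∣ red p B φ
  have hb0 := four_mul_le_of_sum_sq (members B) (mem_members.2 hχ) (contribInt p B χ) N
    (contribInt_row hM hB hχ) S0 (Finset.filter_subset _ _)
    (fun h => (Finset.mem_filter.1 h).2 hh) p fun φ hφ => by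
      obtain ⟨hφB, hφ0⟩ := Finset.mem_filter.1 hφ
      rw [hsymm φ (mem_members.1 hφB)]
      exact hdiv φ χ (mem_members.1 hφB) hχ hh
        (contribInt_zero_ne hM hB (mem_members.1 hφB) hφ0 hχ)
  have hb1 := four_mul_le_of_sum_sq (members B) (mem_members.2 hη) (contribInt p B η) N
    (contribInt_row hM hB hη) S1 (Finset.filter_subset _ _)
    (fun h => (Finset.mem_filter.1 h).2 h0) p fun φ hφ => by
      obtain ⟨hφB, hφ1⟩ := Finset.mem_filter.1 hφ
      exact hdiv η φ hη (mem_members.1 hφB) (not_not.1 hφ1)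
        (contribInt_zero_ne hM hB hη h0 (mem_members.1 hφB))
  have hcard : (S0.card : ℤ) + S1.card = Nat.card B := by
    rw [card_members, ← Nat.cast_add, Finset.card_filter_add_card_filter_not]
  have hkey : 2 * (Nat.card B : ℤ) * (p : ℤ) ^ 2 ≤ N ^ 2 := by rw [← hcard]; nlinarith
  have hN : N ^ 2 = (p : ℤ) ^ (2 * blockDefect p B - 2) * (p : ℤ) ^ 2 := by
    rw [← pow_mul, ← pow_add]; congr 1; omega
  rw [hN] at hkey
  have := le_of_mul_le_mul_right hkey (pow_pos (by exact_mod_cast hM.1.pos) 2)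
  exact_mod_cast this

end CfsgLib.Contribution
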