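import Cfsg.Agent.Lib.Characters.Clifford
import Cfsg.Agent.Lib.Characters.Ramified
import Cfsg.Agent.Lib.Characters.Values
import Cfsg.Agent.Lib.Blocks.ClassCount
import Cfsg.Agent.Lib.Solvable.CoreFreeMaximal

/-!
Winter: the degree of a faithful irreducible character of a solvable group with a non-normal
Sylow p-subgroup is divisible by a prime power congruent to 0 or ±1 modulo p.
-/

set_option autoImplicit false
set_option linter.style.haveILetI false

namespace CfsgLib.Winter

open Cfsg CfsgLib.Characters CfsgLib.MinNormal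
open scoped ComplexConjugate

universe u

/-- The conclusion. -/
def Good (p n : ℕ) : Prop :=
  ∃ q : ℕ, IsPrimePow q ∧ q ∣ n ∧
    ((q : ℤ) ≡ -1 [ZMOD p] ∨ (q : ℤ) ≡ 0 [ZMOD p] ∨ (q : ℤ) ≡ 1 [ZMOD p])

theorem Good.of_dvd {p m n : ℕ} (h : Good p m) (hmn : m ∣ n) : Good p n := by
  obtain ⟨q, h1, h2, h3⟩ := h
  exact ⟨q, h1, h2.trans hmn, h3⟩

/-- A difference of exponents congruent to one. -/
theorem good_of_pow_modEq {p r n k c : ℕ} (hp : p.Prime) (hr : r.Prime) (hrp : r ≠ p) (hck : c < k)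
    (hdvd : r ^ k ∣ n) (h : r ^ k ≡ r ^ c [MOD p]) : Good p n := by
  have hc : (r ^ c).gcd p = 1 := ((Nat.coprime_primes hr hp).mpr hrp).pow_left c
  have h1 : r ^ (k - c) ≡ 1 [MOD p] := by
    have : r ^ c * r ^ (k - c) ≡ r ^ c * 1 [MOD p] := by
      rwa [← pow_add, Nat.add_sub_cancel' hck.le, mul_one]
    exact Nat.ModEq.cancel_left_of_coprime (Nat.gcd_comm _ _ ▸ hc) this
  exact ⟨r ^ (k - c), hr.prime.isPrimePow.pow (by omega),
    (pow_dvd_pow r (Nat.sub_le k c)).trans hdvd,
    Or.inr (Or.inr (by exact_mod_cast Int.natCast_modEq_iff.mpr h1))⟩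

variable {G : Type u} [Group G] [Fintype G]

/-- Vanishing off a central subgroup with nondegenerate commutators. -/
theorem card_eq_sq_mul (Z : Subgroup G) (hZc : Z ≤ Subgroup.center G) {φ : IrrCharacter G}
    {χ : G → ℂ} (hχ : classInner χ (φ : G → ℂ) ≠ 0)
    (hscal : ∀ z ∈ Z, z ≠ 1 → ∃ c : ℂ, c ≠ 1 ∧ ∀ v, χ (z * v) = c * χ v)
    (hnd : ∀ v, v ∉ Z → ∃ w, w * v * w⁻¹ * v⁻¹ ∈ Z ∧ w * v * w⁻¹ * v⁻¹ ≠ 1) :
    Nat.card G = Nat.card Z * charDegree (φ : G → ℂ) ^ 2 := by
  classical
  obtain ⟨φ, n, ρ, hρ, rfl⟩ := φ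
  haveI := hρ
  have hdeg : ρ.character 1 = (charDegree ρ.character : ℂ) :=
    (CfsgLib.ClassCount.degree_eq ⟨ρ.character, n, ρ, hρ, rfl⟩).1
  have hsc : ∀ z ∈ Z, ∃ c : ℂ, ‖c‖ = 1 ∧ (∀ v, ρ.character (z * v) = c * ρ.character v) ∧
      (z ≠ 1 → c ≠ 1) := by
    intro z hz
    obtain ⟨c, hc⟩ := CfsgLib.CharScalar.center_scalar ρ (hZc hz)
    have hmul : ∀ v, ρ.character (z * v) = c * ρ.character v := fun v => by
      simp only [Representation.character, map_mul, hc, smul_mul_assoc, one_mul, map_smul, smul_eq_mul]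
    have hne : ρ.character 1 ≠ 0 := irr_one_ne_zero ⟨ρ.character, n, ρ, hρ, rfl⟩
    have hnorm : ‖c‖ = 1 := by
      haveI := CfsgLib.CharScalar.nontrivial_of_irreducible ρ
      obtain ⟨b, ω, hb1, hb2⟩ := exists_eigenbasis ρ z
      have i₀ : Fin (Module.finrank ℂ (Fin n → ℂ)) := ⟨0, Module.finrank_pos⟩
      have := hb2 i₀
      rw [hc, LinearMap.smul_apply, Module.End.one_apply] at this
      rw [smul_left_injective ℂ (b.ne_zero i₀) this]
      exact Complex.norm_eq_one_of_pow_eq_one (hb1 i₀) (orderOf_pos z).ne'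
    refine ⟨c, hnorm, hmul, fun hz1 => ?_⟩
    obtain ⟨c', hc', hmul'⟩ := hscal z hz hz1
    intro hc1
    apply hc'
    have key : classInner χ ρ.character = c' * classInner χ ρ.character := by
      rw [classInner, mul_left_comm c' _ _, Finset.mul_sum Finset.univ _ c']
      conv_lhs => rw [← Equiv.sum_comp (Equiv.mulLeft z)]
      congr 1
      refine Finset.sum_congr rfl fun v _ => ?_
      simp only [Equiv.coe_mulLeft, hmul', hmul, hc1, one_mul, mul_assoc]
    exact (mul_eq_right₀ hχ).mp key.symm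
  have hoff : ∀ v, v ∉ Z → ρ.character v = 0 := by
    intro v hv
    obtain ⟨w, hw, hw1⟩ := hnd v hv
    obtain ⟨c, -, hmul, hne⟩ := hsc _ hw
    have h := hmul v
    rw [show w * v * w⁻¹ * v⁻¹ * v = w * v * w⁻¹ by group,
      (isClassFunction_of_isCharacter (isCharacter_character ρ)) v w] at h
    by_contra h0
    exact hne hw1 ((mul_eq_right₀ h0).mp h.symm)
  have h1 := classInner_irr_self (χ := ρ.character) ⟨n, ρ, hρ, rfl⟩
  rw [classInner, ← Finset.sum_subset (Finset.subset_univ (Finset.univ.filter (· ∈ Z)))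
    (fun v _ hv => by rw [hoff v (by simpa using hv), zero_mul]),
    Finset.sum_congr rfl (fun z hz => show ρ.character z * conj (ρ.character z) =
      ((charDegree ρ.character : ℂ)) ^ 2 by
        obtain ⟨c, hc, hmul, -⟩ := hsc z (Finset.mem_filter.mp hz).2
        have := hmul 1
        rw [mul_one, hdeg] at this
        rw [this, map_mul, map_natCast, sq, mul_mul_mul_comm, Complex.mul_conj', hc]
        simp), Finset.sum_const, nsmul_eq_mul] at h1
  have hG : (Nat.card G : ℂ) ≠ 0 := Nat.cast_ne_zero.mpr Nat.card_pos.ne'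
  rw [← div_eq_inv_mul, div_eq_one_iff_eq hG] at h1
  have hZ : (Finset.univ.filter (· ∈ Z)).card = Nat.card Z := by
    rw [Nat.card_eq_fintype_card]
    exact (Fintype.card_of_subtype _ (fun x => by simp)).symm
  rw [hZ] at h1
  exact_mod_cast h1.symm

/-- The degree of a constituent of the restriction to a normal subgroup, and the index of its
inertia group, divide the degree. -/
theorem dvd_of_constituent (N : Subgroup G) (hN : N.Normal) [Fintype N] {χ : G → ℂ}
    (hχ : IsIrrCharacter G χ) (θ : IrrCharacter N)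
    (h1 : classInner (fun x : N => χ x) (θ : N → ℂ) ≠ 0) :
    (CfsgLib.Clifford.inertia hN (θ : N → ℂ)).index ∣ charDegree χ ∧
      charDegree (θ : N → ℂ) ∣ charDegree χ := by
  obtain ⟨e, he⟩ := classInner_char_nat (CfsgLib.Clifford.isCharacter_subtype (isCharacter_of_irr hχ) N)
    (irr_isCharacter θ)
  have h := CfsgLib.Clifford.clifford_degree hN hχ θ.2 h1
  rw [he, (CfsgLib.ClassCount.degree_eq θ).1,
    show χ 1 = (charDegree χ : ℂ) from (CfsgLib.ClassCount.degree_eq ⟨χ, hχ⟩).1] at h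
  have h' : charDegree χ = e * (CfsgLib.Clifford.inertia hN (θ : N → ℂ)).index *
      charDegree (θ : N → ℂ) := by exact_mod_cast h
  exact ⟨⟨e * charDegree (θ : N → ℂ), by rw [h']; ring⟩, ⟨_, h'.trans (mul_comm _ _)⟩⟩

omit [Fintype G] in
theorem exists_coatom_ge [Finite G] {I : Subgroup G} (hI : I ≠ ⊤) :
    ∃ T : Subgroup G, IsCoatom T ∧ I ≤ T := by
  rcases IsCoatomic.eq_top_or_exists_le_coatom I with h | h
  · exact absurd h hI
  · exact h

/-- A maximal subgroup of index dividing the degree. -/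
theorem good_of_coatom [hsolv : Group.IsSolvable G] {p n : ℕ} (hp : p.Prime) (hpn : ¬ p ∣ n)
    (P : Sylow p G) (hgen : Subgroup.normalClosure ((P : Subgroup G) : Set G) = ⊤)
    {T : Subgroup G} (hT : IsCoatom T) (hidx : T.index ∣ n) : Good p n := by
  classical
  haveI : Fact p.Prime := ⟨hp⟩
  set K := T.normalCore with hK
  set π := QuotientGroup.mk' K with hπ
  have hπs : Function.Surjective π := QuotientGroup.mk'_surjective K
  have hker : π.ker = K := QuotientGroup.ker_mk' K
  set T' := T.map π with hT'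
  have hcomap : T'.comap π = T := by
    rw [hT', Subgroup.comap_map_eq, hker, sup_eq_left]
    exact T.normalCore_le
  have hT'c : IsCoatom T' := by
    refine ⟨fun h => hT.1 (by rw [← hcomap, h, Subgroup.comap_top]), fun U hU => ?_⟩
    have : T < U.comap π :=
      lt_of_eq_of_lt hcomap.symm ((Subgroup.comap_lt_comap_of_surjective hπs).mpr hU)
    rw [← Subgroup.map_comap_eq_self_of_surjective hπs U, hT.2 _ this,
      Subgroup.map_top_of_surjective π hπs]
  have hcore : T'.normalCore = ⊥ := by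
    rw [eq_bot_iff]
    intro x hx
    obtain ⟨g, rfl⟩ := hπs x
    have : g ∈ K := by
      have hle : T'.normalCore.comap π ≤ K :=
        Subgroup.normal_le_normalCore.mpr
          ((Subgroup.comap_mono T'.normalCore_le).trans hcomap.le)
      exact hle hx
    rw [Subgroup.mem_bot, hπ, QuotientGroup.mk'_apply, QuotientGroup.eq_one_iff]
    exact this
  haveI : Nontrivial (G ⧸ K) := by
    by_contra h
    rw [not_nontrivial_iff_subsingleton] at h
    exact hT'c.1 (Subsingleton.elim _ _)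
  haveI : Group.IsSolvable (G ⧸ K) := Group.isSolvable_of_surjective hπs
  obtain ⟨A, hA⟩ := exists_isMinNormal (G := G ⧸ K)
  haveI := hA.1
  haveI := hA.isMulCommutative
  obtain ⟨r, hr, -, hAr, k, hk0, hAk⟩ := hA.exists_prime_elementaryAbelian inferInstance
  have hcompl := CfsgLib.CoreFreeMaximal.isComplement'_of_commutative hT'c hcore hA.2.1
  have hindex : r ^ k = T.index := by
    rw [← hAk, ← Subgroup.IsComplement'.index_eq_card hcompl, hT',
      Subgroup.index_map_eq _ hπs
      (by rw [hker]; exact T.normalCore_le)]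
  have hrp : r ≠ p := by
    rintro rfl
    exact hpn ((dvd_pow_self r hk0.ne').trans (hindex ▸ hidx))
  obtain ⟨x, hxP, hx⟩ : ∃ x ∈ (P : Subgroup G), π x ∉ Subgroup.centralizer (A : Set (G ⧸ K)) := by
    by_contra hc
    push Not at hc
    have hPA : ∀ x ∈ (P : Subgroup G), π x ∈ A := fun x hx => by
      have := hc x hx
      rwa [CfsgLib.CoreFreeMaximal.centralizer_eq_self hT'c hcore hA.2.1] at this
    have hPK : (P : Subgroup G) ≤ K := fun x hx => by
      obtain ⟨e, he⟩ := IsPGroup.iff_orderOf.mp P.2 ⟨x, hx⟩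
      rw [Subgroup.orderOf_mk] at he
      haveI : Fact r.Prime := ⟨hr⟩
      obtain ⟨e', he'⟩ := IsPGroup.iff_orderOf.mp hAr ⟨π x, hPA x hx⟩
      rw [Subgroup.orderOf_mk] at he'
      have h1 := orderOf_map_dvd π x
      rw [he, he'] at h1
      have h0 : orderOf (π x) = 1 := by
        rw [he']
        exact Nat.eq_one_of_dvd_coprimes (((Nat.coprime_primes hp hr).mpr hrp.symm).pow e e') h1 dvd_rfl
      rwa [orderOf_eq_one_iff, hπ, QuotientGroup.mk'_apply, QuotientGroup.eq_one_iff] at h0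
    have : (⊤ : Subgroup G) ≤ T := hgen ▸ (Subgroup.normalClosure_le_normal hPK).trans T.normalCore_le
    exact hT.1 (top_le_iff.mp this)
  -- count fixed points
  obtain ⟨e, he⟩ := IsPGroup.iff_orderOf.mp P.2 ⟨x, hxP⟩
  rw [Subgroup.orderOf_mk] at he
  let H := Subgroup.zpowers (π x)
  have hH : IsPGroup p H := by
    obtain ⟨j, -, hj⟩ := (Nat.dvd_prime_pow hp).mp (he ▸ orderOf_map_dvd π x)
    exact IsPGroup.of_card (n := j) (by rw [Nat.card_zpowers, hj])
  letI : MulAction H A :=
    { smul := fun h a => ⟨(h : G ⧸ K) * a * (h : G ⧸ K)⁻¹, hA.1.conj_mem _ a.2 _⟩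
      one_smul := fun a => Subtype.ext (by simp [HSMul.hSMul, SMul.smul])
      mul_smul := fun s t a => Subtype.ext (by simp [HSMul.hSMul, SMul.smul, mul_assoc]) }
  set C := A ⊓ Subgroup.centralizer ({π x} : Set (G ⧸ K)) with hC
  have hfix : Nat.card (MulAction.fixedPoints H A) = Nat.card C := by
    refine Nat.card_congr
      { toFun := fun a => ⟨(a.1 : G ⧸ K), a.1.2, Subgroup.mem_centralizer_singleton_iff.mpr ?_⟩
        invFun := fun c => ⟨⟨c, c.2.1⟩, fun h => ?_⟩
        left_inv := fun a => rfl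
        right_inv := fun c => rfl }
    · have := congrArg Subtype.val (a.2 ⟨π x, Subgroup.mem_zpowers _⟩)
      exact (mul_inv_eq_iff_eq_mul.mp this).symm
    · obtain ⟨h, hh⟩ := h
      obtain ⟨i, rfl⟩ := Subgroup.mem_zpowers_iff.mp hh
      refine Subtype.ext (mul_inv_eq_iff_eq_mul.mpr ?_)
      exact ((show Commute (c : G ⧸ K) (π x) from
        Subgroup.mem_centralizer_singleton_iff.mp c.2.2).zpow_right i).symm.eq
  have hmod := hH.card_modEq_card_fixedPoints (α := A)
  rw [hfix, hAk] at hmod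
  obtain ⟨c, hck, hCc⟩ : ∃ c, c < k ∧ Nat.card C = r ^ c := by
    obtain ⟨c, hck, hCc⟩ := (Nat.dvd_prime_pow hr).mp
      (hAk ▸ Subgroup.card_dvd_of_le (inf_le_left : C ≤ A))
    refine ⟨c, lt_of_le_of_ne hck fun e => hx ?_, hCc⟩
    have hCA : C = A := Subgroup.eq_of_le_of_card_ge inf_le_left (by rw [hCc, e, hAk])
    rw [Subgroup.mem_centralizer_iff]
    intro a ha
    have : a ∈ C := by rw [hCA]; exact ha
    exact Subgroup.mem_centralizer_singleton_iff.mp this.2
  rw [hCc] at hmod
  exact good_of_pow_modEq hp hr hrp hck (hindex ▸ hidx) hmod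

/-- The primitive case: an extraspecial-like normal subgroup. -/
theorem good_of_primitive [hsolv : Group.IsSolvable G] {p n d : ℕ} (hp : p.Prime) (hpd : ¬ p ∣ d)
    (P : Sylow p G) (hPn : ¬ (P : Subgroup G).Normal)
    (hgen : Subgroup.normalClosure ((P : Subgroup G) : Set G) = ⊤)
    (hmax : ∀ T : Subgroup G, IsCoatom T → ¬ T.index ∣ d)
    (ρ : Representation ℂ G (Fin n → ℂ)) [hρ : ρ.IsIrreducible] (hinj : Function.Injective ρ)
    (hd : charDegree ρ.character = d) : Good p d := by
  classical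
  haveI : Fact p.Prime := ⟨hp⟩
  set χ := ρ.character with hχdef
  have hχ : IsIrrCharacter G χ := ⟨n, ρ, hρ, rfl⟩
  have hχ1 : χ 1 ≠ 0 := irr_one_ne_zero ⟨χ, hχ⟩
  have hscalar : ∀ z ∈ Subgroup.center G, z ≠ 1 → ∃ c : ℂ, c ≠ 1 ∧ ∀ v, χ (z * v) = c * χ v := by
    intro z hz hz1
    obtain ⟨c, hc⟩ := CfsgLib.CharScalar.center_scalar ρ hz
    refine ⟨c, fun e => hz1 (hinj ?_), fun v => ?_⟩
    · rw [hc, e, one_smul, map_one]
    · simp only [hχdef, Representation.character, map_mul, hc, smul_mul_assoc, one_mul, map_smul,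
        smul_eq_mul]
  -- every normal subgroup has homogeneous restriction
  have hinv : ∀ (N : Subgroup G) (hN : N.Normal) [Fintype N] (θ : IrrCharacter N),
      classInner (fun x : N => χ x) (θ : N → ℂ) ≠ 0 → CfsgLib.Clifford.inertia hN (θ : N → ℂ) = ⊤ := by
    intro N hN _ θ h1
    by_contra hI
    obtain ⟨T, hT, hIT⟩ := exists_coatom_ge hI
    exact hmax T hT (hd ▸ (Subgroup.index_dvd_of_le hIT).trans (dvd_of_constituent N hN hχ θ h1).1)
  have hab : ∀ A : Subgroup G, A.Normal → (∀ a ∈ A, ∀ b ∈ A, a * b = b * a) → A ≤ Subgroup.center G := by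
    intro A hA hcom a ha
    haveI := hA
    letI := Fintype.ofFinite A
    have hres := CfsgLib.Clifford.isCharacter_subtype (isCharacter_of_irr hχ) A
    obtain ⟨θ, hθ⟩ := CfsgLib.Clifford.exists_constituent hres fun h => hχ1 (by
      simpa using congrFun h 1)
    have hI := hinv A hA θ hθ
    have heq := CfsgLib.Ramified.res_eq_smul_of_invariant A hχ θ.2
      (fun g m => CfsgLib.Clifford.mem_inertia.mp (hI ▸ Subgroup.mem_top g) m) hθ
    obtain ⟨θf, k, σ, hσ, rfl⟩ := θ
    haveI := hσ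
    obtain ⟨c, hc⟩ := CfsgLib.CharScalar.center_scalar σ (z := (⟨a, ha⟩ : A))
      (Subgroup.mem_center_iff.mpr fun b => Subtype.ext (hcom b b.2 a ha))
    have hca : χ a = c * χ 1 := by
      have e1 := congrFun heq (⟨a, ha⟩ : A)
      have e2 := congrFun heq (1 : A)
      simp only [Pi.smul_apply, smul_eq_mul, OneMemClass.coe_one] at e1 e2
      rw [e1, e2]
      simp only [Representation.character, hc, map_smul, smul_eq_mul, map_one]
      ring
    have hnc : ‖c‖ = 1 := by
      haveI := CfsgLib.CharScalar.nontrivial_of_irreducible σ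
      obtain ⟨b, ω, hb1, hb2⟩ := exists_eigenbasis σ (⟨a, ha⟩ : A)
      have i₀ : Fin (Module.finrank ℂ (Fin k → ℂ)) := ⟨0, Module.finrank_pos⟩
      have := hb2 i₀
      rw [hc, LinearMap.smul_apply, Module.End.one_apply] at this
      rw [smul_left_injective ℂ (b.ne_zero i₀) this]
      exact Complex.norm_eq_one_of_pow_eq_one (hb1 i₀) (orderOf_pos _).ne'
    obtain ⟨ω, hω⟩ := (norm_char_eq_iff_scalar ρ a).mp (by
      show ‖χ a‖ = _
      rw [hca, norm_mul, hnc, one_mul, hχdef, Representation.char_one, Complex.norm_natCast])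
    refine Subgroup.mem_center_iff.mpr fun g => hinj ?_
    rw [map_mul, map_mul, hω, Module.End.mul_eq_comp, Module.End.mul_eq_comp, LinearMap.smul_comp,
      LinearMap.comp_smul, LinearMap.id_comp, LinearMap.comp_id]
  -- a minimal noncentral normal subgroup
  have htop : ¬ (⊤ : Subgroup G) ≤ Subgroup.center G := fun h => hPn ⟨fun x hx g => by
    rw [Subgroup.mem_center_iff.mp (h (Subgroup.mem_top x)) g, mul_inv_cancel_right]; exact hx⟩
  obtain ⟨E, hE⟩ := ({E : Subgroup G | E.Normal ∧ ¬ E ≤ Subgroup.center G}).toFinite.exists_minimal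
    ⟨⊤, inferInstance, htop⟩
  obtain ⟨hEn, hEc⟩ := hE.prop
  haveI := hEn
  have hEmin : ∀ M : Subgroup G, M.Normal → M ≤ E → M ≠ E → M ≤ Subgroup.center G := by
    intro M hM hle hne
    by_contra hc
    exact hne (le_antisymm hle (hE.le_of_le ⟨hM, hc⟩ hle))
  have hEbot : E ≠ ⊥ := fun h => hEc (h ▸ bot_le)
  have hE' : ⁅E, E⁆ ≤ Subgroup.center G :=
    hEmin _ inferInstance (Subgroup.commutator_le_left E E)
      (Group.IsSolvable.commutator_lt_of_ne_bot hEbot).ne
  have hcommZ : ∀ a ∈ E, ∀ b ∈ E, a * b * a⁻¹ * b⁻¹ ∈ E ⊓ Subgroup.center G := fun a ha b hb =>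
    Subgroup.mem_inf.mpr ⟨mul_mem (mul_mem (mul_mem ha hb) (inv_mem ha)) (inv_mem hb),
      hE' (Subgroup.commutator_mem_commutator ha hb)⟩
  set Z := E ⊓ Subgroup.center G with hZdef
  -- `E` is an `r`-group
  obtain ⟨r, hr, hEr⟩ : ∃ r : ℕ, r.Prime ∧ IsPGroup r E := by
    haveI : Group.IsNilpotent E := by
      refine Group.of_quotient_center_nilpotent ?_
      letI : CommGroup (E ⧸ Subgroup.center E) :=
        { (inferInstance : Group (E ⧸ Subgroup.center E)) with
          mul_comm := by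
            intro a b
            obtain ⟨a, rfl⟩ := QuotientGroup.mk_surjective a
            obtain ⟨b, rfl⟩ := QuotientGroup.mk_surjective b
            rw [← QuotientGroup.mk_mul, ← QuotientGroup.mk_mul, QuotientGroup.eq,
              Subgroup.mem_center_iff]
            intro c
            apply Subtype.ext
            have := (hcommZ ((b : G)⁻¹) (inv_mem b.2) ((a : G)⁻¹) (inv_mem a.2)).2
            simp only [inv_inv] at this
            have h2 := Subgroup.mem_center_iff.mp this (c : G)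
            simp only [Subgroup.coe_mul, InvMemClass.coe_inv, mul_inv_rev]
            simpa [mul_assoc] using h2 }
      infer_instance
    by_contra hcon
    push Not at hcon
    apply hEc
    have hsyl : ∀ (r : ℕ) [Fact r.Prime] (R : Sylow r E),
        (R : Subgroup E) ≤ (Subgroup.center G).comap E.subtype := by
      intro r hrf R
      haveI : (R : Subgroup E).Characteristic := R.characteristic_of_normal inferInstance
      haveI : ((R : Subgroup E).map E.subtype).Normal := inferInstance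
      rw [← Subgroup.map_le_iff_le_comap]
      refine hEmin _ inferInstance (Subgroup.map_subtype_le _) fun e => hcon r hrf.out ?_
      exact e ▸ R.2.map E.subtype
    have key : (⊤ : Subgroup E) ≤ (Subgroup.center G).comap E.subtype := by
      have h1 : (Subgroup.center G).comap E.subtype = ⊤ := by
        refine Subgroup.eq_top_of_card_eq _ (Nat.dvd_antisymm (Subgroup.card_subgroup_dvd_card _) ?_)
        refine (Nat.dvd_iff_prime_pow_dvd_dvd _ _).mpr fun s j hs hdvd => ?_
        haveI : Fact s.Prime := ⟨hs⟩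
        obtain ⟨R⟩ : Nonempty (Sylow s E) := inferInstance
        exact (R.pow_dvd_card_of_pow_dvd_card hdvd).trans (Subgroup.card_dvd_of_le (hsyl s R))
      rw [h1]
    intro a ha
    exact key (Subgroup.mem_top (⟨a, ha⟩ : E))
  -- the degree over `E`
  letI := Fintype.ofFinite E
  have hnd : ∀ v : E, (v : G) ∉ Z → ∃ w : E, ((w * v * w⁻¹ * v⁻¹ : E) : G) ∈ Z ∧ w * v * w⁻¹ * v⁻¹ ≠ 1 := by
    intro v hv
    by_contra hc
    push Not at hc
    apply hv
    refine ⟨v.2, ?_⟩
    haveI : ((Subgroup.center E).map E.subtype).Normal := inferInstance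
    refine hab ((Subgroup.center E).map E.subtype) inferInstance ?_ ⟨v, Subgroup.mem_center_iff.mpr fun w => ?_, rfl⟩
    · rintro _ ⟨a, ha, rfl⟩ _ ⟨b, -, rfl⟩
      exact congrArg Subtype.val (Subgroup.mem_center_iff.mp ha b).symm
    · have h := hc w (hcommZ _ w.2 _ v.2)
      exact mul_inv_eq_iff_eq_mul.mp (mul_inv_eq_one.mp h)
  have hsq : ∀ (C : Subgroup G), C ≤ E → Z ≤ C → (∀ v ∈ C, v ∉ Z → ∃ w ∈ C, w * v * w⁻¹ * v⁻¹ ≠ 1) →
      ∃ t : ℕ, Nat.card C = Nat.card Z * t ^ 2 ∧ (C.Normal → t ∣ d) := by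
    intro C hCE hZC hnd'
    letI := Fintype.ofFinite C
    obtain ⟨φ, hφ⟩ := CfsgLib.Clifford.exists_constituent
      (CfsgLib.Clifford.isCharacter_subtype (isCharacter_of_irr hχ) C) fun h => hχ1 (by
        simpa using congrFun h 1)
    refine ⟨charDegree (φ : C → ℂ), ?_, fun hC => hd ▸ (dvd_of_constituent C hC hχ φ hφ).2⟩
    have hZ' : Nat.card (Z.subgroupOf C) = Nat.card Z :=
      Nat.card_congr (Subgroup.subgroupOfEquivOfLe hZC).toEquiv
    rw [← hZ']
    refine card_eq_sq_mul (Z.subgroupOf C) (fun z hz => Subgroup.mem_center_iff.mpr fun c =>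
      Subtype.ext (Subgroup.mem_center_iff.mp hz.2 c)) hφ (fun z hz hz1 => ?_) fun v hv => ?_
    · obtain ⟨c, hc1, hc⟩ := hscalar z hz.2 fun e => hz1 (Subtype.ext e)
      exact ⟨c, hc1, fun v => hc v⟩
    · obtain ⟨w, hw, hw1⟩ := hnd' v v.2 hv
      exact ⟨⟨w, hw⟩, hcommZ w (hCE hw) v (hCE v.2), fun e => hw1 (congrArg Subtype.val e)⟩
  obtain ⟨s, hs, hsd⟩ := hsq E le_rfl inf_le_left fun v hv hvZ => by
    obtain ⟨w, -, hw⟩ := hnd ⟨v, hv⟩ hvZ
    exact ⟨w, w.2, fun e => hw (Subtype.ext e)⟩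
  have hsd := hsd hEn
  haveI : Fact r.Prime := ⟨hr⟩
  obtain ⟨eE, heE⟩ := (IsPGroup.iff_card (p := r) (G := E)).mp (by exact hEr)
  have hs1 : s ≠ 1 := fun e => by
    rw [e, one_pow, mul_one] at hs
    have : Z = E := Subgroup.eq_of_le_of_card_ge inf_le_left hs.le
    exact hEc (inf_eq_left.mp this)
  obtain ⟨es, hes, hs'⟩ := (Nat.dvd_prime_pow hr).mp (heE ▸ hs ▸ (dvd_pow_self s two_ne_zero).mul_left _ : s ∣ r ^ eE)
  have hrp : r ≠ p := by
    rintro rfl
    refine hpd ((dvd_pow_self r fun h0 => hs1 (by rw [hs', h0, pow_zero])).trans (hs' ▸ hsd))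
  -- an element of `P` acting on `E`
  obtain ⟨x, hxP, hx⟩ : ∃ x ∈ (P : Subgroup G), x ∉ Subgroup.centralizer (E : Set G) := by
    by_contra hc
    push Not at hc
    have : (⊤ : Subgroup G) ≤ Subgroup.centralizer (E : Set G) :=
      hgen ▸ Subgroup.normalClosure_le_normal hc
    exact hEc fun a ha => Subgroup.mem_center_iff.mpr fun g =>
      (Subgroup.mem_centralizer_iff.mp (this (Subgroup.mem_top g)) a ha).symm
  obtain ⟨ex, hex⟩ := IsPGroup.iff_orderOf.mp P.2 ⟨x, hxP⟩
  rw [Subgroup.orderOf_mk] at hex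
  set C := E ⊓ Subgroup.centralizer ({x} : Set G) with hCdef
  have hkill : ∀ z ∈ E, z ^ (p ^ ex) = 1 → z = 1 := by
    intro z hz h
    obtain ⟨j, hj⟩ := IsPGroup.iff_orderOf.mp hEr ⟨z, hz⟩
    rw [Subgroup.orderOf_mk] at hj
    exact orderOf_eq_one_iff.mp (Nat.eq_one_of_dvd_coprimes
      (((Nat.coprime_primes hr hp).mpr hrp).pow j ex) hj.dvd (orderOf_dvd_of_pow_eq_one h))
  have hZx : ∀ v ∈ E, x * v * x⁻¹ * v⁻¹ ∈ Z → v ∈ C := by
    intro v hv hz
    refine ⟨hv, Subgroup.mem_centralizer_singleton_iff.mpr ?_⟩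
    set z := x * v * x⁻¹ * v⁻¹ with hz'
    have hiter : ∀ i : ℕ, x ^ i * v * (x ^ i)⁻¹ = z ^ i * v := by
      intro i
      induction i with
      | zero => simp
      | succ i ih =>
        have hzc : x * z ^ i * x⁻¹ = z ^ i := by
          rw [Subgroup.mem_center_iff.mp (pow_mem hz.2 i) x, mul_inv_cancel_right]
        calc x ^ (i + 1) * v * (x ^ (i + 1))⁻¹ = x * (x ^ i * v * (x ^ i)⁻¹) * x⁻¹ := by
              rw [pow_succ']; group
          _ = (x * z ^ i * x⁻¹) * (x * v * x⁻¹) := by rw [ih]; group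
          _ = z ^ (i + 1) * v := by rw [hzc, pow_succ, hz']; group
    have hz1 : z = 1 := hkill z hz.1 (by
      have := hiter (p ^ ex)
      rw [← hex, pow_orderOf_eq_one, one_mul, inv_one, mul_one] at this
      rw [← hex]
      exact mul_eq_right.mp this.symm)
    exact (mul_inv_eq_iff_eq_mul.mp (mul_inv_eq_one.mp hz1)).symm
  have hZC : Z ≤ C := fun z hz => ⟨hz.1, Subgroup.mem_centralizer_singleton_iff.mpr
    (Subgroup.mem_center_iff.mp hz.2 x).symm⟩
  obtain ⟨t, ht, -⟩ := hsq C inf_le_left hZC fun v hv hvZ => by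
    by_contra hc
    push Not at hc
    obtain ⟨w₀, -, hw₀⟩ := hnd ⟨v, hv.1⟩ hvZ
    set w := (w₀ : G) with hw
    set o := p ^ ex with ho
    have hvx : Commute v x := Subgroup.mem_centralizer_singleton_iff.mp hv.2
    -- the commutator map
    let f : G → G := fun a => a * v * a⁻¹ * v⁻¹
    have hfmul : ∀ a ∈ E, ∀ b ∈ E, f (a * b) = f a * f b := by
      intro a ha b hb
      have hcb : ∀ g, g * f b = f b * g := Subgroup.mem_center_iff.mp (hcommZ b hb v hv.1).2
      calc f (a * b) = a * f b * (v * a⁻¹ * v⁻¹) := by simp only [f]; group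
        _ = f b * (a * v * a⁻¹ * v⁻¹) := by rw [hcb]; group
        _ = f a * f b := by rw [← hcb]
    have hfx : ∀ a ∈ E, f (x * a * x⁻¹) = f a := fun a ha => by
      have hc1 : x * f a * x⁻¹ = f a := by
        rw [Subgroup.mem_center_iff.mp (hcommZ a ha v hv.1).2 x, mul_inv_cancel_right]
      conv_rhs => rw [← hc1]
      simp only [f]
      have : x⁻¹ * v * x = v := by rw [mul_assoc, hvx.eq, inv_mul_cancel_left]
      calc x * a * x⁻¹ * v * (x * a * x⁻¹)⁻¹ * v⁻¹ = x * a * (x⁻¹ * v * x) * a⁻¹ * x⁻¹ * v⁻¹ := by group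
        _ = x * (a * v * a⁻¹ * v⁻¹) * (v * x⁻¹ * v⁻¹) := by rw [this]; group
        _ = x * (a * v * a⁻¹ * v⁻¹) * x⁻¹ := by
          rw [show v * x⁻¹ * v⁻¹ = x⁻¹ by rw [(hvx.inv_right).eq]; group]
    have hprod : ∀ i : ℕ, (w * x) ^ i * (x ^ i)⁻¹ ∈ E ∧ f ((w * x) ^ i * (x ^ i)⁻¹) = f w ^ i := by
      intro i
      induction i with
      | zero => simp [f]
      | succ i ih =>
        have hm : ∀ j : ℕ, x ^ j * w * (x ^ j)⁻¹ ∈ E ∧ f (x ^ j * w * (x ^ j)⁻¹) = f w := by
          intro j
          induction j with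
          | zero => simp [hw, w₀.2]
          | succ j jh =>
            rw [show x ^ (j + 1) * w * (x ^ (j + 1))⁻¹ = x * (x ^ j * w * (x ^ j)⁻¹) * x⁻¹ by
              rw [pow_succ']; group]
            exact ⟨hEn.conj_mem _ jh.1 x, (hfx _ jh.1).trans jh.2⟩
        rw [show (w * x) ^ (i + 1) * (x ^ (i + 1))⁻¹ =
            ((w * x) ^ i * (x ^ i)⁻¹) * (x ^ i * w * (x ^ i)⁻¹) by
          rw [pow_succ (w * x), pow_succ x]; group]
        exact ⟨mul_mem ih.1 (hm i).1, by rw [hfmul _ ih.1 _ (hm i).1, ih.2, (hm i).2, pow_succ]⟩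
    obtain ⟨huE, hfu⟩ := hprod o
    rw [← hex, pow_orderOf_eq_one, inv_one, mul_one] at huE hfu
    set u := (w * x) ^ orderOf x with hu
    have huC : u ∈ C := by
      refine hZx u huE ?_
      have e : w * (x * u * x⁻¹) * w⁻¹ = u := by
        have : (w * x) * u * (w * x)⁻¹ = u := by
          rw [hu, ((Commute.refl (w * x)).pow_right _).eq, mul_inv_cancel_right]
        calc w * (x * u * x⁻¹) * w⁻¹ = (w * x) * u * (w * x)⁻¹ := by group
          _ = u := this
      have e2 : x * u * x⁻¹ * u⁻¹ = w⁻¹ * u * w * u⁻¹ := by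
        calc x * u * x⁻¹ * u⁻¹ = w⁻¹ * (w * (x * u * x⁻¹) * w⁻¹) * w * u⁻¹ := by group
          _ = _ := by rw [e]
      rw [e2]
      have := hcommZ w⁻¹ (inv_mem w₀.2) u huE
      rwa [inv_inv] at this
    have h1 := hc u huC
    rw [show u * v * u⁻¹ * v⁻¹ = f u from rfl, hfu] at h1
    refine hw₀ (Subtype.ext ?_)
    exact hkill (f w) (hcommZ w w₀.2 v hv.1).1 (by rw [← hex]; exact h1)
  -- fixed point count
  let H := Subgroup.zpowers x
  have hH : IsPGroup p H := IsPGroup.of_card (n := ex) (by rw [Nat.card_zpowers, hex])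
  letI : MulAction H E :=
    { smul := fun h a => ⟨(h : G) * a * (h : G)⁻¹, hEn.conj_mem _ a.2 _⟩
      one_smul := fun a => Subtype.ext (by simp [HSMul.hSMul, SMul.smul])
      mul_smul := fun a b c => Subtype.ext (by simp [HSMul.hSMul, SMul.smul, mul_assoc]) }
  have hfix : Nat.card (MulAction.fixedPoints H E) = Nat.card C := by
    refine Nat.card_congr
      { toFun := fun a => ⟨(a.1 : G), a.1.2, Subgroup.mem_centralizer_singleton_iff.mpr ?_⟩
        invFun := fun c => ⟨⟨c, c.2.1⟩, fun h => ?_⟩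
        left_inv := fun a => rfl
        right_inv := fun c => rfl }
    · have := congrArg Subtype.val (a.2 ⟨x, Subgroup.mem_zpowers _⟩)
      exact (mul_inv_eq_iff_eq_mul.mp this).symm
    · obtain ⟨h, hh⟩ := h
      obtain ⟨i, rfl⟩ := Subgroup.mem_zpowers_iff.mp hh
      refine Subtype.ext (mul_inv_eq_iff_eq_mul.mpr ?_)
      exact ((show Commute (c : G) x from
        Subgroup.mem_centralizer_singleton_iff.mp c.2.2).zpow_right i).symm.eq
  have hmod := hH.card_modEq_card_fixedPoints (α := E)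
  rw [hfix, hs, ht] at hmod
  have hZr : (Nat.card Z).Coprime p := by
    obtain ⟨j, -, hj⟩ := (Nat.dvd_prime_pow hr).mp (heE ▸ Subgroup.card_dvd_of_le (inf_le_left : Z ≤ E))
    rw [hj]
    exact ((Nat.coprime_primes hr hp).mpr hrp).pow_left j
  have hmod' : s ^ 2 ≡ t ^ 2 [MOD p] := Nat.ModEq.cancel_left_of_coprime hZr.symm hmod
  obtain ⟨et, het, ht'⟩ := (Nat.dvd_prime_pow hr).mp (heE ▸ (ht ▸ (dvd_pow_self t two_ne_zero).mul_left _).trans
    (Subgroup.card_dvd_of_le (inf_le_left : C ≤ E)) : t ∣ r ^ eE)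
  have hts : et < es := by
    have hne : C ≠ E := fun e => hx (Subgroup.mem_centralizer_iff.mpr fun a ha => by
      have : a ∈ C := by rw [e]; exact ha
      exact Subgroup.mem_centralizer_singleton_iff.mp this.2)
    have hlt : Nat.card C < Nat.card E := lt_of_le_of_ne (Subgroup.card_le_of_le inf_le_left)
      fun e => hne (Subgroup.eq_of_le_of_card_ge inf_le_left e.ge)
    rw [hs, ht] at hlt
    have := lt_of_mul_lt_mul_left hlt (Nat.zero_le _)
    rw [hs', ht', ← pow_mul, ← pow_mul, Nat.pow_lt_pow_iff_right hr.one_lt] at this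
    omega
  set j := es - et with hj
  have hq : (r ^ j) ^ 2 ≡ 1 [MOD p] := by
    have hc : Nat.Coprime p ((r ^ et) ^ 2) :=
      ((((Nat.coprime_primes hr hp).mpr hrp).pow_left et).pow_left 2).symm
    refine Nat.ModEq.cancel_left_of_coprime hc ?_
    rwa [← mul_pow, ← pow_add, hj, Nat.add_sub_cancel' hts.le, mul_one, ← hs', ← ht']
  refine ⟨r ^ j, hr.prime.isPrimePow.pow (by omega),
    (pow_dvd_pow r (Nat.sub_le _ _)).trans (hs' ▸ hsd), ?_⟩
  have hz : (((r ^ j : ℕ) : ZMod p)) ^ 2 = 1 := by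
    rw [← Nat.cast_pow, ← Nat.cast_one, ZMod.natCast_eq_natCast_iff]
    exact hq
  rcases sq_eq_one_iff.mp hz with h | h
  · refine Or.inr (Or.inr ((ZMod.intCast_eq_intCast_iff _ _ _).mp ?_))
    rw [Int.cast_natCast, h, Int.cast_one]
  · refine Or.inl ((ZMod.intCast_eq_intCast_iff _ _ _).mp ?_)
    rw [Int.cast_natCast, h, Int.cast_neg, Int.cast_one]

omit [Fintype G] in
theorem charDegree_comp {H : Type u} [Group H] {n : ℕ} (f : G →* H)
    (σ : Representation ℂ H (Fin n → ℂ)) :
    charDegree (Representation.character (σ.comp f)) = charDegree σ.character := by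
  simp only [charDegree, Representation.character, map_one]

/-- Winter's theorem for injective irreducible representations. -/
theorem good_of_injective {p : ℕ} (hp : p.Prime) : ∀ (N : ℕ) (G : Type u) [Group G] [Fintype G],
    Nat.card G = N → Group.IsSolvable G → ∀ (n : ℕ) (ρ : Representation ℂ G (Fin n → ℂ)),
    ρ.IsIrreducible → Function.Injective ρ → ∀ P : Sylow p G, ¬ (P : Subgroup G).Normal →
    Good p (charDegree ρ.character) := by
  intro N
  induction N using Nat.strong_induction_on with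
  | _ N ih =>
  intro G _ _ hN hsolv n ρ hρ hinj P hP
  classical
  haveI : Fact p.Prime := ⟨hp⟩
  haveI := hsolv
  haveI := hρ
  set d := charDegree ρ.character with hd
  by_cases hpd : p ∣ d
  · exact ⟨p, hp.prime.isPrimePow, hpd, Or.inr (Or.inl (Int.modEq_zero_iff_dvd.mpr dvd_rfl))⟩
  by_contra hbad
  have hχ : IsIrrCharacter G ρ.character := ⟨n, ρ, hρ, rfl⟩
  have hM : ∀ M : Subgroup G, M.Normal → M ≠ ⊤ → ∀ S : Sylow p M, (S : Subgroup M).Normal := by
    intro M hMn hMtop S
    haveI := hMn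
    letI := Fintype.ofFinite M
    have hlt : Nat.card M < N := hN ▸ lt_of_le_of_ne (Subgroup.card_le_card_group M)
      fun e => hMtop (Subgroup.eq_top_of_card_eq M e)
    have hres := CfsgLib.Clifford.isCharacter_subtype (isCharacter_character ρ) M
    obtain ⟨m, hm, hsum⟩ := CfsgLib.Clifford.exists_mult hres
    set L := Subgroup.normalClosure ((S : Subgroup M) : Set M) with hL
    have hkey : ∀ (ψ : IrrCharacter M), m ψ ≠ 0 → ∀ x ∈ L,
        (ψ : M → ℂ) (x ^ Nat.card (S : Subgroup M)) = (ψ : M → ℂ) 1 := by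
      rintro ⟨ψ, k, σ, hσ, rfl⟩ hψ x hx
      have hdvd := (dvd_of_constituent M hMn hχ ⟨σ.character, k, σ, hσ, rfl⟩
        (by rw [hm]; exact_mod_cast hψ)).2
      set u := σ.toHomUnits with hu
      let σ' : Representation ℂ (M ⧸ u.ker) (Fin k → ℂ) :=
        (Units.coeHom _).comp (QuotientGroup.kerLift u)
      have hσ' : σ'.comp (QuotientGroup.mk' u.ker) = σ := MonoidHom.ext fun g => rfl
      have hirr : σ'.IsIrreducible := by
        have h0 := (isIrreducible_iff σ).mp hσ
        rw [isIrreducible_iff]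
        exact ⟨h0.1, fun U hU => h0.2 U fun g v hv => hU (QuotientGroup.mk g) v hv⟩
      have hinj' : Function.Injective σ' :=
        Units.val_injective.comp (QuotientGroup.kerLift_injective u)
      letI := Fintype.ofFinite (M ⧸ u.ker)
      have hsurj := QuotientGroup.mk'_surjective u.ker
      have hcard : Nat.card (M ⧸ u.ker) < N :=
        (Nat.le_of_dvd Nat.card_pos (Subgroup.card_quotient_dvd_card _)).trans_lt hlt
      have hSn : ((S.mapSurjective hsurj : Sylow p (M ⧸ u.ker)) : Subgroup (M ⧸ u.ker)).Normal := by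
        by_contra hc
        have := ih _ hcard (M ⧸ u.ker) rfl (Group.isSolvable_of_surjective hsurj) k σ' hirr hinj' _ hc
        rw [← charDegree_comp (QuotientGroup.mk' u.ker) σ', hσ'] at this
        exact hbad (this.of_dvd hdvd)
      rw [Sylow.coe_mapSurjective] at hSn
      haveI := hSn
      have hxS : QuotientGroup.mk' u.ker x ∈ (S : Subgroup M).map (QuotientGroup.mk' u.ker) :=
        Subgroup.normalClosure_le_normal (N := ((S : Subgroup M).map (QuotientGroup.mk' u.ker)).comap
          (QuotientGroup.mk' u.ker)) (Subgroup.le_comap_map _ _) hx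
      obtain ⟨s, hs, hsx⟩ := hxS
      show σ.character _ = σ.character 1
      rw [← hσ']
      simp only [Representation.character, MonoidHom.comp_apply, map_pow, ← hsx, map_one]
      rw [← map_pow, ← map_pow, show s ^ Nat.card (S : Subgroup M) = 1 from
        congrArg Subtype.val (pow_card_eq_one' (x := (⟨s, hs⟩ : (S : Subgroup M)))), map_one, map_one]
    have hLp : IsPGroup p L := by
      obtain ⟨a, ha⟩ := (IsPGroup.iff_card).mp S.2
      intro x
      refine ⟨a, ?_⟩
      apply Subtype.ext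
      apply Subtype.ext
      apply hinj
      show ρ (((x : M) ^ p ^ a : M) : G) = ρ ((1 : M) : G)
      rw [← ha, OneMemClass.coe_one, map_one]
      refine (char_eq_degree_iff ρ _).mp ?_
      rw [← ρ.char_one]
      have e1 := congrFun hsum ((x : M) ^ Nat.card (S : Subgroup M))
      have e2 := congrFun hsum 1
      simp only [Finset.sum_apply, Pi.smul_apply, smul_eq_mul, OneMemClass.coe_one] at e1 e2
      rw [e1, e2]
      refine Finset.sum_congr rfl fun ψ _ => ?_
      rcases eq_or_ne (m ψ) 0 with h0 | h0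
      · rw [h0, Nat.cast_zero, zero_mul, zero_mul]
      · rw [hkey ψ h0 x x.2]
    rw [← S.is_maximal' hLp Subgroup.subset_normalClosure]
    exact Subgroup.normalClosure_normal
  have hgen : Subgroup.normalClosure ((P : Subgroup G) : Set G) = ⊤ := by
    by_contra hne
    have hle : (P : Subgroup G) ≤ Subgroup.normalClosure ((P : Subgroup G) : Set G) :=
      Subgroup.subset_normalClosure
    apply hP
    have hS := hM _ Subgroup.normalClosure_normal hne (P.subtype hle)
    haveI : (P.subtype hle).toSubgroup.Characteristic :=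
      (P.subtype hle).characteristic_of_normal hS
    have : ((P.subtype hle).toSubgroup.map
        (Subgroup.normalClosure ((P : Subgroup G) : Set G)).subtype).Normal := inferInstance
    rwa [Sylow.coe_subtype, Subgroup.subgroupOf_map_subtype, inf_eq_left.mpr hle] at this
  by_cases hmax : ∃ T : Subgroup G, IsCoatom T ∧ T.index ∣ d
  · obtain ⟨T, hT, hidx⟩ := hmax
    exact hbad (good_of_coatom hp hpd P hgen hT hidx)
  · push Not at hmax
    exact hbad (good_of_primitive hp hpd P hP hgen hmax ρ hinj rfl)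

end CfsgLib.Winter
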