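import Cfsg.Agent.Lib.Blocks12.AbelianIndexBase
import Cfsg.Agent.Lib.Blocks12.Winter
import Cfsg.Agent.Lib.Structure.SolvableRadical
import Mathlib.GroupTheory.ClassEquation

/-!
The theorem of Isaacs and Passman: a group with degrees at most `b` has an abelian subgroup of
index at most `(b!)²`.
-/

set_option autoImplicit false
set_option linter.style.haveILetI false

namespace CfsgLib.AbelianIndex

open Cfsg CfsgLib.Characters
open scoped ComplexConjugate commutatorElement

universe u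

theorem arith_cube {b : ℕ} (hb : 3 ≤ b) : b ^ 3 * (Nat.factorial (b / 2)) ^ 2 ≤ (Nat.factorial b) ^ 2 := by
  obtain ⟨c, rfl⟩ : ∃ c, b = c + 3 := ⟨b - 3, by omega⟩
  have hf : Nat.factorial ((c + 3) / 2) ≤ Nat.factorial (c + 1) := Nat.factorial_le (by omega)
  rw [Nat.factorial_succ (c + 2), Nat.factorial_succ (c + 1)]
  calc (c + 3) ^ 3 * Nat.factorial ((c + 3) / 2) ^ 2 ≤ (c + 3) ^ 3 * Nat.factorial (c + 1) ^ 2 := by gcongr
    _ ≤ ((c + 3) ^ 2 * (c + 2) ^ 2) * Nat.factorial (c + 1) ^ 2 := by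
      refine Nat.mul_le_mul_right _ ?_
      rw [pow_succ]
      exact Nat.mul_le_mul_left _ (by nlinarith)
    _ = _ := by ring

theorem arith_fourth {b : ℕ} (hb : 5 ≤ b) :
    (b ^ 4 + b ^ 2) * (Nat.factorial (b / 2)) ^ 2 ≤ (Nat.factorial b) ^ 2 := by
  obtain ⟨c, rfl⟩ : ∃ c, b = c + 5 := ⟨b - 5, by omega⟩
  have hf : Nat.factorial ((c + 5) / 2) ≤ Nat.factorial (c + 2) := Nat.factorial_le (by omega)
  rw [Nat.factorial_succ (c + 4), Nat.factorial_succ (c + 3), Nat.factorial_succ (c + 2)]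
  calc ((c + 5) ^ 4 + (c + 5) ^ 2) * Nat.factorial ((c + 5) / 2) ^ 2
      ≤ ((c + 5) ^ 4 + (c + 5) ^ 2) * Nat.factorial (c + 2) ^ 2 := by gcongr
    _ ≤ ((c + 5) ^ 2 * ((c + 4) * (c + 3)) ^ 2) * Nat.factorial (c + 2) ^ 2 := by
      refine Nat.mul_le_mul_right _ ?_
      rw [show (c + 5) ^ 4 + (c + 5) ^ 2 = (c + 5) ^ 2 * ((c + 5) ^ 2 + 1) by ring]
      refine Nat.mul_le_mul_left _ ?_
      have h1 : 2 * (c + 5) ≤ (c + 4) * (c + 3) := by nlinarith
      have h2 := Nat.pow_le_pow_left h1 2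
      nlinarith
    _ = _ := by ring

theorem card_mul_relIndex {G : Type u} [Group G] {N K : Subgroup G} (h : N ≤ K) :
    Nat.card N * N.relIndex K = Nat.card K := by
  rw [← (N.subgroupOf K).card_mul_index, Nat.card_congr (Subgroup.subgroupOfEquivOfLe h).toEquiv]
  rfl

theorem factorial_sq_step {b : ℕ} (hb : 1 ≤ b) : (Nat.factorial b) ^ 2 = b ^ 2 * (Nat.factorial (b - 1)) ^ 2 := by
  obtain ⟨c, rfl⟩ : ∃ c, b = c + 1 := ⟨b - 1, by omega⟩
  rw [Nat.factorial_succ, mul_pow, Nat.add_sub_cancel]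

/-- A subgroup with smaller degree bound and small index. -/
def Step (G : Type u) [Group G] (b : ℕ) : Prop :=
  ∃ (H : Subgroup G) (c : ℕ), c < b ∧ Bd H c ∧ H.index * (Nat.factorial c) ^ 2 ≤ (Nat.factorial b) ^ 2

section

variable {G : Type u} [Group G] [Fintype G]

theorem exists_top_degree {H : Subgroup G} {b : ℕ} (hb : Bd G b) (h : ¬ Bd H (b - 1)) :
    ∃ ψ : IrrCharacter H, charDegree (ψ : H → ℂ) = b := by
  simp only [Bd, not_forall, not_le] at h
  obtain ⟨ψ, hψ⟩ := h
  have := hb.subgroup H ψ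
  exact ⟨ψ, by omega⟩

omit [Fintype G] in
theorem step_of_index_le {H : Subgroup G} {b : ℕ} (hb : 1 ≤ b) (hH : Bd H (b - 1))
    (hidx : H.index ≤ b ^ 2) : Step G b :=
  ⟨H, b - 1, by omega, hH, by
    rw [factorial_sq_step hb]
    exact Nat.mul_le_mul_right _ hidx⟩

theorem comm_of_step_zero {b : ℕ} (hb : Bd G b) (hb1 : b ≤ 1) : IsMulCommutative G :=
  ⟨⟨comm_of_bd_one fun χ => (hb χ).trans hb1⟩⟩

omit [Fintype G] in
theorem exists_max_nonabelian [Finite G] (hna : ¬ IsMulCommutative G) :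
    ∃ N : Subgroup G, N.Normal ∧ ¬ commutator G ≤ N ∧
      ∀ M : Subgroup G, M.Normal → N ≤ M → M ≠ N → commutator G ≤ M := by
  obtain ⟨N, hN⟩ := ({N : Subgroup G | N.Normal ∧ ¬ commutator G ≤ N}).toFinite.exists_maximal
    ⟨⊥, inferInstance, fun h => hna ⟨⟨fun a b => commutatorElement_eq_one_iff_mul_comm.mp
      (Subgroup.mem_bot.mp (h (Subgroup.commutator_mem_commutator
        (Subgroup.mem_top a) (Subgroup.mem_top b))))⟩⟩⟩
  refine ⟨N, hN.prop.1, hN.prop.2, fun M hM hle hne => ?_⟩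
  by_contra hc
  exact hne (le_antisymm (hN.le_of_ge ⟨hM, hc⟩ hle) hle)

end

section Quotient

variable {Q : Type u} [Group Q] [Fintype Q]

/-- In a group all whose proper quotients are abelian a character nontrivial on the commutator is
injective. -/
theorem exists_faithful (hna : ¬ IsMulCommutative Q)
    (hmin : ∀ M : Subgroup Q, M.Normal → M ≠ ⊥ → commutator Q ≤ M) :
    ∃ (d : ℕ) (ρ : Representation ℂ Q (Fin d → ℂ)), ρ.IsIrreducible ∧ Function.Injective ρ ∧
      2 ≤ charDegree ρ.character := by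
  obtain ⟨⟨_, d, ρ, hρ, rfl⟩, hη⟩ := CfsgLib.Chars17.PGalois.exists_nonlinear hna
  have hd : 2 ≤ charDegree ρ.character := by
    have := deg_pos (G := Q) (χ := ρ.character) ⟨d, ρ, hρ, rfl⟩
    have : charDegree ρ.character ≠ 1 := hη
    omega
  refine ⟨d, ρ, hρ, ?_, hd⟩
  suffices hk : ρ.toHomUnits.ker = ⊥ by
    intro a b hab
    exact (MonoidHom.ker_eq_bot_iff _).mp hk (Units.ext hab)
  by_contra hk
  apply hη
  have hle := hmin _ inferInstance hk
  have h1 : ρ.character 1 = 1 := CfsgLib.CharMonomial.degree_one_of_commutator ⟨d, ρ, hρ, rfl⟩ fun a b => by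
    have hm : ρ.toHomUnits (a * b * (b * a)⁻¹) = 1 := MonoidHom.mem_ker.mp (hle (by
      rw [show a * b * (b * a)⁻¹ = ⁅a, b⁆ by simp [commutatorElement_def, mul_assoc]]
      exact Subgroup.commutator_mem_commutator (Subgroup.mem_top a) (Subgroup.mem_top b)))
    have : ρ (a * b * (b * a)⁻¹) = 1 := congrArg Units.val hm
    simp only [Representation.character, this, map_one]
  simp [charDegree, h1]

end Quotient

section Solvable

variable {G : Type u} [Group G] [Fintype G]

theorem step_central {b : ℕ} (hb : Bd G b) (N : Subgroup G) [N.Normal] [Fintype N]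
    [Fintype (G ⧸ N)] (hna : ¬ IsMulCommutative (G ⧸ N))
    (hmin : ∀ M : Subgroup (G ⧸ N), M.Normal → M ≠ ⊥ → commutator (G ⧸ N) ≤ M)
    (hcen : commutator (G ⧸ N) ≤ Subgroup.center (G ⧸ N)) : Step G b := by
  classical
  obtain ⟨d, ρ, hρ, hinj, hd⟩ := exists_faithful hna hmin
  haveI := hρ
  set Z := Subgroup.center (G ⧸ N) with hZ
  have hη : IsIrrCharacter (G ⧸ N) ρ.character := ⟨d, ρ, hρ, rfl⟩
  have hsc : ∀ z ∈ Z, ∃ c : ℂ, ‖c‖ = 1 ∧ (∀ v, ρ.character (z * v) = c * ρ.character v) ∧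
      (z ≠ 1 → c ≠ 1) := by
    intro z hz
    obtain ⟨c, hc⟩ := CfsgLib.CharScalar.center_scalar ρ hz
    haveI := CfsgLib.CharScalar.nontrivial_of_irreducible ρ
    obtain ⟨bs, ω, hω1, hω2⟩ := exists_eigenbasis ρ z
    have i₀ : Fin (Module.finrank ℂ (Fin d → ℂ)) := ⟨0, Module.finrank_pos⟩
    refine ⟨c, ?_, fun v => ?_, fun hz1 e => hz1 (hinj ?_)⟩
    · have := hω2 i₀
      rw [hc, LinearMap.smul_apply, Module.End.one_apply] at this
      rw [smul_left_injective ℂ (bs.ne_zero i₀) this]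
      exact Complex.norm_eq_one_of_pow_eq_one (hω1 i₀) (orderOf_pos z).ne'
    · simp only [Representation.character, map_mul, hc, smul_mul_assoc, one_mul, map_smul, smul_eq_mul]
    · rw [hc, e, one_smul, map_one]
  have hnd : ∀ v, v ∉ Z → ∃ w, w * v * w⁻¹ * v⁻¹ ∈ Z ∧ w * v * w⁻¹ * v⁻¹ ≠ 1 := by
    intro v hv
    rw [hZ, Subgroup.mem_center_iff] at hv
    push Not at hv
    obtain ⟨w, hw⟩ := hv
    refine ⟨w, hcen (Subgroup.commutator_mem_commutator (Subgroup.mem_top w) (Subgroup.mem_top v)), ?_⟩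
    exact fun e => hw (mul_inv_eq_iff_eq_mul.mp (mul_inv_eq_one.mp e))
  have hoff : ∀ v, v ∉ Z → ρ.character v = 0 := by
    intro v hv
    obtain ⟨w, hw, hw1⟩ := hnd v hv
    obtain ⟨c, -, hmul, hne⟩ := hsc _ hw
    have h := hmul v
    rw [show w * v * w⁻¹ * v⁻¹ * v = w * v * w⁻¹ by group,
      (isClassFunction_of_isCharacter (isCharacter_character ρ)) v w] at h
    by_contra h0
    exact hne hw1 ((mul_eq_right₀ h0).mp h.symm)
  have hcard : Nat.card (G ⧸ N) = Nat.card Z * charDegree ρ.character ^ 2 :=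
    Winter.card_eq_sq_mul Z le_rfl (φ := ⟨_, hη⟩) (χ := ρ.character)
      (by rw [classInner_irr_self hη]; exact one_ne_zero)
      (fun z hz hz1 => let ⟨c, _, h1, h2⟩ := hsc z hz; ⟨c, h2 hz1, h1⟩) hnd
  set Y := Z.comap (QuotientGroup.mk' N) with hY
  have hidx : Y.index = charDegree ρ.character ^ 2 := by
    rw [hY, Subgroup.index_comap_of_surjective _ (QuotientGroup.mk'_surjective N)]
    have := Z.card_mul_index
    rw [hcard] at this
    exact Nat.eq_of_mul_eq_mul_left Nat.card_pos this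
  set π : G → ℂ := fun g => ρ.character (QuotientGroup.mk' N g) with hπ
  have hπi : IsIrrCharacter G π := Clifford.isIrrCharacter_pullback hη _ (QuotientGroup.mk'_surjective N)
  have hπ1 : π 1 = (charDegree ρ.character : ℂ) := by
    rw [hπ]
    simp only [map_one]
    exact deg_eq hη
  have hdb : charDegree ρ.character ≤ b := by
    have h := hb ⟨π, hπi⟩
    rwa [show charDegree (⟨π, hπi⟩ : IrrCharacter G).1 = charDegree ρ.character from
      Nat.cast_inj.mp ((deg_eq hπi).symm.trans hπ1)] at h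
  refine step_of_index_le hb.one_le ?_ (hidx ▸ Nat.pow_le_pow_left hdb 2)
  by_contra hY'
  letI := Fintype.ofFinite Y
  obtain ⟨ψ, hψ⟩ := exists_top_degree hb hY'
  obtain ⟨χ, hres, hχd⟩ := exists_extension hb ψ hψ.ge
  have hπoff : ∀ g, g ∉ Y → π g = 0 := fun g hg => hoff _ hg
  have hπnorm : ∀ g ∈ Y, π g * conj (π g) = ((charDegree ρ.character : ℂ)) ^ 2 := by
    intro g hg
    obtain ⟨c, hc, hmul, -⟩ := hsc _ hg
    have := hmul 1
    rw [mul_one, deg_eq hη] at this
    show ρ.character (QuotientGroup.mk' N g) * conj (ρ.character (QuotientGroup.mk' N g)) = _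
    rw [this, map_mul, map_natCast, sq, mul_mul_mul_comm, Complex.mul_conj', hc]
    simp
  have hirr : IsIrrCharacter G ((χ : G → ℂ) * π) := by
    refine (isIrrCharacter_iff_classInner_self
      (isCharacter_mul (irr_isCharacter χ) (isCharacter_of_irr hπi))).2 ?_
    have hψ1 := classInner_irr_self ψ.2
    rw [classInner, ← hres] at hψ1
    rw [classInner, ← Finset.sum_subset (Finset.subset_univ (Finset.univ.filter (· ∈ Y)))
      (fun g _ hg => by simp [hπoff g (by simpa using hg)]),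
      Finset.sum_subtype (p := (· ∈ Y)) (F := inferInstance) _ (fun g => by simp)]
    simp only [Pi.mul_apply, map_mul]
    rw [Finset.sum_congr rfl (fun (g : Y) _ => show
      (χ : G → ℂ) g * π g * (conj ((χ : G → ℂ) g) * conj (π g)) =
        (charDegree ρ.character : ℂ) ^ 2 * ((χ : G → ℂ) g * conj ((χ : G → ℂ) g)) by
      rw [← hπnorm g g.2]; ring), ← Finset.mul_sum]
    have hn : (Nat.card Y : ℂ) * (charDegree ρ.character : ℂ) ^ 2 = Nat.card G := by
      have := Y.card_mul_index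
      rw [hidx] at this
      exact_mod_cast this
    have hY0 : (Nat.card Y : ℂ) ≠ 0 := Nat.cast_ne_zero.mpr Nat.card_pos.ne'
    rw [← div_eq_inv_mul, div_eq_one_iff_eq hY0] at hψ1
    rw [hψ1, mul_comm _ (Nat.card Y : ℂ), hn,
      inv_mul_cancel₀ (Nat.cast_ne_zero.mpr Nat.card_pos.ne')]
  have h := hb ⟨_, hirr⟩
  have hv : ((charDegree ((χ : G → ℂ) * π) : ℕ) : ℂ) =
      ((b * charDegree ρ.character : ℕ) : ℂ) := by
    rw [← deg_eq hirr, Pi.mul_apply, deg_eq χ.2, hχd, hψ, hπ1, Nat.cast_mul]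
  rw [show charDegree (⟨_, hirr⟩ : IrrCharacter G).1 = b * charDegree ρ.character from
    Nat.cast_inj.mp hv] at h
  have h2 := Nat.mul_le_mul_left b hd
  have := hb.one_le
  omega

theorem step_noncentral {b : ℕ} (hb : Bd G b) (N : Subgroup G) [N.Normal] [Fintype N]
    [Fintype (G ⧸ N)] (hna : ¬ IsMulCommutative (G ⧸ N))
    (hmin : ∀ M : Subgroup (G ⧸ N), M.Normal → M ≠ ⊥ → commutator (G ⧸ N) ≤ M)
    (hab : ∀ x ∈ commutator (G ⧸ N), ∀ y ∈ commutator (G ⧸ N), x * y = y * x)
    (hcen : ¬ commutator (G ⧸ N) ≤ Subgroup.center (G ⧸ N)) : Step G b := by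
  classical
  set D := commutator (G ⧸ N) with hD
  letI := Fintype.ofFinite D
  have hcomm : ∀ a c : G ⧸ N, a * c * a⁻¹ * c⁻¹ ∈ D := fun a c =>
    Subgroup.commutator_mem_commutator (Subgroup.mem_top a) (Subgroup.mem_top c)
  -- the centralizer in `D` of an element moving `D` is trivial
  have hfpf : ∀ g : G ⧸ N, (∃ d ∈ D, g * d ≠ d * g) → ∀ d ∈ D, g * d = d * g → d = 1 := by
    intro g ⟨d₀, hd₀, hne⟩ d hd hgd
    by_contra hd1
    set F := D ⊓ Subgroup.centralizer ({g} : Set (G ⧸ N)) with hF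
    have hFn : F.Normal := by
      refine ⟨fun f hf h => Subgroup.mem_inf.mpr ⟨(inferInstance : D.Normal).conj_mem f hf.1 h, ?_⟩⟩
      rw [Subgroup.mem_centralizer_singleton_iff]
      have hfg : f * g = g * f := Subgroup.mem_centralizer_singleton_iff.mp hf.2
      have he : h⁻¹ * g * h = g * (g⁻¹ * h⁻¹ * g * h) := by group
      have hgc : g⁻¹ * h⁻¹ * g * h ∈ D := by
        have := hcomm g⁻¹ h⁻¹
        simpa using this
      have hk : f * (h⁻¹ * g * h) = (h⁻¹ * g * h) * f := by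
        rw [he, ← mul_assoc, hfg, mul_assoc, hab f hf.1 _ hgc, ← mul_assoc]
      calc h * f * h⁻¹ * g = h * (f * (h⁻¹ * g * h)) * h⁻¹ := by group
        _ = h * ((h⁻¹ * g * h) * f) * h⁻¹ := by rw [hk]
        _ = g * (h * f * h⁻¹) := by group
    have hFb : F ≠ ⊥ := fun e => hd1 (Subgroup.mem_bot.mp (e ▸
      (⟨hd, Subgroup.mem_centralizer_singleton_iff.mpr hgd.symm⟩ : d ∈ F)))
    exact hne (Subgroup.mem_centralizer_singleton_iff.mp ((hmin F hFn hFb hd₀).2)).symm
  have hcent : ∀ g : G ⧸ N, (∀ d ∈ D, g * d = d * g) → g ∈ D := by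
    intro g hg
    obtain ⟨h, hh⟩ : ∃ h : G ⧸ N, ∃ d ∈ D, h * d ≠ d * h := by
      by_contra hc
      push Not at hc
      exact hcen fun d hd => Subgroup.mem_center_iff.mpr fun h => hc h d hd
    obtain ⟨d₀, hd₀, hne⟩ := hh
    let κ : D → D := fun d => ⟨h * d * h⁻¹ * (d : G ⧸ N)⁻¹, hcomm h d⟩
    have hinj : Function.Injective κ := by
      intro a c hac
      have e : h * (a : G ⧸ N) * h⁻¹ * (a : G ⧸ N)⁻¹ = h * c * h⁻¹ * (c : G ⧸ N)⁻¹ :=
        congrArg Subtype.val hac
      refine Subtype.ext (mul_inv_eq_one.mp ?_)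
      have hz : (a : G ⧸ N) * (c : G ⧸ N)⁻¹ ∈ D := mul_mem a.2 (inv_mem c.2)
      refine (hfpf h ⟨d₀, hd₀, hne⟩ _ hz ?_).trans rfl
      have e1 : h * (a : G ⧸ N) * h⁻¹ = h * c * h⁻¹ * (c : G ⧸ N)⁻¹ * a :=
        mul_inv_eq_iff_eq_mul.mp e
      have hc' := hab _ (inv_mem c.2) _ a.2
      have e2 : h * (a : G ⧸ N) * h⁻¹ = (h * c * h⁻¹) * ((a : G ⧸ N) * (c : G ⧸ N)⁻¹) := by
        rw [e1, mul_assoc (h * c * h⁻¹), hc']
      have e3 : h * (a : G ⧸ N) * (c : G ⧸ N)⁻¹ * h⁻¹ =
          (a : G ⧸ N) * (c : G ⧸ N)⁻¹ := by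
        have hm : h * c * h⁻¹ ∈ D := (inferInstance : D.Normal).conj_mem _ c.2 h
        calc h * (a : G ⧸ N) * (c : G ⧸ N)⁻¹ * h⁻¹ = (h * a * h⁻¹) * (h * c * h⁻¹)⁻¹ := by group
          _ = (h * c * h⁻¹) * ((a : G ⧸ N) * (c : G ⧸ N)⁻¹) * (h * c * h⁻¹)⁻¹ := by rw [e2]
          _ = (a : G ⧸ N) * (c : G ⧸ N)⁻¹ := by rw [hab _ hm _ hz]; group
      rw [← mul_assoc]
      exact mul_inv_eq_iff_eq_mul.mp e3
    obtain ⟨⟨d, hd⟩, hdκ⟩ := (Finite.injective_iff_surjective.mp hinj) ⟨_, hcomm h g⟩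
    have e : h * d * h⁻¹ * d⁻¹ = h * g * h⁻¹ * g⁻¹ := congrArg Subtype.val hdκ
    set w := g⁻¹ * d with hw
    have hwh : h * w * h⁻¹ = w := by
      have hgi : ∀ x ∈ D, g⁻¹ * x = x * g⁻¹ := fun x hx => (((show Commute g x from hg x hx)).inv_left).eq
      have hm : h * g * h⁻¹ * g⁻¹ ∈ D := hcomm h g
      calc h * w * h⁻¹ = (h * g * h⁻¹)⁻¹ * (h * d * h⁻¹ * d⁻¹) * d := by rw [hw]; group
        _ = (h * g * h⁻¹)⁻¹ * (h * g * h⁻¹ * g⁻¹) * d := by rw [e]
        _ = w := by rw [hw]; group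
    have hwD : ∀ x ∈ D, w * x = x * w := fun x hx => by
      rw [hw, mul_assoc, hab d hd x hx, ← mul_assoc, (show Commute g x from hg x hx).inv_left.eq, mul_assoc]
    have hwc : w ∈ Subgroup.center (G ⧸ N) := by
      refine Subgroup.mem_center_iff.mpr fun k => ?_
      have hm : k * w * k⁻¹ * w⁻¹ ∈ D := hcomm k w
      refine mul_inv_eq_iff_eq_mul.mp (mul_inv_eq_one.mp (hfpf h ⟨d₀, hd₀, hne⟩ _ hm ?_))
      set q := k⁻¹ * h * k * h⁻¹ with hq
      have hqD : q ∈ D := by
        have := hcomm k⁻¹ h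
        simpa [hq] using this
      have hqw : q * w = w * q := (hwD q hqD).symm
      have hkw : h * (k * w * k⁻¹) * h⁻¹ = k * w * k⁻¹ := by
        calc h * (k * w * k⁻¹) * h⁻¹ = k * (q * (h * w * h⁻¹) * q⁻¹) * k⁻¹ := by rw [hq]; group
          _ = k * w * k⁻¹ := by rw [hwh, hqw, mul_inv_cancel_right]
      refine mul_inv_eq_iff_eq_mul.mp ?_
      calc h * (k * w * k⁻¹ * w⁻¹) * h⁻¹ = (h * (k * w * k⁻¹) * h⁻¹) * (h * w * h⁻¹)⁻¹ := by group
        _ = k * w * k⁻¹ * w⁻¹ := by rw [hkw, hwh]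
    have hw1 : w = 1 := by
      by_contra hw1
      exact hcen (hmin _ inferInstance fun e' => hw1 (Subgroup.mem_bot.mp (e' ▸ hwc)))
    rw [inv_mul_eq_one.mp hw1]
    exact hd
  -- inertia groups of nontrivial linear characters
  haveI : IsMulCommutative D := ⟨⟨fun a c => Subtype.ext (hab a a.2 c c.2)⟩⟩
  have hsep : ∀ d : D, d ≠ 1 → ∃ θ : IrrCharacter D, (θ : D → ℂ) d ≠ 1 := by
    intro d hd
    by_contra hc
    push Not at hc
    have h := column_orth (G := D) d 1
    rw [if_neg (fun h => by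
      obtain ⟨c, hc'⟩ := isConj_iff.mp h
      have hc2 : c * d = d * c := Subtype.ext (hab _ c.2 _ d.2)
      exact hd (by rw [← hc', hc2, mul_inv_cancel_right]))] at h
    rw [Finset.sum_congr rfl (fun θ _ => by
      rw [hc θ, CfsgLib.CharIto.degree_one_of_comm (θ : IrrCharacter D).2, map_one, one_mul])] at h
    simp at h
    haveI : Nonempty (IrrCharacter D) := ⟨principalIrr D⟩
    exact Fintype.card_ne_zero h
  obtain ⟨θ, d₁, hθ1⟩ : ∃ θ : IrrCharacter D, ∃ d : D, (θ : D → ℂ) d ≠ 1 := by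
    obtain ⟨x, hx, hx1⟩ : ∃ x ∈ D, x ≠ 1 := by
      by_contra hc
      push Not at hc
      exact hcen fun x hx => hc x hx ▸ one_mem _
    obtain ⟨θ, hθ⟩ := hsep ⟨x, hx⟩ fun e => hx1 (congrArg Subtype.val e)
    exact ⟨θ, _, hθ⟩
  have hin : CfsgLib.Clifford.inertia (inferInstance : D.Normal) (θ : D → ℂ) ≤ D := by
    intro g hg
    by_contra hgD
    have hmove : ∃ d ∈ D, g * d ≠ d * g := by
      by_contra hc
      push Not at hc
      exact hgD (hcent g hc)
    let κ : D → D := fun d => ⟨g * d * g⁻¹ * (d : G ⧸ N)⁻¹, hcomm g d⟩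
    let cj : D →* D := CfsgLib.Clifford.conjHom (inferInstance : D.Normal) g
    have hκ : ∀ d : D, κ d = cj d * d⁻¹ := fun d => rfl
    have hinj : Function.Injective κ := by
      intro a c hac
      rw [hκ, hκ] at hac
      have hcm : ∀ u v : D, u * v = v * u := fun u v => Subtype.ext (hab u u.2 v v.2)
      have h1 : cj (a * c⁻¹) = a * c⁻¹ := by
        rw [map_mul, map_inv, mul_inv_eq_iff_eq_mul.mp hac, mul_assoc (cj c), hcm c⁻¹ a,
          hcm (cj c) (a * c⁻¹), mul_inv_cancel_right]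
      refine mul_inv_eq_one.mp (Subtype.ext (hfpf g hmove _ (a * c⁻¹).2 ?_))
      exact mul_inv_eq_iff_eq_mul.mp (congrArg Subtype.val h1)
    obtain ⟨d, hd⟩ := (Finite.injective_iff_surjective.mp hinj) d₁
    apply hθ1
    have hlin := CfsgLib.CharIto.degree_one_of_comm θ.2
    have hmul := CfsgLib.CharIto.map_mul_of_degree_one (irr_isCharacter θ) hlin
    have hinv : (θ : D → ℂ) (cj d) = (θ : D → ℂ) d := (CfsgLib.Clifford.mem_inertia.mp hg) d
    rw [← hd, hκ, hmul, hinv, ← hmul, mul_inv_cancel, hlin]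
  obtain ⟨η, hη⟩ := NormalRes.exists_mult_ne_zero_of_irr D θ
  have hf : D.index ≤ b :=
    (Nat.le_of_dvd (deg_pos η.2) ((Subgroup.index_dvd_of_le hin).trans
      (Winter.dvd_of_constituent D inferInstance η.2 θ hη).1)).trans
        ((hb.of_surjective _ (QuotientGroup.mk'_surjective N)) η)
  set K := D.comap (QuotientGroup.mk' N) with hK
  have hKi : K.index = D.index := Subgroup.index_comap_of_surjective _ (QuotientGroup.mk'_surjective N)
  by_cases hKb : Bd K (b - 1)
  · exact step_of_index_le hb.one_le hKb ((hKi.trans_le hf).trans (Nat.le_self_pow two_ne_zero b))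
  letI := Fintype.ofFinite K
  obtain ⟨ψ, hψ⟩ := exists_top_degree hb hKb
  have hext : ∀ φ : IrrCharacter K, charDegree (φ : K → ℂ) = b → ∀ (g : G) (k : K)
      (hk : g * k * g⁻¹ ∈ K), (φ : K → ℂ) ⟨_, hk⟩ = (φ : K → ℂ) k := by
    intro φ hφ g k hk
    obtain ⟨χ, hres, -⟩ := exists_extension hb φ hφ.ge
    rw [← hres]
    exact irr_isClassFunction χ (k : G) g
  let red : K →* D :=
    { toFun := fun k => ⟨QuotientGroup.mk' N k, k.2⟩
      map_one' := Subtype.ext (map_one _)
      map_mul' := fun a c => Subtype.ext (map_mul _ _ _) }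
  have hvan : ∀ k : K, (k : G) ∉ N → (ψ : K → ℂ) k = 0 := by
    intro k hk
    by_contra h0
    have hr1 : red k ≠ 1 := fun e => hk ((QuotientGroup.eq_one_iff (k : G)).mp (congrArg Subtype.val e))
    obtain ⟨g, hg⟩ : ∃ g : G ⧸ N, g * (red k : G ⧸ N) ≠ (red k : G ⧸ N) * g := by
      by_contra hc
      push Not at hc
      exact hcen (hmin _ inferInstance fun e => hr1 (Subtype.ext (Subgroup.mem_bot.mp (e ▸
        (Subgroup.mem_center_iff.mpr hc : (red k : G ⧸ N) ∈ Subgroup.center (G ⧸ N))))))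
    obtain ⟨g, rfl⟩ := QuotientGroup.mk'_surjective N g
    have hgk : g * k * g⁻¹ ∈ K := by
      show QuotientGroup.mk' N (g * k * g⁻¹) ∈ D
      rw [map_mul, map_mul, map_inv]
      exact (inferInstance : D.Normal).conj_mem _ k.2 _
    obtain ⟨μ, hμ⟩ := hsep (red ⟨_, hgk⟩ * (red k)⁻¹) fun e => hg (by
      have := congrArg Subtype.val (mul_inv_eq_one.mp e)
      simp only [red, MonoidHom.coe_mk, OneHom.coe_mk, map_mul, map_inv] at this
      exact mul_inv_eq_iff_eq_mul.mp this)
    have hlin := CfsgLib.CharIto.degree_one_of_comm μ.2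
    set f := (CfsgLib.CharIto.linearHom (irr_isCharacter μ) hlin).comp red with hf'
    have hfv : ∀ a : K, (f a : ℂ) = (μ : D → ℂ) (red a) := fun a => by
      rw [hf', MonoidHom.comp_apply, CfsgLib.CharIto.coe_linearHom]
    let φ : IrrCharacter K := ⟨_, CfsgLib.LinearTwist.isIrr_mul_hom ψ.2 f⟩
    have hφ : charDegree (φ : K → ℂ) = b := by
      simp [φ, charDegree] at hψ ⊢
      exact hψ
    have h1 := hext φ hφ g k hgk
    have h2 := hext ψ hψ g k hgk
    simp only [φ, hfv] at h1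
    simp only [h2] at h1
    apply hμ
    have e := mul_left_cancel₀ h0 h1
    rw [CfsgLib.CharIto.map_mul_of_degree_one (irr_isCharacter μ) hlin, e,
      ← CfsgLib.CharIto.map_mul_of_degree_one (irr_isCharacter μ) hlin, mul_inv_cancel, hlin]
  have hNK : N ≤ K := fun n hn => by
    show QuotientGroup.mk' N n ∈ D
    rw [show QuotientGroup.mk' N n = 1 from (QuotientGroup.eq_one_iff n).mpr hn]
    exact one_mem D
  have hnorm : (Nat.card K : ℂ) = ∑ n : N, (ψ : K → ℂ) ⟨n, hNK n.2⟩ * conj ((ψ : K → ℂ) ⟨n, hNK n.2⟩) := by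
    have h := classInner_irr_self ψ.2
    rw [classInner, ← div_eq_inv_mul, div_eq_one_iff_eq (Nat.cast_ne_zero.mpr Nat.card_pos.ne')] at h
    rw [← h, ← Finset.sum_subset (Finset.subset_univ (Finset.univ.filter fun k : K => (k : G) ∈ N))
      (fun k _ hk => by simp [hvan k (by simpa using hk)])]
    exact (Finset.sum_bij (fun (n : N) _ => (⟨n, hNK n.2⟩ : K)) (fun n _ => by simp)
      (fun a _ c _ e => Subtype.ext (congrArg Subtype.val e :))
      (fun k hk => ⟨⟨k, (Finset.mem_filter.mp hk).2⟩, Finset.mem_univ _, rfl⟩) (fun _ _ => rfl)).symm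
  have hb2 : 2 ≤ b := by
    obtain ⟨η', hη'⟩ := CfsgLib.Chars17.PGalois.exists_nonlinear hna
    have := deg_pos η'.2
    have := (hb.of_surjective _ (QuotientGroup.mk'_surjective N)) η'
    omega
  have hrel : N.relIndex K ≤ b ^ 2 := by
    have hle : (Nat.card K : ℝ) ≤ (Nat.card N : ℝ) * (b : ℝ) ^ 2 := by
      have h := congrArg (fun z : ℂ => ‖z‖) hnorm
      simp only [Complex.norm_natCast] at h
      rw [h]
      refine (norm_sum_le _ _).trans ?_
      refine (Finset.sum_le_card_nsmul _ _ ((b : ℝ) ^ 2) fun n _ => ?_).trans (le_of_eq ?_)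
      · have hn := norm_le_degree_of_isCharacter (irr_isCharacter ψ) ⟨(n : G), hNK n.2⟩
        rw [deg_eq ψ.2, hψ, Complex.norm_natCast] at hn
        rw [norm_mul, Complex.norm_conj, sq]
        exact mul_self_le_mul_self (norm_nonneg _) hn
      · rw [Finset.card_univ, nsmul_eq_mul, Nat.card_eq_fintype_card]
    have hle' : Nat.card K ≤ Nat.card N * b ^ 2 := by exact_mod_cast hle
    rw [← (card_mul_relIndex hNK)] at hle'
    exact Nat.le_of_mul_le_mul_left hle' Nat.card_pos
  have hNi : N.index ≤ b ^ 3 := by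
    rw [← Subgroup.relIndex_mul_index hNK, hKi, pow_succ b 2]
    exact Nat.mul_le_mul hrel hf
  have hNb := hb.half N hna
  rcases Nat.lt_or_ge b 3 with hb3 | hb3
  · exfalso
    obtain rfl : b = 2 := by omega
    -- the kernel has odd order at most four
    have hodd : ¬ 2 ∣ Nat.card D := by
      intro h2
      haveI : Fact (Nat.Prime 2) := ⟨Nat.prime_two⟩
      obtain ⟨x, hx⟩ := exists_prime_orderOf_dvd_card' 2 h2
      obtain ⟨g, d₀, hd₀, hne⟩ : ∃ g : G ⧸ N, ∃ d ∈ D, g * d ≠ d * g := by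
        by_contra hc
        push Not at hc
        exact hcen fun d hd => Subgroup.mem_center_iff.mpr fun h => hc h d hd
      have hgg : g * g ∈ D := by
        have hD2 : D.index = 2 := by
          refine le_antisymm hf ?_
          by_contra hlt
          have h1 : D.index = 1 := by
            have := Subgroup.FiniteIndex.index_ne_zero (H := D)
            omega
          exact hne (hab g (Subgroup.index_eq_one.mp h1 ▸ Subgroup.mem_top g) d₀ hd₀)
        exact Subgroup.mul_self_mem_of_index_two hD2 g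
      have hfix : g * ((x : G ⧸ N) * (g * x * g⁻¹)) = ((x : G ⧸ N) * (g * x * g⁻¹)) * g := by
        have h1 : g * g * (x : G ⧸ N) = x * (g * g) := hab _ hgg _ x.2
        have h2 := hab _ x.2 _ ((inferInstance : D.Normal).conj_mem _ x.2 g)
        calc g * ((x : G ⧸ N) * (g * x * g⁻¹)) = (g * x * g⁻¹) * (g * g * x) * g⁻¹ := by group
          _ = (g * x * g⁻¹) * (x * (g * g)) * g⁻¹ := by rw [h1]
          _ = ((g * x * g⁻¹) * x) * g := by group
          _ = ((x : G ⧸ N) * (g * x * g⁻¹)) * g := by rw [h2]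
      have h := hfpf g ⟨d₀, hd₀, hne⟩ _ (mul_mem x.2 ((inferInstance : D.Normal).conj_mem _ x.2 g)) hfix
      have hxx : (x : G ⧸ N) * x = 1 := by
        have := congrArg Subtype.val (orderOf_dvd_iff_pow_eq_one.mp (dvd_of_eq hx))
        simpa [sq] using this
      have hgx : g * x * g⁻¹ = x := mul_left_cancel (h.trans hxx.symm)
      have := hfpf g ⟨d₀, hd₀, hne⟩ _ x.2 (mul_inv_eq_iff_eq_mul.mp hgx)
      rw [show x = 1 from Subtype.ext this, orderOf_one] at hx
      exact absurd hx (by norm_num)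
    have hDr : Nat.card D = N.relIndex K := by
      have h1 := Subgroup.relIndex_mul_index hNK
      rw [hKi] at h1
      have h2 := D.card_mul_index
      rw [← Subgroup.index_eq_card, ← h1] at h2
      exact Nat.eq_of_mul_eq_mul_right (Nat.pos_of_ne_zero Subgroup.FiniteIndex.index_ne_zero) h2
    have hr3 : N.relIndex K = 3 := by
      have h1 : 1 < Nat.card D := (Subgroup.one_lt_card_iff_ne_bot D).mpr fun e => hcen (e ▸ bot_le)
      omega
    let incl : N →* K := Subgroup.inclusion hNK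
    obtain ⟨m, hm, hsum⟩ := Clifford.exists_mult
      (Clifford.isCharacter_pullback (irr_isCharacter ψ) incl)
    have hN1 : ∀ φ : IrrCharacter N, (φ : N → ℂ) 1 = 1 := fun φ => by
      have h1 := hNb φ
      have h2 := deg_pos φ.2
      rw [deg_eq φ.2, show charDegree (φ : N → ℂ) = 1 by omega, Nat.cast_one]
    have hd2 : ((∑ φ : IrrCharacter N, m φ : ℕ) : ℂ) = ((2 : ℕ) : ℂ) := by
      have := congrFun hsum 1
      simp only [Finset.sum_apply, Pi.smul_apply, smul_eq_mul, hN1, mul_one, map_one,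
        deg_eq ψ.2, hψ] at this
      exact_mod_cast this.symm
    have hsq : ((∑ φ : IrrCharacter N, m φ * m φ : ℕ) : ℂ) = ((3 : ℕ) : ℂ) := by
      have h1 : classInner (fun n : N => (ψ : K → ℂ) (incl n)) (fun n : N => (ψ : K → ℂ) (incl n)) = 3 := by
        rw [classInner]
        refine (inv_mul_eq_iff_eq_mul₀ (Nat.cast_ne_zero.mpr Nat.card_pos.ne')).mpr ?_
        rw [show (3 : ℂ) = ((N.relIndex K : ℕ) : ℂ) by rw [hr3]; norm_num, ← Nat.cast_mul,
          card_mul_relIndex hNK, hnorm]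
        rfl
      rw [Nat.cast_sum, show ((3 : ℕ) : ℂ) = 3 by norm_num, ← h1]
      conv_rhs => arg 1; rw [hsum]
      rw [classInner_sum_left]
      refine Finset.sum_congr rfl fun φ _ => ?_
      rw [classInner_smul_left, classInner_conj_symm, hm φ, Complex.conj_natCast, Nat.cast_mul]
    have hd2' : ∑ φ : IrrCharacter N, m φ = 2 := Nat.cast_inj.mp hd2
    have hsq' : ∑ φ : IrrCharacter N, m φ * m φ = 3 := Nat.cast_inj.mp hsq
    have hpar : 2 ∣ ∑ φ : IrrCharacter N, (m φ * m φ + m φ) := Finset.dvd_sum fun φ _ => by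
      rw [← Nat.mul_succ]
      exact (Nat.even_mul_succ_self (m φ)).two_dvd
    rw [Finset.sum_add_distrib, hd2', hsq'] at hpar
    omega
  · exact ⟨N, b / 2, by omega, hNb,
      (Nat.mul_le_mul_right _ hNi).trans (arith_cube hb3)⟩

theorem step_solvable {b : ℕ} (hb : Bd G b) [Group.IsSolvable G] (hna : ¬ IsMulCommutative G) :
    Step G b := by
  obtain ⟨N, hN, hNc, hmax⟩ := exists_max_nonabelian hna
  haveI := hN
  letI := Fintype.ofFinite N
  letI := Fintype.ofFinite (G ⧸ N)
  have hs := QuotientGroup.mk'_surjective N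
  have hmap : commutator (G ⧸ N) = (commutator G).map (QuotientGroup.mk' N) := by
    rw [commutator_def, commutator_def, Subgroup.map_commutator, Subgroup.map_top_of_surjective _ hs]
  have hna' : ¬ IsMulCommutative (G ⧸ N) := fun h => hNc fun x hx => by
    have : QuotientGroup.mk' N x ∈ commutator (G ⧸ N) := hmap ▸ Subgroup.mem_map_of_mem _ hx
    rw [(commutator_eq_bot_iff (G ⧸ N)).mpr h, Subgroup.mem_bot] at this
    exact (QuotientGroup.eq_one_iff x).mp this
  have hmin : ∀ M : Subgroup (G ⧸ N), M.Normal → M ≠ ⊥ → commutator (G ⧸ N) ≤ M := by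
    intro M hM hne
    rw [hmap, Subgroup.map_le_iff_le_comap]
    refine hmax _ (hM.comap _) (fun n hn => ?_) fun e => hne ?_
    · rw [Subgroup.mem_comap, show QuotientGroup.mk' N n = 1 from (QuotientGroup.eq_one_iff n).mpr hn]
      exact one_mem M
    · rw [← Subgroup.map_comap_eq_self_of_surjective hs M, e, QuotientGroup.map_mk'_self]
  haveI : Group.IsSolvable (G ⧸ N) := Group.isSolvable_of_surjective hs
  by_cases hcen : commutator (G ⧸ N) ≤ Subgroup.center (G ⧸ N)
  · exact step_central hb N hna' hmin hcen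
  refine step_noncentral hb N hna' hmin (fun x hx y hy => ?_) hcen
  have hne : commutator (G ⧸ N) ≠ ⊥ := fun e => hcen (e ▸ bot_le)
  have hlt := Group.IsSolvable.commutator_lt_of_ne_bot hne
  have hb0 : ⁅commutator (G ⧸ N), commutator (G ⧸ N)⁆ = ⊥ := by
    by_contra h
    exact hlt.not_ge (hmin _ inferInstance h)
  refine commutatorElement_eq_one_iff_mul_comm.mp (Subgroup.mem_bot.mp ?_)
  exact hb0 ▸ Subgroup.commutator_mem_commutator hx hy

theorem step_insolvable {b : ℕ} (hb : Bd G b) (hns : ¬ Group.IsSolvable G) : Step G b := by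
  classical
  have hb5 := five_le_of_not_solvable _ G rfl hns b hb
  set M := Cfsg.solvableRadical G with hM
  haveI : M.Normal := Structure.solvableRadical_normal
  letI := Fintype.ofFinite M
  haveI hMs : Group.IsSolvable M := Structure.isSolvable_solvableRadical
  by_cases hgood : ∃ x : G, (Subgroup.centralizer ({x} : Set G)).index ≤ b ^ 2 ∧
      Bd (Subgroup.centralizer ({x} : Set G)) (b - 1)
  · obtain ⟨x, h1, h2⟩ := hgood
    exact step_of_index_le hb.one_le h2 h1
  push Not at hgood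
  have hbig : ∀ x : G, x ∉ M → b ^ 2 < (Subgroup.centralizer ({x} : Set G)).index := by
    intro x hxM
    by_contra hle
    push Not at hle
    set H := Subgroup.centralizer ({x} : Set G) with hH
    letI := Fintype.ofFinite H
    obtain ⟨ψ, hψ⟩ := exists_top_degree hb (hgood x hle)
    have hxH : x ∈ H := Subgroup.mem_centralizer_singleton_iff.mpr rfl
    obtain ⟨cc, hψx⟩ : ∃ cc : ℂ, ∀ χ : IrrCharacter G,
        classInner (fun y : H => (χ : G → ℂ) y) (ψ : H → ℂ) ≠ 0 →
          (χ : G → ℂ) x = cc * (b : ℂ) ∧ ‖cc‖ = 1 ∧ (χ : G → ℂ) 1 = (b : ℂ) := by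
      obtain ⟨ψf, d, σ, hσ, rfl⟩ := ψ
      haveI := hσ
      have hzc : (⟨x, hxH⟩ : H) ∈ Subgroup.center H := Subgroup.mem_center_iff.mpr fun y =>
        Subtype.ext (Subgroup.mem_centralizer_singleton_iff.mp y.2)
      obtain ⟨c, hc⟩ := CfsgLib.CharScalar.center_scalar σ hzc
      haveI := CfsgLib.CharScalar.nontrivial_of_irreducible σ
      obtain ⟨bs, ω, hω1, hω2⟩ := exists_eigenbasis σ (⟨x, hxH⟩ : H)
      have i₀ : Fin (Module.finrank ℂ (Fin d → ℂ)) := ⟨0, Module.finrank_pos⟩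
      have hnc : ‖c‖ = 1 := by
        have := hω2 i₀
        rw [hc, LinearMap.smul_apply, Module.End.one_apply] at this
        rw [smul_left_injective ℂ (bs.ne_zero i₀) this]
        exact Complex.norm_eq_one_of_pow_eq_one (hω1 i₀) (orderOf_pos _).ne'
      refine ⟨c, fun χ hχ => ?_⟩
      obtain ⟨hres, hd⟩ := res_eq_of_bound hb _ hψ.ge χ hχ
      have h1 : (χ : G → ℂ) 1 = (b : ℂ) := by rw [deg_eq χ.2, hd, hψ]
      refine ⟨?_, hnc, h1⟩
      have hx' := congrFun hres ⟨x, hxH⟩
      have h1' := congrFun hres 1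
      simp only [OneMemClass.coe_one] at hx' h1'
      rw [hx', ← h1, h1']
      simp only [Representation.character, hc, map_smul, smul_eq_mul, map_one]
    have hind : indFun H (ψ : H → ℂ) x = cc * indFun H (ψ : H → ℂ) 1 := by
      rw [NormalRes.indFun_eq_sum H ψ]
      simp only [Finset.sum_apply, Pi.smul_apply, smul_eq_mul, Finset.mul_sum]
      refine Finset.sum_congr rfl fun χ _ => ?_
      by_cases h0 : NormalRes.mult H (χ : G → ℂ) ψ = 0
      · rw [h0, zero_mul, zero_mul, mul_zero]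
      · obtain ⟨e1, -, e2⟩ := hψx χ h0
        rw [e1, e2]
        ring
    have hncc : ‖cc‖ = 1 := by
      obtain ⟨χ, hχ⟩ := NormalRes.exists_mult_ne_zero_of_irr H ψ
      exact (hψx χ hχ).2.1
    have hall : ∀ a : G, a⁻¹ * x * a ∈ H := by
      intro a₀
      by_contra ha₀
      rw [CfsgLib.Induction.indFun_one_apply, CfsgLib.Induction.indFun_apply, deg_eq ψ.2, hψ] at hind
      have hbound : ∀ a : G, ‖Cfsg.extendByZero H (ψ : H → ℂ) (a⁻¹ * x * a)‖ ≤ (b : ℝ) := by
        intro a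
        by_cases h : a⁻¹ * x * a ∈ H
        · rw [CfsgLib.Induction.extendByZero_mem H _ h]
          have := norm_le_degree_of_isCharacter (irr_isCharacter ψ) ⟨_, h⟩
          rwa [deg_eq ψ.2, hψ, Complex.norm_natCast] at this
        · rw [CfsgLib.Induction.extendByZero_notMem H _ h, norm_zero]
          exact Nat.cast_nonneg b
      have hlt : ∑ a : G, ‖Cfsg.extendByZero H (ψ : H → ℂ) (a⁻¹ * x * a)‖ < ∑ _a : G, (b : ℝ) :=
        Finset.sum_lt_sum (fun a _ => hbound a) ⟨a₀, Finset.mem_univ _, by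
          rw [CfsgLib.Induction.extendByZero_notMem H _ ha₀, norm_zero]
          exact_mod_cast hb.one_le⟩
      have h := congrArg (fun z : ℂ => ‖z‖) hind
      simp only [norm_mul, norm_inv, hncc, one_mul, Complex.norm_natCast] at h
      have hH0 : (0 : ℝ) < Nat.card H := Nat.cast_pos.mpr Nat.card_pos
      rw [inv_mul_eq_iff_eq_mul₀ hH0.ne'] at h
      have hle2 := norm_sum_le Finset.univ fun a : G => Cfsg.extendByZero H (ψ : H → ℂ) (a⁻¹ * x * a)
      rw [Finset.sum_const, Finset.card_univ, nsmul_eq_mul, ← Nat.card_eq_fintype_card,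
        ← H.card_mul_index, Nat.cast_mul, mul_assoc] at hlt
      rw [h] at hle2
      exact absurd (lt_of_le_of_lt hle2 hlt) (lt_irrefl _)
    set A := Subgroup.normalClosure ({x} : Set G) with hA
    have hAc : ∀ u ∈ A, ∀ v ∈ A, u * v = v * u := by
      have hgen : ∀ u ∈ Group.conjugatesOfSet ({x} : Set G), ∀ v ∈ Group.conjugatesOfSet ({x} : Set G),
          Commute u v := by
        intro u hu v hv
        obtain ⟨u', hu', hu⟩ := Group.mem_conjugatesOfSet_iff.mp hu
        obtain ⟨v', hv', hv⟩ := Group.mem_conjugatesOfSet_iff.mp hv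
        rw [Set.mem_singleton_iff.mp hu'] at hu
        rw [Set.mem_singleton_iff.mp hv'] at hv
        obtain ⟨a, rfl⟩ := isConj_iff.mp hu
        obtain ⟨c, rfl⟩ := isConj_iff.mp hv
        have h := Subgroup.mem_centralizer_singleton_iff.mp (hall (a⁻¹ * c)⁻¹)
        have h' : Commute (a⁻¹ * c * x * (a⁻¹ * c)⁻¹) x := by
          simpa [Commute, SemiconjBy] using h
        have := h'.symm.map (MulAut.conj a).toMonoidHom
        simpa [mul_assoc] using this
      intro u hu v hv
      haveI := Subgroup.isMulCommutative_closure (k := Group.conjugatesOfSet ({x} : Set G)) hgen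
      exact congrArg Subtype.val (IsMulCommutative.is_comm.comm
        (⟨u, hu⟩ : Subgroup.closure (Group.conjugatesOfSet ({x} : Set G))) ⟨v, hv⟩)
    refine hxM (Structure.le_solvableRadical (inferInstance : A.Normal) ?_
      (Subgroup.subset_normalClosure rfl : x ∈ A))
    exact Group.isSolvable_of_comm fun u v => Subtype.ext (hAc u u.2 v v.2)
  -- counting classes
  have hk : Nat.card G ≤ Nat.card (ConjClasses G) * b ^ 2 := by
    have h := sum_sq_degrees (G := G)
    simp only [fun χ : IrrCharacter G => deg_eq χ.2] at h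
    have h' : ∑ χ : IrrCharacter G, charDegree (χ : G → ℂ) ^ 2 = Nat.card G := by exact_mod_cast h
    rw [← h', ← card_irr_eq_card_conjClasses, Nat.card_eq_fintype_card, ← Finset.card_univ,
      ← smul_eq_mul]
    exact Finset.sum_le_card_nsmul _ _ _ fun χ _ => Nat.pow_le_pow_left (hb χ) 2
  letI : Fintype (ConjClasses G) := Fintype.ofFinite _
  set S := Finset.univ.filter fun C : ConjClasses G => ∃ m ∈ M, ConjClasses.mk m = C with hS
  have hSc : S.card ≤ Nat.card M := by
    have : S ⊆ Finset.univ.image fun m : M => ConjClasses.mk (m : G) := by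
      intro C hC
      obtain ⟨m, hm, rfl⟩ := (Finset.mem_filter.mp hC).2
      exact Finset.mem_image.mpr ⟨⟨m, hm⟩, Finset.mem_univ _, rfl⟩
    exact (Finset.card_le_card this).trans (Finset.card_image_le.trans (by
      rw [Finset.card_univ, Nat.card_eq_fintype_card]))
  have hclass : (b ^ 2 + 1) * Nat.card (ConjClasses G) ≤ (b ^ 2 + 1) * S.card + Nat.card G := by
    have hsum : ∑ C : ConjClasses G, C.carrier.ncard = Nat.card G := by
      simp only [Set.ncard_eq_toFinset_card', Nat.card_eq_fintype_card (α := G)]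
      exact sum_conjClasses_card_eq_card G
    rw [Nat.card_eq_fintype_card (α := ConjClasses G), ← Finset.card_univ,
      ← Finset.card_filter_add_card_filter_not (fun C : ConjClasses G => C ∈ S), Finset.filter_univ_mem,
      mul_add, ← hsum]
    refine Nat.add_le_add_left ?_ _
    rw [mul_comm, ← smul_eq_mul]
    refine le_trans (Finset.card_nsmul_le_sum _ _ _ fun C hC => ?_)
      (Finset.sum_le_sum_of_subset (Finset.subset_univ _))
    obtain ⟨g, rfl⟩ := ConjClasses.mk_surjective C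
    have hgM : g ∉ M := fun h => (Finset.mem_filter.mp hC).2
      (Finset.mem_filter.mpr ⟨Finset.mem_univ _, g, h, rfl⟩)
    have := hbig g hgM
    rw [← card_isConj_eq_index] at this
    have hcar : (ConjClasses.mk g).carrier.ncard = Nat.card {y : G // IsConj g y} := by
      rw [← Nat.card_coe_set_eq]
      exact Nat.card_congr (Equiv.subtypeEquivRight fun y => by
        rw [ConjClasses.mem_carrier_iff_mk_eq, ConjClasses.mk_eq_mk_iff_isConj, isConj_comm])
    omega
  have hMi : M.index ≤ b ^ 4 + b ^ 2 := by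
    have h1 : Nat.card G * (b ^ 2 + 1) ≤ b ^ 2 * ((b ^ 2 + 1) * Nat.card M + Nat.card G) := by
      calc Nat.card G * (b ^ 2 + 1) ≤ Nat.card (ConjClasses G) * b ^ 2 * (b ^ 2 + 1) :=
            Nat.mul_le_mul_right _ hk
        _ = b ^ 2 * ((b ^ 2 + 1) * Nat.card (ConjClasses G)) := by ring
        _ ≤ _ := Nat.mul_le_mul_left _ (hclass.trans (Nat.add_le_add_right
          (Nat.mul_le_mul_left _ hSc) _))
    have h2 : Nat.card G ≤ (b ^ 4 + b ^ 2) * Nat.card M := by nlinarith
    rw [← M.index_mul_card] at h2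
    exact Nat.le_of_mul_le_mul_right h2 Nat.card_pos
  have hna : ¬ IsMulCommutative (G ⧸ M) := fun h => hns (by
    haveI : Group.IsSolvable (G ⧸ M) := Group.isSolvable_of_comm fun a c => h.is_comm.comm a c
    exact Group.isSolvable_of_ker_le_range M.subtype (QuotientGroup.mk' M)
      (by rw [QuotientGroup.ker_mk', Subgroup.range_subtype]))
  exact ⟨M, b / 2, by omega, hb.half M hna,
    (Nat.mul_le_mul_right _ hMi).trans (arith_fourth hb5)⟩

end Solvable

/-- The theorem of Isaacs and Passman. -/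
theorem exists_abelian : ∀ (b : ℕ) (G : Type u) [Group G] [Fintype G], Bd G b →
    ∃ A : Subgroup G, (∀ x ∈ A, ∀ y ∈ A, x * y = y * x) ∧ A.index ≤ (Nat.factorial b) ^ 2 := by
  intro b
  induction b using Nat.strong_induction_on with
  | _ b ih =>
  intro G _ _ hb
  by_cases hna : IsMulCommutative G
  · exact ⟨⊤, fun x _ y _ => hna.is_comm.comm x y, by
      rw [Subgroup.index_top]; exact Nat.one_le_pow _ _ b.factorial_pos⟩
  obtain ⟨H, c, hc, hHc, hidx⟩ : Step G b := by
    by_cases hs : Group.IsSolvable G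
    · exact step_solvable hb hna
    · exact step_insolvable hb hs
  letI := Fintype.ofFinite H
  obtain ⟨A, hA, hAi⟩ := ih c hc H hHc
  refine ⟨A.map H.subtype, ?_, ?_⟩
  · rintro _ ⟨x, hx, rfl⟩ _ ⟨y, hy, rfl⟩
    rw [← map_mul, hA x hx y hy, map_mul]
  · rw [Subgroup.index_map_subtype, mul_comm]
    exact (Nat.mul_le_mul_left _ hAi).trans hidx

end CfsgLib.AbelianIndex
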