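import Cfsg.Agent.Lib.Characters.Clifford
import Cfsg.Agent.Lib.Characters.NormalRes
import Cfsg.Agent.Lib.Characters.NormalAvg
import Cfsg.Agent.Lib.Characters.Values
import Cfsg.Agent.Lib.Characters.Galois
import Cfsg.Agent.Lib.Blocks.ClassCount
import Cfsg.Agent.Lib.Chars17.PGroupGalois

/-!
Groups with bounded character degrees: inheritance by subgroups and quotients, twisting by
characters of a quotient, and the bound five for insolvable groups.
-/

set_option autoImplicit false
set_option linter.style.haveILetI false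

namespace CfsgLib.AbelianIndex

open Cfsg CfsgLib.Characters
open scoped ComplexConjugate commutatorElement

universe u

/-- All irreducible degrees are at most `b`. -/
def Bd (G : Type u) [Group G] (b : ℕ) : Prop :=
  ∀ χ : IrrCharacter G, charDegree (χ : G → ℂ) ≤ b

section

variable {G : Type u} [Group G] [Fintype G]

theorem deg_eq {χ : G → ℂ} (h : IsIrrCharacter G χ) : χ 1 = (charDegree χ : ℂ) :=
  (CfsgLib.ClassCount.degree_eq ⟨χ, h⟩).1

theorem deg_pos {χ : G → ℂ} (h : IsIrrCharacter G χ) : 0 < charDegree χ :=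
  (CfsgLib.ClassCount.degree_eq ⟨χ, h⟩).2.2

theorem Bd.one_le {b : ℕ} (hb : Bd G b) : 1 ≤ b := by
  have := deg_pos (principalIrr G).2
  exact this.trans_le (hb (principalIrr G))

/-- Constituents have smaller degree; equal degree means equality. -/
theorem constituent_le {H : Subgroup G} [Fintype H] {χ : G → ℂ} (hχ : IsIrrCharacter G χ)
    (θ : IrrCharacter H) (h1 : classInner (fun x : H => χ x) (θ : H → ℂ) ≠ 0) :
    charDegree (θ : H → ℂ) ≤ charDegree χ ∧
      (charDegree χ < 2 * charDegree (θ : H → ℂ) → charDegree χ ≤ charDegree (θ : H → ℂ) →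
        (fun x : H => χ x) = θ) := by
  classical
  obtain ⟨m, hm, hsum⟩ := Clifford.exists_mult (Clifford.isCharacter_subtype (isCharacter_of_irr hχ) H)
  have hd := congrFun hsum 1
  simp only [Finset.sum_apply, Pi.smul_apply, smul_eq_mul, OneMemClass.coe_one] at hd
  rw [deg_eq hχ, Finset.sum_congr rfl fun ψ _ => by
    rw [deg_eq (ψ : IrrCharacter H).2]] at hd
  have hd' : charDegree χ = ∑ ψ : IrrCharacter H, m ψ * charDegree (ψ : H → ℂ) := by exact_mod_cast hd
  have hm1 : 1 ≤ m θ := Nat.one_le_iff_ne_zero.mpr fun e => h1 (by rw [hm, e, Nat.cast_zero])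
  have hle : m θ * charDegree (θ : H → ℂ) ≤ charDegree χ := hd' ▸
    Finset.single_le_sum (f := fun ψ : IrrCharacter H => m ψ * charDegree (ψ : H → ℂ))
      (fun _ _ => Nat.zero_le _) (Finset.mem_univ θ)
  refine ⟨le_trans (Nat.le_mul_of_pos_left _ hm1) hle, fun _ heq => ?_⟩
  have hmθ : m θ = 1 := by
    have h2 : m θ * charDegree (θ : H → ℂ) ≤ 1 * charDegree (θ : H → ℂ) := by omega
    exact le_antisymm (Nat.le_of_mul_le_mul_right h2 (deg_pos θ.2)) hm1
  rw [hmθ, one_mul] at hle
  rw [← Finset.add_sum_erase _ _ (Finset.mem_univ θ), hmθ, one_mul] at hd'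
  have hzero : ∀ ψ ∈ Finset.univ.erase θ, m ψ = 0 := fun ψ hψ => by
    have h0 : ∑ φ ∈ Finset.univ.erase θ, m φ * charDegree (φ : H → ℂ) = 0 := by omega
    exact (mul_eq_zero.mp ((Finset.sum_eq_zero_iff.mp h0) ψ hψ)).resolve_right (deg_pos ψ.2).ne'
  rw [hsum, ← Finset.add_sum_erase _ _ (Finset.mem_univ θ), Finset.sum_eq_zero (fun ψ hψ => by
    rw [hzero ψ hψ, Nat.cast_zero, zero_smul]), add_zero, hmθ, Nat.cast_one, one_smul]

theorem Bd.subgroup {b : ℕ} (hb : Bd G b) (H : Subgroup G) : Bd H b := by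
  intro θ
  letI := Fintype.ofFinite H
  obtain ⟨χ, hχ⟩ := NormalRes.exists_mult_ne_zero_of_irr H θ
  exact (constituent_le χ.2 θ hχ).1.trans (hb χ)

omit [Fintype G] in
theorem Bd.of_surjective {b : ℕ} (hb : Bd G b) {Q : Type u} [Group Q] (f : G →* Q)
    (hf : Function.Surjective f) : Bd Q b := fun η => by
  have := hb ⟨_, Clifford.isIrrCharacter_pullback η.2 f hf⟩
  simpa [charDegree] using this

/-- An irreducible character of degree at least `b` of a subgroup extends. -/
theorem res_eq_of_bound {b : ℕ} (hb : Bd G b) {H : Subgroup G} [Fintype H] (ψ : IrrCharacter H)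
    (hψ : b ≤ charDegree (ψ : H → ℂ)) (χ : IrrCharacter G)
    (h : classInner (fun x : H => (χ : G → ℂ) x) (ψ : H → ℂ) ≠ 0) :
    (fun x : H => (χ : G → ℂ) x) = ψ ∧ charDegree (χ : G → ℂ) = charDegree (ψ : H → ℂ) := by
  obtain ⟨h1, h2⟩ := constituent_le χ.2 ψ h
  have hle := (hb χ).trans hψ
  exact ⟨h2 (by have := deg_pos ψ.2; omega) hle, le_antisymm hle h1⟩

theorem exists_extension {b : ℕ} (hb : Bd G b) {H : Subgroup G} [Fintype H] (ψ : IrrCharacter H)
    (hψ : b ≤ charDegree (ψ : H → ℂ)) :
    ∃ χ : IrrCharacter G, (fun x : H => (χ : G → ℂ) x) = ψ ∧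
      charDegree (χ : G → ℂ) = charDegree (ψ : H → ℂ) := by
  obtain ⟨χ, hχ⟩ := NormalRes.exists_mult_ne_zero_of_irr H ψ
  exact ⟨χ, res_eq_of_bound hb ψ hψ χ hχ⟩

/-- Twisting an extension by a character of the quotient is irreducible. -/
theorem isIrr_twist (N : Subgroup G) [N.Normal] [Fintype N] {χ : G → ℂ} (hχ : IsCharacter G χ)
    (hχN : IsIrrCharacter N (fun n : N => χ n)) {π : G → ℂ} (hπ : IsIrrCharacter G π)
    (hcon : ∀ (n : N) (g : G), π ((n : G) * g) = π g) : IsIrrCharacter G (χ * π) := by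
  refine (isIrrCharacter_iff_classInner_self (isCharacter_mul hχ (isCharacter_of_irr hπ))).2 ?_
  have h := NormalAvg.classInner_avgN_left N
    (fun g => χ g * conj (χ g)) (f := fun g => π g * conj (π g)) (fun n g => by simp only [hcon])
  rw [show NormalAvg.avgN N (fun g => χ g * conj (χ g)) = fun _ => 1 from
    NormalAvg.pairAvg_self N hχ hχN] at h
  rw [← classInner_irr_self hπ]
  unfold classInner at h ⊢
  refine Eq.trans ?_ (h.symm.trans ?_)
  · congr 1
    exact Finset.sum_congr rfl fun g _ => by simp; ring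
  · congr 1
    exact Finset.sum_congr rfl fun g _ => by simp; ring

/-- Below a nonabelian quotient the degrees are at most half the bound. -/
theorem Bd.half {b : ℕ} (hb : Bd G b) (N : Subgroup G) [N.Normal]
    (hna : ¬ IsMulCommutative (G ⧸ N)) : Bd N (b / 2) := by
  letI := Fintype.ofFinite N
  letI := Fintype.ofFinite (G ⧸ N)
  obtain ⟨η, hη⟩ := CfsgLib.Chars17.PGalois.exists_nonlinear hna
  intro θ
  by_contra hc
  push Not at hc
  obtain ⟨χ, hχ⟩ := NormalRes.exists_mult_ne_zero_of_irr N θ
  obtain ⟨hle, heq⟩ := constituent_le χ.2 θ hχ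
  have hbχ := hb χ
  have hlt : charDegree (χ : G → ℂ) < 2 * charDegree (θ : N → ℂ) := by omega
  obtain ⟨e, he⟩ := NormalRes.mult_nat N (irr_isCharacter χ) θ
  have h := Clifford.clifford_degree (inferInstance : N.Normal) χ.2 θ.2 hχ
  rw [show classInner (fun n : N => (χ : G → ℂ) n) (θ : N → ℂ) = (e : ℂ) from he,
    deg_eq χ.2, deg_eq θ.2] at h
  have h' : charDegree (χ : G → ℂ) = e * (Clifford.inertia inferInstance (θ : N → ℂ)).index *
      charDegree (θ : N → ℂ) := by exact_mod_cast h
  have hk : e * (Clifford.inertia (inferInstance : N.Normal) (θ : N → ℂ)).index ≤ 1 := by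
    by_contra hk
    push Not at hk
    have := Nat.mul_le_mul_right (charDegree (θ : N → ℂ)) hk
    omega
  have hres := heq hlt (h'.le.trans (by simpa using Nat.mul_le_mul_right (charDegree (θ : N → ℂ)) hk))
  set π : G → ℂ := fun g => (η : G ⧸ N → ℂ) (QuotientGroup.mk' N g) with hπ
  have hπi : IsIrrCharacter G π :=
    Clifford.isIrrCharacter_pullback η.2 _ (QuotientGroup.mk'_surjective N)
  have hirr := isIrr_twist N (irr_isCharacter χ) (hres ▸ θ.2) hπi fun n g => by
    simp only [hπ, QuotientGroup.mk'_apply, QuotientGroup.mk_mul, (QuotientGroup.eq_one_iff (n : G)).mpr n.2, one_mul]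
  have hd := hb ⟨_, hirr⟩
  have hv : ((charDegree ((χ : G → ℂ) * π) : ℕ) : ℂ) =
      ((charDegree (χ : G → ℂ) * charDegree (η : G ⧸ N → ℂ) : ℕ) : ℂ) := by
    rw [← deg_eq hirr, Pi.mul_apply, deg_eq χ.2, Nat.cast_mul, hπ]
    simp only [map_one, deg_eq η.2]
  rw [show charDegree (⟨_, hirr⟩ : IrrCharacter G).1 =
    charDegree (χ : G → ℂ) * charDegree (η : G ⧸ N → ℂ) from Nat.cast_inj.mp hv] at hd
  have hη2 : 2 ≤ charDegree (η : G ⧸ N → ℂ) := by
    have := deg_pos η.2
    omega
  have := Nat.mul_le_mul hle hη2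
  omega

theorem comm_of_bd_one (hb : Bd G 1) (x y : G) : x * y = y * x :=
  CfsgLib.ItoMichler.comm_of_degree_one (fun χ => le_antisymm (hb χ) (deg_pos χ.2)) x y

end

/-- A nonabelian simple group has a degree at least five. -/
theorem not_bd_four {T : Type u} [Group T] [Fintype T] [IsSimpleGroup T]
    (hna : ¬ IsMulCommutative T) : ¬ Bd T 4 := by
  classical
  intro hb
  have hcomm : commutator T = ⊤ := by
    refine (IsSimpleGroup.eq_bot_or_eq_top_of_normal _ inferInstance).resolve_left fun h => hna ⟨⟨fun a b => ?_⟩⟩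
    refine commutatorElement_eq_one_iff_mul_comm.mp ?_
    have hm : ⁅a, b⁆ ∈ commutator T :=
      Subgroup.commutator_mem_commutator (Subgroup.mem_top a) (Subgroup.mem_top b)
    rwa [h, Subgroup.mem_bot] at hm
  have hhom : ∀ (f : T →* ℂˣ) (g : T), f g = 1 := fun f g =>
    Abelianization.commutator_subset_ker f (hcomm ▸ Subgroup.mem_top g)
  have hlin : ∀ χ : IrrCharacter T, charDegree (χ : T → ℂ) = 1 → χ = principalIrr T := by
    intro χ hχ
    obtain ⟨f, hf⟩ := CfsgLib.LinearTwist.exists_hom_of_charDegree_one (irr_isCharacter χ) hχ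
    apply Subtype.ext
    funext g
    have := congrFun hf g
    simp only [hhom f g, Units.val_one] at this
    simp [this]
  have hinj : ∀ (d : ℕ) (ρ : Representation ℂ T (Fin d → ℂ)), ρ.IsIrreducible → d ≠ 1 →
      Function.Injective ρ := by
    intro d ρ hρ hd
    suffices hk : ρ.toHomUnits.ker = ⊥ by
      intro a b hab
      exact (MonoidHom.ker_eq_bot_iff _).mp hk (Units.ext hab)
    refine (IsSimpleGroup.eq_bot_or_eq_top_of_normal _ inferInstance).resolve_right fun h => hd ?_
    have hc : ∀ g : T, ρ.character g = (d : ℂ) := fun g => by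
      have : ρ g = 1 := congrArg Units.val (MonoidHom.mem_ker.mp (h ▸ Subgroup.mem_top g))
      simp [Representation.character, this]
    have h1 := classInner_irr_self (χ := ρ.character) ⟨d, ρ, hρ, rfl⟩
    simp only [classInner, hc, Finset.sum_const, Finset.card_univ, nsmul_eq_mul, map_natCast,
      ← Nat.card_eq_fintype_card] at h1
    rw [← mul_assoc, inv_mul_cancel₀ (Nat.cast_ne_zero.mpr Nat.card_pos.ne'), one_mul] at h1
    have h2 : d * d = 1 := by exact_mod_cast h1
    exact Nat.eq_one_of_mul_eq_one_right h2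
  have hd1 : ∀ χ : IrrCharacter T, χ ≠ principalIrr T →
      2 ≤ charDegree (χ : T → ℂ) ∧ charDegree (χ : T → ℂ) ≤ 4 := fun χ hχ =>
    ⟨by
      rcases Nat.lt_or_ge (charDegree (χ : T → ℂ)) 2 with h | h
      · have := deg_pos χ.2
        exact absurd (hlin χ (by omega)) hχ
      · exact h, hb χ⟩
  obtain ⟨η, hη⟩ := CfsgLib.Chars17.PGalois.exists_nonlinear hna
  have hη0 : η ≠ principalIrr T := fun e => hη (by subst e; simp [charDegree])
  have hsum : ∑ χ : IrrCharacter T, charDegree (χ : T → ℂ) ^ 2 = Nat.card T := by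
    have h := sum_sq_degrees (G := T)
    simp only [fun χ : IrrCharacter T => deg_eq χ.2] at h
    exact_mod_cast h
  have heven : 2 ∣ Nat.card T := by
    by_contra hodd
    have h3 : ∀ χ : IrrCharacter T, χ ≠ principalIrr T → charDegree (χ : T → ℂ) = 3 := by
      intro χ hχ
      obtain ⟨h2, h4⟩ := hd1 χ hχ
      have hdvd := (CfsgLib.ClassCount.degree_eq χ).2.1
      rcases (show charDegree (χ : T → ℂ) = 2 ∨ charDegree (χ : T → ℂ) = 3 ∨
        charDegree (χ : T → ℂ) = 4 by omega) with h | h | h
      · exact absurd (h ▸ hdvd) hodd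
      · exact h
      · exact absurd ((show 2 ∣ 4 by norm_num).trans (h ▸ hdvd)) hodd
    have h3n : 3 ∣ Nat.card T := h3 η hη0 ▸ (CfsgLib.ClassCount.degree_eq η).2.1
    rw [← hsum, ← Finset.add_sum_erase _ _ (Finset.mem_univ (principalIrr T))] at h3n
    have h1 : 3 ∣ ∑ χ ∈ Finset.univ.erase (principalIrr T), charDegree (χ : T → ℂ) ^ 2 :=
      Finset.dvd_sum fun χ hχ => by rw [h3 χ (Finset.ne_of_mem_erase hχ)]; norm_num
    have h2 := (Nat.dvd_add_left h1).mp h3n
    simp [charDegree] at h2
  haveI : Fact (Nat.Prime 2) := ⟨Nat.prime_two⟩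
  obtain ⟨t, ht⟩ := exists_prime_orderOf_dvd_card' 2 heven
  have hval : ∀ χ : IrrCharacter T, χ ≠ principalIrr T →
      (χ : T → ℂ) 1 * (χ : T → ℂ) t = -3 ∨ (χ : T → ℂ) 1 * (χ : T → ℂ) t = 0 := by
    rintro ⟨_, d, ρ, hρ, rfl⟩ hχ
    obtain ⟨hd2, hd4⟩ := hd1 _ hχ
    have hdd : charDegree ρ.character = d := by
      simp [charDegree, Representation.char_one]
    rw [show charDegree (⟨ρ.character, d, ρ, hρ, rfl⟩ : IrrCharacter T).1 = d from hdd] at hd2 hd4
    have hρi := hinj d ρ hρ (by omega)
    obtain ⟨b, ω, hω, hb'⟩ := exists_eigenbasis ρ t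
    rw [ht] at hω
    have hpm : ∀ i, ω i = 1 ∨ ω i = -1 := fun i => sq_eq_one_iff.mp (hω i)
    have hns : ∀ c : ℂ, ∃ i, ω i ≠ c := by
      intro c
      by_contra hall
      push Not at hall
      have hsc : ρ t = c • LinearMap.id := b.ext fun i => by simp [hb' i, hall i]
      have htc : t ∈ Subgroup.center T := Subgroup.mem_center_iff.mpr fun g => hρi (by
        rw [map_mul, map_mul, hsc, Module.End.mul_eq_comp, Module.End.mul_eq_comp,
          LinearMap.smul_comp, LinearMap.comp_smul, LinearMap.id_comp, LinearMap.comp_id])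
      rcases IsSimpleGroup.eq_bot_or_eq_top_of_normal (Subgroup.center T) inferInstance with h | h
      · rw [h, Subgroup.mem_bot] at htc
        rw [htc, orderOf_one] at ht
        exact absurd ht (by norm_num)
      · exact hna ⟨⟨fun a b => (Subgroup.mem_center_iff.mp (h ▸ Subgroup.mem_top a) b).symm⟩⟩
    have hprod : ∏ i, ω i = 1 := by
      let f : T →* ℂˣ := ((LinearMap.det : Module.End ℂ (Fin d → ℂ) →* ℂ).comp ρ).toHomUnits
      have h1 : LinearMap.det (ρ t) = 1 := congrArg Units.val (hhom f t)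
      rw [← LinearMap.det_toMatrix b, show LinearMap.toMatrix b b (ρ t) = Matrix.diagonal ω from by
        ext i j
        rw [LinearMap.toMatrix_apply, hb' j, map_smul, Module.Basis.repr_self, Finsupp.smul_single,
          smul_eq_mul, mul_one, Matrix.diagonal_apply]
        rcases eq_or_ne i j with e | e
        · subst e; simp
        · simp [e, Finsupp.single_eq_of_ne e], Matrix.det_diagonal] at h1
      exact h1
    set m := (Finset.univ.filter fun i => ω i = -1).card with hm
    have hsplit : ∀ i, ω i = if ω i = -1 then -1 else 1 := fun i => by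
      split_ifs with h
      · exact h
      · exact (hpm i).resolve_right h
    have hcard := Finset.card_filter_add_card_filter_not
      (s := (Finset.univ : Finset (Fin (Module.finrank ℂ (Fin d → ℂ))))) (fun i => ω i = -1)
    rw [Finset.card_univ, Fintype.card_fin, ← hm] at hcard
    have hcard := hcard.trans (Module.finrank_fin_fun ℂ)
    have hchar : ρ.character t = (d : ℂ) - 2 * m := by
      rw [character_eq_sum_of_eigenbasis ρ t b ω hb', Finset.sum_congr rfl fun i _ => hsplit i,
        Finset.sum_ite, Finset.sum_const, Finset.sum_const, ← hm,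
        show (d : ℂ) = ((m + (Finset.univ.filter fun i => ¬ ω i = -1).card : ℕ) : ℂ) by rw [hcard]]
      simp
      ring
    have hev : Even m := by
      rw [Finset.prod_congr rfl fun i _ => hsplit i, Finset.prod_ite, Finset.prod_const,
        Finset.prod_const_one, mul_one, ← hm] at hprod
      exact (neg_one_pow_eq_one_iff_even (by norm_num)).mp hprod
    obtain ⟨i, hi⟩ := hns 1
    have hm0 : 0 < m := Finset.card_pos.mpr ⟨i, by simpa using (hpm i).resolve_left hi⟩
    obtain ⟨j, hj⟩ := hns (-1)
    have hmd : 0 < (Finset.univ.filter fun i => ¬ ω i = -1).card :=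
      Finset.card_pos.mpr ⟨j, by simpa using hj⟩
    have hm2 : m = 2 := by
      obtain ⟨k, hk⟩ := hev
      omega
    show ρ.character 1 * ρ.character t = -3 ∨ _ * ρ.character t = 0
    rw [Representation.char_one, Module.finrank_fin_fun, hchar, hm2]
    rcases (show d = 3 ∨ d = 4 by omega) with h | h <;> subst h <;> norm_num
  have ht1 : t ≠ 1 := fun e => by
    rw [e, orderOf_one] at ht
    exact absurd ht (by norm_num)
  have h0 := sum_degree_mul_irr (G := T) t
  rw [if_neg ht1, ← Finset.add_sum_erase _ _ (Finset.mem_univ (principalIrr T))] at h0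
  have hz : ∀ S : Finset (IrrCharacter T), principalIrr T ∉ S →
      ∃ z : ℤ, ∑ χ ∈ S, (χ : T → ℂ) 1 * (χ : T → ℂ) t = 3 * (z : ℂ) := by
    intro S hS
    induction S using Finset.induction_on with
    | empty => exact ⟨0, by simp⟩
    | @insert a S ha ih =>
      obtain ⟨z, hz⟩ := ih fun h => hS (Finset.mem_insert_of_mem h)
      rcases hval a (fun e => hS (e ▸ Finset.mem_insert_self a S)) with h | h
      · exact ⟨z - 1, by rw [Finset.sum_insert ha, h, hz]; push_cast; ring⟩
      · exact ⟨z, by rw [Finset.sum_insert ha, h, hz, zero_add]⟩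
  obtain ⟨z, hz⟩ := hz _ (Finset.notMem_erase _ _)
  rw [hz, principalIrr_apply, principalIrr_apply, one_mul] at h0
  have : (1 : ℤ) + 3 * z = 0 := by exact_mod_cast h0
  omega

/-- An insolvable group has a degree at least five. -/
theorem five_le_of_not_solvable : ∀ (N : ℕ) (G : Type u) [Group G] [Fintype G], Nat.card G = N →
    ¬ Group.IsSolvable G → ∀ b, Bd G b → 5 ≤ b := by
  intro N
  induction N using Nat.strong_induction_on with
  | _ N ih =>
  intro G _ _ hN hns b hb
  classical
  by_cases hex : ∃ K : Subgroup G, K.Normal ∧ K ≠ ⊥ ∧ K ≠ ⊤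
  · obtain ⟨K, hK, hKb, hKt⟩ := hex
    haveI := hK
    by_cases hs : Group.IsSolvable K
    · by_cases hq : Group.IsSolvable (G ⧸ K)
      · exact absurd (Group.isSolvable_of_ker_le_range K.subtype (QuotientGroup.mk' K)
          (by rw [QuotientGroup.ker_mk', Subgroup.range_subtype])) hns
      · letI := Fintype.ofFinite (G ⧸ K)
        refine ih _ ?_ (G ⧸ K) rfl hq b (hb.of_surjective _ (QuotientGroup.mk'_surjective K))
        rw [← hN, Subgroup.card_eq_card_quotient_mul_card_subgroup K]
        exact lt_mul_of_one_lt_right Nat.card_pos ((Subgroup.one_lt_card_iff_ne_bot K).mpr hKb)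
    · letI := Fintype.ofFinite K
      exact ih _ (hN ▸ lt_of_le_of_ne (Subgroup.card_le_card_group K)
        fun e => hKt (Subgroup.eq_top_of_card_eq K e)) K rfl hs b (hb.subgroup K)
  · push Not at hex
    haveI : Nontrivial G := by
      by_contra h
      rw [not_nontrivial_iff_subsingleton] at h
      exact hns inferInstance
    haveI : IsSimpleGroup G := ⟨fun K hK => or_iff_not_imp_left.mpr fun h => hex K hK h⟩
    have hna : ¬ IsMulCommutative G := fun h => hns (Group.isSolvable_of_comm fun a b => h.is_comm.comm a b)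
    by_contra hlt
    exact not_bd_four hna fun χ => (hb χ).trans (by omega)

end CfsgLib.AbelianIndex
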