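import Cfsg.Agent.Lib.CyclicBlock.Count
import Cfsg.Agent.Lib.BrauerPairs.Nilpotent
import Cfsg.Agent.Lib.Blocks.CyclicNilpotent

/-!
# Cyclic defect: nilpotent exactly when there is one Brauer character
-/

set_option autoImplicit false
set_option linter.unusedSectionVars false
set_option linter.style.haveILetI false

namespace CfsgLib.CyclicRankOne

open Cfsg MonoidAlgebra CfsgLib.BrauerPairs

universe u

variable {G : Type u} [Group G] [Fintype G] {p : ℕ} [hp : Fact p.Prime] {M : Ideal AlgInt}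
  {B : Set (IrrCharacter G)} {D : Subgroup G}

theorem nilpotent_iff_rank_one (hM : IsPModular p M) (hB : IsPBlock M B)
    (hD : IsDefectGroup p M B D) (hcyc : IsCyclic D) :
    IsNilpotentBlock p M B ↔ blockRank p B = 1 := by
  haveI := hM.2.1
  haveI := charP_res (M := M) hM
  have hDd := (isDefectGroup_iff hM hB D).1 hD
  have hfix : eG hM B ∈ fixAlg (ResK M) D := fixAlg_anti le_top (isBlockIdem_eG hM hB).fixed
  obtain ⟨a, ha, hcov⟩ := exists_block_le (hasBlocks hM) (brMap_mem_suppAlg D (eG hM B))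
    (brMap_mem_fixAlg (cz_le_normalizer D) (fixAlg_anti le_top (isBlockIdem_eG hM hB).fixed))
    (by rw [← brMap_mul hDd.pgroup hfix hfix, (isBlockIdem_eG hM hB).idem]) hDd.br_ne
  obtain ⟨e, he, rfl⟩ := exists_eA_eq hM ha
  have hmax : IsMaximalBrauerPair p M B D e := (isMaximalBrauerPair_iff hM B D e).2
    ⟨(isBrauerPairOf_iff hM B D e).2 ⟨he, hB, ⟨hDd.pgroup, bot_le, le_top, ha, hcov⟩⟩, hDd⟩
  have hab : ∀ x ∈ D, ∀ y ∈ D, x * y = y * x := fun x hx y hy =>
    congrArg Subtype.val ((IsMulCommutative.is_comm (M := D)).comm (⟨x, hx⟩ : D) ⟨y, hy⟩)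
  have hstab : ∀ g : G, g ∈ Subgroup.normalizer (D : Set G) →
      (StabilizesBlock (cz D) e g ↔ conjA g (eA hM (cz D) e) = eA hM (cz D) e) := fun g hg =>
    stabilizesBlock_iff_conjA hM (normalizer_le_normalizer_cz D hg) he
  rw [nilpotent_iff_of_abelian hM hmax hab]
  constructor
  · intro h
    exact (CyclicDefectBound.rank_and_card hM hB hD hcyc ha hcov
      fun g hg hge => h g hg ((hstab g hg).2 hge)).1
  · intro hl g hgN hge
    obtain ⟨n, hn⟩ := IsPGroup.iff_card.1 hDd.pgroup
    rcases Nat.eq_zero_or_pos n with rfl | hn0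
    · rw [pow_zero, Subgroup.card_eq_one] at hn
      rw [hn, cz_bot]
      exact Subgroup.mem_top g
    · obtain ⟨L, rfl, hLe⟩ := CyclicBlock.exists_data hB hD hcyc hn0 hn ha hcov
      letI : Fintype L.K := Fintype.ofFinite _
      have h1 : (cz L.D).relIndex L.T = 1 := by
        rw [← L.inertia_eq, ← L.blockRank_eq]; exact hl
      refine Subgroup.relIndex_eq_one.1 h1 (mem_pairStab.2 ⟨hgN, ?_⟩)
      rw [hLe]
      exact (hstab g hgN).1 hge

end CfsgLib.CyclicRankOne
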