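import Cfsg.Agent.Lib.Characters.Induction
import Cfsg.Agent.Lib.Characters.Basic
import Cfsg.Agent.Lib.Characters.Decomp
import Cfsg.Agent.Lib.Characters.Values
import Mathlib.GroupTheory.GroupAction.Quotient
import Mathlib.GroupTheory.IndexNormal

/-!
Primitive linear groups of degree two: the centre has index 12, 24 or 60 (counting poles on the
projective line).
-/

set_option autoImplicit false

noncomputable section

namespace CfsgLib.DegreeTwo

open Cfsg CfsgLib.Characters

universe u

variable {G : Type u} [Group G] [Finite G] {ρ : Representation ℂ G (Fin 2 → ℂ)}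

theorem mem_center_of_scalar (hinj : Function.Injective ρ) {g : G} {c : ℂ}
    (h : ∀ v, ρ g v = c • v) : g ∈ Subgroup.center G := by
  refine Subgroup.mem_center_iff.mpr fun x => hinj (LinearMap.ext fun v => ?_)
  simp [h]

theorem scalar_of_mem_center (hirr : ρ.IsIrreducible) {g : G} (h : g ∈ Subgroup.center G) :
    ∃ c : ℂ, ∀ v, ρ g v = c • v := by
  haveI := hirr
  obtain ⟨c, hc⟩ := schur_scalar ρ (ρ g) fun x => by
    rw [← map_mul, ← map_mul, Subgroup.mem_center_iff.mp h x]
  exact ⟨c, fun v => by rw [hc]; simp⟩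

/-- A noncentral element has exactly two invariant lines. -/
theorem two_lines (hinj : Function.Injective ρ) {g : G} (hg : g ∉ Subgroup.center G) :
    ∃ e : Fin 2 → (Fin 2 → ℂ), (∀ i, e i ≠ 0) ∧ (∀ i, ∃ c : ℂ, ρ g (e i) = c • e i) ∧
      (ℂ ∙ e 0) ≠ (ℂ ∙ e 1) ∧
      ∀ v : Fin 2 → ℂ, v ≠ 0 → ∀ c : ℂ, ρ g v = c • v → ∃ i, (ℂ ∙ v) = ℂ ∙ e i := by
  obtain ⟨b₀, ω₀, -, hb₀⟩ := exists_eigenbasis ρ g
  have hfr : Module.finrank ℂ (Fin 2 → ℂ) = 2 := by simp
  let b := b₀.reindex (finCongr hfr)
  let ω : Fin 2 → ℂ := fun i => ω₀ ((finCongr hfr).symm i)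
  have hb : ∀ i, ρ g (b i) = ω i • b i := fun i => by
    simp only [b, ω, Module.Basis.reindex_apply]; exact hb₀ _
  have hω : ω 0 ≠ ω 1 := by
    intro he
    refine hg (mem_center_of_scalar hinj (c := ω 0) fun v => ?_)
    have : ρ g = ω 0 • LinearMap.id := b.ext fun i => by
      rw [hb]
      fin_cases i
      · rfl
      · change ω 1 • b 1 = _; rw [← he]; rfl
    rw [this]; rfl
  refine ⟨b, fun i => b.ne_zero i, fun i => ⟨ω i, hb i⟩, ?_, ?_⟩
  · intro he
    have hm : b 0 ∈ ℂ ∙ b 1 := he ▸ Submodule.mem_span_singleton_self _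
    obtain ⟨c, hc⟩ := Submodule.mem_span_singleton.mp hm
    have := congrArg (fun v => b.repr v 0) hc
    simp at this
  · intro v hv c hc
    have hcoord : ∀ i, ω i * b.repr v i = c * b.repr v i := by
      intro i
      have hv' : ρ g v = ∑ j, (b.repr v j * ω j) • b j := by
        conv_lhs => rw [← b.sum_repr v]
        simp only [map_sum, map_smul, hb, smul_smul]
      have h1 := congrArg (fun w => b.repr w i) (hv'.symm.trans hc)
      simp only [b.repr_sum_self, map_smul, Finsupp.smul_apply, smul_eq_mul] at h1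
      rw [mul_comm]; exact h1
    by_cases h0 : b.repr v 0 = 0
    · refine ⟨1, ?_⟩
      have h1 : b.repr v 1 ≠ 0 := fun h1 => hv (by
        rw [← b.sum_repr v, Fin.sum_univ_two, h0, h1]; simp)
      rw [← b.sum_repr v, Fin.sum_univ_two, h0, zero_smul, zero_add]
      exact Submodule.span_singleton_smul_eq (Ne.isUnit h1) _
    · refine ⟨0, ?_⟩
      have h1 : b.repr v 1 = 0 := by
        by_contra h1
        exact hω ((mul_right_cancel₀ h0 (hcoord 0)).trans (mul_right_cancel₀ h1 (hcoord 1)).symm)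
      rw [← b.sum_repr v, Fin.sum_univ_two, h1, zero_smul, add_zero]
      exact Submodule.span_singleton_smul_eq (Ne.isUnit h0) _

/-- The poles: lines fixed by some noncentral element. -/
def Pole (ρ : Representation ℂ G (Fin 2 → ℂ)) : Type :=
  {L : Submodule ℂ (Fin 2 → ℂ) // ∃ v : Fin 2 → ℂ, v ≠ 0 ∧ L = ℂ ∙ v ∧
    ∃ g ∉ Subgroup.center G, ∃ c : ℂ, ρ g v = c • v}

omit [Finite G] in
theorem rep_ne_zero (x : G) {v : Fin 2 → ℂ} (hv : v ≠ 0) : ρ x v ≠ 0 := by
  intro h0
  have h : ρ x⁻¹ (ρ x v) = v := by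
    rw [← Module.End.mul_apply, ← map_mul, inv_mul_cancel, map_one, Module.End.one_apply]
  rw [h0, map_zero] at h
  exact hv h.symm

/-- The action on poles. -/
@[reducible] def poleAction (ρ : Representation ℂ G (Fin 2 → ℂ)) : MulAction G (Pole ρ) where
  smul x L := ⟨L.1.map (ρ x), by
    obtain ⟨v, hv, hL, g, hg, c, hc⟩ := L.2
    refine ⟨ρ x v, rep_ne_zero x hv, ?_, x * g * x⁻¹, ?_, c, ?_⟩
    · rw [hL, Submodule.map_span, Set.image_singleton]
    · intro hmem
      refine hg ?_
      simpa [mul_assoc] using (inferInstance : (Subgroup.center G).Normal).conj_mem _ hmem x⁻¹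
    · rw [← Module.End.mul_apply, ← map_mul, show x * g * x⁻¹ * x = x * g by group, map_mul,
        Module.End.mul_apply, hc, map_smul]⟩
  one_smul L := Subtype.ext (by
    change L.1.map (ρ 1) = L.1
    rw [map_one]; exact Submodule.map_id _)
  mul_smul x y L := Subtype.ext (by
    change L.1.map (ρ (x * y)) = (L.1.map (ρ y)).map (ρ x)
    rw [map_mul, ← Submodule.map_comp]; rfl)

omit [Finite G] in
theorem smul_eq_iff {x : G} {L : Pole ρ} {v : Fin 2 → ℂ} (hv : v ≠ 0) (hL : L.1 = ℂ ∙ v) :
    letI := poleAction ρ; x • L = L ↔ ∃ c : ℂ, ρ x v = c • v := by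
  letI := poleAction ρ
  have hval : (x • L).1 = ℂ ∙ ρ x v := by
    change L.1.map (ρ x) = _
    rw [hL, Submodule.map_span, Set.image_singleton]
  constructor
  · intro h
    have hm : ρ x v ∈ ℂ ∙ v := by
      rw [← hL, ← congrArg Subtype.val h, hval]; exact Submodule.mem_span_singleton_self _
    obtain ⟨c, hc⟩ := Submodule.mem_span_singleton.mp hm
    exact ⟨c, hc.symm⟩
  · rintro ⟨c, hc⟩
    have hc0 : c ≠ 0 := fun h0 => rep_ne_zero x hv (by rw [hc, h0, zero_smul])
    exact Subtype.ext (by rw [hval, hL, hc, Submodule.span_singleton_smul_eq (Ne.isUnit hc0) v])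

/-- An invariant line gives reducibility. -/
theorem not_invariant (hirr : ρ.IsIrreducible) {v : Fin 2 → ℂ} (hv : v ≠ 0) :
    ¬ ∀ x : G, ∃ c : ℂ, ρ x v = c • v := by
  intro h
  rcases ((isIrreducible_iff ρ).mp hirr).2 (ℂ ∙ v) (fun x w hw => by
    obtain ⟨a, rfl⟩ := Submodule.mem_span_singleton.mp hw
    obtain ⟨c, hc⟩ := h x
    rw [map_smul, hc, smul_smul]
    exact Submodule.mem_span_singleton.mpr ⟨_, rfl⟩) with h1 | h1
  · exact hv (by simpa using Submodule.span_singleton_eq_bot.mp h1)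
  · have := congrArg (fun W : Submodule ℂ (Fin 2 → ℂ) => Module.finrank ℂ W) h1
    simp [finrank_span_singleton hv, finrank_top] at this

/-- An invariant line of a subgroup of index two gives an induced character. -/
theorem induced_of_index_two [Fintype G] (hirr : ρ.IsIrreducible) {H : Subgroup G} (h2 : H.index = 2)
    {v : Fin 2 → ℂ} (hv : v ≠ 0) (hH : ∀ x : H, ∃ c : ℂ, ρ (x : G) v = c • v) :
    ∃ θ : H → ℂ, IsCharacter H θ ∧ ρ.character = indFun H θ := by
  classical
  haveI := Subgroup.normal_of_index_eq_two h2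
  choose f hf using hH
  have huniq : ∀ (x : G) (a c : ℂ), ρ x v = a • v → ρ x v = c • v → a = c :=
    fun x a c h h' => smul_left_injective ℂ hv (h.symm.trans h')
  let F : H →* ℂ :=
    { toFun := f
      map_one' := huniq 1 _ _ (hf 1) (by simp)
      map_mul' := fun a b => huniq ((a * b : H) : G) _ _ (hf (a * b)) (by
        rw [Subgroup.coe_mul, map_mul, Module.End.mul_apply, hf, map_smul, hf, smul_smul,
          mul_comm]) }
  refine ⟨f, CfsgLib.Induction.isCharacter_monoidHom F, ?_⟩
  obtain ⟨x, hx⟩ : ∃ x : G, ∀ c : ℂ, ρ x v ≠ c • v := by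
    by_contra h
    push Not at h
    exact not_invariant hirr hv h
  have hxH : x ∉ H := fun h => hx _ (hf ⟨x, h⟩)
  let e : Fin 2 → (Fin 2 → ℂ) := ![v, ρ x v]
  have hli : LinearIndependent ℂ e := linearIndependent_fin2.mpr ⟨rep_ne_zero x hv, fun a ha => by
    simp only [e, Matrix.cons_val_zero, Matrix.cons_val_one] at ha
    rcases eq_or_ne a 0 with rfl | ha0
    · exact hv (by rw [← ha, zero_smul])
    · exact hx a⁻¹ (by
        have h1 := congrArg (fun w => a⁻¹ • w) ha
        simpa [smul_smul, ha0] using h1)⟩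
  let b := basisOfLinearIndependentOfCardEqFinrank hli (by simp)
  have hb0 : b 0 = v := by simp [b, e]
  have hb1 : b 1 = ρ x v := by simp [b, e]
  have hcoset : ∀ z : G, z ∈ H ∨ x⁻¹ * z ∈ H := by
    intro z
    rw [or_iff_not_imp_left]
    intro hz
    rw [Subgroup.mul_mem_iff_of_index_two h2, inv_mem_iff]
    exact iff_of_false hxH hz
  funext g
  rw [Representation.character, LinearMap.trace_eq_matrix_trace ℂ b, Matrix.trace, Fin.sum_univ_two]
  simp only [Matrix.diag, LinearMap.toMatrix_apply, hb0, hb1]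
  by_cases hg : g ∈ H
  · have hc2 : x⁻¹ * g * x ∈ H := by
      simpa using (inferInstance : H.Normal).conj_mem g hg x⁻¹
    have e1 : ρ g (ρ x v) = f ⟨_, hc2⟩ • ρ x v := by
      rw [← Module.End.mul_apply, ← map_mul, show g * x = x * (x⁻¹ * g * x) by group, map_mul,
        Module.End.mul_apply]
      have := hf ⟨_, hc2⟩
      rw [this, map_smul]
    have hr0 : b.repr (ρ g v) 0 = f ⟨g, hg⟩ := by
      rw [hf ⟨g, hg⟩, ← hb0, map_smul, Finsupp.smul_apply, b.repr_self]; simp
    have hr1 : b.repr (ρ g (ρ x v)) 1 = f ⟨_, hc2⟩ := by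
      rw [e1, ← hb1, map_smul, Finsupp.smul_apply, b.repr_self]; simp
    rw [hr0, hr1, CfsgLib.Induction.indFun_apply]
    have hsum : ∀ y : G, Cfsg.extendByZero H f (y⁻¹ * g * y) =
        if y ∈ H then f ⟨g, hg⟩ else f ⟨_, hc2⟩ := by
      intro y
      have hcl : ∀ (a : G) (ha : a ∈ H) (z : G), z ∈ H →
          Cfsg.extendByZero H f (z⁻¹ * a * z) = f ⟨a, ha⟩ := by
        intro a ha z hz
        have hm : z⁻¹ * a * z ∈ H := H.mul_mem (H.mul_mem (H.inv_mem hz) ha) hz
        rw [CfsgLib.Induction.extendByZero_mem H f hm,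
          show (⟨_, hm⟩ : H) = (⟨z, hz⟩ : H)⁻¹ * ⟨a, ha⟩ * ⟨z, hz⟩ from Subtype.ext rfl]
        change F _ = F _
        rw [map_mul, map_mul, mul_comm (F _) (F _), mul_assoc, ← map_mul, inv_mul_cancel, map_one,
          mul_one]
      by_cases hy : y ∈ H
      · rw [if_pos hy]; exact hcl g hg y hy
      · rw [if_neg hy, show y⁻¹ * g * y = (x⁻¹ * y)⁻¹ * (x⁻¹ * g * x) * (x⁻¹ * y) by group]
        exact hcl _ hc2 _ ((hcoset y).resolve_left hy)
    simp only [hsum, Finset.sum_ite, Finset.sum_const, nsmul_eq_mul]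
    have hcH : (Finset.univ.filter (· ∈ H)).card = Nat.card H := by
      rw [← Fintype.card_subtype, Nat.card_eq_fintype_card]
    have hcN : (Finset.univ.filter (· ∉ H)).card = Nat.card H := by
      have h1 := (Finset.univ : Finset G).card_filter_add_card_filter_not (· ∈ H)
      have h3 := H.card_mul_index
      rw [Finset.card_univ, ← Nat.card_eq_fintype_card, hcH, ← h3, h2] at h1
      omega
    rw [hcH, hcN]
    have hH0 : (Nat.card H : ℂ) ≠ 0 := Nat.cast_ne_zero.mpr Nat.card_pos.ne'
    field_simp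
  · have hc : x⁻¹ * g ∈ H := (hcoset g).resolve_left hg
    have hgx : g * x ∈ H := by
      rw [Subgroup.mul_mem_iff_of_index_two h2]; exact iff_of_false hg hxH
    have e0 : ρ g v = f ⟨_, hc⟩ • ρ x v := by
      conv_lhs => rw [show g = x * (x⁻¹ * g) by group, map_mul, Module.End.mul_apply, hf ⟨_, hc⟩]
      rw [map_smul]
    have e1 : ρ g (ρ x v) = f ⟨_, hgx⟩ • v := by
      rw [← Module.End.mul_apply, ← map_mul]; exact hf ⟨_, hgx⟩
    have hr0 : b.repr (ρ g v) 0 = 0 := by
      rw [e0, ← hb1, map_smul, Finsupp.smul_apply, b.repr_self]; simp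
    have hr1 : b.repr (ρ g (ρ x v)) 1 = 0 := by
      rw [e1, ← hb0, map_smul, Finsupp.smul_apply, b.repr_self]; simp
    rw [hr0, hr1, add_zero, CfsgLib.Induction.indFun_apply, Finset.sum_eq_zero, mul_zero]
    intro y _
    rw [CfsgLib.Induction.extendByZero_notMem]
    intro hy
    apply hg
    simpa [mul_assoc] using (inferInstance : H.Normal).conj_mem _ hy y

/-- The pole counting arithmetic. -/
theorem arith {k N : ℕ} (o : Fin k → ℕ) (hN : 2 ≤ N)
    (ho : ∀ i, ∃ m, 2 ≤ m ∧ o i * m = N) (h3 : ∀ i, 3 ≤ o i)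
    (heq : (∑ i, o i) + 2 * (N - 1) = k * N) : N = 12 ∨ N = 24 ∨ N = 60 := by
  have hk : k ≤ 3 := by
    have hle : ∑ i, 2 * o i ≤ ∑ _i : Fin k, N := Finset.sum_le_sum fun i _ => by
      obtain ⟨m, hm, hmN⟩ := ho i
      calc 2 * o i = o i * 2 := mul_comm _ _
        _ ≤ o i * m := Nat.mul_le_mul_left _ hm
        _ = N := hmN
    rw [← Finset.mul_sum, Finset.sum_const, Finset.card_univ, Fintype.card_fin, smul_eq_mul] at hle
    by_contra hk
    have : 4 * N ≤ k * N := Nat.mul_le_mul_right N (by omega)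
    omega
  interval_cases k
  · simp at heq; omega
  · rw [Fin.sum_univ_one] at heq
    have := h3 0
    omega
  · rw [Fin.sum_univ_two] at heq
    have := h3 0
    have := h3 1
    omega
  · rw [Fin.sum_univ_three] at heq
    have key : ∀ a b c ma mb mc : ℕ, 2 ≤ ma → ma ≤ mb → mb ≤ mc → a * ma = N → b * mb = N →
        c * mc = N → 3 ≤ c → a + b + c = N + 2 → N = 12 ∨ N = 24 ∨ N = 60 := by
      intro a b c ma mb mc hma hab hbc ha hb hc hc3 hsum
      have hma2 : ma = 2 := by
        by_contra hne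
        have h1 : a * 3 ≤ a * ma := Nat.mul_le_mul_left _ (by omega)
        have h2 : b * 3 ≤ b * mb := Nat.mul_le_mul_left _ (by omega)
        have h3 : c * 3 ≤ c * mc := Nat.mul_le_mul_left _ (by omega)
        omega
      subst hma2
      have hmb : mb ≤ 3 := by
        by_contra hne
        have h2 : b * 4 ≤ b * mb := Nat.mul_le_mul_left _ (by omega)
        have h3 : c * 4 ≤ c * mc := Nat.mul_le_mul_left _ (by omega)
        omega
      interval_cases mb
      · omega
      · have hmc : mc ≤ 5 := by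
          by_contra hne
          have h3 : c * 6 ≤ c * mc := Nat.mul_le_mul_left _ (by omega)
          omega
        interval_cases mc <;> omega
    obtain ⟨m0, hm0, e0⟩ := ho 0
    obtain ⟨m1, hm1, e1⟩ := ho 1
    obtain ⟨m2, hm2, e2⟩ := ho 2
    have hsum : o 0 + o 1 + o 2 = N + 2 := by omega
    rcases le_total m0 m1 with h01 | h01 <;> rcases le_total m1 m2 with h12 | h12 <;>
      rcases le_total m0 m2 with h02 | h02
    all_goals first
      | exact key _ _ _ _ _ _ hm0 h01 h12 e0 e1 e2 (h3 2) hsum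
      | exact key _ _ _ _ _ _ hm0 h02 h12 e0 e2 e1 (h3 1) (by omega)
      | exact key _ _ _ _ _ _ hm1 h01 h02 e1 e0 e2 (h3 2) (by omega)
      | exact key _ _ _ _ _ _ hm1 h12 h02 e1 e2 e0 (h3 0) (by omega)
      | exact key _ _ _ _ _ _ hm2 h02 h01 e2 e0 e1 (h3 1) (by omega)
      | exact key _ _ _ _ _ _ hm2 h12 h01 e2 e1 e0 (h3 0) (by omega)

/-- The centre of a primitive linear group of degree two has index 12, 24 or 60. -/
theorem center_index [Fintype G] (hirr : ρ.IsIrreducible) (hinj : Function.Injective ρ)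
    (hprim : ∀ H : Subgroup G, H ≠ ⊤ → ∀ θ : H → ℂ, IsCharacter H θ → ρ.character ≠ indFun H θ) :
    (Subgroup.center G).index = 12 ∨ (Subgroup.center G).index = 24 ∨
      (Subgroup.center G).index = 60 := by
  classical
  set Z := Subgroup.center G
  set N := Z.index
  have hN : 2 ≤ N := by
    by_contra hlt
    have h1 : N = 1 := by
      have : N ≠ 0 := Subgroup.index_ne_zero_of_finite
      omega
    have htop : Z = ⊤ := Subgroup.index_eq_one.mp h1
    have hv : (Pi.single 0 1 : Fin 2 → ℂ) ≠ 0 := fun h => by simpa using congrFun h 0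
    exact not_invariant hirr hv fun x =>
      let ⟨c, hc⟩ := scalar_of_mem_center hirr (show x ∈ Z by rw [htop]; trivial)
      ⟨c, hc _⟩
  letI := poleAction ρ
  choose e he0 hec hne hall using fun g : {g : G // g ∉ Z} => two_lines hinj g.2
  let mkP : {g : G // g ∉ Z} × Fin 2 → Pole ρ := fun q =>
    ⟨ℂ ∙ e q.1 q.2, e q.1 q.2, he0 _ _, rfl, q.1.1, q.1.2, hec _ _⟩
  have hsurj : Function.Surjective mkP := by
    rintro ⟨L, v, hv, hL, g, hg, c, hc⟩
    obtain ⟨i, hi⟩ := hall ⟨g, hg⟩ v hv c hc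
    exact ⟨(⟨g, hg⟩, i), Subtype.ext (hL.trans hi).symm⟩
  haveI : Finite (Pole ρ) := Finite.of_surjective mkP hsurj
  haveI : Fintype (Pole ρ) := Fintype.ofFinite _
  have hfix : ∀ g : G, Nat.card (MulAction.fixedBy (Pole ρ) g) =
      if g ∈ Z then Nat.card (Pole ρ) else 2 := by
    intro g
    split_ifs with hg
    · obtain ⟨c, hc⟩ := scalar_of_mem_center hirr hg
      refine Nat.card_congr (Equiv.subtypeUnivEquiv fun L => ?_)
      obtain ⟨v, hv, hL, -⟩ := L.2
      exact (smul_eq_iff hv hL).mpr ⟨c, hc v⟩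
    · let f : Fin 2 → MulAction.fixedBy (Pole ρ) g := fun i =>
        ⟨mkP (⟨g, hg⟩, i), (smul_eq_iff (he0 ⟨g, hg⟩ i) rfl).mpr (hec ⟨g, hg⟩ i)⟩
      have hf : Function.Bijective f := by
        constructor
        · intro i j hij
          have h := congrArg (fun q : MulAction.fixedBy (Pole ρ) g => q.1.1) hij
          fin_cases i <;> fin_cases j
          · rfl
          · exact absurd h (hne ⟨g, hg⟩)
          · exact absurd h.symm (hne ⟨g, hg⟩)
          · rfl
        · rintro ⟨L, hL'⟩
          obtain ⟨v, hv, hL, -⟩ := L.2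
          obtain ⟨c, hc⟩ := (smul_eq_iff hv hL).mp hL'
          obtain ⟨i, hi⟩ := hall ⟨g, hg⟩ v hv c hc
          exact ⟨i, Subtype.ext (Subtype.ext (hL.trans hi).symm)⟩
      rw [← Nat.card_congr (Equiv.ofBijective f hf), Nat.card_eq_fintype_card, Fintype.card_fin]
  let Ω := MulAction.orbitRel.Quotient G (Pole ρ)
  haveI : Fintype Ω := Fintype.ofFinite _
  haveI : ∀ g : G, Fintype (MulAction.fixedBy (Pole ρ) g) := fun g => Fintype.ofFinite _
  have hburn := MulAction.sum_card_fixedBy_eq_card_orbits_mul_card_group G (Pole ρ)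
  simp only [← Nat.card_eq_fintype_card, hfix] at hburn
  rw [Finset.sum_ite, Finset.sum_const, Finset.sum_const, smul_eq_mul, smul_eq_mul] at hburn
  have hcZ : (Finset.univ.filter (· ∈ Z)).card = Nat.card Z := by
    rw [← Fintype.card_subtype, Nat.card_eq_fintype_card]
  have hcN : (Finset.univ.filter (· ∉ Z)).card = Nat.card Z * (N - 1) := by
    have h1 := (Finset.univ : Finset G).card_filter_add_card_filter_not (· ∈ Z)
    rw [Finset.card_univ, ← Nat.card_eq_fintype_card, hcZ, ← Z.card_mul_index] at h1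
    change _ = Nat.card Z * N at h1
    rw [Nat.mul_sub_one]
    omega
  let k := Fintype.card Ω
  let w : Fin k → Pole ρ := fun i => ((Fintype.equivFin Ω).symm i).out
  let o : Fin k → ℕ := fun i => (MulAction.stabilizer G (w i)).index
  have hX : Nat.card (Pole ρ) = ∑ i, o i := by
    rw [Nat.card_congr (MulAction.selfEquivSigmaOrbitsQuotientStabilizer G (Pole ρ)), Nat.card_sigma,
      ← (Fintype.equivFin Ω).symm.sum_comp]
    rfl
  have heq : (∑ i, o i) + 2 * (N - 1) = k * N := by
    rw [hcZ, hcN, hX, ← Z.card_mul_index] at hburn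
    apply Nat.eq_of_mul_eq_mul_left (Nat.card_pos (α := Z))
    rw [Nat.card_eq_fintype_card (α := MulAction.orbitRel.Quotient G (Pole ρ))] at hburn
    calc Nat.card Z * ((∑ i, o i) + 2 * (N - 1))
        = Nat.card Z * (∑ i, o i) + Nat.card Z * (N - 1) * 2 := by ring
      _ = _ := hburn
      _ = Nat.card Z * (k * N) := by ring
  refine arith o hN ?_ ?_ heq
  · intro i
    obtain ⟨v, hv, hL, g, hg, hc⟩ := (w i).2
    have hle : Z ≤ MulAction.stabilizer G (w i) := fun z hz => by
      obtain ⟨c, hc⟩ := scalar_of_mem_center hirr hz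
      exact (smul_eq_iff hv hL).mpr ⟨c, hc v⟩
    have hgs : g ∈ MulAction.stabilizer G (w i) := (smul_eq_iff hv hL).mpr hc
    refine ⟨Z.relIndex (MulAction.stabilizer G (w i)), ?_, ?_⟩
    · have h0 : Z.relIndex (MulAction.stabilizer G (w i)) ≠ 0 := Subgroup.index_ne_zero_of_finite
      have h1 : Z.relIndex (MulAction.stabilizer G (w i)) ≠ 1 := fun h =>
        hg (Subgroup.relIndex_eq_one.mp h hgs)
      omega
    · rw [mul_comm]; exact Subgroup.relIndex_mul_index hle
  · intro i
    obtain ⟨v, hv, hL, -⟩ := (w i).2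
    have h0 : o i ≠ 0 := Subgroup.index_ne_zero_of_finite
    have h1 : o i ≠ 1 := fun h => not_invariant hirr hv fun x =>
      (smul_eq_iff hv hL).mp (show x • w i = w i from
        MulAction.mem_stabilizer_iff.mp (by rw [Subgroup.index_eq_one.mp h]; trivial))
    have h2 : o i ≠ 2 := fun h => by
      obtain ⟨θ, hθ, he⟩ := induced_of_index_two hirr h hv fun x =>
        (smul_eq_iff hv hL).mp (MulAction.mem_stabilizer_iff.mp x.2)
      refine hprim _ (fun ht => ?_) θ hθ he
      change (MulAction.stabilizer G (w i)).index = 2 at h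
      rw [ht, Subgroup.index_top] at h
      omega
    omega

end CfsgLib.DegreeTwo
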