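import Mathlib

/-!
The integral vectors behind the principal block of a group with a dihedral Sylow 2-subgroup.
-/

set_option autoImplicit false

namespace CfsgLib.DihedralLattice

variable {ι : Type*} [Fintype ι]

/-- Three entries of absolute value one, or two. -/
theorem support_of_sq {v : ι → ℤ} {r : ℕ} (h : ∑ i, v i ^ 2 = r) (hr : r < 4) :
    (Finset.univ.filter fun i => v i ≠ 0).card = r ∧ ∀ i, v i ≠ 0 → v i = 1 ∨ v i = -1 := by
  classical
  have h1 : ∀ i, v i = 0 ∨ v i = 1 ∨ v i = -1 := fun i => by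
    have hle : v i ^ 2 ≤ r := h ▸ Finset.single_le_sum (f := fun i => v i ^ 2)
      (fun j _ => sq_nonneg _) (Finset.mem_univ i)
    have : (r : ℤ) < 4 := by exact_mod_cast hr
    have hlo : -1 ≤ v i := by nlinarith
    have hhi : v i ≤ 1 := by nlinarith
    omega
  refine ⟨?_, fun i hi => (h1 i).resolve_left hi⟩
  have : ∑ i, v i ^ 2 = ((Finset.univ.filter fun i => v i ≠ 0).card : ℤ) := by
    rw [Finset.card_filter, Nat.cast_sum]
    refine Finset.sum_congr rfl fun i _ => ?_
    rcases h1 i with e | e | e <;> simp [e]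
  rw [this] at h
  exact_mod_cast h

/-- Inner product one against a vector with two entries `±1`: one common entry, of equal sign. -/
theorem common {v w : ι → ℤ} (hv : ∑ i, v i ^ 2 = 2) (hw : ∀ i, w i ≠ 0 → w i = 1 ∨ w i = -1)
    (h : ∑ i, v i * w i = 1) :
    ∃ c, v c ≠ 0 ∧ w c = v c ∧ ∀ i, v i ≠ 0 → w i ≠ 0 → i = c := by
  classical
  obtain ⟨hcard, hv1⟩ := support_of_sq (r := 2) (by exact_mod_cast hv) (by norm_num)
  obtain ⟨a, b, hab, hs⟩ := Finset.card_eq_two.mp hcard
  have hmem : ∀ i, v i ≠ 0 ↔ i = a ∨ i = b := fun i => by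
    have := congrArg (i ∈ ·) hs
    simpa using this
  rw [show ∑ i, v i * w i = ∑ i ∈ ({a, b} : Finset ι), v i * w i from
    (Finset.sum_subset (Finset.subset_univ _) fun i _ hi => by
      have : v i = 0 := by
        by_contra h0
        exact hi (by simpa using (hmem i).mp h0)
      rw [this, zero_mul]).symm, Finset.sum_pair hab] at h
  have va := hv1 a ((hmem a).mpr (Or.inl rfl))
  have vb := hv1 b ((hmem b).mpr (Or.inr rfl))
  by_cases ha : w a = 0
  · refine ⟨b, (hmem b).mpr (Or.inr rfl), ?_, fun i hi hwi => ?_⟩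
    · rw [ha, mul_zero, zero_add] at h
      rcases vb with e | e <;> rw [e] at h ⊢ <;> omega
    · rcases (hmem i).mp hi with rfl | rfl
      · exact absurd ha hwi
      · rfl
  · have hwb : w b = 0 := by
      by_contra hb
      rcases va with e1 | e1 <;> rcases vb with e2 | e2 <;> rcases hw a ha with e3 | e3 <;>
        rcases hw b hb with e4 | e4 <;> rw [e1, e2, e3, e4] at h <;> norm_num at h
    refine ⟨a, (hmem a).mpr (Or.inl rfl), ?_, fun i hi hwi => ?_⟩
    · rw [hwb, mul_zero, add_zero] at h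
      rcases va with e | e <;> rw [e] at h ⊢ <;> omega
    · rcases (hmem i).mp hi with rfl | rfl
      · rfl
      · exact absurd hwb hwi

/-- The classification of the vectors. -/
theorem structure_thm {h : ℕ} (hh : h = 2 ∨ 4 ≤ h) (x : ι → ℤ) (hx : ∀ i, 0 < x i)
    (v : ℕ → ι → ℤ)
    (hgram : ∀ k k', 1 ≤ k → k ≤ h → 1 ≤ k' → k' ≤ h → ∑ i, v k i * v k' i =
      1 + (if k = k' then 1 else 0) + (if k = h ∧ k' = h then 1 else 0))
    (hdeg : ∀ k, 1 ≤ k → k ≤ h → ∑ i, v k i * x i = 1)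
    (hcov : ∀ i, ∃ k, 1 ≤ k ∧ k ≤ h ∧ v k i ≠ 0) :
    ∃ (c a b : ι) (L : ℕ → ι) (δ₁ δ₂ δ₃ : ℤ),
      (δ₁ = 1 ∨ δ₁ = -1) ∧ (δ₂ = 1 ∨ δ₂ = -1) ∧ (δ₃ = 1 ∨ δ₃ = -1) ∧
      c ≠ a ∧ c ≠ b ∧ a ≠ b ∧
      (∀ k, 1 ≤ k → k < h → L k ≠ c ∧ L k ≠ a ∧ L k ≠ b) ∧
      (∀ k k', 1 ≤ k → k < h → 1 ≤ k' → k' < h → L k = L k' → k = k') ∧
      (∀ i, i = c ∨ i = a ∨ i = b ∨ ∃ k, 1 ≤ k ∧ k < h ∧ i = L k) ∧
      (∀ k, 1 ≤ k → k < h → v k c = -δ₁ ∧ v k (L k) = δ₁ ∧ ∀ i, i ≠ c → i ≠ L k → v k i = 0) ∧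
      v h c = -δ₁ ∧ v h a = -δ₂ ∧ v h b = -δ₃ ∧ ∀ i, i ≠ c → i ≠ a → i ≠ b → v h i = 0 := by
  classical
  have hh1 : 1 < h := by omega
  have hsq : ∀ k, 1 ≤ k → k < h → ∑ i, v k i ^ 2 = 2 := fun k h1 h2 => by
    have := hgram k k h1 h2.le h1 h2.le
    rw [if_pos rfl, if_neg (by omega)] at this
    simp only [← pow_two] at this
    omega
  have hsqh : ∑ i, v h i ^ 2 = 3 := by
    have := hgram h h hh1.le le_rfl hh1.le le_rfl
    rw [if_pos rfl, if_pos ⟨rfl, rfl⟩] at this
    simp only [← pow_two] at this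
    omega
  obtain ⟨hcardh, hvh⟩ := support_of_sq (r := 3) (by exact_mod_cast hsqh) (by norm_num)
  have hpm : ∀ k, 1 ≤ k → k ≤ h → ∀ i, v k i ≠ 0 → v k i = 1 ∨ v k i = -1 := fun k h1 h2 => by
    rcases Nat.lt_or_ge k h with hlt | hge
    · exact (support_of_sq (r := 2) (by exact_mod_cast hsq k h1 hlt) (by norm_num)).2
    · rw [le_antisymm h2 hge]; exact hvh
  have hinner : ∀ k k', 1 ≤ k → k < h → 1 ≤ k' → k' ≤ h → k ≠ k' →
      ∃ c, v k c ≠ 0 ∧ v k' c = v k c ∧ ∀ i, v k i ≠ 0 → v k' i ≠ 0 → i = c := by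
    intro k k' h1 h2 h1' h2' hne
    refine common (hsq k h1 h2) (hpm k' h1' h2') ?_
    rw [hgram k k' h1 h2.le h1' h2', if_neg hne, if_neg (by omega)]
    norm_num
  -- the centre
  obtain ⟨c, hc2', hc⟩ : ∃ c, (h = 2 → v h c = v 1 c) ∧
      ∀ k, 1 ≤ k → k < h → v k c ≠ 0 ∧ v k c = v 1 c := by
    rcases hh with rfl | h4
    · obtain ⟨c, hc, hc', -⟩ := hinner 1 2 le_rfl one_lt_two (by norm_num) le_rfl (by norm_num)
      refine ⟨c, fun _ => hc', fun k h1 h2 => ?_⟩
      obtain rfl : k = 1 := by omega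
      exact ⟨hc, rfl⟩
    · obtain ⟨c, hc1, hc2, huniq⟩ := hinner 1 2 le_rfl (by omega) (by norm_num) (by omega) (by norm_num)
      refine ⟨c, fun e => absurd e (by omega), fun k h1 h2 => ?_⟩
      by_cases hkc : v k c = 0
      · exfalso
        have hk1 : k ≠ 1 := fun e => hc1 (e ▸ hkc)
        have hk2 : k ≠ 2 := fun e => hc1 (by rw [← hc2, ← e]; exact hkc)
        obtain ⟨l, hl1, hl1', -⟩ := hinner 1 k le_rfl (by omega) h1 h2.le (Ne.symm hk1)
        obtain ⟨l', hl2, hl2', -⟩ := hinner 2 k (by norm_num) (by omega) h1 h2.le (Ne.symm hk2)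
        have hlc : l ≠ c := fun e => hl1 (by rw [← hl1', e]; exact hkc)
        have hl'c : l' ≠ c := fun e => hl2 (by rw [← hl2', e]; exact hkc)
        have hll : l ≠ l' := fun e => hlc (huniq l hl1 (e ▸ hl2))
        have two : ∀ j (a b : ι), 1 ≤ j → j < h → v j a ≠ 0 → v j b ≠ 0 → a ≠ b →
            v j a * x a + v j b * x b = 1 := by
          intro j a b hj1 hj2 ha hb hab
          have hd := hdeg j hj1 hj2.le
          have hs := (support_of_sq (r := 2) (by exact_mod_cast hsq j hj1 hj2) (by norm_num)).1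
          have hsub : ({a, b} : Finset ι) = Finset.univ.filter fun i => v j i ≠ 0 :=
            Finset.eq_of_subset_of_card_le (by simp [Finset.insert_subset_iff, ha, hb])
              (by rw [hs, Finset.card_pair hab])
          rw [show ∑ i, v j i * x i = ∑ i ∈ ({a, b} : Finset ι), v j i * x i from
            (Finset.sum_subset (Finset.subset_univ _) fun i _ hi => by
              rw [hsub] at hi
              have : v j i = 0 := by simpa using hi
              rw [this, zero_mul]).symm, Finset.sum_pair hab] at hd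
          exact hd
        have e1 := two 1 c l le_rfl (by omega) hc1 hl1 hlc.symm
        have e2 := two 2 c l' (by norm_num) (by omega) (by rw [hc2]; exact hc1) hl2 hl'c.symm
        have e3 := two k l l' h1 h2 (by rw [hl1']; exact hl1) (by rw [hl2']; exact hl2) hll
        rw [hc2] at e2
        rw [hl1', hl2'] at e3
        omega
      · refine ⟨hkc, ?_⟩
        by_cases hk1 : k = 1
        · rw [hk1]
        obtain ⟨l, hl, hlv, hlu⟩ := hinner 1 k le_rfl (by omega) h1 h2.le (Ne.symm hk1)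
        rw [hlu c hc1 hkc]
        exact hlv
  have hc1 := hc 1 le_rfl hh1
  set δ₁ := - v 1 c with hδ₁
  have hvc : ∀ k, 1 ≤ k → k < h → v k c = -δ₁ := fun k h1 h2 => by
    rw [hδ₁, neg_neg]; exact (hc k h1 h2).2
  have hδ₁' : δ₁ = 1 ∨ δ₁ = -1 := by
    rcases hpm 1 le_rfl hh1.le c hc1.1 with e | e <;> rw [hδ₁, e] <;> norm_num
  -- the leaves
  have hleaf : ∀ k, ∃ l, 1 ≤ k → k < h → l ≠ c ∧ v k l ≠ 0 ∧ ∀ i, i ≠ c → i ≠ l → v k i = 0 := by
    intro k
    by_cases hk : 1 ≤ k ∧ k < h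
    · have hs := (support_of_sq (r := 2) (by exact_mod_cast hsq k hk.1 hk.2) (by norm_num)).1
      obtain ⟨a, b, hab, hS⟩ := Finset.card_eq_two.mp hs
      have hmem : ∀ i, v k i ≠ 0 ↔ i = a ∨ i = b := fun i => by
        have := congrArg (i ∈ ·) hS
        simpa using this
      rcases (hmem c).mp (hc k hk.1 hk.2).1 with e | e
      · refine ⟨b, fun _ _ => ⟨fun h' => hab (by rw [← e, h']), (hmem b).mpr (Or.inr rfl),
          fun i h1 h2 => ?_⟩⟩
        by_contra h0
        rcases (hmem i).mp h0 with r | r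
        · exact h1 (r.trans e.symm)
        · exact h2 r
      · refine ⟨a, fun _ _ => ⟨fun h' => hab (by rw [← e, h']), (hmem a).mpr (Or.inl rfl),
          fun i h1 h2 => ?_⟩⟩
        by_contra h0
        rcases (hmem i).mp h0 with r | r
        · exact h2 r
        · exact h1 (r.trans e.symm)
    · exact ⟨c, fun h1 h2 => absurd ⟨h1, h2⟩ hk⟩
  choose L hL using hleaf
  have hLdeg : ∀ k, 1 ≤ k → k < h → v k (L k) * x (L k) = 1 + δ₁ * x c := fun k h1 h2 => by
    obtain ⟨hne, -, hz⟩ := hL k h1 h2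
    have hd := hdeg k h1 h2.le
    rw [show ∑ i, v k i * x i = ∑ i ∈ ({c, L k} : Finset ι), v k i * x i from
      (Finset.sum_subset (Finset.subset_univ _) fun i _ hi => by
        simp only [Finset.mem_insert, Finset.mem_singleton, not_or] at hi
        rw [hz i hi.1 hi.2, zero_mul]).symm, Finset.sum_pair hne.symm, hvc k h1 h2] at hd
    linarith
  have hLv : ∀ k, 1 ≤ k → k < h → v k (L k) = δ₁ := fun k h1 h2 => by
    have hd := hLdeg k h1 h2
    have p1 := hx c
    have p2 := hx (L k)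
    rcases hpm k h1 h2.le (L k) (hL k h1 h2).2.1 with e | e <;> rcases hδ₁' with e' | e' <;>
      rw [e, e'] at hd ⊢ <;> omega
  have hLinj : ∀ k k', 1 ≤ k → k < h → 1 ≤ k' → k' < h → L k = L k' → k = k' := by
    intro k k' h1 h2 h1' h2' e
    by_contra hne
    obtain ⟨d, hd, -, hu⟩ := hinner k k' h1 h2 h1' h2'.le hne
    have ec := hu c (hc k h1 h2).1 (hc k' h1' h2').1
    have el := hu (L k) (hL k h1 h2).2.1 (e ▸ (hL k' h1' h2').2.1)
    exact (hL k h1 h2).1 (el.trans ec.symm)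
  -- the long vector
  have hhc : v h c = -δ₁ := by
    rcases hh with rfl | h4
    · rw [hc2' rfl]; exact hvc 1 le_rfl one_lt_two
    · by_contra hne
      have hzero : v h c = 0 := by
        by_contra h0
        obtain ⟨d, hd, hd', hu⟩ := hinner 1 h le_rfl hh1 hh1.le le_rfl (by omega)
        apply hne
        rw [hu c hc1.1 h0, hd', ← hu c hc1.1 h0]
        exact hvc 1 le_rfl hh1
      have hall : ∀ k, 1 ≤ k → k < h → v h (L k) = δ₁ := fun k h1 h2 => by
        obtain ⟨d, hd, hd', -⟩ := hinner k h h1 h2 hh1.le le_rfl (by omega)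
        have hdc : d ≠ c := fun e => hd (by rw [← hd', e]; exact hzero)
        have hdL : d = L k := by
          by_contra h'
          exact hd ((hL k h1 h2).2.2 d hdc h')
        rw [← hdL, hd', hdL, hLv k h1 h2]
      have hsub : (Finset.Ico 1 h).image L ⊆ Finset.univ.filter fun i => v h i ≠ 0 := by
        intro i hi
        obtain ⟨k, hk, rfl⟩ := Finset.mem_image.mp hi
        rw [Finset.mem_Ico] at hk
        simp only [Finset.mem_filter, Finset.mem_univ, true_and]
        rw [hall k hk.1 hk.2]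
        rcases hδ₁' with e | e <;> rw [e] <;> norm_num
      have hcardI : ((Finset.Ico 1 h).image L).card = h - 1 := by
        rw [Finset.card_image_of_injOn, Nat.card_Ico]
        intro k hk k' hk' e
        simp only [Finset.coe_Ico, Set.mem_Ico] at hk hk'
        exact hLinj k k' hk.1 hk.2 hk'.1 hk'.2 e
      have hle := Finset.card_le_card hsub
      rw [hcardI, hcardh] at hle
      have h4' : h = 4 := by omega
      have hEq := Finset.eq_of_subset_of_card_le hsub (by rw [hcardI, hcardh]; omega)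
      have hd := hdeg h hh1.le le_rfl
      rw [show ∑ i, v h i * x i = ∑ i ∈ (Finset.Ico 1 h).image L, v h i * x i from
        (Finset.sum_subset (Finset.subset_univ _) fun i _ hi => by
          rw [hEq] at hi
          have : v h i = 0 := by simpa using hi
          rw [this, zero_mul]).symm, Finset.sum_image (fun k hk k' hk' e => by
            simp only [Finset.coe_Ico, Set.mem_Ico, Finset.mem_Ico] at hk hk'
            exact hLinj k k' hk.1 hk.2 hk'.1 hk'.2 e),
        Finset.sum_congr rfl (fun k hk => show v h (L k) * x (L k) = 1 + δ₁ * x c by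
          rw [Finset.mem_Ico] at hk
          have e := hLdeg k hk.1 hk.2
          rw [hLv k hk.1 hk.2] at e
          rw [hall k hk.1 hk.2]
          exact e)] at hd
      subst h4'
      simp only [Finset.sum_const, Nat.card_Ico, nsmul_eq_mul] at hd
      norm_num at hd
      omega
  set S := Finset.univ.filter fun i => v h i ≠ 0 with hS
  have hc0 : δ₁ ≠ 0 := by rcases hδ₁' with e | e <;> rw [e] <;> norm_num
  have hcS : c ∈ S := by simp [hS, hhc, hc0]
  obtain ⟨a, b, hab, hSab⟩ : ∃ a b, a ≠ b ∧ S.erase c = {a, b} :=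
    Finset.card_eq_two.mp (by rw [Finset.card_erase_of_mem hcS, hcardh])
  have hmem : ∀ i, v h i ≠ 0 ∧ i ≠ c ↔ i = a ∨ i = b := fun i => by
    have := congrArg (i ∈ ·) hSab
    simpa [hS, and_comm] using this
  have ha := (hmem a).mpr (Or.inl rfl)
  have hb := (hmem b).mpr (Or.inr rfl)
  have hLh : ∀ k, 1 ≤ k → k < h → v h (L k) = 0 := fun k h1 h2 => by
    by_contra h0
    obtain ⟨d, -, -, hu⟩ := hinner k h h1 h2 hh1.le le_rfl (by omega)
    have ec := hu c (hc k h1 h2).1 (by rw [hhc]; exact neg_ne_zero.mpr hc0)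
    have el := hu (L k) (hL k h1 h2).2.1 h0
    exact (hL k h1 h2).1 (el.trans ec.symm)
  have hz : ∀ i, i ≠ c → i ≠ a → i ≠ b → v h i = 0 := fun i h1 h2 h3 => by
    by_contra h0
    rcases (hmem i).mp ⟨h0, h1⟩ with e | e
    · exact h2 e
    · exact h3 e
  refine ⟨c, a, b, L, δ₁, -v h a, -v h b, hδ₁', ?_, ?_, ha.2.symm, hb.2.symm, hab,
    fun k h1 h2 => ⟨(hL k h1 h2).1, fun e => ha.1 (e ▸ hLh k h1 h2),
      fun e => hb.1 (e ▸ hLh k h1 h2)⟩,
    hLinj, fun i => ?_, fun k h1 h2 => ⟨hvc k h1 h2, hLv k h1 h2, (hL k h1 h2).2.2⟩,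
    hhc, (neg_neg _).symm, (neg_neg _).symm, hz⟩
  · rcases hvh a ha.1 with e | e <;> rw [e] <;> norm_num
  · rcases hvh b hb.1 with e | e <;> rw [e] <;> norm_num
  · obtain ⟨k, h1, h2, hk⟩ := hcov i
    by_cases hic : i = c
    · exact Or.inl hic
    rcases h2.lt_or_eq with hlt | rfl
    · exact Or.inr (Or.inr (Or.inr ⟨k, h1, hlt,
        by_contra fun hne => hk ((hL k h1 hlt).2.2 i hic hne)⟩))
    · rcases (hmem i).mp ⟨hk, hic⟩ with e | e
      · exact Or.inr (Or.inl e)
      · exact Or.inr (Or.inr (Or.inl e))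

end CfsgLib.DihedralLattice
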