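import Cfsg.Agent.Lib.TwoGroups.DihedralFusion
import Cfsg.Agent.Lib.PCore.Basic

/-!
The powers of a rotation in a dihedral Sylow 2-subgroup: fusion and centralisers.
-/

set_option autoImplicit false

namespace CfsgLib.DihedralSigma

open Cfsg DihedralGroup CfsgLib.TwoGroups.DihedralFusion

universe u

variable {G : Type u} [Group G] [Finite G]

theorem r_pow' {m : ℕ} (a : ZMod m) (l : ℕ) :
    (r a : DihedralGroup m) ^ l = r ((l : ZMod m) * a) := by
  rw [r_pow, mul_comm]

theorem sr_pow_two {m : ℕ} (a : ZMod m) : (sr a : DihedralGroup m) * sr a = 1 := sr_mul_self a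

/-- The facts used about the nontrivial powers of `σ`. -/
structure SigmaFacts (P : Sylow 2 G) (n : ℕ) (σ : G) : Prop where
  order : orderOf σ = 2 ^ (n - 1)
  fusion : ∀ l l' : ℕ, 0 < l → l < 2 ^ (n - 1) → 0 < l' → l' < 2 ^ (n - 1) →
    IsConj (σ ^ l) (σ ^ l') → l' = l ∨ l' + l = 2 ^ (n - 1)
  inverted : ∀ l : ℕ, l ≤ 2 ^ (n - 1) → IsConj (σ ^ l) (σ ^ (2 ^ (n - 1) - l))
  core : ∀ l : ℕ, 0 < l → l < 2 ^ (n - 1) →
    ∃ k, (pPrimeCore 2 (Subgroup.centralizer ({σ ^ l} : Set G))).index = 2 ^ k
  twoPart : ∀ l : ℕ, 0 < l → l < 2 ^ (n - 1) →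
    2 ^ (Nat.card (Subgroup.centralizer ({σ ^ l} : Set G))).factorization 2 =
      2 ^ (n - 1) * (if 2 * l = 2 ^ (n - 1) then 2 else 1)
  indexJ : Odd (Subgroup.centralizer ({σ ^ (2 ^ (n - 2))} : Set G)).index

theorem pow_two_factorization_eq {c e : ℕ} (hc : c ≠ 0) (h1 : 2 ^ e ∣ c)
    (h2 : ¬ 2 ^ (e + 1) ∣ c) : c.factorization 2 = e := by
  rw [Nat.prime_two.pow_dvd_iff_le_factorization hc] at h1 h2
  omega

theorem sigmaFacts (P : Sylow 2 G) (n : ℕ) (hn : 3 ≤ n)
    (hP : Nonempty ((P : Subgroup G) ≃* DihedralGroup (2 ^ (n - 1)))) {σ : G}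
    (hσ : σ ∈ (P : Subgroup G)) (hσo : orderOf σ = 2 ^ (n - 1)) : SigmaFacts P n σ := by
  classical
  haveI : Fact (Nat.Prime 2) := ⟨Nat.prime_two⟩
  obtain ⟨e⟩ := hP
  set q := 2 ^ (n - 1) with hq
  have hq2 : q = 2 * 2 ^ (n - 2) := by
    rw [hq, show n - 1 = n - 2 + 1 by omega, pow_succ, mul_comm]
  have hq4 : 4 ≤ q := by
    rw [hq2]
    have : 2 ^ 1 ≤ 2 ^ (n - 2) := Nat.pow_le_pow_right two_pos (by omega)
    omega
  obtain ⟨d, hdS⟩ := exists_data P e (by omega)
  haveI := d.neZero
  have hcardS : Nat.card P = 2 * q := by rw [Nat.card_congr e.toEquiv, DihedralGroup.nat_card]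
  have hcardG : (Nat.card G).factorization 2 = n := by
    have h := Sylow.card_eq_multiplicity P
    rw [hcardS, hq, ← pow_succ', show n - 1 + 1 = n by omega] at h
    exact (Nat.pow_right_injective le_rfl h).symm
  obtain ⟨g, hg⟩ := exists_emb (d := d) (hdS.symm ▸ hσ)
  obtain ⟨a, rfl⟩ : ∃ a, g = r a := by
    rcases g with a | a
    · exact ⟨a, rfl⟩
    · exfalso
      have h2 : σ * σ = 1 := by rw [← hg, ← map_mul, sr_mul_self, map_one]
      have h := orderOf_dvd_of_pow_eq_one (x := σ) (n := 2) (by rw [pow_two]; exact h2)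
      rw [hσo] at h
      have := Nat.le_of_dvd two_pos h
      omega
  have hpow : ∀ l : ℕ, σ ^ l = d.emb (r (l * a)) := fun l => by rw [← hg, ← map_pow, r_pow']
  have hz2 : ∀ x, orderOf (d.emb (r x)) = 2 → d.emb (r x) = d.z := fun x hx => by
    rcases involution_mem_cases (d := d) (emb_mem _) hx with h | ⟨i, hi⟩
    · exact h
    · exact absurd (emb_inj hi) (by simp)
  -- the involution is a power of every nontrivial power
  have hzpow : ∀ l : ℕ, 0 < l → l < q → (σ ^ l) ^ (orderOf (σ ^ l) / 2) = d.z := by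
    intro l h0 hl
    have hne : σ ^ l ≠ 1 := pow_ne_one_of_lt_orderOf h0.ne' (hσo.symm ▸ hl)
    have hd : orderOf (σ ^ l) ∣ 2 ^ (n - 1) := by rw [← hq, ← hσo]; exact orderOf_pow_dvd l
    obtain ⟨i, -, hi⟩ := (Nat.dvd_prime_pow Nat.prime_two).mp hd
    obtain ⟨i, rfl⟩ : ∃ i', i = i' + 1 := by
      refine ⟨i - 1, ?_⟩
      rcases Nat.eq_zero_or_pos i with rfl | h
      · exact absurd (orderOf_eq_one_iff.mp (by simpa using hi)) hne
      · omega
    have ho : orderOf ((σ ^ l) ^ (orderOf (σ ^ l) / 2)) = 2 := by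
      rw [hi, pow_succ, Nat.mul_div_cancel _ two_pos, orderOf_pow' _ (by positivity), hi, pow_succ,
        Nat.gcd_eq_right (dvd_mul_right _ _), Nat.mul_div_cancel_left _ (by positivity)]
    rw [← pow_mul, hpow] at ho ⊢
    exact hz2 _ ho
  have hJz : σ ^ (2 ^ (n - 2)) = d.z := by
    rw [hpow]
    refine hz2 _ ?_
    rw [← hpow, orderOf_pow' _ (by positivity), hσo, hq2, Nat.gcd_eq_right (dvd_mul_left _ _),
      Nat.mul_div_cancel _ (by positivity)]
  have hCle : ∀ l : ℕ, 0 < l → l < q →
      Subgroup.centralizer ({σ ^ l} : Set G) ≤ Subgroup.centralizer ({d.z} : Set G) := by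
    intro l h0 hl x hx
    rw [Subgroup.mem_centralizer_singleton_iff] at hx ⊢
    rw [← hzpow l h0 hl]
    exact (Commute.pow_right hx _).eq
  have hneg : ∀ x : ZMod q, sr 0 * r x * (sr 0)⁻¹ = (r (-x) : DihedralGroup q) := fun x => by
    rw [inv_sr, sr_mul_r, sr_mul_sr]
    simp
  have hconjr : ∀ (s : DihedralGroup q) (x : ZMod q), s * r x * s⁻¹ = r x ∨ s * r x * s⁻¹ = r (-x) := by
    intro s x
    rcases s with b | b
    · left; rw [inv_r, r_mul_r, r_mul_r]; simp
    · right; rw [inv_sr, sr_mul_r, sr_mul_sr]; simp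
  have hinv : ∀ l : ℕ, l ≤ q → IsConj (σ ^ l) (σ ^ (q - l)) := by
    intro l hl
    refine isConj_iff.mpr ⟨d.emb (sr 0), ?_⟩
    have h1 : σ ^ (q - l) = (σ ^ l)⁻¹ := by
      rw [eq_inv_iff_mul_eq_one, ← pow_add, Nat.sub_add_cancel hl, ← hσo, pow_orderOf_eq_one]
    rw [h1, hpow, ← map_inv d.emb (r _), ← map_inv, ← map_mul, ← map_mul, hneg, inv_r]
  refine ⟨hσo, ?_, hinv, ?_, ?_, ?_⟩
  · intro l l' h0 hl h0' hl' hc
    change l < q at hl
    change l' < q at hl'
    show l' = l ∨ l' + l = q
    obtain ⟨c, hc⟩ := isConj_iff.mp hc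
    have hcz : c * d.z = d.z * c := by
      have h := hzpow l' h0' hl'
      rw [← hc, CfsgLib.Involutions.orderOf_conj_eq, conj_pow, hzpow l h0 hl] at h
      exact mul_inv_eq_iff_eq_mul.mp h
    obtain ⟨s, hs, hfus⟩ := centralizer_z_control hcz
    have hP' : ∀ k : ℕ, σ ^ k ∈ (d.S : Subgroup G) := fun k => by rw [hpow]; exact emb_mem _
    have h := hfus (σ ^ l) (hP' l) (hc.symm ▸ hP' l')
    rw [hc] at h
    obtain ⟨s', rfl⟩ := exists_emb hs
    rw [hpow l, ← map_inv, ← map_mul, ← map_mul] at h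
    have hinj : ∀ k : ℕ, k ≤ q → σ ^ l' = σ ^ k → l' = k % q := fun k _ hk => by
      rw [pow_eq_pow_iff_modEq, hσo] at hk
      rw [← Nat.mod_eq_of_lt hl']
      exact hk
    rcases hconjr s' (l * a) with e1 | e1
    · rw [e1, ← hpow] at h
      exact Or.inl ((hinj l hl.le h).trans (Nat.mod_eq_of_lt hl))
    · rw [e1, ← inv_r, map_inv, ← hpow] at h
      have h1 : σ ^ (q - l) = (σ ^ l)⁻¹ := by
        rw [eq_inv_iff_mul_eq_one, ← pow_add, Nat.sub_add_cancel hl.le, ← hσo, pow_orderOf_eq_one]
      rw [← h1] at h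
      have := (hinj (q - l) (Nat.sub_le _ _) h).trans (Nat.mod_eq_of_lt (by omega))
      omega
  · intro l h0 hl
    obtain ⟨N, hN, hNodd, k, hk⟩ := Cfsg.Agent.S0514.result d.S q (by omega) ⟨d.eS⟩ d.z orderOf_z
    haveI := hN
    set C := Subgroup.centralizer ({σ ^ l} : Set G)
    let f : C →* Subgroup.centralizer ({d.z} : Set G) ⧸ N :=
      (QuotientGroup.mk' N).comp (Subgroup.inclusion (hCle l h0 hl))
    have hidx : f.ker.index ∣ 2 ^ k := by
      rw [Subgroup.index_ker, ← hk, Subgroup.index_eq_card]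
      exact Subgroup.card_subgroup_dvd_card _
    have hodd : (Nat.card f.ker).Coprime 2 := by
      let g : f.ker →* N :=
        { toFun := fun x => ⟨Subgroup.inclusion (hCle l h0 hl) x.1, (QuotientGroup.eq_one_iff _).mp x.2⟩
          map_one' := rfl
          map_mul' := fun _ _ => rfl }
      have hg' : Function.Injective g := fun x y h => by
        apply Subtype.ext
        exact Subgroup.inclusion_injective (hCle l h0 hl) (congrArg Subtype.val h)
      have := Subgroup.card_dvd_of_injective g hg'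
      exact Nat.Coprime.coprime_dvd_left this (Nat.coprime_two_right.mpr hNodd)
    have hle := CfsgLib.PCore.le_pPrimeCore (p := 2) (MonoidHom.normal_ker f) hodd
    obtain ⟨j, -, hj⟩ := (Nat.dvd_prime_pow Nat.prime_two).mp
      ((Subgroup.index_dvd_of_le hle).trans hidx)
    exact ⟨j, hj⟩
  · intro l h0 hl
    set C := Subgroup.centralizer ({σ ^ l} : Set G) with hC
    have hC0 : Nat.card C ≠ 0 := Nat.card_pos.ne'
    have hdvdG : Nat.card C ∣ Nat.card G := Subgroup.card_subgroup_dvd_card C
    have hle : ¬ 2 ^ (n + 1) ∣ Nat.card C := fun h => by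
      have h' := h.trans hdvdG
      rw [Nat.prime_two.pow_dvd_iff_le_factorization Nat.card_pos.ne', hcardG] at h'
      omega
    by_cases hJl : 2 * l = q
    · have el : l = 2 ^ (n - 2) := by omega
      have hSC : (d.S : Subgroup G) ≤ C := by
        rw [hC, el, hJz]; exact S_le_centralizer_z
      have h2 : 2 ^ n ∣ Nat.card C := by
        refine dvd_trans ?_ (Subgroup.card_dvd_of_le hSC)
        rw [hdS]
        show 2 ^ n ∣ Nat.card P
        rw [hcardS, hq, ← pow_succ', show n - 1 + 1 = n by omega]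
      rw [pow_two_factorization_eq hC0 h2 hle, if_pos hJl, ← pow_succ,
        show n - 1 + 1 = n by omega]
    · have h1 : q ∣ Nat.card C := by
        rw [← hσo, ← Nat.card_zpowers]
        refine Subgroup.card_dvd_of_le (Subgroup.zpowers_le.mpr ?_)
        exact Subgroup.mem_centralizer_singleton_iff.mpr ((Commute.refl σ).pow_right l).eq
      have h2 : ¬ 2 ^ n ∣ Nat.card C := by
        intro h
        have hfC : (Nat.card C).factorization 2 = n := pow_two_factorization_eq hC0 h hle
        obtain ⟨T⟩ : Nonempty (Sylow 2 C) := inferInstance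
        have hT : Nat.card T = 2 ^ n := by rw [Sylow.card_eq_multiplicity, hfC]
        have huC : (σ ^ l) ∈ C := Subgroup.mem_centralizer_singleton_iff.mpr rfl
        have hcen : (⟨σ ^ l, huC⟩ : C) ∈ Subgroup.center C := by
          rw [Subgroup.mem_center_iff]
          exact fun x => Subtype.ext (Subgroup.mem_centralizer_singleton_iff.mp x.2)
        set T' := (T : Subgroup C).map C.subtype with hT'
        have hT'p : IsPGroup 2 T' := T.isPGroup'.map _
        obtain ⟨c, hc⟩ := CfsgLib.Involutions.exists_conj_le_sylow hT'p d.S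
        have heq : T'.map (MulAut.conj c).toMonoidHom = (d.S : Subgroup G) := by
          refine Subgroup.eq_of_le_of_card_ge ?_ ?_
          · rintro _ ⟨x, hx, rfl⟩
            exact hc x hx
          · rw [Subgroup.card_map_of_injective (MulAut.conj c).injective, hT',
              Subgroup.card_map_of_injective C.subtype_injective, hdS]
            show Nat.card P ≤ Nat.card T
            rw [hT, hcardS, hq, ← pow_succ', show n - 1 + 1 = n by omega]
        have huT : (⟨σ ^ l, huC⟩ : C) ∈ (T : Subgroup C) := by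
          have hup : IsPGroup 2 (Subgroup.zpowers (⟨σ ^ l, huC⟩ : C)) := by
            rintro ⟨x, hx⟩
            obtain ⟨z, rfl⟩ := Subgroup.mem_zpowers_iff.mp hx
            refine ⟨n - 1, Subtype.ext ?_⟩
            apply Subtype.ext
            simp only [Subgroup.coe_pow, Subgroup.coe_zpow, OneMemClass.coe_one]
            rw [← zpow_natCast ((σ ^ l) ^ z), ← zpow_mul, mul_comm, zpow_mul, zpow_natCast,
              ← pow_mul, mul_comm, pow_mul, show σ ^ 2 ^ (n - 1) = 1 by
                rw [← hq, ← hσo, pow_orderOf_eq_one], one_pow, one_zpow]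
          haveI : (Subgroup.zpowers (⟨σ ^ l, huC⟩ : C)).Normal :=
            ⟨fun x hx y => by
              have : x ∈ Subgroup.center C := Subgroup.zpowers_le.mpr hcen hx
              rwa [Subgroup.mem_center_iff.mp this y, mul_inv_cancel_right]⟩
          have := T.3 (T.isPGroup'.to_sup_of_normal_right hup) le_sup_left
          rw [← this]
          exact Subgroup.mem_sup_right (Subgroup.mem_zpowers _)
        obtain ⟨gu, hgu⟩ := exists_emb (d := d) (x := c * σ ^ l * c⁻¹)
          (hc _ (Subgroup.mem_map_of_mem _ huT))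
        have hcomm : gu * sr 0 = sr 0 * gu := by
          apply emb_inj (d := d)
          rw [map_mul, map_mul, hgu]
          obtain ⟨w, hw, hwe⟩ : d.emb (sr 0) ∈ T'.map (MulAut.conj c).toMonoidHom := by
            rw [heq]; exact emb_mem _
          obtain ⟨wC, -, rfl⟩ := hw
          rw [← hwe]
          simp only [MulEquiv.coe_toMonoidHom, MulAut.conj_apply]
          have hcw : (wC : G) * σ ^ l = σ ^ l * (wC : G) :=
            Subgroup.mem_centralizer_singleton_iff.mp wC.2
          calc c * σ ^ l * c⁻¹ * (c * (wC : G) * c⁻¹) = c * (σ ^ l * (wC : G)) * c⁻¹ := by group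
            _ = c * (wC : G) * c⁻¹ * (c * σ ^ l * c⁻¹) := by rw [← hcw]; group
        have hsq : gu * gu = 1 := by
          rcases commute_sr_cases d.hj hcomm with h | h | h | h <;> subst h
          · rw [one_mul]
          · rw [r_mul_r, cast_two_mul d.hj, one_def]
          · rw [sr_mul_self]
          · rw [sr_mul_self]
        have h2' : σ ^ (l * 2) = 1 := by
          have h' := congrArg d.emb hsq
          rw [map_mul, map_one, hgu] at h'
          rw [pow_mul, pow_two]
          calc σ ^ l * σ ^ l = c⁻¹ * ((c * σ ^ l * c⁻¹) * (c * σ ^ l * c⁻¹)) * c := by group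
            _ = 1 := by rw [h']; group
        have := orderOf_dvd_of_pow_eq_one h2'
        rw [hσo] at this
        obtain ⟨t, ht⟩ := this
        rcases t with _ | _ | t
        · omega
        · omega
        · nlinarith
      rw [pow_two_factorization_eq hC0 (by rw [hq] at h1; exact h1)
        (by rw [show n - 1 + 1 = n by omega]; exact h2), if_neg hJl, mul_one]
  · rw [hJz]
    refine Nat.odd_iff.mpr ?_
    have h := d.S.not_dvd_index
    have hd := Subgroup.index_dvd_of_le (S_le_centralizer_z (d := d))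
    have : ¬ 2 ∣ (Subgroup.centralizer ({d.z} : Set G)).index := fun h2 => h (h2.trans hd)
    omega

end CfsgLib.DihedralSigma
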