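import Cfsg.Agent.S0947
import Cfsg.Agent.Lib.Blocks12.DihedralSigma
import Cfsg.Agent.Lib.Blocks12.DihedralLattice
import Cfsg.Agent.Lib.Blocks.BlockParts
import Cfsg.Agent.Lib.Blocks.ClassCount
import Cfsg.Agent.Lib.Characters.Values

/-!
The principal 2-block of a group with a dihedral Sylow 2-subgroup.
-/

set_option autoImplicit false
set_option linter.style.haveILetI false

namespace CfsgLib.DihedralBlock

open Cfsg CfsgLib.Characters
open CfsgLib.DihedralSigma (SigmaFacts)
open scoped ComplexConjugate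

universe u

variable {G : Type u} [Group G]

theorem root_sum {q : ℕ} (hq : q ≠ 0) {ζ : ℂ} (hζ : IsPrimitiveRoot ζ q) (j : ℕ) :
    ∑ l ∈ Finset.range q, ζ ^ (j * l) = if q ∣ j then (q : ℂ) else 0 := by
  split_ifs with h
  · obtain ⟨t, rfl⟩ := h
    simp [mul_assoc, pow_mul, hζ.pow_eq_one]
  · have h1 : ζ ^ j ≠ 1 := fun e => h ((hζ.pow_eq_one_iff_dvd j).mp e)
    simp_rw [pow_mul]
    rw [geom_sum_eq h1, ← pow_mul, mul_comm, pow_mul, hζ.pow_eq_one, one_pow, sub_self, zero_div]

/-- The values on a cyclic subgroup have integral coordinates at the powers of a root of unity. -/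
theorem exists_coeff [Finite G] (χ : IrrCharacter G) {σ : G} {q : ℕ} (hq : q ≠ 0)
    (hσo : orderOf σ = q) {ζ : ℂ} (hζ : IsPrimitiveRoot ζ q) :
    ∃ d : ℕ → ℤ, d 0 = 0 ∧ ∀ l, 0 < l → l < q →
      (χ : G → ℂ) (σ ^ l) = ∑ k ∈ Finset.range q, (d k : ℂ) * ζ ^ (k * l) := by
  classical
  obtain ⟨χf, n, ρ, hρ, rfl⟩ := χ
  obtain ⟨b, ω, h1, h2⟩ := exists_eigenbasis ρ σ
  haveI : NeZero q := ⟨hq⟩
  have hN : ∀ i, ∃ j < q, ζ ^ j = ω i := fun i =>
    hζ.eq_pow_of_pow_eq_one (by rw [← hσo]; exact h1 i)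
  choose N hNq hN using hN
  have hch : ∀ l : ℕ, ρ.character (σ ^ l) = ∑ i, ω i ^ l := fun l => by
    refine character_eq_sum_of_eigenbasis ρ (σ ^ l) b (fun i => ω i ^ l) fun i => ?_
    induction l with
    | zero => simp
    | succ l ih => rw [pow_succ', map_mul, Module.End.mul_apply, ih, map_smul, h2, smul_smul, pow_succ]
  set m : ℕ → ℤ := fun k => ((Finset.univ.filter fun i => N i = k).card : ℤ) with hm
  refine ⟨fun k => m k - m 0, sub_self _, fun l hl0 hl => ?_⟩
  show ρ.character (σ ^ l) = _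
  rw [hch l, ← Finset.sum_fiberwise_of_maps_to (t := Finset.range q) (g := N)
    fun i _ => Finset.mem_range.mpr (hNq i)]
  push_cast
  simp only [sub_mul, Finset.sum_sub_distrib, ← Finset.mul_sum]
  rw [show ∑ k ∈ Finset.range q, ζ ^ (k * l) = (0 : ℂ) by
    simp_rw [mul_comm _ l]
    rw [root_sum hq hζ l, if_neg (fun h => absurd (Nat.le_of_dvd hl0 h) (by omega))],
    mul_zero, sub_zero]
  refine Finset.sum_congr rfl fun k _ => ?_
  rw [Finset.sum_congr rfl (fun i hi => show ω i ^ l = ζ ^ (k * l) by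
    rw [← (Finset.mem_filter.mp hi).2, pow_mul, hN i]), Finset.sum_const, nsmul_eq_mul]
  simp [hm]

/-- Inversion of the coordinates. -/
theorem coeff_eq {q : ℕ} (hq : q ≠ 0) {ζ : ℂ} (hζ : IsPrimitiveRoot ζ q) {f : ℕ → ℂ} {d : ℕ → ℤ}
    (hd0 : d 0 = 0) (hd : ∀ l, 0 < l → l < q → f l = ∑ k ∈ Finset.range q, (d k : ℂ) * ζ ^ (k * l))
    {k : ℕ} (hk : k < q) :
    (q : ℂ) * d k = ∑ l ∈ Finset.range q, f l * (ζ ^ ((q - k) * l) - 1) := by
  rw [Finset.sum_congr rfl (fun l hl => show f l * (ζ ^ ((q - k) * l) - 1) =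
      ∑ j ∈ Finset.range q, (d j : ℂ) * (ζ ^ ((j + (q - k)) * l) - ζ ^ (j * l)) by
    rcases Nat.eq_zero_or_pos l with rfl | h0
    · simp
    · rw [hd l h0 (Finset.mem_range.mp hl), Finset.sum_mul]
      refine Finset.sum_congr rfl fun j _ => ?_
      rw [add_mul, pow_add]; ring), Finset.sum_comm]
  simp only [← Finset.mul_sum, Finset.sum_sub_distrib, root_sum hq hζ]
  rw [Finset.sum_eq_single k]
  · rw [if_pos (show q ∣ k + (q - k) by rw [Nat.add_sub_cancel' hk.le])]
    by_cases h0 : k = 0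
    · subst h0; simp [hd0]
    · rw [if_neg (fun h => h0 (Nat.eq_zero_of_dvd_of_lt h hk))]; ring
  · intro j hj hne
    have hjq := Finset.mem_range.mp hj
    rw [if_neg]
    · by_cases h0 : j = 0
      · subst h0; simp [hd0]
      · rw [if_neg (fun h => h0 (Nat.eq_zero_of_dvd_of_lt h hjq))]; ring
    · rintro ⟨t, ht⟩
      rcases t with _ | _ | t
      · omega
      · simp only [Nat.zero_add, Nat.mul_one] at ht; omega
      · have : q * 2 ≤ q * (t + 1 + 1) := Nat.mul_le_mul_left _ (by omega)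
        omega
  · intro h; exact absurd (Finset.mem_range.mpr hk) h

theorem root_half {q h : ℕ} (hqh : q = 2 * h) {ζ : ℂ} (hζ : IsPrimitiveRoot ζ q) (hh : 0 < h := by omega) :
    ζ ^ h = -1 :=
  (hζ.pow (by omega) (show q = h * 2 by omega)).eq_neg_one_of_two_right

variable [Fintype G] {M : Ideal AlgInt} {P : Sylow 2 G} {n : ℕ} {σ : G}

theorem two_pow_eq (hn : 3 ≤ n) : 2 ^ (n - 1) = 2 * 2 ^ (n - 2) ∧
    (2 ^ (n - 2) = 2 ∨ 4 ≤ 2 ^ (n - 2)) := by
  refine ⟨by rw [show n - 1 = n - 2 + 1 by omega, pow_succ, mul_comm], ?_⟩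
  rcases Nat.lt_or_ge n 4 with h | h
  · left; rw [show n - 2 = 1 by omega, pow_one]
  · right
    calc 4 = 2 ^ 2 := rfl
      _ ≤ 2 ^ (n - 2) := Nat.pow_le_pow_right two_pos (by omega)

/-- The values at the powers of `σ` are real. -/
theorem conj_value (hS : SigmaFacts P n σ) (χ : IrrCharacter G) {l : ℕ} (hl : l ≤ 2 ^ (n - 1)) :
    conj ((χ : G → ℂ) (σ ^ l)) = (χ : G → ℂ) (σ ^ l) := by
  have h1 : σ ^ (2 ^ (n - 1) - l) = (σ ^ l)⁻¹ := by
    rw [eq_inv_iff_mul_eq_one, ← pow_add, Nat.sub_add_cancel hl, ← hS.order, pow_orderOf_eq_one]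
  rw [← irr_apply_inv, ← h1]
  exact classFunction_eq_of_isConj (irr_isClassFunction χ) (hS.inverted l hl).symm

/-- Column orthogonality in the principal block at the powers of `σ`. -/
theorem block_orth (hM : IsPModular 2 M) (hS : SigmaFacts P n σ)
    [DecidablePred (· ∈ principalBlock M G)] {l l' : ℕ} (h0 : 0 < l) (hl : l < 2 ^ (n - 1))
    (h0' : 0 < l') (hl' : l' < 2 ^ (n - 1)) :
    ∑ χ ∈ Finset.univ.filter (· ∈ principalBlock M G),
        (χ : G → ℂ) (σ ^ l) * (χ : G → ℂ) (σ ^ l') =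
      (2 ^ (n - 1) : ℕ) * ((if l' = l then 1 else 0) + (if l' + l = 2 ^ (n - 1) then 1 else 0)) := by
  classical
  haveI : Fact (Nat.Prime 2) := ⟨Nat.prime_two⟩
  have hpw : ∀ j : ℕ, ∃ k : ℕ, orderOf (σ ^ j) = 2 ^ k := fun j => by
    have h : orderOf (σ ^ j) ∣ 2 ^ (n - 1) := by rw [← hS.order]; exact orderOf_pow_dvd j
    obtain ⟨i, -, hi⟩ := (Nat.dvd_prime_pow Nat.prime_two).mp h
    exact ⟨i, hi⟩
  by_cases hc : l' = l ∨ l' + l = 2 ^ (n - 1)
  · have hval : ∀ χ : IrrCharacter G, (χ : G → ℂ) (σ ^ l') = (χ : G → ℂ) (σ ^ l) := fun χ => by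
      rcases hc with e | e
      · rw [e]
      · refine classFunction_eq_of_isConj (irr_isClassFunction χ) ?_
        rw [show l' = 2 ^ (n - 1) - l by omega]
        exact (hS.inverted l hl.le).symm
    have hne : σ ^ l ≠ 1 := pow_ne_one_of_lt_orderOf h0.ne' (hS.order.symm ▸ hl)
    have h := (Cfsg.Agent.S0947.result 2 M hM (σ ^ l) (hpw l) hne 1 (by simp)).2 (hS.core l h0 hl)
    rw [finsum_mem_eq_sum_of_inter_support_eq _
      (t := Finset.univ.filter (· ∈ principalBlock M G)) (by simp), hS.twoPart l h0 hl] at h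
    simp only [OneMemClass.coe_one, mul_one] at h
    have h' := congrArg (fun r : ℝ => (r : ℂ)) h
    simp only [Complex.ofReal_sum, Complex.ofReal_natCast, Complex.ofReal_pow] at h'
    rw [Finset.sum_congr rfl (fun (χ : IrrCharacter G) _ => show (χ : G → ℂ) (σ ^ l) * (χ : G → ℂ) (σ ^ l') =
      ((‖(χ : G → ℂ) (σ ^ l)‖ : ℝ) : ℂ) ^ 2 by
        rw [hval χ, ← Complex.mul_conj', conj_value hS χ hl.le]), h', Nat.cast_mul]
    congr 1
    rcases hc with e | e
    · subst e
      by_cases h2 : 2 * l' = 2 ^ (n - 1)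
      · rw [if_pos h2, if_pos rfl, if_pos (by omega)]; norm_num
      · rw [if_neg h2, if_pos rfl, if_neg (by omega)]; norm_num
    · by_cases h2 : 2 * l = 2 ^ (n - 1)
      · rw [if_pos h2, if_pos (by omega : l' = l), if_pos e]; norm_num
      · rw [if_neg h2, if_neg (by omega : ¬ l' = l), if_pos e]; norm_num
  · push Not at hc
    rw [if_neg hc.1, if_neg hc.2, add_zero, mul_zero]
    have hP : ∀ j : ℕ, IsPPart 2 (σ ^ j) (σ ^ j) :=
      fun j => ⟨1, mul_one _, Commute.one_right _, hpw j, by simp⟩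
    have hnc : ¬ IsConj (σ ^ l) (σ ^ l') := fun h => by
      rcases hS.fusion l l' h0 hl h0' hl' h with e | e
      · exact hc.1 e
      · exact hc.2 e
    rw [← CfsgLib.Blocks.sum_block_eq_zero_of_not_isConj hM
      (CfsgLib.Blocks.isPBlock_principalBlock M) (hP l) (hP l') hnc]
    refine Finset.sum_congr (by ext; simp) fun χ _ => ?_
    rw [irr_apply_inv, conj_value hS χ hl'.le]

/-- Weak orthogonality between a regular element and a power of `σ`. -/
theorem block_regular (hM : IsPModular 2 M) (hS : SigmaFacts P n σ)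
    [DecidablePred (· ∈ principalBlock M G)] {ρ : G} (hρ : Odd (orderOf ρ)) {l : ℕ} (h0 : 0 < l)
    (hl : l < 2 ^ (n - 1)) :
    ∑ χ ∈ Finset.univ.filter (· ∈ principalBlock M G),
      (χ : G → ℂ) ρ * (χ : G → ℂ) (σ ^ l) = 0 := by
  have hev : 2 ∣ orderOf (σ ^ l) := by
    have hd : orderOf (σ ^ l) ∣ 2 ^ (n - 1) := by rw [← hS.order]; exact orderOf_pow_dvd l
    obtain ⟨i, -, hi⟩ := (Nat.dvd_prime_pow Nat.prime_two).mp hd
    rcases i with _ | i
    · exact absurd (orderOf_eq_one_iff.mp (by simpa using hi))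
        (pow_ne_one_of_lt_orderOf h0.ne' (hS.order.symm ▸ hl))
    · rw [hi, pow_succ]; exact dvd_mul_left _ _
  rw [← CfsgLib.Blocks.weak_orth hM (CfsgLib.Blocks.isPBlock_principalBlock M)
    (x := ρ) (y := σ ^ l) (fun h => Nat.not_even_iff_odd.mpr hρ (even_iff_two_dvd.mpr h)) hev]
  exact Finset.sum_congr rfl fun χ _ => by rw [conj_value hS χ hl.le]

/-- A principal block character does not vanish at the central involution. -/
theorem value_J_ne_zero (hM : IsPModular 2 M) (hS : SigmaFacts P n σ) {χ : IrrCharacter G}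
    (hχ : χ ∈ principalBlock M G) : (χ : G → ℂ) (σ ^ (2 ^ (n - 2))) ≠ 0 := by
  intro h0
  have hz : centralChar (χ : G → ℂ) (σ ^ (2 ^ (n - 2))) = 0 := by
    rw [centralChar, h0]; simp
  have hsame : SameBlock M (fun _ : G => (1 : ℂ)) (χ : G → ℂ) := hχ
  have := hsame (σ ^ (2 ^ (n - 2)))
  rw [hz, centralChar, sub_zero, mul_one, div_one,
    CfsgLib.Blocks.memLocalIdeal_natCast_iff hM] at this
  exact (Nat.not_even_iff_odd.mpr hS.indexJ) (even_iff_two_dvd.mpr this)

/-- The labelled principal block. -/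
structure Labels (M : Ideal AlgInt) (n : ℕ) (σ : G) (ζ : ℂ) (c a b : IrrCharacter G)
    (L : ℕ → IrrCharacter G) (δ₁ δ₂ δ₃ : ℤ) : Prop where
  sign₁ : δ₁ = 1 ∨ δ₁ = -1
  sign₂ : δ₂ = 1 ∨ δ₂ = -1
  sign₃ : δ₃ = 1 ∨ δ₃ = -1
  ne_c : c ≠ principalIrr G
  ne_a : a ≠ principalIrr G
  ne_b : b ≠ principalIrr G
  ne_ca : c ≠ a
  ne_cb : c ≠ b
  ne_ab : a ≠ b
  ne_L : ∀ k, 1 ≤ k → k < 2 ^ (n - 2) → L k ≠ principalIrr G ∧ L k ≠ c ∧ L k ≠ a ∧ L k ≠ b
  inj : ∀ k k', 1 ≤ k → k < 2 ^ (n - 2) → 1 ≤ k' → k' < 2 ^ (n - 2) → L k = L k' → k = k'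
  mem : ∀ χ : IrrCharacter G, χ ∈ principalBlock M G ↔ χ = principalIrr G ∨ χ = c ∨ χ = a ∨
    χ = b ∨ ∃ k, 1 ≤ k ∧ k < 2 ^ (n - 2) ∧ χ = L k
  val_c : ∀ l, 0 < l → l < 2 ^ (n - 1) → (c : G → ℂ) (σ ^ l) = δ₁
  val_a : ∀ l, 0 < l → l < 2 ^ (n - 1) → (a : G → ℂ) (σ ^ l) = δ₂ * (-1) ^ (l + 1)
  val_b : ∀ l, 0 < l → l < 2 ^ (n - 1) → (b : G → ℂ) (σ ^ l) = δ₃ * (-1) ^ (l + 1)
  val_L : ∀ k, 1 ≤ k → k < 2 ^ (n - 2) → ∀ l, 0 < l → l < 2 ^ (n - 1) →
    (L k : G → ℂ) (σ ^ l) = δ₁ * (ζ ^ (k * l) + (ζ ^ (k * l))⁻¹)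
  reg_L : ∀ k, 1 ≤ k → k < 2 ^ (n - 2) → ∀ ρ : G, Odd (orderOf ρ) →
    1 + δ₁ * (c : G → ℂ) ρ = δ₁ * (L k : G → ℂ) ρ
  reg_ab : ∀ ρ : G, Odd (orderOf ρ) →
    1 + δ₁ * (c : G → ℂ) ρ = -δ₂ * (a : G → ℂ) ρ - δ₃ * (b : G → ℂ) ρ

theorem exists_labels (hM : IsPModular 2 M) (hn : 3 ≤ n) (hS : SigmaFacts P n σ) {ζ : ℂ}
    (hζ : IsPrimitiveRoot ζ (2 ^ (n - 1))) :
    ∃ c a b L δ₁ δ₂ δ₃, Labels M n σ ζ c a b L δ₁ δ₂ δ₃ := by
  classical
  obtain ⟨hqh, hh⟩ := two_pow_eq hn
  set q := 2 ^ (n - 1) with hq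
  set h := 2 ^ (n - 2) with hh'
  have hq0 : q ≠ 0 := by omega
  have hζ0 : ζ ≠ 0 := hζ.ne_zero hq0
  have hd := fun χ : IrrCharacter G => exists_coeff χ hq0 hS.order hζ
  choose d hd0 hd using hd
  have hval : ∀ χ : IrrCharacter G, ∀ k, k < q → (q : ℂ) * d χ k =
      ∑ l ∈ Finset.range q, (χ : G → ℂ) (σ ^ l) * (ζ ^ ((q - k) * l) - 1) :=
    fun χ k hk => coeff_eq hq0 hζ (hd0 χ) (hd χ) hk
  -- symmetry
  have hsym : ∀ χ : IrrCharacter G, ∀ k, 0 < k → k < q → d χ (q - k) = d χ k := by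
    intro χ k hk0 hk
    have : (q : ℂ) * d χ (q - k) = (q : ℂ) * d χ k := by
      rw [hval χ (q - k) (by omega), hval χ k hk]
      refine Finset.sum_bij' (fun l _ => if l = 0 then 0 else q - l)
        (fun l _ => if l = 0 then 0 else q - l) ?_ ?_ ?_ ?_ ?_
      · intro l hl; simp only [Finset.mem_range] at hl ⊢; split_ifs <;> omega
      · intro l hl; simp only [Finset.mem_range] at hl ⊢; split_ifs <;> omega
      · intro l hl; simp only [Finset.mem_range] at hl; split_ifs <;> omega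
      · intro l hl; simp only [Finset.mem_range] at hl; split_ifs <;> omega
      · intro l hl
        simp only [Finset.mem_range] at hl
        split_ifs with h0
        · subst h0; simp
        · rw [classFunction_eq_of_isConj (irr_isClassFunction χ) (hS.inverted l hl.le),
            Nat.sub_sub_self hk.le]
          congr 2
          have e1 : ζ ^ (k * l) * ζ ^ (k * (q - l)) = 1 := by
            rw [← pow_add, ← mul_add, Nat.add_sub_cancel' hl.le, mul_comm, pow_mul, hζ.pow_eq_one,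
              one_pow]
          have e2 : ζ ^ ((q - k) * (q - l)) * ζ ^ (k * (q - l)) = 1 := by
            rw [← pow_add, ← add_mul, Nat.sub_add_cancel hk.le, pow_mul, hζ.pow_eq_one, one_pow]
          exact mul_right_cancel₀ (pow_ne_zero _ hζ0) (e1.trans e2.symm)
    exact_mod_cast mul_left_cancel₀ (Nat.cast_ne_zero.mpr hq0) this
  -- values from coordinates
  have hvalue : ∀ (χ : IrrCharacter G) (f : ℕ → ℤ), (∀ k, 1 ≤ k → k ≤ h → d χ k = f k) →
      (∀ k, 0 < k → k < q → f (q - k) = f k) → ∀ l, 0 < l → l < q →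
      (χ : G → ℂ) (σ ^ l) = ∑ k ∈ (Finset.range q).erase 0, (f k : ℂ) * ζ ^ (k * l) := by
    intro χ f hf hfs l h0 hl
    rw [hd χ l h0 hl, ← Finset.add_sum_erase _ _ (Finset.mem_range.mpr (Nat.pos_of_ne_zero hq0)),
      hd0 χ, Int.cast_zero, zero_mul, zero_add]
    refine Finset.sum_congr rfl fun k hk => ?_
    simp only [Finset.mem_erase, Finset.mem_range] at hk
    by_cases hkh : k ≤ h
    · rw [hf k (by omega) hkh]
    · rw [← hsym χ k (by omega) hk.2, hf (q - k) (by omega) (by omega), hfs k (by omega) hk.2]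
  set S := Finset.univ.filter (· ∈ principalBlock M G) with hSdef
  have hprin : principalIrr G ∈ S :=
    Finset.mem_filter.mpr ⟨Finset.mem_univ _, CfsgLib.Blocks.sameBlock_refl hM _⟩
  have hdp : ∀ k, 0 < k → k < q → d (principalIrr G) k = -1 := by
    intro k hk0 hk
    have h1 := hval (principalIrr G) k hk
    simp only [principalIrr_apply, one_mul, Finset.sum_sub_distrib, root_sum hq0 hζ,
      Finset.sum_const, Finset.card_range, nsmul_eq_mul, mul_one] at h1
    rw [if_neg (fun hdv => absurd (Nat.le_of_dvd (by omega) hdv) (by omega)), zero_sub] at h1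
    have : (q : ℂ) * d (principalIrr G) k = (q : ℂ) * ((-1 : ℤ) : ℂ) := by
      rw [h1]; push_cast; ring
    exact_mod_cast mul_left_cancel₀ (Nat.cast_ne_zero.mpr hq0) this
  -- the Gram matrix
  set A : ℕ → ℕ → ℂ := fun k l => ζ ^ ((q - k) * l) - 1 with hA
  have hA0 : ∀ k, A k 0 = 0 := fun k => by simp [hA]
  have hgramS : ∀ k k', 1 ≤ k → k ≤ h → 1 ≤ k' → k' ≤ h → ∑ χ ∈ S, d χ k * d χ k' =
      2 + (if k = k' then 1 else 0) + (if k = h ∧ k' = h then 1 else 0) := by
    intro k k' hk1 hk2 hk1' hk2'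
    have key : (q : ℂ) * q * ((∑ χ ∈ S, d χ k * d χ k' : ℤ) : ℂ) =
        q * q * ((2 + (if k = k' then 1 else 0) + (if k = h ∧ k' = h then 1 else 0) : ℤ) : ℂ) := by
      push_cast
      rw [Finset.mul_sum]
      calc ∑ χ ∈ S, (q : ℂ) * q * ((d χ k : ℂ) * d χ k')
          = ∑ χ ∈ S, (∑ l ∈ Finset.range q, (χ : G → ℂ) (σ ^ l) * A k l) *
              ∑ l' ∈ Finset.range q, (χ : G → ℂ) (σ ^ l') * A k' l' := by
            refine Finset.sum_congr rfl fun χ _ => ?_
            rw [← hval χ k (by omega), ← hval χ k' (by omega)]; ring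
        _ = ∑ l ∈ Finset.range q, ∑ l' ∈ Finset.range q, A k l * A k' l' *
              ∑ χ ∈ S, (χ : G → ℂ) (σ ^ l) * (χ : G → ℂ) (σ ^ l') := by
            rw [Finset.sum_congr rfl (fun (χ : IrrCharacter G) _ => Finset.sum_mul_sum _ _ _ _),
              Finset.sum_comm]
            refine Finset.sum_congr rfl fun l _ => ?_
            rw [Finset.sum_comm]
            refine Finset.sum_congr rfl fun l' _ => ?_
            rw [Finset.mul_sum]
            exact Finset.sum_congr rfl fun χ _ => by ring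
        _ = ∑ l ∈ Finset.range q, (q : ℂ) * (A k l * (A k' l + (ζ ^ (k' * l) - 1))) := by
            refine Finset.sum_congr rfl fun l hl => ?_
            rcases Nat.eq_zero_or_pos l with rfl | h0
            · simp [hA0]
            have hlq := Finset.mem_range.mp hl
            have e : ∀ l' ∈ Finset.range q, A k l * A k' l' *
                ∑ χ ∈ S, (χ : G → ℂ) (σ ^ l) * (χ : G → ℂ) (σ ^ l') =
              (q : ℂ) * A k l * ((if l' = l then A k' l' else 0) + if l' = q - l then A k' l' else 0) := by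
              intro l' hl'
              rcases Nat.eq_zero_or_pos l' with rfl | h0'
              · simp [hA0]
              rw [hSdef, block_orth hM hS h0 hlq h0' (Finset.mem_range.mp hl'), ← hq]
              simp only [show (l' + l = q) = (l' = q - l) from propext ⟨fun _ => by omega, fun _ => by omega⟩]
              split_ifs <;> ring
            rw [Finset.sum_congr rfl e, ← Finset.mul_sum, Finset.sum_add_distrib, Finset.sum_ite_eq',
              Finset.sum_ite_eq', if_pos hl, if_pos (Finset.mem_range.mpr (by omega))]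
            have : A k' (q - l) = ζ ^ (k' * l) - 1 := by
              simp only [hA]
              congr 1
              have e1 : ζ ^ ((q - k') * (q - l)) * ζ ^ (k' * (q - l)) = 1 := by
                rw [← pow_add, ← add_mul, Nat.sub_add_cancel (show k' ≤ q by omega), pow_mul,
                  hζ.pow_eq_one, one_pow]
              have e2 : ζ ^ (k' * l) * ζ ^ (k' * (q - l)) = 1 := by
                rw [← pow_add, ← mul_add, Nat.add_sub_cancel' hlq.le, mul_comm, pow_mul,
                  hζ.pow_eq_one, one_pow]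
              exact mul_right_cancel₀ (pow_ne_zero _ hζ0) (e1.trans e2.symm)
            rw [this]; ring
        _ = _ := by
            rw [← Finset.mul_sum, mul_assoc (q : ℂ)]
            congr 1
            have hterm : ∀ l : ℕ, A k l * (A k' l + (ζ ^ (k' * l) - 1)) =
                ζ ^ (((q - k) + (q - k')) * l) + ζ ^ (((q - k) + k') * l) - 2 * ζ ^ ((q - k) * l)
                  - ζ ^ ((q - k') * l) - ζ ^ (k' * l) + 2 := fun l => by
              simp only [hA, add_mul, pow_add]; ring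
            simp only [hterm, Finset.sum_add_distrib, Finset.sum_sub_distrib, ← Finset.mul_sum,
              root_sum hq0 hζ, Finset.sum_const, Finset.card_range, nsmul_eq_mul]
            have e1 : q ∣ (q - k) + (q - k') ↔ (k = h ∧ k' = h) := by
              constructor
              · rintro ⟨t, ht⟩
                rcases t with _ | _ | t
                · omega
                · simp only [Nat.zero_add, Nat.mul_one] at ht; omega
                · have : q * 2 ≤ q * (t + 1 + 1) := Nat.mul_le_mul_left _ (by omega)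
                  omega
              · rintro ⟨rfl, rfl⟩; exact ⟨1, by omega⟩
            have e2 : q ∣ (q - k) + k' ↔ k = k' := by
              constructor
              · rintro ⟨t, ht⟩
                rcases t with _ | _ | t
                · omega
                · simp only [Nat.zero_add, Nat.mul_one] at ht; omega
                · have : q * 2 ≤ q * (t + 1 + 1) := Nat.mul_le_mul_left _ (by omega)
                  omega
              · rintro rfl; exact ⟨1, by omega⟩
            have n1 : ¬ q ∣ q - k := fun hd => absurd (Nat.le_of_dvd (by omega) hd) (by omega)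
            have n2 : ¬ q ∣ q - k' := fun hd => absurd (Nat.le_of_dvd (by omega) hd) (by omega)
            have n3 : ¬ q ∣ k' := fun hd => absurd (Nat.le_of_dvd (by omega) hd) (by omega)
            simp only [e1, e2, if_neg n1, if_neg n2, if_neg n3]
            split_ifs <;> ring
    exact_mod_cast mul_left_cancel₀ (mul_ne_zero (Nat.cast_ne_zero.mpr hq0)
      (Nat.cast_ne_zero.mpr hq0)) key
  -- regular elements
  have hregS : ∀ k, 1 ≤ k → k ≤ h → ∀ ρ : G, Odd (orderOf ρ) →
      ∑ χ ∈ S, (d χ k : ℂ) * (χ : G → ℂ) ρ = 0 := by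
    intro k hk1 hk2 ρ hρ
    refine mul_left_cancel₀ (Nat.cast_ne_zero.mpr hq0 : (q : ℂ) ≠ 0) ?_
    rw [mul_zero, Finset.mul_sum]
    simp only [← mul_assoc]
    rw [Finset.sum_congr rfl (fun χ _ => by rw [hval χ k (by omega)])]
    simp only [Finset.sum_mul]
    rw [Finset.sum_comm]
    refine Finset.sum_eq_zero fun l hl => ?_
    rcases Nat.eq_zero_or_pos l with rfl | h0
    · simp
    · rw [← mul_zero (ζ ^ ((q - k) * l) - 1), ← block_regular hM hS hρ h0 (Finset.mem_range.mp hl),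
        Finset.mul_sum]
      exact Finset.sum_congr rfl fun χ _ => by ring
  -- the nonprincipal characters
  set S' := S.erase (principalIrr G) with hS'
  let v : ℕ → ↥S' → ℤ := fun k i => d i.1 k
  let x : ↥S' → ℤ := fun i => (charDegree ((i.1 : IrrCharacter G) : G → ℂ) : ℤ)
  have hsplit : ∀ (F : IrrCharacter G → ℂ), ∑ χ ∈ S, F χ =
      F (principalIrr G) + ∑ i : ↥S', F i.1 := fun F => by
    rw [← Finset.add_sum_erase _ _ hprin, Finset.sum_coe_sort S' F]
  have hgram : ∀ k k', 1 ≤ k → k ≤ h → 1 ≤ k' → k' ≤ h → ∑ i, v k i * v k' i =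
      1 + (if k = k' then 1 else 0) + (if k = h ∧ k' = h then 1 else 0) := by
    intro k k' h1 h2 h1' h2'
    have := hgramS k k' h1 h2 h1' h2'
    rw [← Finset.add_sum_erase _ _ hprin, hdp k (by omega) (by omega), hdp k' (by omega) (by omega),
      ← Finset.sum_coe_sort S' (fun χ => d χ k * d χ k')] at this
    simp only [v]
    linarith
  have hreg : ∀ k, 1 ≤ k → k ≤ h → ∀ ρ : G, Odd (orderOf ρ) →
      ∑ i : ↥S', (v k i : ℂ) * ((i.1 : IrrCharacter G) : G → ℂ) ρ = 1 := by
    intro k h1 h2 ρ hρ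
    have := hregS k h1 h2 ρ hρ
    rw [hsplit (fun χ => (d χ k : ℂ) * (χ : G → ℂ) ρ), hdp k (by omega) (by omega),
      principalIrr_apply] at this
    push_cast at this
    simp only [v]
    linear_combination this
  have hdeg : ∀ k, 1 ≤ k → k ≤ h → ∑ i, v k i * x i = 1 := by
    intro k h1 h2
    have := hreg k h1 h2 1 (by simp)
    simp only [(CfsgLib.ClassCount.degree_eq _).1] at this
    have h' : ((∑ i, v k i * x i : ℤ) : ℂ) = ((1 : ℤ) : ℂ) := by
      push_cast [x]; exact this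
    exact_mod_cast h'
  have hcov : ∀ i : ↥S', ∃ k, 1 ≤ k ∧ k ≤ h ∧ v k i ≠ 0 := by
    intro i
    by_contra hno
    push Not at hno
    refine value_J_ne_zero hM hS (Finset.mem_filter.mp (Finset.mem_of_mem_erase i.2)).2 ?_
    rw [hvalue i.1 (fun _ => 0) (fun k h1 h2 => hno k h1 h2) (fun _ _ _ => rfl) h (by omega)
      (by omega)]
    simp
  obtain ⟨c, a, b, L, δ₁, δ₂, δ₃, s1, s2, s3, nca, ncb, nab, nL, inj, cover, hv, hvc, hva, hvb, hvz⟩ :=
    CfsgLib.DihedralLattice.structure_thm hh x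
      (fun i => Int.natCast_pos.mpr (CfsgLib.ClassCount.degree_eq i.1).2.2) v hgram hdeg hcov
  have hne : ∀ i : ↥S', i.1 ≠ principalIrr G := fun i => Finset.ne_of_mem_erase i.2
  refine ⟨c.1, a.1, b.1, fun k => (L k).1, δ₁, δ₂, δ₃, s1, s2, s3, hne c, hne a, hne b,
    fun e => nca (Subtype.ext e), fun e => ncb (Subtype.ext e), fun e => nab (Subtype.ext e),
    fun k h1 h2 => ⟨hne _, fun e => (nL k h1 h2).1 (Subtype.ext e),
      fun e => (nL k h1 h2).2.1 (Subtype.ext e), fun e => (nL k h1 h2).2.2 (Subtype.ext e)⟩,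
    fun k k' h1 h2 h1' h2' e => inj k k' h1 h2 h1' h2' (Subtype.ext e),
    fun χ => ⟨fun hχ => ?_, fun hχ => ?_⟩, fun l h0 hl => ?_, fun l h0 hl => ?_, fun l h0 hl => ?_,
    fun k h1 h2 l h0 hl => ?_, fun k h1 h2 ρ hρ => ?_, fun ρ hρ => ?_⟩
  · by_cases e : χ = principalIrr G
    · exact Or.inl e
    · refine Or.inr ?_
      have hm : χ ∈ S' := Finset.mem_erase.mpr ⟨e, Finset.mem_filter.mpr ⟨Finset.mem_univ _, hχ⟩⟩
      rcases cover ⟨χ, hm⟩ with e | e | e | ⟨k, h1, h2, e⟩
      · exact Or.inl (congrArg Subtype.val e)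
      · exact Or.inr (Or.inl (congrArg Subtype.val e))
      · exact Or.inr (Or.inr (Or.inl (congrArg Subtype.val e)))
      · exact Or.inr (Or.inr (Or.inr ⟨k, h1, h2, congrArg Subtype.val e⟩))
  · rcases hχ with rfl | rfl | rfl | rfl | ⟨k, -, -, rfl⟩
    · exact (Finset.mem_filter.mp hprin).2
    all_goals exact (Finset.mem_filter.mp (Finset.mem_of_mem_erase (Subtype.prop _))).2
  · rw [hvalue c.1 (fun _ => -δ₁) (fun k h1 h2 => by
      rcases h2.lt_or_eq with h2 | rfl
      · exact (hv k h1 h2).1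
      · exact hvc) (fun _ _ _ => rfl) l h0 hl, ← Finset.mul_sum,
      Finset.sum_erase_eq_sub (Finset.mem_range.mpr (Nat.pos_of_ne_zero hq0))]
    simp_rw [mul_comm _ l]
    rw [root_sum hq0 hζ, if_neg (fun hd => absurd (Nat.le_of_dvd h0 hd) (by omega))]
    simp
  · rw [hvalue a.1 (fun k => if k = h then -δ₂ else 0) (fun k h1 h2 => by
      rcases h2.lt_or_eq with h2 | rfl
      · show v k a = _
        rw [if_neg h2.ne, (hv k h1 h2).2.2 a nca.symm (nL k h1 h2).2.1.symm]
      · show v _ a = _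
        rw [if_pos rfl]; exact hva) (fun k _ _ => by split_ifs <;> omega) l h0 hl,
      Finset.sum_eq_single h (fun k _ hk => by simp [hk]) (fun hm => absurd
        (by simp only [Finset.mem_erase, Finset.mem_range]; omega) hm), if_pos rfl, pow_mul,
      root_half hqh hζ]
    push_cast; ring
  · rw [hvalue b.1 (fun k => if k = h then -δ₃ else 0) (fun k h1 h2 => by
      rcases h2.lt_or_eq with h2 | rfl
      · show v k b = _
        rw [if_neg h2.ne, (hv k h1 h2).2.2 b ncb.symm (nL k h1 h2).2.2.symm]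
      · show v _ b = _
        rw [if_pos rfl]; exact hvb) (fun k _ _ => by split_ifs <;> omega) l h0 hl,
      Finset.sum_eq_single h (fun k _ hk => by simp [hk]) (fun hm => absurd
        (by simp only [Finset.mem_erase, Finset.mem_range]; omega) hm), if_pos rfl, pow_mul,
      root_half hqh hζ]
    push_cast; ring
  · rw [hvalue (L k).1 (fun j => if j = k ∨ j = q - k then δ₁ else 0) (fun j j1 j2 => by
      by_cases hjk : j = k
      · subst hjk; rw [if_pos (Or.inl rfl)]; exact (hv j j1 h2).2.1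
      · rw [if_neg (by omega)]
        show v j (L k) = 0
        rcases j2.lt_or_eq with j2 | rfl
        · exact (hv j j1 j2).2.2 _ (nL k h1 h2).1 (fun e => hjk (inj k j h1 h2 j1 j2 e).symm)
        · exact hvz _ (nL k h1 h2).1 (nL k h1 h2).2.1 (nL k h1 h2).2.2)
      (fun j _ _ => by split_ifs <;> omega) l h0 hl,
      ← Finset.sum_subset (s₁ := ({k, q - k} : Finset ℕ))
        (fun j hj => by
          simp only [Finset.mem_insert, Finset.mem_singleton] at hj
          simp only [Finset.mem_erase, Finset.mem_range]; omega)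
        (fun j _ hj => by
          simp only [Finset.mem_insert, Finset.mem_singleton] at hj
          rw [if_neg hj, Int.cast_zero, zero_mul]),
      Finset.sum_pair (by omega), if_pos (Or.inl rfl), if_pos (Or.inr rfl)]
    have : ζ ^ ((q - k) * l) = (ζ ^ (k * l))⁻¹ := by
      refine eq_inv_of_mul_eq_one_left ?_
      rw [← pow_add, ← add_mul,
        Nat.sub_add_cancel (show k ≤ q by omega), pow_mul, hζ.pow_eq_one, one_pow]
    rw [this]; ring
  · have := hreg k h1 h2.le ρ hρ
    rw [← Finset.sum_subset (Finset.subset_univ {c, L k}) (fun i _ hi => by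
      simp only [Finset.mem_insert, Finset.mem_singleton, not_or] at hi
      rw [(hv k h1 h2).2.2 i hi.1 hi.2, Int.cast_zero, zero_mul]),
      Finset.sum_pair (nL k h1 h2).1.symm, (hv k h1 h2).1, (hv k h1 h2).2.1] at this
    push_cast at this
    linear_combination -this
  · have := hreg h (by omega) le_rfl ρ hρ
    rw [← Finset.sum_subset (Finset.subset_univ {c, a, b}) (fun i _ hi => by
      simp only [Finset.mem_insert, Finset.mem_singleton, not_or] at hi
      rw [hvz i hi.1 hi.2.1 hi.2.2, Int.cast_zero, zero_mul]),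
      Finset.sum_insert (by simp [nca, ncb]), Finset.sum_pair nab, hvc, hva, hvb] at this
    push_cast at this
    linear_combination -this

/-- The count of the block. -/
theorem Labels.card {ζ : ℂ} {c a b : IrrCharacter G} {L : ℕ → IrrCharacter G} {δ₁ δ₂ δ₃ : ℤ}
    (D : Labels M n σ ζ c a b L δ₁ δ₂ δ₃) :
    Nat.card (principalBlock M G) = 3 + 2 ^ (n - 2) := by
  classical
  have hset : principalBlock M G =
      ↑(insert (principalIrr G) (insert c (insert a (insert b ((Finset.Ico 1 (2 ^ (n - 2))).image L))))) := by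
    ext χ
    simp only [D.mem, Finset.coe_insert, Finset.coe_image, Finset.coe_Ico, Set.mem_insert_iff,
      Set.mem_image, Set.mem_Ico]
    aesop
  have hmem : ∀ χ, χ ∈ (Finset.Ico 1 (2 ^ (n - 2))).image L →
      χ ≠ principalIrr G ∧ χ ≠ c ∧ χ ≠ a ∧ χ ≠ b := by
    intro χ hχ
    obtain ⟨k, hk, rfl⟩ := Finset.mem_image.mp hχ
    rw [Finset.mem_Ico] at hk
    exact D.ne_L k hk.1 hk.2
  rw [hset, Nat.card_coe_set_eq, Set.ncard_coe_finset, Finset.card_insert_of_notMem,
    Finset.card_insert_of_notMem, Finset.card_insert_of_notMem, Finset.card_insert_of_notMem,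
    Finset.card_image_of_injOn, Nat.card_Ico]
  · have : 1 ≤ 2 ^ (n - 2) := Nat.one_le_two_pow
    omega
  · intro k hk k' hk' e
    simp only [Finset.coe_Ico, Set.mem_Ico] at hk hk'
    exact D.inj k k' hk.1 hk.2 hk'.1 hk'.2 e
  · exact fun hb => (hmem b hb).2.2.2 rfl
  · simp only [Finset.mem_insert, not_or]
    exact ⟨D.ne_ab, fun hb => (hmem a hb).2.2.1 rfl⟩
  · simp only [Finset.mem_insert, not_or]
    exact ⟨D.ne_ca, D.ne_cb, fun hb => (hmem c hb).2.1 rfl⟩
  · simp only [Finset.mem_insert, not_or]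
    exact ⟨D.ne_c.symm, D.ne_a.symm, D.ne_b.symm, fun hb => (hmem _ hb).1 rfl⟩

end CfsgLib.DihedralBlock
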