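import Cfsg.Agent.S0514
import Cfsg.Agent.Lib.TwoGroups.DihedralFusion
import Cfsg.Agent.Lib.Blocks.ClassCount
import Cfsg.Agent.Lib.Blocks.PPart

/-!
A dihedral Sylow 2-subgroup with one class of involutions: the pairs of involutions with product
in the sections of the central involution and of a generator of the rotations.
-/

set_option autoImplicit false
set_option linter.style.haveILetI false

noncomputable section

namespace CfsgLib.DihedralCount

open Cfsg DihedralGroup CfsgLib.Involutions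
open CfsgLib.ClassCount (cls mem_cls pairs card_cls card_cls_mul_centralizer)
open CfsgLib.TwoGroups.DihedralFusion (parity parity_conj sr_conj involution_cases cast_two_mul
  j_ne_zero zmod2_cases)

universe u

variable {G : Type u} [Group G] [Fintype G]

open scoped Classical in
/-- The `2`-section of `u`. -/
def sect (u : G) : Finset G := Finset.univ.filter fun g => ∃ x, IsPPart 2 g x ∧ IsConj u x

theorem mem_sect {u g : G} : g ∈ sect u ↔ ∃ x, IsPPart 2 g x ∧ IsConj u x := by
  classical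
  simp [sect]

/-- The involution of the cyclic group of an element of even order. -/
def invOf (g : G) : G := g ^ (orderOf g / 2)

omit [Fintype G] in
theorem invOf_conj (c g : G) : invOf (c * g * c⁻¹) = c * invOf g * c⁻¹ := by
  rw [invOf, orderOf_conj_eq, conj_pow, invOf]

omit [Fintype G] in
theorem invOf_eq_of_pPart {g x : G} (h : IsPPart 2 g x) (hx : x ≠ 1) : invOf g = invOf x := by
  obtain ⟨y, rfl, hc, ⟨k, hk⟩, hy⟩ := h
  obtain ⟨k, rfl⟩ : ∃ j, k = j + 1 := ⟨k - 1, by
    rcases k with _ | k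
    · exact absurd (orderOf_eq_one_iff.mp (by simpa using hk)) hx
    · omega⟩
  have hodd : Odd (orderOf y) := Nat.not_even_iff_odd.mp fun e => hy e.two_dvd
  have ho : orderOf (x * y) = orderOf x * orderOf y := hc.orderOf_mul_eq_mul_orderOf_of_coprime
    (by rw [hk]; exact (Nat.coprime_two_left.mpr hodd).pow_left _)
  obtain ⟨m, hm⟩ := hodd
  have hdiv : orderOf (x * y) / 2 = 2 ^ k * orderOf y := by
    rw [ho, hk, pow_succ, mul_right_comm, Nat.mul_div_cancel _ two_pos]
  rw [invOf, invOf, hdiv, hc.mul_pow, mul_comm (2 ^ k) (orderOf y), pow_mul y, pow_orderOf_eq_one,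
    one_pow, mul_one, hk, pow_succ 2 k, Nat.mul_div_cancel _ two_pos, hm, add_one_mul, pow_add,
    mul_right_comm, mul_comm _ m, pow_mul', show x ^ (2 * 2 ^ k) = 1 by
      rw [← pow_succ', ← hk, pow_orderOf_eq_one], one_pow, one_mul]

/-- An equivariant family has equal fibres over a class. -/
theorem card_equivariant {α : Type*} (act : G → α → α) (hact : ∀ c x, act c⁻¹ (act c x) = x)
    (T : Finset α) (π : α → G) {J : G} (hT : ∀ c x, x ∈ T → act c x ∈ T)
    (hπ : ∀ c x, x ∈ T → π (act c x) = c * π x * c⁻¹) (hJ : ∀ x ∈ T, π x ∈ cls J)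
    [DecidableEq G] :
    T.card = (cls J).card * (T.filter fun x => π x = J).card := by
  classical
  rw [Finset.card_eq_sum_card_fiberwise (t := cls J) (f := π) hJ]
  refine (Finset.sum_congr rfl (fun z hz => ?_)).trans (by rw [Finset.sum_const, smul_eq_mul])
  obtain ⟨c, hc⟩ := isConj_iff.mp (mem_cls.mp hz)
  refine Finset.card_bij' (fun x _ => act c⁻¹ x) (fun x _ => act c x) ?_ ?_ ?_ ?_
  · intro x hx
    obtain ⟨hx, hxz⟩ := Finset.mem_filter.mp hx
    refine Finset.mem_filter.mpr ⟨hT _ _ hx, ?_⟩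
    rw [hπ _ _ hx, hxz, ← hc]
    group
  · intro x hx
    obtain ⟨hx, hxz⟩ := Finset.mem_filter.mp hx
    exact Finset.mem_filter.mpr ⟨hT _ _ hx, by rw [hπ _ _ hx, hxz, hc]⟩
  · intro x _
    simpa using hact c⁻¹ x
  · intro x _
    exact hact c x

/-- The data: an embedded dihedral Sylow 2-subgroup, one class of involutions, and the map of the
centralizer of the central involution onto the dihedral group. -/
structure Setup (G : Type u) [Group G] [Fintype G] (h : ℕ) where
  hpos : 0 < h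
  heven : Even h
  emb : DihedralGroup (2 * h) →* G
  inj : Function.Injective emb
  S : Sylow 2 G
  range : emb.range = (S : Subgroup G)
  one_class : ∀ t : G, orderOf t = 2 → IsConj (emb (r (h : ZMod (2 * h)))) t
  psi : Subgroup.centralizer ({emb (r (h : ZMod (2 * h)))} : Set G) →* DihedralGroup (2 * h)
  psi_emb : ∀ (g : DihedralGroup (2 * h))
    (hg : emb g ∈ Subgroup.centralizer ({emb (r (h : ZMod (2 * h)))} : Set G)), psi ⟨emb g, hg⟩ = g
  psi_ker : ∀ x, psi x = 1 → Odd (orderOf x)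

/-- Existence of the data. -/
theorem exists_setup {h : ℕ} (hpos : 0 < h) (heven : Even h) (emb : DihedralGroup (2 * h) →* G)
    (inj : Function.Injective emb) (S : Sylow 2 G) (range : emb.range = (S : Subgroup G))
    (one_class : ∀ t : G, orderOf t = 2 → IsConj (emb (r (h : ZMod (2 * h)))) t) :
    ∃ D : Setup G h, D.emb = emb := by
  classical
  haveI : Fact (Nat.Prime 2) := ⟨Nat.prime_two⟩
  haveI : NeZero (2 * h) := ⟨by omega⟩
  set J := emb (r (h : ZMod (2 * h))) with hJ
  have hJ2 : orderOf J = 2 := by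
    refine orderOf_eq_prime ?_ fun e => ?_
    · rw [pow_two, hJ, ← map_mul, r_mul_r, cast_two_mul (j := h) rfl, ← one_def, map_one]
    · have := inj (e.trans emb.map_one.symm)
      rw [one_def, r.injEq] at this
      exact j_ne_zero (j := h) rfl this
  have eS : DihedralGroup (2 * h) ≃* (S : Subgroup G) :=
    (MonoidHom.ofInjective inj).trans (MulEquiv.subgroupCongr range)
  set C := Subgroup.centralizer ({J} : Set G) with hC
  obtain ⟨N, hN, hNodd, k, hk⟩ :=
    Cfsg.Agent.S0514.result S (2 * h) (by omega) ⟨eS.symm⟩ J hJ2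
  haveI : N.Normal := hN
  have hmem : ∀ g, emb g ∈ C := fun g => by
    rw [Subgroup.mem_centralizer_singleton_iff, hJ, ← map_mul, ← map_mul,
      CfsgLib.TwoGroups.DihedralFusion.rj_commute (j := h) rfl]
  let φ : DihedralGroup (2 * h) →* C ⧸ N :=
    (QuotientGroup.mk' N).comp (emb.codRestrict C hmem)
  have hφ : Function.Injective φ := by
    rw [injective_iff_map_eq_one]
    intro g hg
    have h1 : orderOf (emb.codRestrict C hmem g) ∣ Nat.card N :=
      Subgroup.orderOf_dvd_natCard N ((QuotientGroup.eq_one_iff _).mp hg)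
    rw [← Subgroup.orderOf_coe] at h1
    change orderOf (emb g) ∣ _ at h1
    have hgS : emb g ∈ (S : Subgroup G) := range ▸ ⟨g, rfl⟩
    obtain ⟨e, he⟩ := IsPGroup.iff_orderOf.mp S.isPGroup' ⟨emb g, hgS⟩
    rw [Subgroup.orderOf_mk] at he
    have := Nat.eq_one_of_dvd_coprimes ((Nat.coprime_two_left.mpr hNodd).pow_left e) he.dvd h1
    exact inj ((orderOf_eq_one_iff.mp this).trans emb.map_one.symm)
  have hbij : Function.Bijective φ := by
    refine (Nat.bijective_iff_injective_and_card φ).mpr ⟨hφ, le_antisymm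
      (Nat.card_le_card_of_injective φ hφ) (Nat.le_of_dvd Nat.card_pos ?_)⟩
    rw [Nat.card_congr eS.toEquiv, ← Subgroup.index_eq_card]
    refine Nat.Coprime.dvd_of_dvd_mul_right (n := (S : Subgroup G).index) ?_ ?_
    · rw [hk]; exact ((Nat.prime_two.coprime_iff_not_dvd).mpr S.not_dvd_index).pow_left k
    · rw [(S : Subgroup G).card_mul_index]
      exact (N.index_dvd_card).trans C.card_subgroup_dvd_card
  let e := MulEquiv.ofBijective φ hbij
  refine ⟨⟨hpos, heven, emb, inj, S, range, one_class,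
    e.symm.toMonoidHom.comp (QuotientGroup.mk' N), fun g hg => e.symm_apply_apply g,
    fun x hx => ?_⟩, rfl⟩
  have : QuotientGroup.mk' N x = 1 := e.symm.injective (hx.trans (map_one _).symm)
  exact hNodd.of_dvd_nat (Subgroup.orderOf_dvd_natCard N ((QuotientGroup.eq_one_iff _).mp this))

namespace Setup

variable {h : ℕ} (D : Setup G h)

/-- The central involution. -/
def J : G := D.emb (r (h : ZMod (2 * h)))

/-- Its centralizer. -/
abbrev C : Subgroup G := Subgroup.centralizer ({D.J} : Set G)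

/-- The map onto the dihedral group. -/
abbrev ψ : D.C →* DihedralGroup (2 * h) := D.psi

include D in
theorem neZero : NeZero (2 * h) := ⟨by have := D.hpos; omega⟩

theorem emb_mem (g : DihedralGroup (2 * h)) : D.emb g ∈ D.C := by
  haveI := D.neZero
  rw [Subgroup.mem_centralizer_singleton_iff, J, ← map_mul, ← map_mul,
    CfsgLib.TwoGroups.DihedralFusion.rj_commute (j := h) rfl]

/-- The embedding into the centralizer. -/
def ι : DihedralGroup (2 * h) →* D.C := D.emb.codRestrict D.C D.emb_mem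

theorem ψ_ι (g : DihedralGroup (2 * h)) : D.ψ (D.ι g) = g := D.psi_emb g _

include D in
theorem two_group (g : DihedralGroup (2 * h)) : ∃ e, orderOf g = 2 ^ e := by
  obtain ⟨e, he⟩ := IsPGroup.iff_orderOf.mp D.S.isPGroup' ⟨D.emb g, D.range ▸ ⟨g, rfl⟩⟩
  exact ⟨e, by rw [← orderOf_injective D.emb D.inj g]; rwa [Subgroup.orderOf_mk] at he⟩

theorem ψ_odd {x : D.C} (hx : Odd (orderOf x)) : D.ψ x = 1 := by
  obtain ⟨e, he⟩ := D.two_group (D.ψ x)
  exact orderOf_eq_one_iff.mp (Nat.eq_one_of_dvd_coprimes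
    ((Nat.coprime_two_left.mpr hx).pow_left e) he.dvd (orderOf_map_dvd D.ψ x))

theorem orderOf_J : orderOf D.J = 2 := by
  haveI := D.neZero
  refine orderOf_eq_prime ?_ fun e => ?_
  · rw [pow_two, J, ← map_mul, r_mul_r, cast_two_mul (j := h) rfl, ← one_def, map_one]
  · have := D.inj (e.trans D.emb.map_one.symm)
    rw [one_def, r.injEq] at this
    exact j_ne_zero (j := h) rfl this

/-- A 2-element of the centralizer is conjugate there into the dihedral group. -/
theorem exists_conj_emb {x : D.C} (hx : ∃ e, orderOf x = 2 ^ e) :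
    ∃ (c : D.C) (g : DihedralGroup (2 * h)), c * x * c⁻¹ = D.ι g := by
  haveI : Fact (Nat.Prime 2) := ⟨Nat.prime_two⟩
  obtain ⟨e, he⟩ := hx
  have hle : (D.S : Subgroup G) ≤ D.C := by
    rw [← D.range]; rintro _ ⟨g, rfl⟩; exact D.emb_mem g
  obtain ⟨c, hc⟩ := exists_conj_le_sylow (T := Subgroup.zpowers x)
    (IsPGroup.of_card (n := e) (by rw [Nat.card_zpowers, he])) (D.S.subtype hle)
  have hm : ((c * x * c⁻¹ : D.C) : G) ∈ (D.S : Subgroup G) := hc x (Subgroup.mem_zpowers x)
  rw [← D.range] at hm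
  obtain ⟨g, hg⟩ := hm
  exact ⟨c, g, Subtype.ext hg.symm⟩

open scoped Classical in
/-- The involutions of the centralizer. -/
def inv2 : Finset D.C := Finset.univ.filter fun i => orderOf i = 2

theorem mem_inv2 {i : D.C} : i ∈ D.inv2 ↔ orderOf i = 2 := by
  classical
  simp [inv2]

theorem inv2_cases {i : D.C} (hi : orderOf i = 2) :
    (i : G) = D.J ∨ ∃ b, IsConj (D.ι (sr b)) i := by
  haveI := D.neZero
  obtain ⟨c, g, hg⟩ := D.exists_conj_emb (x := i) ⟨1, by rw [hi, pow_one]⟩
  have ho : orderOf (D.ι g) = 2 := by rw [← hg, orderOf_conj_eq, hi]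
  have hιinj : Function.Injective D.ι := fun a b e => D.inj (congrArg Subtype.val e)
  rw [orderOf_injective D.ι hιinj] at ho
  rcases involution_cases (j := h) rfl (mul_self_eq_one ho) (ne_one_of_involution ho) with
    rfl | ⟨b, rfl⟩
  · left
    have e : (i : G) = (c : G)⁻¹ * D.J * (c : G) := by
      have := congrArg Subtype.val hg
      simp only [Subgroup.coe_mul, InvMemClass.coe_inv] at this
      rw [show D.J = ((D.ι (r (h : ZMod (2 * h))) : D.C) : G) from rfl, ← this]
      group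
    rw [e, mul_assoc, ← Subgroup.mem_centralizer_singleton_iff.mp c.2, inv_mul_cancel_left]
  · exact Or.inr ⟨b, isConj_iff.mpr ⟨c⁻¹, by rw [← hg]; group⟩⟩

theorem ψ_inv2 {i : D.C} (hi : orderOf i = 2) :
    ((i : G) = D.J ∧ D.ψ i = r (h : ZMod (2 * h))) ∨ ∃ a, D.ψ i = sr a := by
  rcases D.inv2_cases hi with e | ⟨b, hb⟩
  · refine Or.inl ⟨e, ?_⟩
    rw [show i = D.ι (r (h : ZMod (2 * h))) from Subtype.ext e, D.ψ_ι]
  · obtain ⟨c, rfl⟩ := isConj_iff.mp hb
    rw [map_mul, map_mul, map_inv, D.ψ_ι]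
    rcases D.ψ c with a | a
    · exact Or.inr ⟨_, by rw [inv_r, r_mul_sr, sr_mul_r]⟩
    · exact Or.inr ⟨_, by rw [inv_sr, sr_mul_sr, r_mul_sr]⟩

open scoped Classical in
/-- The number of involutions over a reflection. -/
def fib (a : ZMod (2 * h)) : ℕ := (D.inv2.filter fun i => D.ψ i = sr a).card

theorem fib_eq {a b : ZMod (2 * h)} [NeZero (2 * h)]
    (hab : parity (j := h) (m := 2 * h) rfl a = parity (j := h) (m := 2 * h) rfl b) :
    D.fib a = D.fib b := by
  classical
  obtain ⟨g, hg⟩ := sr_conj (j := h) rfl hab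
  refine Finset.card_bij' (fun i _ => D.ι g * i * (D.ι g)⁻¹) (fun i _ => (D.ι g)⁻¹ * i * D.ι g)
    ?_ ?_ ?_ ?_
  · intro i hi
    simp only [Finset.mem_filter, mem_inv2, orderOf_conj_eq, map_mul, map_inv, D.ψ_ι] at hi ⊢
    rw [hi.2]
    exact ⟨hi.1, hg⟩
  · intro i hi
    simp only [Finset.mem_filter, mem_inv2, map_mul, map_inv, D.ψ_ι] at hi ⊢
    rw [hi.2]
    refine ⟨?_, by rw [← hg]; group⟩
    rw [show (D.ι g)⁻¹ * i * D.ι g = (D.ι g)⁻¹ * i * ((D.ι g)⁻¹)⁻¹ by group, orderOf_conj_eq, hi.1]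
  · intro i _; group
  · intro i _; group

open scoped Classical in
theorem sum_fib [NeZero (2 * h)] {s t : DihedralGroup (2 * h)}
    (hs : s = sr 0) (ht : t = sr (-1)) :
    ∑ a, D.fib a = (cls (D.ι s)).card + (cls (D.ι t)).card := by
  subst hs ht
  have hpar : ∀ {b : ZMod (2 * h)} {i : D.C}, i ∈ cls (D.ι (sr b)) →
      ∃ a, D.ψ i = sr a ∧ parity (j := h) (m := 2 * h) rfl a = parity (j := h) rfl b := by
    intro b i hi
    obtain ⟨c, rfl⟩ := isConj_iff.mp (mem_cls.mp hi)
    obtain ⟨a, ha⟩ : ∃ a, D.ψ c * sr b * (D.ψ c)⁻¹ = sr a := by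
      rcases D.ψ c with a | a
      · exact ⟨_, by rw [inv_r, r_mul_sr, sr_mul_r]⟩
      · exact ⟨_, by rw [inv_sr, sr_mul_sr, r_mul_sr]⟩
    exact ⟨a, by rw [map_mul, map_mul, map_inv, D.ψ_ι, ha], (parity_conj (j := h) rfl ha).symm⟩
  have hmem : ∀ {b : ZMod (2 * h)} {i : D.C}, i ∈ cls (D.ι (sr b)) → orderOf i = 2 := by
    intro b i hi
    rw [orderOf_eq_of_isConj (mem_cls.mp hi), ← Subgroup.orderOf_coe]
    show orderOf (D.emb (sr b)) = 2
    rw [orderOf_injective D.emb D.inj, orderOf_sr]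
  rw [← Finset.card_union_of_disjoint]
  · unfold fib
    rw [← Finset.card_biUnion (fun a _ b _ hab => Finset.disjoint_left.mpr fun i ha hb => hab
      (by simpa using (Finset.mem_filter.mp ha).2.symm.trans (Finset.mem_filter.mp hb).2))]
    congr 1
    ext i
    simp only [Finset.mem_biUnion, Finset.mem_univ, true_and, Finset.mem_filter, mem_inv2,
      Finset.mem_union]
    constructor
    · rintro ⟨a, hi, ha⟩
      rcases D.inv2_cases hi with e | ⟨b, hb⟩
      · rw [show i = D.ι (r (h : ZMod (2 * h))) from Subtype.ext e, D.ψ_ι] at ha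
        simp at ha
      · have key : ∀ b', parity (j := h) (m := 2 * h) rfl b' = parity (j := h) rfl b →
            i ∈ cls (D.ι (sr b')) := fun b' hb' => by
          obtain ⟨g, hg⟩ := sr_conj (j := h) rfl hb'
          refine mem_cls.mpr (IsConj.trans (isConj_iff.mpr ⟨D.ι g, ?_⟩) hb)
          rw [← map_inv, ← map_mul, ← map_mul, hg]
        rcases zmod2_cases (parity (j := h) (m := 2 * h) rfl b) with e | e
        · exact Or.inl (key 0 (by rw [e, map_zero]))
        · exact Or.inr (key (-1) (by rw [e, map_neg, map_one, CharTwo.neg_eq]))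
    · rintro (hi | hi) <;> obtain ⟨a, ha, -⟩ := hpar hi <;> exact ⟨a, hmem hi, ha⟩
  · rw [Finset.disjoint_left]
    intro i h1 h2
    obtain ⟨a, ha, hp⟩ := hpar h1
    obtain ⟨a', ha', hp'⟩ := hpar h2
    rw [ha, sr.injEq] at ha'
    subst ha'
    rw [hp', map_zero, map_neg, map_one, CharTwo.neg_eq] at hp
    exact one_ne_zero hp

open scoped Classical in
/-- Pairs of involutions of the centralizer over a rotation. -/
def npairs (l : ZMod (2 * h)) : ℕ :=
  ((D.inv2 ×ˢ D.inv2).filter fun z => D.ψ z.1 * D.ψ z.2 = r l).card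

open scoped Classical in
theorem npairs_eq [NeZero (2 * h)] {l : ZMod (2 * h)} (hl0 : l ≠ 0) :
    D.npairs l = ∑ a, D.fib a * D.fib (a + l) := by
  simp only [npairs, fib, ← Finset.card_product]
  rw [← Finset.card_biUnion (fun a _ b _ hab => Finset.disjoint_left.mpr fun z ha hb => hab
    (by simpa using (Finset.mem_filter.mp (Finset.mem_product.mp ha).1).2.symm.trans
          (Finset.mem_filter.mp (Finset.mem_product.mp hb).1).2))]
  congr 1
  ext ⟨i, j⟩
  simp only [Finset.mem_biUnion, Finset.mem_univ, true_and, Finset.mem_filter, mem_inv2,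
    Finset.mem_product]
  constructor
  · rintro ⟨⟨hi, hj⟩, hij⟩
    rcases D.ψ_inv2 hi with ⟨-, e⟩ | ⟨a, ha⟩
    · exfalso
      rw [e] at hij
      rcases D.ψ_inv2 hj with ⟨-, e'⟩ | ⟨b, hb⟩
      · rw [e', r_mul_r, r.injEq] at hij
        exact hl0 (by rw [← hij, cast_two_mul (j := h) rfl])
      · rw [hb, r_mul_sr] at hij
        simp at hij
    · refine ⟨a, ⟨hi, ha⟩, hj, ?_⟩
      rw [ha] at hij
      rcases D.ψ_inv2 hj with ⟨-, e'⟩ | ⟨b, hb⟩
      · rw [e', sr_mul_r] at hij
        simp at hij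
      · rw [hb, sr_mul_sr, r.injEq] at hij
        rw [hb, ← hij, add_sub_cancel]
  · rintro ⟨a, ⟨hi, ha⟩, hj, hb⟩
    exact ⟨⟨hi, hj⟩, by rw [ha, hb, sr_mul_sr, add_sub_cancel_left]⟩

theorem npairs_neg (l : ZMod (2 * h)) : D.npairs (-l) = D.npairs l := by
  classical
  have hinv : ∀ i : D.C, orderOf i = 2 → D.ψ i = (D.ψ i)⁻¹ := fun i hi => by
    rw [← map_inv, inv_eq_of_mul_eq_one_right (mul_self_eq_one hi)]
  refine Finset.card_bij' (fun z _ => (z.2, z.1)) (fun z _ => (z.2, z.1)) ?_ ?_ ?_ ?_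
  · intro z hz
    simp only [Finset.mem_filter, Finset.mem_product, mem_inv2] at hz ⊢
    refine ⟨⟨hz.1.2, hz.1.1⟩, ?_⟩
    rw [hinv _ hz.1.2, hinv _ hz.1.1, ← mul_inv_rev, hz.2, inv_r, neg_neg]
  · intro z hz
    simp only [Finset.mem_filter, Finset.mem_product, mem_inv2] at hz ⊢
    refine ⟨⟨hz.1.2, hz.1.1⟩, ?_⟩
    rw [hinv _ hz.1.2, hinv _ hz.1.1, ← mul_inv_rev, hz.2, inv_r]
  · intro z _; rfl
  · intro z _; rfl

open scoped Classical in
/-- The two counts together. -/
theorem count_sq [NeZero (2 * h)] :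
    h * (D.npairs (h : ZMod (2 * h)) + D.npairs 1) =
      ((cls (D.ι (sr 0))).card + (cls (D.ι (sr (-1)))).card) ^ 2 := by
  classical
  have hh0 : (h : ZMod (2 * h)) ≠ 0 := j_ne_zero (j := h) rfl
  have h10 : (1 : ZMod (2 * h)) ≠ 0 := fun e => by
    have := (ZMod.natCast_eq_zero_iff 1 (2 * h)).mp (by rw [Nat.cast_one]; exact e)
    have := Nat.le_of_dvd one_pos this
    have := D.hpos
    omega
  rw [D.npairs_eq hh0, D.npairs_eq h10,
    ← D.sum_fib rfl rfl, ← Finset.sum_add_distrib]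
  set R := D.fib 0 + D.fib 1
  have hph : parity (j := h) (m := 2 * h) rfl (h : ZMod (2 * h)) = 0 := by
    rw [map_natCast]
    exact (ZMod.natCast_eq_zero_iff _ _).2 D.heven.two_dvd
  have hR : ∀ a, D.fib a + D.fib (a + 1) = R := by
    intro a
    rcases zmod2_cases (parity (j := h) (m := 2 * h) rfl a) with e | e
    · rw [D.fib_eq (a := a) (b := 0) (by rw [e, map_zero]),
        D.fib_eq (a := a + 1) (b := 1) (by rw [map_add, e, zero_add])]
    · rw [D.fib_eq (a := a) (b := 1) (by rw [e, map_one]),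
        D.fib_eq (a := a + 1) (b := 0) (by rw [map_add, e, map_one, map_zero]; decide),
        add_comm]
  have hsum : ∑ a, D.fib a = h * R := by
    have e1 : ∑ a, D.fib (a + 1) = ∑ a, D.fib a :=
      Fintype.sum_equiv (Equiv.addRight (1 : ZMod (2 * h))) _ _ fun a => rfl
    have e2 : ∑ a, (D.fib a + D.fib (a + 1)) = 2 * h * R := by
      simp [hR]
    rw [Finset.sum_add_distrib, e1, mul_assoc] at e2
    omega
  have hterm : ∀ a, D.fib a * D.fib (a + (h : ZMod (2 * h))) + D.fib a * D.fib (a + 1) =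
      D.fib a * R := fun a => by
    rw [D.fib_eq (a := a + (h : ZMod (2 * h))) (b := a) (by rw [map_add, hph, add_zero]), ← mul_add,
      hR]
  simp only [hterm, ← Finset.sum_mul, hsum]
  ring

/-- The rotations over which a section lies. -/
def rot (l : ZMod (2 * h)) : Finset (DihedralGroup (2 * h)) := {r l, r (-l)}

theorem conj_mem_rot {l : ZMod (2 * h)} {g : DihedralGroup (2 * h)} (hg : g ∈ rot l)
    (s : DihedralGroup (2 * h)) : s * g * s⁻¹ ∈ rot l := by
  simp only [rot, Finset.mem_insert, Finset.mem_singleton] at hg ⊢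
  rcases hg with rfl | rfl <;> rcases s with b | b
  · left; rw [inv_r, r_mul_r, r_mul_r]; simp
  · right; rw [inv_sr, sr_mul_r, sr_mul_sr]; simp
  · right; rw [inv_r, r_mul_r, r_mul_r]; simp
  · left; rw [inv_sr, sr_mul_r, sr_mul_sr]; simp

section Fibre

variable {l : ZMod (2 * h)} (hu : invOf (D.emb (r l)) = D.J)
include hu

theorem fibre_iff (g : G) :
    (g ∈ sect (D.emb (r l)) ∧ invOf g = D.J) ↔ ∃ hg : g ∈ D.C, D.ψ ⟨g, hg⟩ ∈ rot l := by
  have hne : D.emb (r l) ≠ 1 := fun e => by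
    rw [e, invOf, one_pow] at hu
    exact ne_one_of_involution D.orderOf_J hu.symm
  constructor
  · rintro ⟨hg, hgJ⟩
    obtain ⟨x, hx, hxu⟩ := mem_sect.mp hg
    have hgC : g ∈ D.C := by
      rw [Subgroup.mem_centralizer_singleton_iff, ← hgJ]
      exact ((Commute.refl g).pow_right _).eq
    refine ⟨hgC, ?_⟩
    obtain ⟨c, hc⟩ := isConj_iff.mp hxu
    have hx1 : x ≠ 1 := fun e => hne (conj_eq_one_iff.mp (hc.trans e))
    have hgx := invOf_eq_of_pPart hx hx1
    rw [hgJ] at hgx
    have hcC : c ∈ D.C := by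
      rw [← hc, invOf_conj, hu] at hgx
      exact Subgroup.mem_centralizer_singleton_iff.mpr (mul_inv_eq_iff_eq_mul.mp hgx.symm)
    obtain ⟨y, hy, hcm, -, hyo⟩ := hx
    have hxC : x ∈ D.C := hc ▸ mul_mem (mul_mem hcC (D.emb_mem _)) (inv_mem hcC)
    have hyC : y ∈ D.C := by
      rw [show y = x⁻¹ * g by rw [← hy]; group]
      exact mul_mem (inv_mem hxC) hgC
    rw [show (⟨g, hgC⟩ : D.C) = (⟨c, hcC⟩ * D.ι (r l) * (⟨c, hcC⟩ : D.C)⁻¹) * ⟨y, hyC⟩ from
      Subtype.ext (by
        show g = c * D.emb (r l) * c⁻¹ * y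
        rw [hc, hy]), map_mul, D.ψ_odd (x := (⟨y, hyC⟩ : D.C))
        (by rw [Subgroup.orderOf_mk]; exact Nat.not_even_iff_odd.mp fun e => hyo e.two_dvd), mul_one,
      map_mul, map_mul, map_inv, D.ψ_ι]
    exact conj_mem_rot (by simp [rot]) _
  · rintro ⟨hgC, hg⟩
    obtain ⟨e, hx, -⟩ := CfsgLib.Blocks.exists_pPart_exponent Nat.prime_two
      (isOfFinOrder_of_finite g)
    obtain ⟨y, hy, hcm, ⟨k, hk⟩, hyo⟩ := id hx
    set xC : D.C := ⟨g, hgC⟩ ^ e with hxC
    have hxv : (xC : G) = g ^ e := by simp [hxC]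
    have hyC : y ∈ D.C := by
      rw [show y = (g ^ e)⁻¹ * g by rw [← eq_inv_mul_of_mul_eq hy]]
      exact mul_mem (inv_mem (Subgroup.pow_mem _ hgC _)) hgC
    have hψ : D.ψ xC ∈ rot l := by
      rw [show (⟨g, hgC⟩ : D.C) = xC * ⟨y, hyC⟩ from Subtype.ext (by simp [hxC, hy]), map_mul,
        D.ψ_odd (x := (⟨y, hyC⟩ : D.C))
        (by rw [Subgroup.orderOf_mk]; exact Nat.not_even_iff_odd.mp fun e => hyo e.two_dvd), mul_one] at hg
      exact hg
    obtain ⟨c, d, hd⟩ := D.exists_conj_emb (x := xC) ⟨k, by rw [← Subgroup.orderOf_coe, hxv, hk]⟩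
    have hdr : d ∈ rot l := by
      have h' := congrArg D.ψ hd
      rw [map_mul, map_mul, map_inv, D.ψ_ι] at h'
      rw [← h']
      exact conj_mem_rot hψ _
    have hud : IsConj (D.emb (r l)) (D.emb d) ∧ invOf (D.emb d) = D.J := by
      simp only [rot, Finset.mem_insert, Finset.mem_singleton] at hdr
      rcases hdr with rfl | rfl
      · exact ⟨IsConj.refl _, hu⟩
      · have e : D.emb (sr 0) * D.emb (r l) * (D.emb (sr 0))⁻¹ = D.emb (r (-l)) := by
          rw [← map_inv, ← map_mul, ← map_mul, inv_sr, sr_mul_r, sr_mul_sr]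
          simp
        refine ⟨isConj_iff.mpr ⟨_, e⟩, ?_⟩
        rw [← e, invOf_conj, hu,
          Subgroup.mem_centralizer_singleton_iff.mp (D.emb_mem (sr 0)), mul_inv_cancel_right]
    have hd' : (c : G) * g ^ e * (c : G)⁻¹ = D.emb d := by
      rw [← hxv]; exact congrArg Subtype.val hd
    have hxd : g ^ e = (c : G)⁻¹ * D.emb d * ((c : G)⁻¹)⁻¹ := by rw [← hd']; group
    have hx1 : g ^ e ≠ 1 := fun he => by
      have h2 := hud.2
      rw [← hd', he, mul_one, mul_inv_cancel, invOf, one_pow] at h2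
      exact ne_one_of_involution D.orderOf_J h2.symm
    refine ⟨mem_sect.mpr ⟨g ^ e, hx, hud.1.trans (isConj_iff.mpr ⟨_, hxd.symm⟩)⟩, ?_⟩
    rw [invOf_eq_of_pPart hx hx1, hxd, invOf_conj, hud.2,
      Subgroup.mem_centralizer_singleton_iff.mp (inv_mem c.2), mul_inv_cancel_right]

theorem invOf_mem_cls {g : G} (hg : g ∈ sect (D.emb (r l))) : invOf g ∈ cls D.J := by
  obtain ⟨x, hx, hxu⟩ := mem_sect.mp hg
  obtain ⟨c, hc⟩ := isConj_iff.mp hxu
  have hne : x ≠ 1 := fun e => by
    rw [conj_eq_one_iff.mp (hc.trans e), invOf, one_pow] at hu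
    exact ne_one_of_involution D.orderOf_J hu.symm
  exact mem_cls.mpr (isConj_iff.mpr ⟨c, by rw [invOf_eq_of_pPart hx hne, ← hc, invOf_conj, hu]⟩)

open scoped Classical in
theorem card_sect : (sect (D.emb (r l))).card =
    (cls D.J).card * ((rot l).card * Nat.card D.ψ.ker) := by
  have hconj : ∀ c g, g ∈ sect (D.emb (r l)) → c * g * c⁻¹ ∈ sect (D.emb (r l)) := fun c g hg => by
    obtain ⟨x, hx, hxu⟩ := mem_sect.mp hg
    exact mem_sect.mpr ⟨_, CfsgLib.Blocks.IsPPart.conj hx c, hxu.trans (isConj_iff.mpr ⟨c, rfl⟩)⟩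
  rw [card_equivariant (fun c g => c * g * c⁻¹) (fun c g => by group) _ invOf hconj
    (fun c g _ => invOf_conj c g) (fun g hg => D.invOf_mem_cls hu hg) (J := D.J)]
  congr 1
  calc _ = (Finset.univ.filter fun g : D.C => D.ψ g ∈ rot l).card := by
        refine (Finset.card_bij (fun (g : D.C) _ => (g : G)) ?_ (fun a _ b _ e => by exact Subtype.ext e) ?_).symm
        · intro g hg
          exact Finset.mem_filter.mpr ((D.fibre_iff hu g).mpr ⟨g.2, (Finset.mem_filter.mp hg).2⟩)
        · intro g hg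
          obtain ⟨hgC, hg'⟩ := (D.fibre_iff hu g).mp (Finset.mem_filter.mp hg)
          exact ⟨⟨g, hgC⟩, Finset.mem_filter.mpr ⟨Finset.mem_univ _, hg'⟩, rfl⟩
    _ = ∑ d ∈ rot l, (Finset.univ.filter fun g : D.C => D.ψ g = d).card := by
        rw [Finset.card_eq_sum_card_fiberwise (s := Finset.univ.filter fun g : D.C => D.ψ g ∈ rot l)
          (f := D.ψ) (t := rot l) (fun g hg => Finset.mem_coe.mpr
            (Finset.mem_filter.mp (Finset.mem_coe.mp hg)).2)]
        refine Finset.sum_congr rfl fun d hd => ?_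
        rw [Finset.filter_filter]
        congr 1
        ext g
        simp only [Finset.mem_filter, Finset.mem_univ, true_and]
        exact ⟨fun h => h.2, fun h => ⟨by rw [h]; exact hd, h⟩⟩
    _ = _ := by
        rw [Finset.sum_const_nat (m := Nat.card D.ψ.ker) fun d _ => ?_]
        refine Eq.trans ?_ (Eq.symm (Nat.card_eq_fintype_card.trans (Fintype.card_of_subtype
          (Finset.univ.filter fun g : D.C => D.ψ g = 1) fun g => by simp [MonoidHom.mem_ker])))
        refine Finset.card_bij' (fun g _ => (D.ι d)⁻¹ * g) (fun g _ => D.ι d * g) ?_ ?_ ?_ ?_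
        · intro g hg
          simp only [Finset.mem_filter, Finset.mem_univ, true_and] at hg ⊢
          rw [map_mul, map_inv, D.ψ_ι, hg, inv_mul_cancel]
        · intro g hg
          simp only [Finset.mem_filter, Finset.mem_univ, true_and] at hg ⊢
          rw [map_mul, D.ψ_ι, hg, mul_one]
        · intro g _; simp
        · intro g _; simp

open scoped Classical in
theorem card_pairs : (pairs D.J D.J (sect (D.emb (r l)))).card =
    (cls D.J).card * ((D.inv2 ×ˢ D.inv2).filter fun z => D.ψ z.1 * D.ψ z.2 ∈ rot l).card := by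
  have hK : ∀ t, t ∈ cls D.J ↔ orderOf t = 2 := fun t => by
    rw [mem_cls]
    exact ⟨fun h => (orderOf_eq_of_isConj h).trans D.orderOf_J, fun h => D.one_class t h⟩
  have hmem : ∀ z : G × G, z ∈ pairs D.J D.J (sect (D.emb (r l))) ↔
      (orderOf z.1 = 2 ∧ orderOf z.2 = 2) ∧ z.1 * z.2 ∈ sect (D.emb (r l)) := fun z => by
    simp [pairs, hK]
  rw [card_equivariant (fun c z => (c * z.1 * c⁻¹, c * z.2 * c⁻¹))
    (fun c z => by simp [mul_assoc]) _
    (fun z => invOf (z.1 * z.2)) (J := D.J)]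
  · congr 1
    symm
    refine Finset.card_bij (fun z _ => ((z.1 : G), (z.2 : G))) ?_ ?_ ?_
    · intro z hz
      simp only [Finset.mem_filter, Finset.mem_product, mem_inv2] at hz
      obtain ⟨⟨h1, h2⟩, h3⟩ := hz
      have := (D.fibre_iff hu ((z.1 * z.2 : D.C) : G)).mpr ⟨(z.1 * z.2).2, by rwa [map_mul]⟩
      exact Finset.mem_filter.mpr ⟨(hmem _).mpr ⟨⟨by rw [Subgroup.orderOf_coe, h1],
        by rw [Subgroup.orderOf_coe, h2]⟩, this.1⟩, this.2⟩
    · intro a _ b _ e
      exact Prod.ext (Subtype.ext (congrArg Prod.fst e)) (Subtype.ext (congrArg Prod.snd e))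
    · rintro ⟨i, j⟩ hz
      obtain ⟨hz, hzJ⟩ := Finset.mem_filter.mp hz
      obtain ⟨⟨hi, hj⟩, hij⟩ := (hmem _).mp hz
      simp only at hi hj hij hzJ
      obtain ⟨hgC, hg⟩ := (D.fibre_iff hu (i * j)).mp ⟨hij, hzJ⟩
      have hinv : i * (i * j) * i⁻¹ = (i * j)⁻¹ := by
        rw [mul_inv_rev, inv_eq_of_mul_eq_one_right (mul_self_eq_one hi),
          inv_eq_of_mul_eq_one_right (mul_self_eq_one hj), ← mul_assoc i i j, mul_self_eq_one hi,
          one_mul]
      have hiJ : i * D.J * i⁻¹ = D.J := by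
        conv_lhs => rw [← hzJ, ← invOf_conj, hinv, invOf, orderOf_inv, inv_pow]
        change (invOf (i * j))⁻¹ = _
        rw [hzJ, inv_eq_of_mul_eq_one_right (mul_self_eq_one D.orderOf_J)]
      have hiC : i ∈ D.C := Subgroup.mem_centralizer_singleton_iff.mpr (mul_inv_eq_iff_eq_mul.mp hiJ)
      have hjC : j ∈ D.C := by
        rw [show j = i⁻¹ * (i * j) by group]
        exact mul_mem (inv_mem hiC) hgC
      refine ⟨(⟨i, hiC⟩, ⟨j, hjC⟩), Finset.mem_filter.mpr ⟨Finset.mem_product.mpr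
        ⟨D.mem_inv2.mpr (by rw [Subgroup.orderOf_mk, hi]),
          D.mem_inv2.mpr (by rw [Subgroup.orderOf_mk, hj])⟩, ?_⟩, rfl⟩
      rw [← map_mul]
      exact hg
  · intro c z hz
    rw [hmem] at hz ⊢
    obtain ⟨⟨h1, h2⟩, h3⟩ := hz
    obtain ⟨x, hx, hxu⟩ := mem_sect.mp h3
    refine ⟨⟨by rw [orderOf_conj_eq, h1], by rw [orderOf_conj_eq, h2]⟩, mem_sect.mpr
      ⟨c * x * c⁻¹, ?_, hxu.trans (isConj_iff.mpr ⟨c, rfl⟩)⟩⟩
    rw [show c * z.1 * c⁻¹ * (c * z.2 * c⁻¹) = c * (z.1 * z.2) * c⁻¹ by group]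
    exact CfsgLib.Blocks.IsPPart.conj hx c
  · intro c z _
    show invOf (c * z.1 * c⁻¹ * (c * z.2 * c⁻¹)) = _
    rw [show c * z.1 * c⁻¹ * (c * z.2 * c⁻¹) = c * (z.1 * z.2) * c⁻¹ by group, invOf_conj]
  · intro z hz
    exact D.invOf_mem_cls hu ((hmem z).mp hz).2

end Fibre

theorem card_C : Nat.card D.C = 2 * (2 * h) * Nat.card D.ψ.ker := by
  rw [← D.ψ.ker.card_mul_index, Subgroup.index_ker, mul_comm]
  congr 1
  rw [MonoidHom.range_eq_top.mpr (fun g => ⟨D.ι g, D.ψ_ι g⟩), Subgroup.card_top,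
    DihedralGroup.nat_card]

end Setup

end CfsgLib.DihedralCount
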