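import Cfsg.Agent.Lib.Blocks12.DihedralBlock
import Cfsg.Agent.Lib.Blocks12.DihedralCount
import Cfsg.Agent.Lib.TwoGroups.Semidihedral

/-!
The order formula for a group with dihedral Sylow 2-subgroups and one class of involutions.
-/

set_option autoImplicit false
set_option linter.style.haveILetI false

namespace CfsgLib.DihedralOrder

open Cfsg CfsgLib.Characters
open CfsgLib.ClassCount (cls pairs card_cls_mul_centralizer)
open CfsgLib.DihedralCount (sect mem_sect Setup invOf)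
open CfsgLib.DihedralBlock (Labels root_sum root_half)
open CfsgLib.DihedralSigma (SigmaFacts)
open scoped ComplexConjugate Classical

universe u

variable {G : Type u} [Group G] [Fintype G] {M : Ideal AlgInt}

theorem blockPart_one (hM : IsPModular 2 M) (y : G) :
    blockPart (principalBlock M G) (fun _ => (1 : ℂ)) y = 1 := by
  rw [CfsgLib.Blocks.blockPart_eq_sum,
    Finset.sum_eq_single (principalIrr G)]
  · rw [show (fun _ : G => (1 : ℂ)) = ((principalIrr G : IrrCharacter G) : G → ℂ) from rfl,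
      classInner_irr_self (principalIrr G).2, principalIrr_apply, mul_one]
  · intro χ _ hχ
    rw [show (fun _ : G => (1 : ℂ)) = ((principalIrr G : IrrCharacter G) : G → ℂ) from rfl,
      classInner_irr_ne (principalIrr G).2 χ.2 (fun e => hχ (Subtype.ext e).symm), zero_mul]
  · intro h
    have hp : principalIrr G ∈ principalBlock M G := CfsgLib.Blocks.sameBlock_refl hM _
    exact absurd (Finset.mem_filter.mpr ⟨Finset.mem_univ _, hp⟩) h

/-- The sum of a character over a section. -/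
theorem sum_sect_out (hM : IsPModular 2 M) (u : G) {χ : IrrCharacter G}
    (hχ : χ ∉ principalBlock M G) : ∑ g ∈ sect u, (χ : G → ℂ) g⁻¹ = 0 := by
  set B := principalBlock M G
  set θ : G → ℂ := fun g => if g ∈ sect u then 1 else 0 with hθ
  have hB := CfsgLib.Blocks.isPBlock_principalBlock (G := G) M
  have hlin : ∀ g, blockPart B (fun c => 1 - θ c) g = 1 - blockPart B θ g := fun g => by
    conv_rhs => rw [← blockPart_one hM g]
    simp only [B, CfsgLib.Blocks.blockPart_eq_sum, classInner, sub_mul, Finset.sum_sub_distrib, mul_sub]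
  have hpart : ∀ g, blockPart B θ g = θ g := fun g => by
    obtain ⟨z, hz⟩ := CfsgLib.Blocks.exists_isPPart Nat.prime_two g
    by_cases hg : g ∈ sect u
    · obtain ⟨x, hx, hux⟩ := mem_sect.mp hg
      have h0 : blockPart B (fun c => 1 - θ c) g = 0 :=
        CfsgLib.Blocks.blockPart_eq_zero_of_section hM hB (x := u) (fun v w hv hw => by
          simp [hθ, mem_sect.mpr ⟨w, hv, hw⟩]) hx hux
      rw [hlin, sub_eq_zero] at h0
      rw [← h0]; simp [hθ, hg]
    · have h0 : blockPart B θ g = 0 :=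
        CfsgLib.Blocks.blockPart_eq_zero_of_section hM hB (x := z) (fun v w hv hw => by
          refine if_neg fun hv' => hg ?_
          obtain ⟨x, hx, hux⟩ := mem_sect.mp hv'
          exact mem_sect.mpr ⟨z, hz, hux.trans (CfsgLib.Blocks.IsPPart.unique Nat.prime_two hx hv ▸ hw.symm)⟩)
          hz (IsConj.refl z)
      rw [h0]; simp [hθ, hg]
  have h1 : classInner θ (χ : G → ℂ) = 0 := by
    rw [show θ = fun g => blockPart B θ g from funext fun g => (hpart g).symm]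
    simp only [CfsgLib.Blocks.blockPart_eq_sum]
    rw [show (fun g => ∑ ξ ∈ Finset.univ.filter (· ∈ B), classInner θ (ξ : G → ℂ) * (ξ : G → ℂ) g) =
      ∑ ξ ∈ Finset.univ.filter (· ∈ B), classInner θ (ξ : G → ℂ) • (ξ : G → ℂ) by funext g; simp,
      classInner_sum_left]
    refine Finset.sum_eq_zero fun ξ hξ => ?_
    rw [classInner_smul_left, classInner_irr_ne ξ.2 χ.2 (fun e => hχ (by
      rw [← Subtype.ext e]; exact (Finset.mem_filter.mp hξ).2)), mul_zero]
  rw [classInner, mul_eq_zero, or_iff_right (by simp [Nat.card_pos.ne'])] at h1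
  rw [← h1]
  simp only [hθ, ite_mul, one_mul, zero_mul, irr_apply_inv]
  rw [Finset.sum_ite_mem, Finset.univ_inter]

/-- Principal block characters are constant on the section. -/
theorem value_sect (hM : IsPModular 2 M) {u : G}
    (hnc : ∃ k, (pPrimeCore 2 (Subgroup.centralizer ({u} : Set G))).index = 2 ^ k)
    {χ : IrrCharacter G} (hχ : χ ∈ principalBlock M G) {g : G} (hg : g ∈ sect u) :
    (χ : G → ℂ) g = (χ : G → ℂ) u := by
  haveI : Fact (Nat.Prime 2) := ⟨Nat.prime_two⟩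
  obtain ⟨x, hx, hux⟩ := mem_sect.mp hg
  obtain ⟨c, rfl⟩ := isConj_iff.mp hux
  obtain ⟨y, rfl, hc, ⟨e, he⟩, hy⟩ := hx
  set y' := c⁻¹ * y * c with hy'
  have hcy : Commute u y' := by
    show u * (c⁻¹ * y * c) = c⁻¹ * y * c * u
    calc u * (c⁻¹ * y * c) = c⁻¹ * (c * u * c⁻¹ * y) * c := by group
      _ = c⁻¹ * y * c * u := by rw [hc.eq]; group
  have hoy : ¬ 2 ∣ orderOf y' := by
    rw [hy', show c⁻¹ * y * c = c⁻¹ * y * c⁻¹⁻¹ by group, CfsgLib.Involutions.orderOf_conj_eq]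
    exact hy
  rw [show c * u * c⁻¹ * y = c * (u * y') * c⁻¹ by rw [hy']; group, irr_isClassFunction χ]
  set C := Subgroup.centralizer ({u} : Set G)
  have hyC : y' ∈ C := Subgroup.mem_centralizer_singleton_iff.mpr hcy.symm.eq
  obtain ⟨k, hk⟩ := hnc
  haveI : (pPrimeCore 2 C).Normal := inferInstance
  have hmem : (⟨y', hyC⟩ : C) ∈ pPrimeCore 2 C := by
    rw [← QuotientGroup.eq_one_iff, ← orderOf_eq_one_iff]
    have h1 : orderOf ((⟨y', hyC⟩ : C) : C ⧸ pPrimeCore 2 C) ∣ 2 ^ k := by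
      rw [← hk]; exact orderOf_dvd_natCard _
    have h2 := orderOf_map_dvd (QuotientGroup.mk' (pPrimeCore 2 C)) (⟨y', hyC⟩ : C)
    rw [Subgroup.orderOf_mk] at h2
    exact Nat.eq_one_of_dvd_coprimes
      (((Nat.prime_two.coprime_iff_not_dvd).mpr hoy).pow_left k) h1 h2
  have hodd : ¬ 2 ∣ Nat.card (pPrimeCore 2 C) := CfsgLib.PCore.not_dvd_card_pPrimeCore (p := 2) (G := C)
  exact CfsgLib.Blocks.principal_apply_mul hM
    ⟨e, by rw [← he, CfsgLib.Involutions.orderOf_conj_eq]⟩ (N := pPrimeCore 2 C) hodd hmem hχ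

/-- The pairs into a section, in terms of the principal block. -/
theorem pairs_sect (hM : IsPModular 2 M) {J u : G}
    (hnc : ∃ k, (pPrimeCore 2 (Subgroup.centralizer ({u} : Set G))).index = 2 ^ k)
    (hreal : ∀ χ : IrrCharacter G, conj ((χ : G → ℂ) u) = (χ : G → ℂ) u) :
    ((pairs J J (sect u)).card : ℂ) * (Nat.card (Subgroup.centralizer ({J} : Set G)) : ℂ) ^ 2 =
      (sect u).card * ((Nat.card G : ℂ) * ∑ χ ∈ Finset.univ.filter (· ∈ principalBlock M G),
        (χ : G → ℂ) J ^ 2 * (χ : G → ℂ) u / (χ : G → ℂ) 1) := by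
  rw [pow_two, ← mul_assoc, CfsgLib.ClassCount.card_pairs_mul_centralizers]
  rw [← Finset.sum_filter_add_sum_filter_not Finset.univ (· ∈ principalBlock M G),
    Finset.sum_eq_zero (s := Finset.univ.filter fun χ => ¬ χ ∈ principalBlock M G) fun χ hχ => by
      rw [sum_sect_out hM u (Finset.mem_filter.mp hχ).2, mul_zero, mul_zero],
    add_zero, Finset.mul_sum, Finset.mul_sum]
  refine Finset.sum_congr rfl fun χ hχ => ?_
  rw [Finset.sum_congr rfl (fun t ht => show (χ : G → ℂ) t⁻¹ = (χ : G → ℂ) u by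
    rw [irr_apply_inv, value_sect hM hnc (Finset.mem_filter.mp hχ).2 ht, hreal]),
    Finset.sum_const, nsmul_eq_mul, ← CfsgLib.ClassCount.card_div_degree]
  ring

section Sum

variable {n : ℕ} {σ : G} {ζ : ℂ} {c a b : IrrCharacter G} {L : ℕ → IrrCharacter G} {δ₁ δ₂ δ₃ : ℤ}

theorem sum_block (D : Labels M n σ ζ c a b L δ₁ δ₂ δ₃) (F : IrrCharacter G → ℂ) :
    ∑ χ ∈ Finset.univ.filter (· ∈ principalBlock M G), F χ =
      F (principalIrr G) + F c + F a + F b + ∑ k ∈ Finset.Ico 1 (2 ^ (n - 2)), F (L k) := by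
  have hset : Finset.univ.filter (· ∈ principalBlock M G) =
      insert (principalIrr G) (insert c (insert a (insert b ((Finset.Ico 1 (2 ^ (n - 2))).image L)))) := by
    ext χ
    simp only [Finset.mem_filter, Finset.mem_univ, true_and, D.mem, Finset.mem_insert,
      Finset.mem_image, Finset.mem_Ico]
    aesop
  have hmem : ∀ χ, χ ∈ (Finset.Ico 1 (2 ^ (n - 2))).image L →
      χ ≠ principalIrr G ∧ χ ≠ c ∧ χ ≠ a ∧ χ ≠ b := by
    intro χ hχ
    obtain ⟨k, hk, rfl⟩ := Finset.mem_image.mp hχ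
    rw [Finset.mem_Ico] at hk
    exact D.ne_L k hk.1 hk.2
  rw [hset, Finset.sum_insert, Finset.sum_insert, Finset.sum_insert, Finset.sum_insert,
    Finset.sum_image]
  · ring
  · intro k hk k' hk' e
    simp only [Finset.coe_Ico, Set.mem_Ico, Finset.mem_Ico] at hk hk'
    exact D.inj k k' hk.1 hk.2 hk'.1 hk'.2 e
  · exact fun hb => (hmem b hb).2.2.2 rfl
  · simp only [Finset.mem_insert, not_or]
    exact ⟨D.ne_ab, fun hb => (hmem a hb).2.2.1 rfl⟩
  · simp only [Finset.mem_insert, not_or]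
    exact ⟨D.ne_ca, D.ne_cb, fun hb => (hmem c hb).2.1 rfl⟩
  · simp only [Finset.mem_insert, not_or]
    exact ⟨D.ne_c.symm, D.ne_a.symm, D.ne_b.symm, fun hb => (hmem _ hb).1 rfl⟩

theorem sum_roots {h : ℕ} (hpos : 0 < h) (heven : Even h) (hζ : IsPrimitiveRoot ζ (2 * h)) :
    ∑ k ∈ Finset.Ico 1 h, (2 * (-1 : ℂ) ^ k + (ζ ^ k + (ζ ^ k)⁻¹)) = -2 := by
  have h1 : ∑ k ∈ Finset.Ico 1 h, ((-1 : ℂ) ^ k) = -1 := by
    have := neg_one_geom_sum (R := ℂ) (n := h)
    rw [if_pos heven, Finset.range_eq_Ico, Finset.sum_eq_sum_Ico_succ_bot hpos, pow_zero] at this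
    linear_combination this
  have hr : ∀ k ∈ Finset.Ico 1 h, (ζ ^ k)⁻¹ = ζ ^ (2 * h - k) := fun k hk => by
    simp only [Finset.mem_Ico] at hk
    refine (eq_inv_of_mul_eq_one_left ?_).symm
    rw [← pow_add, Nat.sub_add_cancel (by omega), hζ.pow_eq_one]
  have h2 : ∑ k ∈ Finset.Ico 1 h, (ζ ^ k + (ζ ^ k)⁻¹) = 0 := by
    rw [Finset.sum_add_distrib, Finset.sum_congr rfl hr]
    have e : ∑ k ∈ Finset.Ico 1 h, ζ ^ (2 * h - k) = ∑ k ∈ Finset.Ico (h + 1) (2 * h), ζ ^ k := by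
      refine Finset.sum_bij' (fun k _ => 2 * h - k) (fun k _ => 2 * h - k) ?_ ?_ ?_ ?_ ?_ <;>
        intro k hk <;> simp only [Finset.mem_Ico] at hk ⊢ <;> omega
    rw [e]
    have h0 : ∑ k ∈ Finset.range (2 * h), ζ ^ k = 0 := by
      have := root_sum (by omega) hζ 1
      simp only [one_mul] at this
      rw [this, if_neg (fun hd => absurd (Nat.le_of_dvd one_pos hd) (by omega))]
    rw [Finset.range_eq_Ico, ← Finset.sum_Ico_consecutive _ (Nat.zero_le h) (by omega : h ≤ 2 * h),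
      Finset.sum_eq_sum_Ico_succ_bot hpos, Finset.sum_eq_sum_Ico_succ_bot (by omega : h < 2 * h),
      pow_zero, root_half rfl hζ] at h0
    linear_combination h0
  rw [Finset.sum_add_distrib, ← Finset.mul_sum, h1, h2]
  ring

/-- The weighted sum over the block. -/
theorem weighted_sum (D : Labels M n σ ζ c a b L δ₁ δ₂ δ₃) (hn : 3 ≤ n)
    (hζ : IsPrimitiveRoot ζ (2 ^ (n - 1))) :
    (∑ χ ∈ Finset.univ.filter (· ∈ principalBlock M G),
        (χ : G → ℂ) (σ ^ (2 ^ (n - 2))) ^ 2 * ((χ : G → ℂ) (σ ^ (2 ^ (n - 2))) + (χ : G → ℂ) (σ ^ 1))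
          / (χ : G → ℂ) 1) * ((c : G → ℂ) 1 * ((c : G → ℂ) 1 + δ₁)) =
      2 * ((c : G → ℂ) 1 - δ₁) ^ 2 := by
  obtain ⟨hqh, hh⟩ := CfsgLib.DihedralBlock.two_pow_eq hn
  set h := 2 ^ (n - 2) with hh'
  have heven : Even h := Nat.even_pow.mpr ⟨even_two, by omega⟩
  set x := (c : G → ℂ) 1 with hx
  have hd1 : (δ₁ : ℂ) * δ₁ = 1 := by rcases D.sign₁ with e | e <;> rw [e] <;> norm_num
  have hd2 : (δ₂ : ℂ) * δ₂ = 1 := by rcases D.sign₂ with e | e <;> rw [e] <;> norm_num
  have hd3 : (δ₃ : ℂ) * δ₃ = 1 := by rcases D.sign₃ with e | e <;> rw [e] <;> norm_num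
  have hL1 : ∀ k, 1 ≤ k → k < h → (L k : G → ℂ) 1 = x + δ₁ := fun k h1 h2 => by
    have := D.reg_L k h1 h2 1 (by simp)
    linear_combination (-(δ₁ : ℂ)) * this + (x - (L k : G → ℂ) 1) * hd1
  have hx0 : x ≠ 0 := irr_one_ne_zero c
  have hx1 : x + δ₁ ≠ 0 := by rw [← hL1 1 le_rfl (by omega)]; exact irr_one_ne_zero _
  have hJl : ∀ χ : IrrCharacter G, ∀ k, χ = L k → 1 ≤ k → k < h →
      (χ : G → ℂ) (σ ^ h) = 2 * δ₁ * (-1) ^ k := fun χ k e h1 h2 => by
    rw [e, D.val_L k h1 h2 h (by omega) (by omega), mul_comm k h, pow_mul, root_half hqh hζ,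
      ← inv_pow, inv_neg, inv_one]
    ring
  rw [sum_block D, Finset.sum_congr rfl (fun k hk => by
    simp only [Finset.mem_Ico] at hk
    rw [hJl _ k rfl hk.1 hk.2, D.val_L k hk.1 hk.2 1 one_pos (by omega), hL1 k hk.1 hk.2, mul_one,
      show (2 * (δ₁ : ℂ) * (-1) ^ k) ^ 2 = 4 by
        rw [mul_pow, mul_pow, ← pow_mul, pow_mul', neg_one_sq, one_pow, sq (δ₁ : ℂ), hd1]; norm_num,
      show (2 * (δ₁ : ℂ) * (-1) ^ k + δ₁ * (ζ ^ k + (ζ ^ k)⁻¹)) =
        δ₁ * (2 * (-1 : ℂ) ^ k + (ζ ^ k + (ζ ^ k)⁻¹)) by ring,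
      show (4 : ℂ) * (δ₁ * (2 * (-1 : ℂ) ^ k + (ζ ^ k + (ζ ^ k)⁻¹))) / (x + δ₁) =
        (4 * δ₁ / (x + δ₁)) * (2 * (-1 : ℂ) ^ k + (ζ ^ k + (ζ ^ k)⁻¹)) by ring]),
    ← Finset.mul_sum, sum_roots (by omega) heven (hqh ▸ hζ), principalIrr_apply, principalIrr_apply,
    principalIrr_apply, D.val_c h (by omega) (by omega), D.val_c 1 one_pos (by omega),
    D.val_a h (by omega) (by omega), D.val_a 1 one_pos (by omega),
    D.val_b h (by omega) (by omega), D.val_b 1 one_pos (by omega), ← hx,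
    pow_succ (-1 : ℂ) h, heven.neg_one_pow]
  field_simp
  linear_combination (2 * x + 2 * δ₁) * (δ₁ : ℂ) * hd1

end Sum

section Main

open DihedralGroup
open CfsgLib.TwoGroups.DihedralFusion (sr_conj involution_cases zmod2_cases parity)

/-- The centralizer of a pair. -/
theorem card_centralizer_in {J t : G} (ht : t ∈ Subgroup.centralizer ({J} : Set G)) :
    Nat.card (Subgroup.centralizer ({(⟨t, ht⟩ : Subgroup.centralizer ({J} : Set G))} :
        Set (Subgroup.centralizer ({J} : Set G)))) =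
      Nat.card (Subgroup.centralizer ({J, t} : Set G)) := by
  refine Nat.card_congr
    { toFun := fun x => ⟨((x : Subgroup.centralizer ({J} : Set G)) : G), ?_⟩
      invFun := fun x => ⟨⟨x, ?_⟩, ?_⟩
      left_inv := fun x => rfl
      right_inv := fun x => rfl }
  · rw [Subgroup.mem_centralizer_iff]
    intro v hv
    rcases hv with rfl | rfl
    · exact (Subgroup.mem_centralizer_singleton_iff.mp x.1.2).symm
    · exact congrArg Subtype.val (Subgroup.mem_centralizer_singleton_iff.mp x.2).symm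
  · exact Subgroup.mem_centralizer_singleton_iff.mpr
      (Subgroup.mem_centralizer_iff.mp x.2 J (Or.inl rfl)).symm
  · exact Subgroup.mem_centralizer_singleton_iff.mpr
      (Subtype.ext (Subgroup.mem_centralizer_iff.mp x.2 t (Or.inr rfl)).symm)

/-- The embedding of the dihedral group given by the generators. -/
theorem exists_emb (P : Sylow 2 G) {σ τ : G} {h : ℕ} (hh : 2 ≤ h) (hσo : orderOf σ = 2 * h)
    (hτo : orderOf τ = 2) (hrel : τ * σ * τ⁻¹ = σ⁻¹)
    (hgen : Subgroup.closure ({σ, τ} : Set G) = (P : Subgroup G)) :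
    ∃ f : DihedralGroup (2 * h) →* G, Function.Injective f ∧ f.range = (P : Subgroup G) ∧
      f (r 1) = σ ∧ f (sr 0) = τ ∧ f (sr (-1)) = σ * τ := by
  have hu : σ ^ (2 * h) = 1 := by rw [← hσo, pow_orderOf_eq_one]
  have hv : τ * τ = 1 := CfsgLib.Involutions.mul_self_eq_one hτo
  have hnot : τ ∉ Subgroup.zpowers σ := by
    intro hm
    obtain ⟨k, hk⟩ := Subgroup.mem_zpowers_iff.mp hm
    have hc : τ * σ = σ * τ := by rw [← hk]; exact ((Commute.refl σ).zpow_left k).eq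
    have h2 : σ * σ = 1 := by
      rw [mul_eq_one_iff_eq_inv]
      rw [hc, mul_inv_cancel_right] at hrel
      exact hrel
    have := orderOf_dvd_of_pow_eq_one (x := σ) (n := 2) (by rw [pow_two]; exact h2)
    rw [hσo] at this
    have := Nat.le_of_dvd two_pos this
    omega
  refine ⟨CfsgLib.TwoGroups.SD.dihedralHom σ τ hu hv hrel,
    CfsgLib.TwoGroups.SD.dihedralHom_injective σ τ hu hv hrel hσo hnot,
    (CfsgLib.TwoGroups.SD.range_dihedralHom σ τ hu hv hrel).trans hgen, ?_, ?_, ?_⟩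
  · show σ ^ (((1 : ZMod (2 * h))).cast : ℤ) = σ
    rw [← Int.cast_one, CfsgLib.TwoGroups.SD.cast_zpow hu, zpow_one]
  · show τ * σ ^ (((0 : ZMod (2 * h))).cast : ℤ) = τ
    rw [← Int.cast_zero, CfsgLib.TwoGroups.SD.cast_zpow hu, zpow_zero, mul_one]
  · show τ * σ ^ (((-1 : ZMod (2 * h))).cast : ℤ) = σ * τ
    rw [← Int.cast_one, ← Int.cast_neg, CfsgLib.TwoGroups.SD.cast_zpow hu, zpow_neg_one, ← hrel]
    have hvi : τ⁻¹ = τ := inv_eq_of_mul_eq_one_right hv
    rw [← mul_assoc, ← mul_assoc, hv, one_mul, hvi]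

/-- The order formula. -/
theorem order_formula (hM : IsPModular 2 M) {n : ℕ} (hn : 3 ≤ n) (P : Sylow 2 G) {σ τ : G}
    (hσ : σ ∈ (P : Subgroup G)) (hσo : orderOf σ = 2 ^ (n - 1)) (hτo : orderOf τ = 2)
    (hrel : τ * σ * τ⁻¹ = σ⁻¹) (hgen : Subgroup.closure ({σ, τ} : Set G) = (P : Subgroup G))
    (hconj : IsConj (σ ^ (2 ^ (n - 2))) τ ∧ IsConj (σ ^ (2 ^ (n - 2))) (σ * τ))
    (χ₁ : IrrCharacter G) (hχ₁ : χ₁ ∈ principalBlock M G) (hne : (χ₁ : G → ℂ) ≠ (fun _ => 1))
    (δ : ℤ) (hδ : δ = 1 ∨ δ = -1)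
    (hval : ∀ l : ℕ, 0 < l → l < 2 ^ (n - 1) → (χ₁ : G → ℂ) (σ ^ l) = δ) :
    (χ₁ : G → ℂ) 1 ≠ δ ∧ (Nat.card G : ℂ) * ((χ₁ : G → ℂ) 1 - δ) ^ 2 =
      2 * (χ₁ : G → ℂ) 1 * ((χ₁ : G → ℂ) 1 + δ) *
        (Nat.card (Subgroup.centralizer ({σ ^ (2 ^ (n - 2))} : Set G)) : ℂ) ^ 3 *
        (1 / (Nat.card (Subgroup.centralizer ({σ ^ (2 ^ (n - 2)), τ} : Set G)) : ℂ) +
          1 / (Nat.card (Subgroup.centralizer ({σ ^ (2 ^ (n - 2)), σ * τ} : Set G)) : ℂ)) ^ 2 := by
  haveI : Fact (Nat.Prime 2) := ⟨Nat.prime_two⟩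
  obtain ⟨hqh, hh⟩ := CfsgLib.DihedralBlock.two_pow_eq hn
  obtain ⟨h, hh'⟩ : ∃ h, h = 2 ^ (n - 2) := ⟨_, rfl⟩
  rw [← hh'] at hqh hh hconj ⊢
  have heven : Even h := hh' ▸ Nat.even_pow.mpr ⟨even_two, by omega⟩
  have hh2 : 2 ≤ h := by omega
  haveI : NeZero (2 * h) := ⟨by omega⟩
  obtain ⟨f, hfi, hfr, hf1, hf0, hfs⟩ := exists_emb P hh2 (hσo.trans hqh) hτo hrel hgen
  have hfpow : ∀ k : ℕ, f (r (k : ZMod (2 * h))) = σ ^ k := fun k => by
    rw [← r_one_pow, map_pow, hf1]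
  have hone : ∀ t : G, orderOf t = 2 → IsConj (f (r (h : ZMod (2 * h)))) t := by
    intro t ht
    obtain ⟨c, hc⟩ := CfsgLib.Involutions.exists_conj_le_sylow
      (CfsgLib.Involutions.isPGroup_two_zpowers ht) P
    have hm : c * t * c⁻¹ ∈ (P : Subgroup G) := hc t (Subgroup.mem_zpowers t)
    rw [← hfr] at hm
    obtain ⟨g, hg⟩ := hm
    refine IsConj.trans ?_ (isConj_iff.mpr ⟨c, rfl⟩ : IsConj t (c * t * c⁻¹)).symm
    rw [← hg]
    have ho : orderOf g = 2 := by
      rw [← orderOf_injective f hfi, hg, CfsgLib.Involutions.orderOf_conj_eq, ht]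
    rcases involution_cases (j := h) rfl (CfsgLib.Involutions.mul_self_eq_one ho)
      (CfsgLib.Involutions.ne_one_of_involution ho) with rfl | ⟨b, rfl⟩
    · exact IsConj.refl _
    · have key : ∀ b', parity (j := h) (m := 2 * h) rfl b' = parity (j := h) rfl b →
          IsConj (f (sr b')) (f (sr b)) := fun b' hb' => by
        obtain ⟨s, hs⟩ := sr_conj (j := h) rfl hb'
        exact isConj_iff.mpr ⟨f s, by rw [← map_inv, ← map_mul, ← map_mul, hs]⟩
      rw [hfpow]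
      rcases zmod2_cases (parity (j := h) (m := 2 * h) rfl b) with e | e
      · refine hconj.1.trans ?_
        rw [← hf0]; exact key 0 (by rw [e, map_zero])
      · refine hconj.2.trans ?_
        rw [← hfs]; exact key (-1) (by rw [e, map_neg, map_one, CharTwo.neg_eq])
  obtain ⟨D, hD⟩ := CfsgLib.DihedralCount.exists_setup (by omega) heven f hfi P hfr hone
  have hDJ : D.J = σ ^ h := by rw [Setup.J, hD, hfpow]
  have hiso : Nonempty ((P : Subgroup G) ≃* DihedralGroup (2 ^ (n - 1))) := by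
    rw [hqh]
    exact ⟨((MonoidHom.ofInjective hfi).trans (MulEquiv.subgroupCongr hfr)).symm⟩
  have hS := CfsgLib.DihedralSigma.sigmaFacts P n hn hiso hσ hσo
  obtain ⟨ζ, hζ⟩ : ∃ ζ : ℂ, IsPrimitiveRoot ζ (2 ^ (n - 1)) :=
    ⟨_, Complex.isPrimitiveRoot_exp _ (by positivity)⟩
  obtain ⟨c, a, b, L, δ₁, δ₂, δ₃, B⟩ := CfsgLib.DihedralBlock.exists_labels hM hn hS hζ
  -- the given character
  obtain ⟨hc, hd⟩ : χ₁ = c ∧ δ = δ₁ := by
    have v1 := hval 1 one_pos (by omega)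
    have v2 := hval 2 two_pos (by omega)
    have vh := hval h (by omega) (by omega)
    have hne0 : (δ : ℂ) ≠ 0 := by rcases hδ with e | e <;> rw [e] <;> norm_num
    rcases (B.mem χ₁).mp hχ₁ with e | e | e | e | ⟨k, k1, k2, e⟩
    · exact absurd (by rw [e]; rfl) hne
    · subst e
      exact ⟨rfl, by rw [B.val_c 1 one_pos (by omega)] at v1; exact_mod_cast v1.symm⟩
    · exfalso
      rw [e, B.val_a 1 one_pos (by omega)] at v1
      rw [e, B.val_a 2 two_pos (by omega)] at v2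
      apply hne0
      linear_combination (-(1 : ℂ) / 2) * v1 - (1 / 2 : ℂ) * v2
    · exfalso
      rw [e, B.val_b 1 one_pos (by omega)] at v1
      rw [e, B.val_b 2 two_pos (by omega)] at v2
      apply hne0
      linear_combination (-(1 : ℂ) / 2) * v1 - (1 / 2 : ℂ) * v2
    · exfalso
      rw [e, B.val_L k k1 (hh' ▸ k2) h (by omega) (by omega), mul_comm k h, pow_mul,
        root_half hqh hζ, ← inv_pow, inv_neg, inv_one] at vh
      have hsq := congrArg (fun z : ℂ => z ^ 2) vh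
      simp only [mul_pow, ← two_mul, ← pow_mul, pow_mul', neg_one_sq, one_pow] at hsq
      rcases hδ with e1 | e1 <;> rcases B.sign₁ with e2 | e2 <;> rw [e1, e2] at hsq <;>
        norm_num at hsq
  subst hc hd
  -- the counts
  have hu1 : invOf (D.emb (r 1)) = D.J := by
    rw [invOf, orderOf_injective D.emb D.inj, orderOf_r_one, Nat.mul_div_cancel_left _ two_pos,
      ← map_pow, r_one_pow]
    rfl
  have hur : invOf (D.emb (r (h : ZMod (2 * h)))) = D.J := by
    show invOf D.J = D.J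
    rw [invOf, D.orderOf_J, Nat.div_self two_pos, pow_one]
  have hrot1 : (Setup.rot (h := h) 1).card = 2 := Finset.card_pair (by
    rw [ne_eq, r.injEq]
    intro e
    have h2 : ((2 : ℕ) : ZMod (2 * h)) = 0 := by push_cast; linear_combination e
    rw [ZMod.natCast_eq_zero_iff] at h2
    have := Nat.le_of_dvd two_pos h2
    omega)
  have hroth : Setup.rot (h := h) (h : ZMod (2 * h)) = {r (h : ZMod (2 * h))} := by
    have : -(h : ZMod (2 * h)) = h :=
      neg_eq_of_add_eq_zero_left (CfsgLib.TwoGroups.DihedralFusion.cast_two_mul (j := h) rfl)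
    rw [Setup.rot, this, Finset.pair_eq_singleton]
  -- equations
  set N := Nat.card D.ψ.ker
  set K := (CfsgLib.ClassCount.cls D.J).card
  set cJ := Nat.card D.C with hcJ
  have hKc : (K : ℂ) * cJ = Nat.card G := by exact_mod_cast card_cls_mul_centralizer D.J
  have hcard : cJ = 4 * h * N := by rw [hcJ, D.card_C]; ring
  set S := Finset.univ.filter (· ∈ principalBlock M G)
  have hreal : ∀ l, l ≤ 2 ^ (n - 1) → ∀ χ : IrrCharacter G,
      conj ((χ : G → ℂ) (σ ^ l)) = (χ : G → ℂ) (σ ^ l) := fun l hl χ =>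
    CfsgLib.DihedralBlock.conj_value hS χ hl
  have hcoreh : ∃ k, (pPrimeCore 2 (Subgroup.centralizer ({σ ^ h} : Set G))).index = 2 ^ k :=
    hS.core h (by omega) (by omega)
  have E1 := pairs_sect (J := D.J) hM (hS.core 1 one_pos (by omega)) (hreal 1 (by omega))
  have Eh := pairs_sect (J := D.J) hM hcoreh (hreal h (by omega))
  have hemb1 : D.emb (r 1) = σ ^ 1 := by rw [hD, hf1, pow_one]
  have hembh : D.emb (r (h : ZMod (2 * h))) = σ ^ h := hDJ
  have c1 := D.card_pairs hu1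
  have ch := D.card_pairs hur
  have s1 := D.card_sect hu1
  have sh := D.card_sect hur
  rw [hemb1] at c1 s1
  rw [hembh] at ch sh
  have hn1 : (((D.inv2 ×ˢ D.inv2).filter fun z => D.ψ z.1 * D.ψ z.2 ∈ Setup.rot 1)).card =
      2 * D.npairs 1 := by
    rw [show 2 * D.npairs 1 = D.npairs 1 + D.npairs (-1) by rw [D.npairs_neg]; omega]
    rw [Setup.npairs, Setup.npairs, ← Finset.card_union_of_disjoint, ← Finset.filter_or]
    · congr 1
      refine Finset.filter_congr fun z _ => ?_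
      simp [Setup.rot]
    · refine Finset.disjoint_filter.mpr fun z _ e1 e2 => ?_
      have hp : r (1 : ZMod (2 * h)) ≠ r (-1) := fun e => by
        have hc2 := hrot1
        rw [Setup.rot, e, Finset.pair_eq_singleton, Finset.card_singleton] at hc2
        omega
      exact hp (e1.symm.trans e2)
  have hnh : (((D.inv2 ×ˢ D.inv2).filter fun z => D.ψ z.1 * D.ψ z.2 ∈
      Setup.rot (h : ZMod (2 * h)))).card = D.npairs (h : ZMod (2 * h)) := by
    rw [Setup.npairs, hroth]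
    congr 1
    exact Finset.filter_congr fun z _ => Finset.mem_singleton
  rw [hn1] at c1
  rw [hnh] at ch
  rw [hrot1] at s1
  rw [hroth, Finset.card_singleton, one_mul] at sh
  rw [c1, s1] at E1
  rw [ch, sh] at Eh
  change ((_ : ℕ) : ℂ) * (cJ : ℂ) ^ 2 = _ at E1
  change ((_ : ℕ) : ℂ) * (cJ : ℂ) ^ 2 = _ at Eh
  push_cast at E1 Eh
  -- the squared count
  have hsq := D.count_sq
  set cl1 := (CfsgLib.ClassCount.cls (D.ι (sr 0))).card
  set cl2 := (CfsgLib.ClassCount.cls (D.ι (sr (-1)))).card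
  set c1' := Nat.card (Subgroup.centralizer ({σ ^ h, τ} : Set G))
  set c2' := Nat.card (Subgroup.centralizer ({σ ^ h, σ * τ} : Set G))
  have hcl : ∀ (s : DihedralGroup (2 * h)), (CfsgLib.ClassCount.cls (D.ι s)).card *
      Nat.card (Subgroup.centralizer ({σ ^ h, f s} : Set G)) = cJ := fun s => by
    rw [← hD, ← hDJ, ← card_centralizer_in (D.emb_mem s)]
    exact card_cls_mul_centralizer (D.ι s)
  have hcl1 : cl1 * c1' = cJ := by have := hcl (sr 0); rwa [hf0] at this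
  have hcl2 : cl2 * c2' = cJ := by have := hcl (sr (-1)); rwa [hfs] at this
  have hp1 : (c1' : ℂ) ≠ 0 := Nat.cast_ne_zero.mpr Nat.card_pos.ne'
  have hp2 : (c2' : ℂ) ≠ 0 := Nat.cast_ne_zero.mpr Nat.card_pos.ne'
  have hcJ0 : (cJ : ℂ) ≠ 0 := Nat.cast_ne_zero.mpr Nat.card_pos.ne'
  have hG0 : (Nat.card G : ℂ) ≠ 0 := Nat.cast_ne_zero.mpr Nat.card_pos.ne'
  have hW := weighted_sum B hn hζ
  rw [← hh'] at hW
  simp only [mul_add, add_div, Finset.sum_add_distrib] at hW
  rw [hDJ] at E1 Eh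
  rw [show (CfsgLib.ClassCount.cls (σ ^ h)).card = K by rw [← hDJ],
    show Nat.card D.ψ.ker = N from rfl] at E1 Eh
  set Sh := ∑ χ ∈ S, (χ : G → ℂ) (σ ^ h) ^ 2 * (χ : G → ℂ) (σ ^ h) / (χ : G → ℂ) 1
  set S1 := ∑ χ ∈ S, (χ : G → ℂ) (σ ^ h) ^ 2 * (χ : G → ℂ) (σ ^ 1) / (χ : G → ℂ) 1
  set x := (χ₁ : G → ℂ) 1
  have hK0 : (K : ℂ) ≠ 0 := fun e => hG0 (by rw [← hKc, e, zero_mul])
  have t1 : (D.npairs 1 : ℂ) * cJ ^ 2 = N * (Nat.card G * S1) := by
    refine mul_left_cancel₀ (mul_ne_zero hK0 two_ne_zero) ?_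
    linear_combination E1
  have th : (D.npairs (h : ZMod (2 * h)) : ℂ) * cJ ^ 2 = N * (Nat.card G * Sh) := by
    refine mul_left_cancel₀ hK0 ?_
    linear_combination Eh
  have hsq' : (h : ℂ) * ((D.npairs (h : ZMod (2 * h)) : ℂ) + D.npairs 1) =
      ((cl1 : ℂ) + cl2) ^ 2 := by exact_mod_cast congrArg (fun m : ℕ => (m : ℂ)) hsq
  have e1 : (cl1 : ℂ) = cJ * (1 / c1') := by
    rw [← hcl1]; push_cast; field_simp
  have e2 : (cl2 : ℂ) = cJ * (1 / c2') := by
    rw [← hcl2]; push_cast; field_simp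
  have hc4 : (cJ : ℂ) = 4 * h * N := by exact_mod_cast congrArg (fun m : ℕ => (m : ℂ)) hcard
  have main : 4 * (cJ : ℂ) ^ 3 * (1 / (c1' : ℂ) + 1 / c2') ^ 2 = Nat.card G * (Sh + S1) := by
    refine mul_left_cancel₀ hcJ0 ?_
    rw [e1, e2] at hsq'
    linear_combination (-4 * (cJ : ℂ) ^ 2) * hsq' + 4 * (h : ℂ) * (t1 + th) -
      (Nat.card G : ℂ) * (Sh + S1) * hc4
  have hfinal : (Nat.card G : ℂ) * (x - δ) ^ 2 =
      2 * x * (x + δ) * (cJ : ℂ) ^ 3 * (1 / (c1' : ℂ) + 1 / c2') ^ 2 := by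
    linear_combination (-(Nat.card G : ℂ) / 2) * hW - (x * (x + δ) / 2) * main
  refine ⟨fun e => ?_, ?_⟩
  · have hx0 : x ≠ 0 := irr_one_ne_zero χ₁
    have hx1 : x + δ ≠ 0 := by
      rw [e]
      intro hz
      exact hx0 (e.trans (by linear_combination hz / 2))
    rw [e, sub_self] at hfinal
    have hne' : 1 / (c1' : ℂ) + 1 / c2' ≠ 0 := by
      rw [div_add_div _ _ hp1 hp2, one_mul, mul_one]
      exact div_ne_zero (by
        have : (0 : ℕ) < c2' + c1' := by
          have : 0 < c2' := Nat.card_pos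
          omega
        exact_mod_cast this.ne') (mul_ne_zero hp1 hp2)
    rw [← e] at hfinal
    simp only [one_div] at hne' hfinal
    simp [hx0, hx1, hcJ0, hne'] at hfinal
  · rw [hcJ, Setup.C, hDJ] at hfinal
    exact hfinal

end Main

end CfsgLib.DihedralOrder
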