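import Cfsg.Agent.Lib.Blocks12.SixtyDegree
import Cfsg.Agent.Lib.LinGrp.Unitary
import Cfsg.Agent.Lib.Characters.Clifford
import Cfsg.Agent.Lib.Characters.NormalRes
import Cfsg.Agent.Lib.Characters.Values
import Cfsg.Agent.Lib.Characters.Scalar
import Cfsg.Agent.Lib.Characters.LinearTwist
import Cfsg.Agent.Lib.Blocks.ClassCount
import Cfsg.Agent.Lib.Solvable.Fitting
import Cfsg.Agent.Lib.OddOrder.PuigSeries

/-!
Feit: a faithful irreducible character of degree below `2 * p` and different from `p` forces the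
quotient by the `p`-core to have abelian Sylow `p`-subgroups.
-/

set_option autoImplicit false
set_option linter.style.haveILetI false

noncomputable section

namespace CfsgLib.FeitTwoP

open Cfsg CfsgLib.Characters
open scoped ComplexConjugate commutatorElement InnerProductSpace

set_option maxHeartbeats 1000000

universe u v

/-! ## An element with two close eigenvalues -/

section Close

variable {G : Type u} [Group G] [Finite G] {V : Type v} [NormedAddCommGroup V]
  [InnerProductSpace ℂ V] [FiniteDimensional ℂ V]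

theorem commute_on_invariant {g : G} (hgen : Subgroup.normalClosure {g} = ⊤) {A : G →* (V →L[ℂ] V)}
    (hA : LinGrp.IsIso' A) {p : ℕ} (hg : g ^ p = 1) (hp : p ≠ 0) {om : ℂ} (hom : om ^ p = 1)
    (hlt : ‖om - 1‖ < 1) (hq : ∀ v, A g (A g v - om • v) = A g v - om • v) :
    ∀ (k : ℕ) (U : Submodule ℂ V), Module.finrank ℂ U = k → (∀ h : G, ∀ v ∈ U, A h v ∈ U) →
      ∀ v ∈ U, ∀ h : G, A g (A h v) = A h (A g v) := by
  intro k
  induction k using Nat.strong_induction_on with
  | _ k ih =>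
  intro U hU hinv v hv h
  classical
  by_cases hsplit : ∃ U1 : Submodule ℂ V, U1 ≤ U ∧ U1 ≠ ⊥ ∧ U1 ≠ U ∧ ∀ x : G, ∀ w ∈ U1, A x w ∈ U1
  · obtain ⟨U1, hle, hne0, hne, hinv1⟩ := hsplit
    set U2 := U1ᗮ ⊓ U with hU2
    have hinv2 : ∀ x : G, ∀ w ∈ U2, A x w ∈ U2 := by
      intro x w hw
      refine Submodule.mem_inf.mpr ⟨(Submodule.mem_orthogonal _ _).mpr fun u hu => ?_,
        hinv x w hw.2⟩
      have e : u = A x (A x⁻¹ u) := by
        rw [← LinGrp.apply_mul, mul_inv_cancel, LinGrp.apply_one]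
      rw [e, LinGrp.inner_map hA]
      exact (Submodule.mem_orthogonal _ _).mp hw.1 _ (hinv1 _ u hu)
    have hlt1 : Module.finrank ℂ U1 < k := hU ▸ Submodule.finrank_lt_finrank_of_lt (lt_of_le_of_ne hle hne)
    have hlt2 : Module.finrank ℂ U2 < k := by
      refine hU ▸ Submodule.finrank_lt_finrank_of_lt (lt_of_le_of_ne inf_le_right fun e => hne0 ?_)
      rw [eq_bot_iff]
      intro u hu
      have hu2 : u ∈ U2 := e.symm ▸ hle hu
      rw [Submodule.mem_bot, ← inner_self_eq_zero (𝕜 := ℂ)]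
      exact (Submodule.mem_orthogonal _ _).mp hu2.1 u hu
    have hdec : v = U1.starProjection v + (v - U1.starProjection v) := by abel
    have h1 : U1.starProjection v ∈ U1 := U1.starProjection_apply_mem v
    have h2 : v - U1.starProjection v ∈ U2 :=
      Submodule.mem_inf.mpr ⟨U1.sub_starProjection_mem_orthogonal v, U.sub_mem hv (hle h1)⟩
    rw [hdec]
    simp only [map_add]
    rw [ih _ hlt1 U1 rfl hinv1 _ h1 h, ih _ hlt2 U2 rfl hinv2 _ h2 h]
  push Not at hsplit
  let AU : G →* (U →L[ℂ] U) :=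
    { toFun := fun x => ((A x).comp U.subtypeL).codRestrict U fun w => hinv x w w.2
      map_one' := by ext w; simp
      map_mul' := fun x y => by
        ext w
        show A (x * y) (w : V) = A x (A y (w : V))
        exact LinGrp.apply_mul x y _ }
  have hAU : ∀ x (w : U), ((AU x w : U) : V) = A x w := fun x w => rfl
  have hiso : LinGrp.IsIso' AU := fun x w => by
    rw [← Submodule.norm_coe, hAU, hA, Submodule.norm_coe]
  have hirr : ∀ X : Submodule ℂ U, (∀ x : G, ∀ w ∈ X, AU x w ∈ X) → X = ⊥ ∨ X = ⊤ := by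
    intro X hX
    by_cases h0 : X.map U.subtype = ⊥
    · left
      exact Submodule.map_injective_of_injective U.injective_subtype (by rw [h0, Submodule.map_bot])
    · right
      refine Submodule.map_injective_of_injective U.injective_subtype ?_
      rw [Submodule.map_subtype_top]
      by_contra hne
      obtain ⟨x, w, hw, hxw⟩ := hsplit (X.map U.subtype) (Submodule.map_subtype_le U X) h0 hne
      obtain ⟨w', hw', rfl⟩ := hw
      exact hxw ⟨AU x w', hX x w' hw', hAU x w'⟩
  by_cases hv0 : v = 0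
  · subst hv0; simp
  -- an eigenvalue
  obtain ⟨lam, hlam, hex⟩ : ∃ lam : ℂ, (lam = 1 ∨ lam = om) ∧ ∃ w : U, w ≠ 0 ∧ AU g w = lam • w := by
    by_cases hw0 : A g v - om • v = 0
    · exact ⟨om, Or.inr rfl, ⟨v, hv⟩, fun e => hv0 (congrArg Subtype.val e),
        Subtype.ext (sub_eq_zero.mp hw0)⟩
    · refine ⟨1, Or.inl rfl, ⟨A g v - om • v, U.sub_mem (hinv g v hv) (U.smul_mem _ hv)⟩,
        fun e => hw0 (congrArg Subtype.val e), Subtype.ext ?_⟩
      rw [one_smul, hAU]
      exact hq v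
  have hev : ∀ (w : U) (μ : ℂ), w ≠ 0 → AU g w = μ • w → ‖μ - lam‖ ≤ ‖om - 1‖ := by
    intro w μ hw hμ
    have hμ' : A g (w : V) = μ • (w : V) := by rw [← hAU, hμ]; rfl
    have hwV : (w : V) ≠ 0 := fun e => hw (Subtype.ext e)
    have h := hq (w : V)
    simp only [hμ', map_smul, ← sub_smul, smul_smul] at h
    have hμc : μ = 1 ∨ μ = om := by
      have h' := smul_left_injective ℂ hwV h
      have : (μ - 1) * (μ - om) = 0 := by linear_combination h'
      rcases mul_eq_zero.mp this with e | e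
      · exact Or.inl (sub_eq_zero.mp e)
      · exact Or.inr (sub_eq_zero.mp e)
    rcases hμc with rfl | rfl <;> rcases hlam with rfl | rfl <;>
      simp [norm_sub_rev]
  have hl : lam ^ p = 1 := by rcases hlam with rfl | rfl <;> simp [hom]
  have hscal := SixtyDegree.scalar_of_close hiso hirr hg hp hgen hl hex (norm_nonneg _) hlt hev
  have e1 : A g v = lam • v := congrArg Subtype.val (hscal ⟨v, hv⟩)
  have e2 : A g (A h v) = lam • A h v := congrArg Subtype.val (hscal ⟨A h v, hinv h v hv⟩)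
  rw [e2, e1, map_smul]

theorem commute_in_subgroup {A : G →* (V →L[ℂ] V)} (hA : LinGrp.IsIso' A) {S : Subgroup G} {g : S}
    (hgen : Subgroup.normalClosure {g} = ⊤) {p : ℕ} (hg : g ^ p = 1) (hp : p ≠ 0) {om : ℂ}
    (hom : om ^ p = 1) (hlt : ‖om - 1‖ < 1)
    (hq : ∀ v, A (g : G) (A (g : G) v - om • v) = A (g : G) v - om • v) (h : S) (v : V) :
    A (g : G) (A (h : G) v) = A (h : G) (A (g : G) v) :=
  commute_on_invariant hgen (A := A.comp S.subtype) (fun x w => hA x w) hg hp hom hlt hq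
    _ ⊤ rfl (fun _ _ _ => Submodule.mem_top) v Submodule.mem_top h

end Close

variable {G : Type u} [Group G] [Fintype G]

/-- An element with two eigenvalues at distance less than one lies in the `p`-core. -/
theorem mem_pCore_of_close {p : ℕ} [hp : Fact p.Prime] {n : ℕ}
    (ρ : Representation ℂ G (Fin n → ℂ)) (hinj : Function.Injective ρ) {g : G} (hg : g ^ p = 1)
    {om : ℂ} (hom : om ^ p = 1) (hlt : ‖om - 1‖ < 1)
    (hq : ∀ v, ρ g (ρ g v - om • v) = ρ g v - om • v) : g ∈ Cfsg.pCore p G := by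
  classical
  obtain ⟨S, hS⟩ := ({S : Subgroup G | S.IsSubnormal ∧ g ∈ S}).toFinite.exists_minimal
    ⟨⊤, Subgroup.IsSubnormal.top, Subgroup.mem_top g⟩
  obtain ⟨hSn, hgS⟩ := hS.prop
  set g' : S := ⟨g, hgS⟩ with hg'
  have hgen : Subgroup.normalClosure {g'} = ⊤ := by
    set L := (Subgroup.normalClosure {g'}).map S.subtype with hL
    have hle : L ≤ S := Subgroup.map_subtype_le _
    have hn : (L.subgroupOf S).Normal := by
      rw [hL, Subgroup.subgroupOf, Subgroup.comap_map_eq_self_of_injective S.subtype_injective]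
      infer_instance
    have hmem : L ∈ {S : Subgroup G | S.IsSubnormal ∧ g ∈ S} :=
      ⟨Subgroup.IsSubnormal.step L S hle hSn hn, ⟨g', Subgroup.subset_normalClosure rfl, rfl⟩⟩
    have heq : L = S := le_antisymm hle (hS.le_of_le hmem hle)
    refine Subgroup.map_injective S.subtype_injective ?_
    rw [← MonoidHom.range_eq_map, Subgroup.range_subtype]
    exact heq
  obtain ⟨m, hm, W, A, e, hA, hiso⟩ := LinGrp.exists_unitary_model ρ
  have hiso' : LinGrp.IsIso' (V := W) A := hiso
  have hq' : ∀ w : W, A g (A g w - om • w) = A g w - om • w := by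
    intro w
    obtain ⟨v, rfl⟩ := e.surjective w
    rw [hA, ← map_smul, ← map_sub, hA, hq]
  have hcen : g' ∈ Subgroup.center S := by
    refine Subgroup.mem_center_iff.mpr fun h => Subtype.ext (hinj (LinearMap.ext fun v => e.injective ?_))
    have := commute_in_subgroup (V := W) hiso' hgen (Subtype.ext hg : g' ^ p = 1) hp.out.ne_zero hom hlt hq' h (e v)
    simp only [hg', hA] at this
    simp only [Subgroup.coe_mul, map_mul, Module.End.mul_apply, hg']
    exact this.symm
  have hz : (Subgroup.zpowers g').Normal := ⟨fun x hx k => by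
    obtain ⟨i, rfl⟩ := Subgroup.mem_zpowers_iff.mp hx
    have hc : Commute k (g' ^ i) := ((show Commute k g' from Subgroup.mem_center_iff.mp hcen k)).zpow_right i
    rw [hc.eq, mul_inv_cancel_right]
    exact ⟨i, rfl⟩⟩
  have htop : Subgroup.zpowers g' = ⊤ := top_le_iff.mp (hgen ▸
    Subgroup.normalClosure_le_normal (Set.singleton_subset_iff.mpr (Subgroup.mem_zpowers g')))
  refine Fitting.subnormal_pGroup_le_pCore hSn ?_ hgS
  intro x
  refine ⟨1, ?_⟩
  obtain ⟨i, rfl⟩ := Subgroup.mem_zpowers_iff.mp (htop ▸ Subgroup.mem_top x)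
  rw [pow_one, ← zpow_natCast, ← zpow_mul, mul_comm, zpow_mul, zpow_natCast,
    show g' ^ p = 1 from Subtype.ext hg, one_zpow]

/-! ## The degree argument -/

theorem deg_eq {χ : G → ℂ} (h : IsIrrCharacter G χ) : χ 1 = (charDegree χ : ℂ) :=
  (CfsgLib.ClassCount.degree_eq ⟨χ, h⟩).1

theorem deg_pos {χ : G → ℂ} (h : IsIrrCharacter G χ) : 0 < charDegree χ :=
  (CfsgLib.ClassCount.degree_eq ⟨χ, h⟩).2.2

theorem degree_sum {χ : G → ℂ} (hχ : IsIrrCharacter G χ) {H : Subgroup G} [Fintype H]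
    (m : IrrCharacter H → ℕ)
    (hsum : (fun x : H => χ x) = ∑ ψ : IrrCharacter H, (m ψ : ℂ) • (ψ : H → ℂ)) :
    charDegree χ = ∑ ψ : IrrCharacter H, m ψ * charDegree (ψ : H → ℂ) := by
  have hd := congrFun hsum 1
  simp only [Finset.sum_apply, Pi.smul_apply, smul_eq_mul, OneMemClass.coe_one] at hd
  rw [deg_eq hχ, Finset.sum_congr rfl fun ψ _ => by rw [deg_eq (ψ : IrrCharacter H).2]] at hd
  exact_mod_cast hd

theorem linear_commutator {H : Type u} [Group H] {ψ : IrrCharacter H}
    (h : charDegree (ψ : H → ℂ) = 1) {c : H} (hc : c ∈ commutator H) :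
    (ψ : H → ℂ) c = (ψ : H → ℂ) 1 := by
  obtain ⟨f, hf⟩ := CfsgLib.LinearTwist.exists_hom_of_charDegree_one (irr_isCharacter ψ) h
  have h1 : f c = 1 := Abelianization.commutator_subset_ker f hc
  rw [congrFun hf c, congrFun hf 1, h1, map_one]

omit [Fintype G] in
/-- A subgroup with linear constituents is commutative. -/
theorem comm_of_linear {χ : G → ℂ} (hχ : IsIrrCharacter G χ)
    (hfaith : ∀ g : G, χ g = χ 1 → g = 1) (H : Subgroup G) [Fintype H]
    (h : ∀ ψ : IrrCharacter H, classInner (fun x : H => χ x) (ψ : H → ℂ) ≠ 0 →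
      charDegree (ψ : H → ℂ) = 1) : ∀ a ∈ H, ∀ b ∈ H, a * b = b * a := by
  classical
  intro a ha b hb
  obtain ⟨m, hm, hsum⟩ := Clifford.exists_mult (Clifford.isCharacter_subtype (isCharacter_of_irr hχ) H)
  have hc : (⁅(⟨a, ha⟩ : H), ⟨b, hb⟩⁆ : H) ∈ commutator H :=
    Subgroup.commutator_mem_commutator (Subgroup.mem_top _) (Subgroup.mem_top _)
  have key : χ ((⁅(⟨a, ha⟩ : H), ⟨b, hb⟩⁆ : H) : G) = χ 1 := by
    have e1 := congrFun hsum ⁅(⟨a, ha⟩ : H), ⟨b, hb⟩⁆
    have e2 := congrFun hsum 1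
    simp only [Finset.sum_apply, Pi.smul_apply, smul_eq_mul, OneMemClass.coe_one] at e1 e2
    rw [e1, e2]
    refine Finset.sum_congr rfl fun ψ _ => ?_
    rcases eq_or_ne (m ψ) 0 with h0 | h0
    · rw [h0, Nat.cast_zero, zero_mul, zero_mul]
    · rw [linear_commutator (h ψ (by rw [hm]; exact_mod_cast h0)) hc]
  exact commutatorElement_eq_one_iff_mul_comm.mp (hfaith _ key)

/-- The multiplicity over a central subgroup is at least the degree of a constituent. -/
theorem exists_linear_mult {χ : G → ℂ} (hχ : IsIrrCharacter G χ) {R H : Subgroup G} [Fintype R]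
    [Fintype H] (hRH : R ≤ H) (hc : ∀ r ∈ R, ∀ h ∈ H, r * h = h * r) (φ : IrrCharacter H)
    (hφ : classInner (fun x : H => χ x) (φ : H → ℂ) ≠ 0) :
    ∃ (ψ : IrrCharacter R) (m : ℕ), classInner (fun x : R => χ x) (ψ : R → ℂ) = (m : ℂ) ∧
      charDegree (φ : H → ℂ) ≤ m ∧ charDegree (ψ : R → ℂ) = 1 := by
  classical
  obtain ⟨φ₀, d, σ, hσ, rfl⟩ := φ
  haveI := hσ
  set incl : R →* H := Subgroup.inclusion hRH with hincl
  have hcen : ∀ r : R, ∃ c : ℂ, σ (incl r) = c • (1 : Module.End ℂ (Fin d → ℂ)) := fun r =>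
    CfsgLib.CharScalar.center_scalar σ (Subgroup.mem_center_iff.mpr fun h =>
      Subtype.ext (hc r r.2 h h.2).symm)
  choose c hc' using hcen
  haveI := CfsgLib.CharScalar.nontrivial_of_irreducible σ
  obtain ⟨v, hv⟩ := exists_ne (0 : Fin d → ℂ)
  have hcs : ∀ r, σ (incl r) v = c r • v := fun r => by
    rw [hc', LinearMap.smul_apply, Module.End.one_apply]
  let f : R →* ℂ :=
    { toFun := c
      map_one' := by
        have := hcs 1
        rw [map_one, map_one, Module.End.one_apply] at this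
        exact (smul_left_injective ℂ hv (by simpa using this.symm))
      map_mul' := fun a b => by
        refine smul_left_injective ℂ hv ?_
        show c (a * b) • v = (c a * c b) • v
        rw [← hcs, map_mul, map_mul, Module.End.mul_apply, hcs, map_smul, hcs, smul_smul, mul_comm] }
  let ψ : IrrCharacter R := ⟨_, isIrrCharacter_of_hom f.toHomUnits⟩
  have hψv : ∀ r, (ψ : R → ℂ) r = c r := fun r => rfl
  have hψ1 : charDegree (ψ : R → ℂ) = 1 := by
    show ⌊((ψ : R → ℂ) 1).re⌋₊ = 1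
    rw [hψv, show c 1 = 1 from f.map_one]
    simp
  obtain ⟨mult, hmult, hsum⟩ :=
    Clifford.exists_mult (Clifford.isCharacter_subtype (isCharacter_of_irr hχ) H)
  set φH : IrrCharacter H := ⟨σ.character, d, σ, hσ, rfl⟩ with hφH
  have hk : ∀ ξ : IrrCharacter H, ∃ k : ℕ,
      classInner (fun x : R => (ξ : H → ℂ) (incl x)) (ψ : R → ℂ) = (k : ℂ) := fun ξ =>
    classInner_char_nat (Clifford.isCharacter_pullback (irr_isCharacter ξ) incl) (irr_isCharacter ψ)
  choose k hk using hk
  have hres : (fun x : R => χ x) =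
      ∑ ξ : IrrCharacter H, (mult ξ : ℂ) • (fun x : R => (ξ : H → ℂ) (incl x)) := by
    funext x
    have := congrFun hsum (incl x)
    simp only [Finset.sum_apply, Pi.smul_apply, smul_eq_mul] at this ⊢
    exact this
  refine ⟨ψ, ∑ ξ : IrrCharacter H, mult ξ * k ξ, ?_, ?_, hψ1⟩
  · rw [hres, classInner_sum_left, Nat.cast_sum]
    refine Finset.sum_congr rfl fun ξ _ => ?_
    rw [classInner_smul_left, hk ξ, Nat.cast_mul]
  · have h1 : k φH = charDegree σ.character := by
      have := hk φH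
      rw [show (fun x : R => (φH : H → ℂ) (incl x)) =
          (charDegree σ.character : ℂ) • (ψ : R → ℂ) from funext fun r => by
        show σ.character (incl r) = _
        rw [Pi.smul_apply, hψv, smul_eq_mul, ← deg_eq ⟨d, σ, hσ, rfl⟩]
        simp only [Representation.character, hc', map_smul, smul_eq_mul, map_one, mul_comm],
        classInner_smul_left, classInner_irr_self ψ.2, mul_one] at this
      exact_mod_cast this.symm
    have hm0 : 1 ≤ mult φH := Nat.one_le_iff_ne_zero.mpr fun e => hφ (by rw [hmult, e, Nat.cast_zero])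
    refine le_trans ?_ (Finset.single_le_sum (f := fun ξ => mult ξ * k ξ) (fun _ _ => Nat.zero_le _)
      (Finset.mem_univ φH))
    rw [show charDegree (⟨σ.character, d, σ, hσ, rfl⟩ : IrrCharacter H).1 = k φH from h1.symm]
    exact Nat.le_mul_of_pos_left _ hm0

theorem sq_not_dvd_factorial {p n : ℕ} [hp : Fact p.Prime] (hn : n < 2 * p) :
    ¬ p ^ 2 ∣ n.factorial := by
  intro h
  have h1 := (padicValNat_dvd_iff_le (p := p) n.factorial_ne_zero).mp h
  have hlog : Nat.log p n < 2 := Nat.log_lt_of_lt_pow' two_ne_zero (by nlinarith [hp.out.two_le])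
  rw [padicValNat_factorial hlog] at h1
  simp only [show Finset.Ico 1 2 = {1} by rfl, Finset.sum_singleton, pow_one] at h1
  have : n / p < 2 := Nat.div_lt_of_lt_mul (by linarith)
  omega

theorem close_root {p : ℕ} (h7 : 7 ≤ p) :
    ‖Complex.exp (2 * Real.pi * Complex.I / p) - 1‖ < 1 := by
  rw [show (2 * Real.pi * Complex.I / p : ℂ) = Complex.I * ((2 * Real.pi / p : ℝ) : ℂ) by
    push_cast; ring]
  refine (Real.norm_exp_I_mul_ofReal_sub_one_le).trans_lt ?_
  have hp : (7 : ℝ) ≤ p := by exact_mod_cast h7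
  rw [Real.norm_eq_abs, abs_of_pos (by positivity), div_lt_one (by linarith)]
  nlinarith [Real.pi_lt_d2]

/-- The structure theorem. -/
theorem not_sq_dvd_index {χ : IrrCharacter G}
    (hfaith : ∀ g : G, (χ : G → ℂ) g = (χ : G → ℂ) 1 → g = 1) {n : ℕ}
    (hn : charDegree (χ : G → ℂ) = n) {p : ℕ} [hp : Fact p.Prime] (h7 : 7 ≤ p) (hn2 : n < 2 * p)
    (hnp : n ≠ p) (P : Sylow p G)
    (hna : ¬ ∀ a ∈ (P : Subgroup G), ∀ b ∈ (P : Subgroup G), a * b = b * a) :
    ¬ p ^ 2 ∣ (Cfsg.pCore p G).index := by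
  classical
  have hχ := χ.2
  set Ps := (P : Subgroup G) with hPs
  letI := Fintype.ofFinite Ps
  obtain ⟨m, hm, hsum⟩ :=
    Clifford.exists_mult (Clifford.isCharacter_subtype (irr_isCharacter χ) Ps)
  have hdeg := degree_sum hχ m hsum
  rw [hn] at hdeg
  have hsingle : ∀ φ : IrrCharacter Ps, m φ * charDegree (φ : Ps → ℂ) ≤ n := fun φ => hdeg ▸
    Finset.single_le_sum (f := fun ψ : IrrCharacter Ps => m ψ * charDegree (ψ : Ps → ℂ))
      (fun _ _ => Nat.zero_le _) (Finset.mem_univ φ)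
  have hpow : ∀ φ : IrrCharacter Ps, m φ ≠ 0 →
      charDegree (φ : Ps → ℂ) = 1 ∨ charDegree (φ : Ps → ℂ) = p := by
    intro φ hφ
    obtain ⟨k, hk⟩ := IsPGroup.iff_card.mp P.2
    obtain ⟨j, -, hj⟩ := (Nat.dvd_prime_pow hp.out).mp (hk ▸ (CfsgLib.ClassCount.degree_eq φ).2.1)
    rcases j with _ | _ | j
    · left; simpa using hj
    · right; simpa using hj
    · exfalso
      have h1 : p ^ 2 ≤ n := (Nat.pow_le_pow_right hp.out.pos (by omega : 2 ≤ j + 2)).trans
        (hj ▸ (Nat.le_mul_of_pos_left _ (Nat.pos_of_ne_zero hφ)).trans (hsingle φ))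
      nlinarith
  obtain ⟨φ₀, hφ₀m, hφ₀⟩ : ∃ φ : IrrCharacter Ps, m φ ≠ 0 ∧ charDegree (φ : Ps → ℂ) = p := by
    by_contra hc
    push Not at hc
    exact hna (comm_of_linear hχ hfaith Ps fun φ hφ =>
      (hpow φ fun e => hφ (by rw [hm, e, Nat.cast_zero])).resolve_right
        (hc φ fun e => hφ (by rw [hm, e, Nat.cast_zero])))
  have hm1 : m φ₀ = 1 := by
    have h1 := hsingle φ₀
    rw [hφ₀] at h1
    by_contra h
    have : 2 ≤ m φ₀ := by omega
    nlinarith
  have hpn : p < n := by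
    have h1 := hsingle φ₀
    rw [hφ₀, hm1, one_mul] at h1
    omega
  rw [← Finset.add_sum_erase _ _ (Finset.mem_univ φ₀), hm1, one_mul, hφ₀] at hdeg
  have hother : ∀ φ ∈ Finset.univ.erase φ₀, m φ ≠ 0 → charDegree (φ : Ps → ℂ) = 1 := by
    intro φ hφ hφm
    refine (hpow φ hφm).resolve_right fun e => ?_
    have h1 := Finset.single_le_sum (f := fun ψ : IrrCharacter Ps => m ψ * charDegree (ψ : Ps → ℂ))
      (fun _ _ => Nat.zero_le _) hφ
    rw [e] at h1
    have h2 := Nat.le_mul_of_pos_left p (Nat.pos_of_ne_zero hφm)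
    omega
  -- the central element
  haveI : Group.IsNilpotent Ps := P.2.isNilpotent
  have hcom : commutator Ps ≠ ⊥ := fun h => hna fun a ha b hb => by
    refine commutatorElement_eq_one_iff_mul_comm.mp ?_
    have hc : (⁅(⟨a, ha⟩ : Ps), ⟨b, hb⟩⁆ : Ps) ∈ commutator Ps :=
      Subgroup.commutator_mem_commutator (Subgroup.mem_top _) (Subgroup.mem_top _)
    rw [h, Subgroup.mem_bot] at hc
    exact congrArg Subtype.val hc
  have hne := CfsgLib.OddOrder.PuigSeries.inf_center_ne_bot (commutator Ps) hcom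
  obtain ⟨z, hz⟩ : ∃ z : ↥(commutator Ps ⊓ Subgroup.center Ps), orderOf z = p := by
    refine exists_prime_orderOf_dvd_card' p ?_
    obtain ⟨k, hk⟩ := IsPGroup.iff_card.mp (P.2.to_subgroup (commutator Ps ⊓ Subgroup.center Ps))
    rw [hk]
    refine dvd_pow_self p fun h0 => ?_
    rw [h0, pow_zero] at hk
    exact hne (by rw [inf_comm]; exact Subgroup.card_eq_one.mp hk)
  set y : Ps := (z : Ps) with hy
  have hyo : orderOf y = p := by rw [hy, Subgroup.orderOf_coe, hz]
  have hyc : y ∈ commutator Ps := z.2.1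
  have hyz : y ∈ Subgroup.center Ps := z.2.2
  obtain ⟨φf, d, σ, hσ, rfl⟩ := φ₀
  haveI := hσ
  obtain ⟨w, hw⟩ := CfsgLib.CharScalar.center_scalar σ hyz
  have hσ1 : σ.character 1 = (p : ℂ) := by
    rw [deg_eq ⟨d, σ, hσ, rfl⟩]
    exact_mod_cast hφ₀
  have hφy : ∀ i : ℕ, σ.character (y ^ i) = (p : ℂ) * w ^ i := by
    intro i
    rw [← hσ1]
    simp only [Representation.character, map_pow, hw, smul_pow, one_pow, map_smul, smul_eq_mul,
      map_one]
    ring
  have hχy : ∀ i : ℕ, (χ : G → ℂ) ((y ^ i : Ps) : G) = (p : ℂ) * w ^ i + ((n - p : ℕ) : ℂ) := by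
    intro i
    have := congrFun hsum (y ^ i)
    simp only [Finset.sum_apply, Pi.smul_apply, smul_eq_mul] at this
    rw [this, ← Finset.add_sum_erase _ _ (Finset.mem_univ (⟨σ.character, d, σ, hσ, rfl⟩ : IrrCharacter Ps)),
      hm1, Nat.cast_one, one_mul,
      show (⟨σ.character, d, σ, hσ, rfl⟩ : IrrCharacter Ps).1 (y ^ i) = (p : ℂ) * w ^ i from hφy i,
      show n - p = ∑ φ ∈ Finset.univ.erase (⟨σ.character, d, σ, hσ, rfl⟩ : IrrCharacter Ps),
        m φ * charDegree (φ : Ps → ℂ) from Nat.sub_eq_of_eq_add' hdeg, Nat.cast_sum]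
    congr 1
    refine Finset.sum_congr rfl fun φ hφ => ?_
    rcases eq_or_ne (m φ) 0 with h0 | h0
    · simp [h0]
    · rw [linear_commutator (hother φ hφ h0) (pow_mem hyc i), deg_eq φ.2, hother φ hφ h0]
      simp
  have hwp : w ^ p = 1 := by
    have h1 := hφy p
    rw [← hyo, pow_orderOf_eq_one, hyo, hσ1] at h1
    exact ((mul_eq_left₀ (Nat.cast_ne_zero.mpr hp.out.ne_zero)).mp h1.symm)
  have hw1 : w ≠ 1 := by
    intro e
    have h1 := hχy 1
    rw [pow_one, e, pow_one, mul_one, ← Nat.cast_add, Nat.add_sub_cancel' hpn.le, ← hn, ← deg_eq hχ] at h1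
    have hy1 : y = 1 := Subtype.ext (hfaith _ h1)
    rw [hy1, orderOf_one] at hyo
    exact hp.out.one_lt.ne hyo
  haveI : NeZero p := ⟨hp.out.ne_zero⟩
  set ζ := Complex.exp (2 * Real.pi * Complex.I / p) with hζdef
  have hζ : IsPrimitiveRoot ζ p := Complex.isPrimitiveRoot_exp p hp.out.ne_zero
  obtain ⟨j, -, hj⟩ := ((orderOf_eq_prime hwp hw1) ▸ IsPrimitiveRoot.orderOf w : IsPrimitiveRoot w p).eq_pow_of_pow_eq_one hζ.pow_eq_one
  set g : G := ((y ^ j : Ps) : G) with hgdef
  have hgp : g ^ p = 1 := by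
    rw [hgdef, ← Subgroup.coe_pow, ← pow_mul, mul_comm, pow_mul, ← hyo, pow_orderOf_eq_one, one_pow]
    rfl
  have hχg : ∀ i : ℕ, (χ : G → ℂ) (g ^ i) = (p : ℂ) * ζ ^ i + ((n - p : ℕ) : ℂ) := by
    intro i
    rw [hgdef, ← Subgroup.coe_pow, ← pow_mul, hχy, pow_mul, hj]
  -- the representation
  obtain ⟨χf, k, ρ, hρ, rfl⟩ := χ
  haveI := hρ
  have hinj : Function.Injective ρ := by
    intro a b hab
    refine inv_mul_eq_one.mp (hfaith _ ?_)
    have h1 : ρ (a⁻¹ * b) = 1 := by
      rw [map_mul, ← hab, ← map_mul, inv_mul_cancel, map_one]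
    show ρ.character (a⁻¹ * b) = ρ.character 1
    simp only [Representation.character, h1, map_one]
  obtain ⟨bs, ω, hω1, hω2⟩ := exists_eigenbasis ρ g
  have hcz : conj ζ = ζ⁻¹ := by
    rw [Complex.inv_eq_conj]
    exact hζ.norm'_eq_one hp.out.ne_zero
  have hpowv : ∀ i : ℕ, ∑ l, ω l ^ i = (p : ℂ) * ζ ^ i + ((n - p : ℕ) : ℂ) := by
    intro i
    rw [← hχg i]
    refine (character_eq_sum_of_eigenbasis ρ (g ^ i) bs _ fun l => ?_).symm
    induction i with
    | zero => simp
    | succ i ih => rw [pow_succ', map_mul, Module.End.mul_apply, ih, map_smul, hω2, smul_smul, pow_succ]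
  have hroots : ∀ l, ω l = 1 ∨ ω l = ζ := by
    intro l
    have hnorm : ∀ l, ω l * conj (ω l) = 1 := fun l => by
      rw [Complex.mul_conj', Complex.norm_eq_one_of_pow_eq_one (hω1 l) (orderOf_pos g).ne']
      simp
    have hz1 : ζ * conj ζ = 1 := by rw [hcz, mul_inv_cancel₀ (hζ.ne_zero hp.out.ne_zero)]
    let F : ℂ → ℂ := fun x => (x - 1) * (x - ζ) * conj ((x - 1) * (x - ζ))
    have hexp : ∀ x : ℂ, x * conj x = 1 → F x =
        (4 + ζ + conj ζ) - (2 * (1 + conj ζ)) * x - (2 * (1 + ζ)) * conj x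
          + conj ζ * x ^ 2 + ζ * conj (x ^ 2) := by
      intro x hx
      simp only [F, map_mul, map_sub, map_one, map_pow]
      linear_combination (x * conj x + 1 + 1 + ζ + conj ζ + ζ * conj ζ - x - conj x - x * conj ζ - conj x * ζ) * hx +
        (2 - x - conj x) * hz1
    have hsumF : ∑ l, F (ω l) = 0 := by
      rw [Finset.sum_congr rfl fun l _ => hexp _ (hnorm l), Finset.sum_add_distrib,
        Finset.sum_add_distrib, Finset.sum_sub_distrib, Finset.sum_sub_distrib, ← Finset.mul_sum,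
        ← Finset.mul_sum, ← Finset.mul_sum, ← Finset.mul_sum, ← map_sum, ← map_sum, Finset.sum_const,
        nsmul_eq_mul]
      have h0 := hpowv 0
      have h1 := hpowv 1
      have h2 := hpowv 2
      simp only [pow_zero, pow_one, Finset.sum_const, nsmul_eq_mul, mul_one] at h0 h1
      rw [h0, h1, h2]
      simp only [map_add, map_mul, map_natCast, map_pow]
      linear_combination ((p : ℂ) * (conj ζ + ζ - 4)) * hz1
    have hnn : ∀ x : ℂ, F x = ((Complex.normSq ((x - 1) * (x - ζ)) : ℝ) : ℂ) := fun x =>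
      Complex.mul_conj _
    rw [Finset.sum_congr rfl fun l _ => hnn (ω l), ← Complex.ofReal_sum, Complex.ofReal_eq_zero,
      Finset.sum_eq_zero_iff_of_nonneg fun l _ => Complex.normSq_nonneg _] at hsumF
    rcases mul_eq_zero.mp (Complex.normSq_eq_zero.mp (hsumF l (Finset.mem_univ l))) with e | e
    · exact Or.inl (sub_eq_zero.mp e)
    · exact Or.inr (sub_eq_zero.mp e)
  have hq : ∀ v, ρ g (ρ g v - ζ • v) = ρ g v - ζ • v := by
    intro v
    have hlin : (ρ g).comp (ρ g - ζ • LinearMap.id) = ρ g - ζ • LinearMap.id := by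
      refine bs.ext fun l => ?_
      simp only [LinearMap.comp_apply, LinearMap.sub_apply, LinearMap.smul_apply, LinearMap.id_apply,
        map_sub, map_smul, hω2]
      rcases hroots l with e | e <;> simp [e]
    exact LinearMap.congr_fun hlin v
  set R := Cfsg.pCore p G with hRdef
  haveI hRn : R.Normal := Fitting.pCore_normal p
  letI := Fintype.ofFinite R
  have hgR : g ∈ R := mem_pCore_of_close ρ hinj hgp hζ.pow_eq_one (close_root h7) hq
  set χ₀ : G → ℂ := ρ.character with hχ₀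
  have hχi : IsIrrCharacter G χ₀ := ⟨k, ρ, hρ, rfl⟩
  -- the constituents on the core are linear
  have hclif : ∀ ψ : IrrCharacter R, classInner (fun x : R => χ₀ x) (ψ : R → ℂ) ≠ 0 →
      ∃ e : ℕ, classInner (fun x : R => χ₀ x) (ψ : R → ℂ) = (e : ℂ) ∧
        n = e * (Clifford.inertia hRn (ψ : R → ℂ)).index * charDegree (ψ : R → ℂ) := by
    intro ψ hψ
    obtain ⟨e, he⟩ := NormalRes.mult_nat R (isCharacter_of_irr hχi) ψ
    refine ⟨e, he, ?_⟩
    have h := Clifford.clifford_degree hRn hχi ψ.2 hψ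
    rw [show classInner (fun x : R => χ₀ x) (ψ : R → ℂ) = (e : ℂ) from he, deg_eq hχi,
      deg_eq ψ.2] at h
    rw [← hn]
    exact_mod_cast h
  have hlin : ∀ ψ : IrrCharacter R, classInner (fun x : R => χ₀ x) (ψ : R → ℂ) ≠ 0 →
      charDegree (ψ : R → ℂ) = 1 := by
    intro ψ hψ
    obtain ⟨e, -, he⟩ := hclif ψ hψ
    obtain ⟨j', hj'⟩ := IsPGroup.iff_card.mp (Fitting.pCore_isPGroup (G := G) p)
    obtain ⟨i, -, hi⟩ := (Nat.dvd_prime_pow hp.out).mp (hj' ▸ (CfsgLib.ClassCount.degree_eq ψ).2.1)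
    rcases i with _ | i
    · simpa using hi
    · exfalso
      obtain ⟨t, ht⟩ : p ∣ n := he ▸ dvd_mul_of_dvd_right (hi ▸ dvd_pow_self p (by omega)) _
      rcases t with _ | _ | t
      · omega
      · omega
      · nlinarith
  have hRcomm := comm_of_linear hχi hfaith R hlin
  obtain ⟨θ, hθ⟩ := Clifford.exists_constituent (Clifford.isCharacter_subtype (isCharacter_of_irr hχi) R)
    fun e => irr_one_ne_zero ⟨χ₀, hχi⟩ (by simpa using congrFun e 1)
  obtain ⟨e, he, hne'⟩ := hclif θ hθ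
  rw [hlin θ hθ, mul_one] at hne'
  set t := (Clifford.inertia hRn (θ : R → ℂ)).index with ht
  have hmultall : ∀ ψ : IrrCharacter R, classInner (fun x : R => χ₀ x) (ψ : R → ℂ) ≠ 0 →
      classInner (fun x : R => χ₀ x) (ψ : R → ℂ) = (e : ℂ) := by
    intro ψ hψ
    obtain ⟨a, ha⟩ := Clifford.exists_conj_of_constituent hRn hχi θ.2 ψ.2 hθ hψ
    rw [ha, Clifford.classInner_res_conjChar hRn (isClassFunction_of_isCharacter (isCharacter_of_irr hχi)), he]
  have ht2 : 2 ≤ t := by
    by_contra hlt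
    have ht1 : t = 1 := by
      have : t ≠ 0 := Subgroup.FiniteIndex.index_ne_zero
      omega
    have hI := Subgroup.index_eq_one.mp (ht ▸ ht1)
    obtain ⟨f, hf⟩ := CfsgLib.LinearTwist.exists_hom_of_charDegree_one (irr_isCharacter θ) (hlin θ hθ)
    have hval := congrFun (Clifford.clifford hRn hχi θ.2 hθ) ⟨g, hgR⟩
    have horb : (Clifford.conjOrbit_finite hRn (θ : R → ℂ)).toFinset = {(θ : R → ℂ)} := by
      ext ψ
      rw [Set.Finite.mem_toFinset, Finset.mem_singleton]
      constructor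
      · rintro ⟨a, rfl⟩
        exact (show a ∈ Clifford.inertia hRn (θ : R → ℂ) from hI ▸ Subgroup.mem_top a)
      · rintro rfl
        exact ⟨1, (Clifford.conjChar_one hRn _).symm⟩
    rw [horb, Finset.sum_singleton, Pi.smul_apply, smul_eq_mul, he, congrFun hf] at hval
    have hg1 := hχg 1
    rw [pow_one, pow_one] at hg1
    change χ₀ g = _ at hval
    rw [show χ₀ g = _ from hg1] at hval
    have hnorm : ‖((f ⟨g, hgR⟩ : ℂˣ) : ℂ)‖ = 1 := by
      refine Complex.norm_eq_one_of_pow_eq_one (n := p) ?_ hp.out.ne_zero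
      rw [← Units.val_pow_eq_pow_val, ← map_pow, show (⟨g, hgR⟩ : R) ^ p = 1 from Subtype.ext hgp,
        map_one, Units.val_one]
    rw [ht1, mul_one] at hne'
    have h := congrArg Complex.normSq hval
    rw [Complex.normSq_mul, Complex.normSq_natCast, Complex.normSq_eq_norm_sq (f ⟨g, hgR⟩ : ℂ), hnorm,
      one_pow, mul_one, Complex.normSq_apply] at h
    simp only [Complex.add_re, Complex.add_im, Complex.mul_re, Complex.mul_im, Complex.natCast_re,
      Complex.natCast_im, zero_mul, sub_zero, add_zero] at h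
    have hzn : ζ.re * ζ.re + ζ.im * ζ.im = 1 := by
      rw [← Complex.normSq_apply, Complex.normSq_eq_norm_sq, hζ.norm'_eq_one hp.out.ne_zero, one_pow]
    have hsub : ((n - p : ℕ) : ℝ) = (n : ℝ) - p := by push_cast [hpn.le]; ring
    rw [hsub, ← hne'] at h
    have hre : (p : ℝ) * ((n : ℝ) - p) * (ζ.re - 1) = 0 := by
      linear_combination (1 / 2 : ℝ) * h - ((p : ℝ) ^ 2 / 2) * hzn
    have hpos : (0 : ℝ) < (p : ℝ) * ((n : ℝ) - p) :=
      mul_pos (by exact_mod_cast hp.out.pos) (by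
        have : (p : ℝ) < n := by exact_mod_cast hpn
        linarith)
    have hre1 : ζ.re = 1 := sub_eq_zero.mp ((mul_eq_zero.mp hre).resolve_left hpos.ne')
    have him : ζ.im = 0 := by
      rw [hre1] at hzn
      exact mul_self_eq_zero.mp (by linarith)
    exact hζ.ne_one hp.out.one_lt (Complex.ext (by simp [hre1]) (by simp [him]))
  have he2 : e < p := by
    by_contra h
    push Not at h
    have := Nat.mul_le_mul h ht2
    omega
  -- the action on the constituents
  set O := {ψ : R → ℂ // ψ ∈ Clifford.conjOrbit hRn (θ : R → ℂ)} with hO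
  haveI : Finite O := (Clifford.conjOrbit_finite hRn (θ : R → ℂ)).to_subtype
  have hOcard : Nat.card O = t := by
    rw [ht, ← Clifford.card_conjOrbit hRn]
    exact (Nat.card_coe_set_eq _).trans (Set.ncard_eq_toFinset_card _ _)
  letI : MulAction G O :=
    { smul := fun a ψ => ⟨Clifford.conjChar hRn ψ.1 a⁻¹, by
        obtain ⟨b, hb⟩ := ψ.2
        exact ⟨b * a⁻¹, by rw [hb, Clifford.conjChar_mul]⟩⟩
      one_smul := fun ψ => Subtype.ext (by
        show Clifford.conjChar hRn ψ.1 (1 : G)⁻¹ = ψ.1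
        rw [inv_one, Clifford.conjChar_one])
      mul_smul := fun a b ψ => Subtype.ext (by
        show Clifford.conjChar hRn ψ.1 (a * b)⁻¹ =
          Clifford.conjChar hRn (Clifford.conjChar hRn ψ.1 b⁻¹) a⁻¹
        rw [Clifford.conjChar_mul, mul_inv_rev]) }
  set act := MulAction.toPermHom G O with hact
  have hker : ∀ x : G, x ∈ act.ker → ∀ r ∈ R, x * r = r * x := by
    intro x hx r hr
    have hx' : ∀ ψ : O, Clifford.conjChar hRn ψ.1 x⁻¹ = ψ.1 := fun ψ =>
      congrArg Subtype.val (Equiv.Perm.ext_iff.mp (MonoidHom.mem_ker.mp hx) ψ)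
    obtain ⟨mR, hmR, hsumR⟩ := Clifford.exists_mult (Clifford.isCharacter_subtype (isCharacter_of_irr hχi) R)
    set c : R := ⟨x⁻¹ * r * x⁻¹⁻¹, hRn.conj_mem r hr x⁻¹⟩ * (⟨r, hr⟩ : R)⁻¹ with hcdef
    have key : χ₀ (c : G) = χ₀ 1 := by
      have e1 := congrFun hsumR c
      have e2 := congrFun hsumR 1
      simp only [Finset.sum_apply, Pi.smul_apply, smul_eq_mul, OneMemClass.coe_one] at e1 e2
      rw [e1, e2]
      refine Finset.sum_congr rfl fun ψ _ => ?_
      rcases eq_or_ne (mR ψ) 0 with h0 | h0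
      · rw [h0, Nat.cast_zero, zero_mul, zero_mul]
      · congr 1
        have hψ : classInner (fun x : R => χ₀ x) (ψ : R → ℂ) ≠ 0 := by
          rw [hmR]; exact_mod_cast h0
        obtain ⟨f, hf⟩ := CfsgLib.LinearTwist.exists_hom_of_charDegree_one (irr_isCharacter ψ) (hlin ψ hψ)
        have hfix := congrFun (hx' ⟨(ψ : R → ℂ),
          Clifford.exists_conj_of_constituent hRn hχi θ.2 ψ.2 hθ hψ⟩) ⟨r, hr⟩
        simp only [Clifford.conjChar, congrFun hf] at hfix
        rw [congrFun hf, congrFun hf, hcdef, map_mul, map_inv, Units.ext hfix, mul_inv_cancel, map_one]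
    have h1 := hfaith _ key
    simp only [hcdef, Subgroup.coe_mul, InvMemClass.coe_inv, inv_inv] at h1
    have h2 : x⁻¹ * r * x = r := mul_inv_eq_one.mp h1
    calc x * r = x * (x⁻¹ * r * x) := by rw [h2]
      _ = r * x := by group
  have hRker : R ≤ act.ker := by
    intro r hr
    refine MonoidHom.mem_ker.mpr (Equiv.Perm.ext fun ψ => Subtype.ext ?_)
    show Clifford.conjChar hRn ψ.1 r⁻¹ = ψ.1
    funext a
    refine congrArg ψ.1 (Subtype.ext ?_)
    show r⁻¹ * (a : G) * r⁻¹⁻¹ = a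
    rw [inv_inv, mul_assoc, hRcomm a a.2 r hr, inv_mul_cancel_left]
  have hRP : R ≤ Ps := Fitting.pCore_le_sylow P
  -- the Sylow subgroup moves some constituent
  have hmove : ¬ Ps ≤ act.ker := by
    intro hle
    obtain ⟨ψ, m', hm', hle', -⟩ := exists_linear_mult hχi hRP
      (fun r hr h hh => (hker h (hle hh) r hr).symm) (⟨σ.character, d, σ, hσ, rfl⟩ : IrrCharacter Ps)
      (by rw [hm]; exact_mod_cast hφ₀m)
    rw [hφ₀] at hle'
    have hm0 : classInner (fun x : R => χ₀ x) (ψ : R → ℂ) ≠ 0 := by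
      rw [hm']
      exact Nat.cast_ne_zero.mpr (by omega)
    have : (m' : ℂ) = (e : ℂ) := hm'.symm.trans (hmultall ψ hm0)
    have : m' = e := by exact_mod_cast this
    omega
  have hperm : Nat.card (Equiv.Perm O) = t.factorial := by rw [Nat.card_perm, hOcard]
  have himg : IsPGroup p (Ps.map act) := P.2.map _
  obtain ⟨a, ha⟩ := IsPGroup.iff_card.mp himg
  have hadvd : p ^ a ∣ t.factorial := hperm ▸ ha ▸ Subgroup.card_subgroup_dvd_card _
  have ha0 : a ≠ 0 := fun h => by
    rw [h, pow_zero] at ha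
    exact hmove ((Subgroup.map_eq_bot_iff _).mp (Subgroup.card_eq_one.mp ha))
  have htp : p ≤ t := (hp.out.dvd_factorial).mp ((dvd_pow_self p ha0).trans hadvd)
  have he1 : e = 1 := by
    rcases e with _ | _ | e
    · omega
    · rfl
    · have := Nat.mul_le_mul (show 2 ≤ e + 1 + 1 by omega) htp
      omega
  -- the kernel is commutative
  set K := act.ker with hKdef
  letI := Fintype.ofFinite K
  have hKcomm := comm_of_linear hχi hfaith K fun φ hφ => by
    obtain ⟨ψ, m', hm', hle', -⟩ := exists_linear_mult hχi hRker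
      (fun r hr h hh => (hker h hh r hr).symm) φ hφ
    have hpos := deg_pos φ.2
    have hm0 : classInner (fun x : R => χ₀ x) (ψ : R → ℂ) ≠ 0 := by
      rw [hm']
      exact Nat.cast_ne_zero.mpr (by omega)
    have : (m' : ℂ) = (e : ℂ) := hm'.symm.trans (hmultall ψ hm0)
    have : m' = e := by exact_mod_cast this
    omega
  have hPK : Ps ⊓ K ≤ R := by
    let M : Subgroup G :=
      { carrier := {x | x ∈ K ∧ x ^ Nat.card Ps = 1}
        one_mem' := ⟨one_mem _, one_pow _⟩
        mul_mem' := fun {a b} ha hb => ⟨mul_mem ha.1 hb.1, by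
          rw [(show Commute a b from hKcomm a ha.1 b hb.1).mul_pow, ha.2, hb.2, one_mul]⟩
        inv_mem' := fun {a} ha => ⟨inv_mem ha.1, by rw [inv_pow, ha.2, inv_one]⟩ }
    have hMn : M.Normal := ⟨fun x hx a => ⟨(MonoidHom.normal_ker act).conj_mem x hx.1 a, by
      rw [conj_pow, hx.2, mul_one, mul_inv_cancel]⟩⟩
    have hMp : IsPGroup p M := fun x => by
      obtain ⟨k', hk'⟩ := IsPGroup.iff_card.mp P.2
      exact ⟨k', Subtype.ext (by rw [Subgroup.coe_pow, ← hk']; exact x.2.2)⟩
    exact fun x hx => Fitting.le_pCore hMn hMp ⟨hx.2, by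
      have := congrArg Subtype.val (pow_card_eq_one' (x := (⟨x, hx.1⟩ : Ps)))
      rwa [Subgroup.coe_pow, OneMemClass.coe_one] at this⟩
  -- counting
  have ha1 : a ≤ 1 := by
    by_contra h
    exact sq_not_dvd_factorial (p := p) (n := t) (by
      rw [he1, one_mul] at hne'
      omega) ((pow_dvd_pow p (by omega : 2 ≤ a)).trans hadvd)
  have hrel : R.relIndex Ps = p ^ a := by
    rw [← ha]
    let r : Ps →* (Ps.map act) := act.subgroupMap Ps
    have hk : r.ker = R.subgroupOf Ps := by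
      ext x
      rw [MonoidHom.mem_ker, Subgroup.mem_subgroupOf]
      constructor
      · intro h
        exact hPK ⟨x.2, MonoidHom.mem_ker.mpr (congrArg Subtype.val h)⟩
      · intro h
        exact Subtype.ext (MonoidHom.mem_ker.mp (hRker h))
    rw [Subgroup.relIndex, ← hk, Subgroup.index_ker,
      MonoidHom.range_eq_top.mpr (act.subgroupMap_surjective Ps), Subgroup.card_top]
  intro h2
  rw [← Subgroup.relIndex_mul_index hRP, hrel] at h2
  have hcop : Nat.Coprime (p ^ 2) Ps.index :=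
    (hp.out.coprime_iff_not_dvd.mpr P.not_dvd_index).pow_left 2
  have := Nat.le_of_dvd (pow_pos hp.out.pos a) (hcop.dvd_of_dvd_mul_right h2)
  have := (Nat.pow_le_pow_iff_right hp.out.one_lt).mp this
  omega

end CfsgLib.FeitTwoP
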