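import Cfsg.Agent.Lib.Involutions.KleinBlock
import Cfsg.Agent.Lib.Blocks.ClassCount

/-!
A Sylow four-group with fused involutions: the number of pairs of involutions with product of
even order.
-/

set_option autoImplicit false

noncomputable section

namespace CfsgLib.KleinOrder

open Cfsg CfsgLib.Involutions
open CfsgLib.ClassCount (cls mem_cls pairs card_cls card_cls_mul_centralizer)

universe u

variable {G : Type u} [Group G] [Fintype G]

/-- The involution in the cyclic group generated by an element of even order. -/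
def twoPart (g : G) : G := g ^ (orderOf g / 2)

omit [Fintype G] in
theorem twoPart_conj (c g : G) : twoPart (c * g * c⁻¹) = c * twoPart g * c⁻¹ := by
  rw [twoPart, orderOf_conj_eq, conj_pow, twoPart]

omit [Fintype G] in
theorem twoPart_mul {t y : G} (ht : orderOf t = 2) (hy : Odd (orderOf y)) (hc : y * t = t * y) :
    twoPart (t * y) = t ∧ 2 ∣ orderOf (t * y) := by
  have hcm : Commute t y := hc.symm
  have ho : orderOf (t * y) = 2 * orderOf y := by
    rw [hcm.orderOf_mul_eq_mul_orderOf_of_coprime (by rw [ht]; exact Nat.coprime_two_left.mpr hy), ht]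
  refine ⟨?_, ho ▸ dvd_mul_right _ _⟩
  rw [twoPart, ho, Nat.mul_div_cancel_left _ two_pos, hcm.mul_pow, pow_orderOf_eq_one, mul_one]
  obtain ⟨m, hm⟩ := hy
  rw [hm, pow_succ, pow_mul, pow_two, mul_self_eq_one ht, one_pow, one_mul]

section
variable (P : Sylow 2 G) (hP : IsKleinFour (P : Subgroup G))
include hP

theorem exists_two_part {g : G} (hg : 2 ∣ orderOf g) :
    orderOf (twoPart g) = 2 := by
  obtain ⟨t, y, rfl, ht, hy, hc⟩ := klein_even_decomp P hP hg
  rw [(twoPart_mul ht hy hc).1, ht]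

theorem klein_elems {J t : G} (hJ : J ∈ P) (ht : t ∈ P) (hJ1 : J ≠ 1) (ht1 : t ≠ 1) (hne : t ≠ J)
    {v : G} (hv : v ∈ P) : v = 1 ∨ v = J ∨ v = t ∨ v = J * t := by
  haveI := hP
  by_contra h
  push Not at h
  obtain ⟨hv1, hvJ, hvt, hvJt⟩ := h
  refine hvJt (congrArg Subtype.val (IsKleinFour.eq_mul_of_ne_all (G := (P : Subgroup G))
    (x := ⟨J, hJ⟩) (y := ⟨t, ht⟩) (z := ⟨v, hv⟩) ?_ ?_ ?_ ?_ ?_ ?_) :)
  all_goals simp [Subtype.ext_iff, hJ1, ht1, hne.symm, hv1, hvJ, hvt]

theorem card_centralizer_pair {J t : G} (hJ : J ∈ P) (ht : t ∈ P) (hJ1 : J ≠ 1) (ht1 : t ≠ 1)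
    (hne : t ≠ J) (htC : t ∈ Subgroup.centralizer ({J} : Set G)) :
    Nat.card (Subgroup.centralizer ({(⟨t, htC⟩ : Subgroup.centralizer ({J} : Set G))} :
        Set (Subgroup.centralizer ({J} : Set G)))) =
      Nat.card (Subgroup.centralizer ((P : Subgroup G) : Set G)) := by
  refine Nat.card_congr
    { toFun := fun x => ⟨((x : Subgroup.centralizer ({J} : Set G)) : G), ?_⟩
      invFun := fun x => ⟨⟨x, ?_⟩, ?_⟩
      left_inv := fun x => rfl
      right_inv := fun x => rfl }
  · rw [Subgroup.mem_centralizer_iff]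
    intro v hv
    have e1 := Subgroup.mem_centralizer_singleton_iff.mp x.1.2
    have e2 : (x.1 : G) * t = t * (x.1 : G) :=
      congrArg Subtype.val (Subgroup.mem_centralizer_singleton_iff.mp x.2)
    rcases klein_elems P hP hJ ht hJ1 ht1 hne hv with rfl | rfl | rfl | rfl
    · simp
    · exact e1.symm
    · exact e2.symm
    · rw [mul_assoc, ← e2, ← mul_assoc, ← e1, mul_assoc]
  · exact Subgroup.mem_centralizer_singleton_iff.mpr
      (Subgroup.mem_centralizer_iff.mp x.2 J hJ).symm
  · exact Subgroup.mem_centralizer_singleton_iff.mpr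
      (Subtype.ext (Subgroup.mem_centralizer_iff.mp x.2 t ht).symm)

theorem pair_count (hone : ∀ s t : G, orderOf s = 2 → orderOf t = 2 → IsConj s t)
    {J : G} (hJ : J ∈ P) (hJ2 : orderOf J = 2) :
    ∃ r : ℕ, r * Nat.card (Subgroup.centralizer ((P : Subgroup G) : Set G)) =
        Nat.card (Subgroup.centralizer ({J} : Set G)) ∧
      (pairs J J (Finset.univ.filter fun g : G => 2 ∣ orderOf g)).card =
        (Subgroup.centralizer ({J} : Set G)).index * (2 * r ^ 2) := by
  classical
  set Ev := Finset.univ.filter fun g : G => 2 ∣ orderOf g with hEv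
  set T := pairs J J Ev with hT
  have hmemT : ∀ z : G × G, z ∈ T ↔
      (orderOf z.1 = 2 ∧ orderOf z.2 = 2) ∧ 2 ∣ orderOf (z.1 * z.2) := by
    intro z
    have hc : ∀ a, IsConj J a ↔ orderOf a = 2 := fun a =>
      ⟨fun h => (orderOf_eq_of_isConj h).trans hJ2, fun h => hone J a hJ2 h⟩
    simp only [hT, pairs, hEv, Finset.mem_filter, Finset.mem_product, mem_cls, hc, Finset.mem_univ, true_and]
  have hJ1 := ne_one_of_involution hJ2
  set C := Subgroup.centralizer ({J} : Set G) with hC
  obtain ⟨N, hN, hNcard, hNmem⟩ := klein_centralizer_complement P hP hJ2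
  haveI := hN
  have hcomm := klein_comm P hP
  have hPC : (P : Subgroup G) ≤ C := fun b hb => Subgroup.mem_centralizer_singleton_iff.mpr
    (congrArg Subtype.val (hcomm.is_comm.comm (⟨b, hb⟩ : (P : Subgroup G)) ⟨J, hJ⟩))
  let f : (P : Subgroup G) →* C ⧸ N := (QuotientGroup.mk' N).comp (Subgroup.inclusion hPC)
  have hf : Function.Injective f := by
    intro a b hab
    have h : (Subgroup.inclusion hPC a)⁻¹ * Subgroup.inclusion hPC b ∈ N :=
      QuotientGroup.eq.mp hab
    rw [← map_inv, ← map_mul, hNmem] at h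
    by_contra hne
    have h1 : (((a⁻¹ * b : (P : Subgroup G)) : G)) ≠ 1 := fun e =>
      hne (inv_mul_eq_one.mp (Subtype.ext e))
    have h2 := klein_orderOf P hP (a⁻¹ * b : (P : Subgroup G)).2 h1
    rw [← Subgroup.orderOf_coe, Subgroup.coe_inclusion, h2] at h
    exact Nat.not_odd_iff_even.mpr even_two h
  have hfsurj : Function.Surjective f := by
    refine ((Nat.bijective_iff_injective_and_card f).mpr ⟨hf, ?_⟩).2
    rw [hP.card_four, ← Subgroup.index_eq_card]
    have h := N.card_mul_index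
    rw [← hNcard, mul_comm 4] at h
    exact (mul_left_cancel₀ Nat.card_pos.ne' h).symm
  have hqcomm : ∀ a b : C ⧸ N, a * b = b * a := fun a b => by
    obtain ⟨x, rfl⟩ := hfsurj a
    obtain ⟨y, rfl⟩ := hfsurj b
    rw [← map_mul, ← map_mul, hcomm.is_comm.comm x y]
  -- every involution of `C` is conjugate in `C` to one of `P`
  have hconjP : ∀ i : C, orderOf (i : G) = 2 → ∃ v : (P : Subgroup G), (v : G) ≠ 1 ∧
      IsConj (Subgroup.inclusion hPC v) i ∧ QuotientGroup.mk' N i = f v := by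
    intro i hi
    let Q : Sylow 2 C := P.subtype hPC
    have hi' : orderOf i = 2 := by rw [← Subgroup.orderOf_coe]; exact hi
    obtain ⟨c, hc⟩ := exists_conj_le_sylow (isPGroup_two_zpowers hi') Q
    have hmem : ((c * i * c⁻¹ : C) : G) ∈ (P : Subgroup G) := hc i (Subgroup.mem_zpowers i)
    refine ⟨⟨_, hmem⟩, ?_, isConj_iff.mpr ⟨c⁻¹, ?_⟩, ?_⟩
    · intro e
      have e' : c * i * c⁻¹ = 1 := Subtype.ext e
      exact ne_one_of_involution hi' (conj_eq_one_iff.mp e')
    · rw [show Subgroup.inclusion hPC ⟨_, hmem⟩ = c * i * c⁻¹ from Subtype.ext rfl]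
      group
    · show _ = QuotientGroup.mk' N (Subgroup.inclusion hPC ⟨_, hmem⟩)
      rw [show Subgroup.inclusion hPC ⟨_, hmem⟩ = c * i * c⁻¹ from Subtype.ext rfl, map_mul,
        map_mul, map_inv, hqcomm (QuotientGroup.mk' N c), mul_inv_cancel_right]
  obtain ⟨t, ht, ht1, htJ⟩ : ∃ t ∈ (P : Subgroup G), t ≠ 1 ∧ t ≠ J := by
    by_contra hcon
    push Not at hcon
    have h3 := klein_card_involutions P hP
    have : Subsingleton {a : G // a ∈ P ∧ a ≠ 1} :=
      ⟨fun a b => Subtype.ext ((hcon _ a.2.1 a.2.2).trans (hcon _ b.2.1 b.2.2).symm)⟩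
    have h1 := Finite.card_le_one_iff_subsingleton.mpr this
    omega
  set u := J * t with hu_def
  have hu : u ∈ (P : Subgroup G) := mul_mem hJ ht
  have hu1 : u ≠ 1 := fun h => htJ (by
    have h' : J * t = J * J := by rw [mul_self_eq_one hJ2]; exact h
    exact mul_left_cancel h')
  have huJ : u ≠ J := fun h => ht1 (mul_left_cancel (a := J) (by rw [mul_one]; exact h))
  have htu : t ≠ u := fun h => hJ1 (mul_right_cancel (b := t) (by rw [one_mul]; exact h.symm))
  set tC : C := ⟨t, hPC ht⟩ with htC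
  set uC : C := ⟨u, hPC hu⟩ with huC
  set JC : C := ⟨J, hPC hJ⟩ with hJC
  set r := (cls tC).card with hr
  have hcardC : ∀ (v : G) (hv : v ∈ (P : Subgroup G)), v ≠ 1 → v ≠ J →
      (cls (⟨v, hPC hv⟩ : C)).card * Nat.card (Subgroup.centralizer ((P : Subgroup G) : Set G)) =
        Nat.card C := fun v hv h1 h2 => by
    rw [← card_centralizer_pair P hP hJ hv hJ1 h1 h2 (hPC hv)]
    exact card_cls_mul_centralizer _
  have hr1 := hcardC t ht ht1 htJ
  have hr2 : (cls uC).card = r :=
    mul_right_cancel₀ (Nat.card_pos (α := Subgroup.centralizer ((P : Subgroup G) : Set G))).ne'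
      ((hcardC u hu hu1 huJ).trans hr1.symm)
  refine ⟨r, hr1, ?_⟩
  -- the fibre over `J`
  set FJ := T.filter fun z => twoPart (z.1 * z.2) = J with hFJ
  set A := (cls tC ×ˢ cls uC) ∪ (cls uC ×ˢ cls tC) with hA
  have hclsord : ∀ {v : C} {i : C}, orderOf v = 2 → i ∈ cls v → orderOf (i : G) = 2 := fun hv hi => by
    rw [Subgroup.orderOf_coe, orderOf_eq_of_isConj (mem_cls.mp hi), hv]
  have hclsf : ∀ {v : C} {i : C}, i ∈ cls v → QuotientGroup.mk' N i = QuotientGroup.mk' N v :=
    fun {v i} hi => by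
      obtain ⟨c, rfl⟩ := isConj_iff.mp (mem_cls.mp hi)
      rw [map_mul, map_mul, map_inv, hqcomm (QuotientGroup.mk' N c), mul_inv_cancel_right]
  have ht2 : orderOf tC = 2 := by
    rw [← Subgroup.orderOf_coe]; exact klein_orderOf P hP ht ht1
  have hu2 : orderOf uC = 2 := by
    rw [← Subgroup.orderOf_coe]; exact klein_orderOf P hP hu hu1
  have htuq : QuotientGroup.mk' N tC * QuotientGroup.mk' N uC = QuotientGroup.mk' N JC := by
    rw [← map_mul]
    congr 1
    refine Subtype.ext ?_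
    show t * (J * t) = J
    have hc : t * J = J * t :=
      congrArg Subtype.val (hcomm.is_comm.comm (⟨t, ht⟩ : (P : Subgroup G)) ⟨J, hJ⟩)
    rw [← mul_assoc, hc, mul_assoc, mul_self_eq_one (klein_orderOf P hP ht ht1), mul_one]
  have hback : ∀ i j : C, orderOf (i : G) = 2 → orderOf (j : G) = 2 →
      QuotientGroup.mk' N i * QuotientGroup.mk' N j = QuotientGroup.mk' N JC →
      ((i : G), (j : G)) ∈ FJ := by
    intro i j hi hj h
    rw [← map_mul] at h
    have hy : JC⁻¹ * (i * j) ∈ N := QuotientGroup.eq.mp h.symm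
    rw [hNmem, ← Subgroup.orderOf_coe] at hy
    have hcy : ((JC⁻¹ * (i * j) : C) : G) * J = J * ((JC⁻¹ * (i * j) : C) : G) :=
      Subgroup.mem_centralizer_singleton_iff.mp (JC⁻¹ * (i * j) : C).2
    have h' := twoPart_mul hJ2 hy hcy
    rw [show J * ((JC⁻¹ * (i * j) : C) : G) = (i : G) * j by simp [hJC]] at h'
    exact Finset.mem_filter.mpr ⟨(hmemT _).mpr ⟨⟨hi, hj⟩, h'.2⟩, h'.1⟩
  have hbij : FJ.card = A.card := by
    symm
    refine Finset.card_bij (fun z _ => ((z.1 : G), (z.2 : G))) ?_ ?_ ?_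
    · intro z hz
      rcases Finset.mem_union.mp hz with h | h <;> rw [Finset.mem_product] at h <;>
        refine hback _ _ ?_ ?_ ?_
      · exact hclsord ht2 h.1
      · exact hclsord hu2 h.2
      · rw [hclsf h.1, hclsf h.2, htuq]
      · exact hclsord hu2 h.1
      · exact hclsord ht2 h.2
      · rw [hclsf h.1, hclsf h.2, hqcomm, htuq]
    · intro a _ b _ hab
      exact Prod.ext (Subtype.ext (congrArg Prod.fst hab)) (Subtype.ext (congrArg Prod.snd hab))
    · rintro ⟨i, j⟩ hz
      simp only [hFJ, Finset.mem_filter, hmemT] at hz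
      obtain ⟨⟨⟨hi, hj⟩, hev⟩, hzJ⟩ := hz
      obtain ⟨t', y, hg, ht', hy, hcy⟩ := klein_even_decomp P hP hev
      have e : t' = J := by rw [← hzJ, hg, (twoPart_mul ht' hy hcy).1]
      subst e
      have hinv : i * (i * j) * i⁻¹ = (i * j)⁻¹ := by
        rw [mul_inv_rev, inv_eq_of_mul_eq_one_right (mul_self_eq_one hi),
          inv_eq_of_mul_eq_one_right (mul_self_eq_one hj), ← mul_assoc i i j, mul_self_eq_one hi,
          one_mul]
      have hiJ : i * t' * i⁻¹ = t' := by
        conv_lhs => rw [← hzJ, ← twoPart_conj, hinv, twoPart, orderOf_inv, inv_pow]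
        change (twoPart (i * j))⁻¹ = _
        rw [hzJ, inv_eq_of_mul_eq_one_right (mul_self_eq_one ht')]
      have hiC : i ∈ C := Subgroup.mem_centralizer_singleton_iff.mpr (mul_inv_eq_iff_eq_mul.mp hiJ)
      have hyC : y ∈ C := Subgroup.mem_centralizer_singleton_iff.mpr hcy
      have hjC : j ∈ C := by
        rw [show j = i⁻¹ * (t' * y) by rw [← hg]; group]
        exact C.mul_mem (C.inv_mem hiC) (C.mul_mem (hPC hJ) hyC)
      have hq : QuotientGroup.mk' N (⟨i, hiC⟩ : C) * QuotientGroup.mk' N ⟨j, hjC⟩ =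
          QuotientGroup.mk' N JC := by
        rw [← map_mul, show (⟨i, hiC⟩ : C) * ⟨j, hjC⟩ = JC * ⟨y, hyC⟩ from Subtype.ext hg, map_mul]
        rw [show QuotientGroup.mk' N (⟨y, hyC⟩ : C) = 1 from (QuotientGroup.eq_one_iff _).mpr
          ((hNmem _).mpr (by rw [← Subgroup.orderOf_coe]; exact hy)), mul_one]
      obtain ⟨v, hv1, hvi, hfi⟩ := hconjP ⟨i, hiC⟩ hi
      obtain ⟨w, hw1, hwj, hfj⟩ := hconjP ⟨j, hjC⟩ hj
      rw [hfi, hfj, ← map_mul] at hq
      have hvw : (v : G) * (w : G) = t' := congrArg Subtype.val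
        (hf (a₁ := v * w) (a₂ := ⟨t', hJ⟩) hq)
      refine ⟨(⟨i, hiC⟩, ⟨j, hjC⟩), ?_, rfl⟩
      rcases klein_elems P hP hJ ht hJ1 ht1 htJ v.2 with h | h | h | h
      · exact absurd h hv1
      · refine absurd ?_ hw1
        exact mul_left_cancel (a := (v : G)) (by rw [hvw, h, mul_one])
      · refine Finset.mem_union_left _ (Finset.mem_product.mpr ⟨mem_cls.mpr ?_, mem_cls.mpr ?_⟩)
        · rwa [show Subgroup.inclusion hPC v = tC from Subtype.ext h] at hvi
        · have hw : (w : G) = t' * t := by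
            have := congrArg ((v : G) * ·) hvw
            simp only [← mul_assoc] at this
            rw [mul_self_eq_one (klein_orderOf P hP v.2 hv1), one_mul] at this
            rw [this, h]
            exact congrArg Subtype.val (hcomm.is_comm.comm (⟨t, ht⟩ : (P : Subgroup G)) ⟨t', hJ⟩)
          rwa [show Subgroup.inclusion hPC w = uC from Subtype.ext hw] at hwj
      · refine Finset.mem_union_right _ (Finset.mem_product.mpr ⟨mem_cls.mpr ?_, mem_cls.mpr ?_⟩)
        · rwa [show Subgroup.inclusion hPC v = uC from Subtype.ext h] at hvi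
        · have hw : (w : G) = t := by
            have h' := hvw
            rw [h, mul_assoc] at h'
            have h2 : t * (w : G) = 1 := mul_left_cancel (a := t') (by rw [mul_one]; exact h')
            rw [← inv_eq_of_mul_eq_one_right h2,
              inv_eq_of_mul_eq_one_right (mul_self_eq_one (klein_orderOf P hP ht ht1))]
          rwa [show Subgroup.inclusion hPC w = tC from Subtype.ext hw] at hwj
  have hdisj : Disjoint (cls tC) (cls uC) := by
    rw [Finset.disjoint_left]
    intro i h1 h2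
    have h := (hclsf h1).symm.trans (hclsf h2)
    exact htu (congrArg Subtype.val (hf (a₁ := ⟨t, ht⟩) (a₂ := ⟨u, hu⟩) h))
  have hAcard : A.card = 2 * r ^ 2 := by
    rw [hA, Finset.card_union_of_disjoint (Finset.disjoint_product.mpr (Or.inl hdisj)),
      Finset.card_product, Finset.card_product, hr2, ← hr]
    ring
  -- translate
  have hfibre : ∀ z ∈ cls J, (T.filter fun w => twoPart (w.1 * w.2) = z).card = FJ.card := by
    intro z hz
    obtain ⟨c, rfl⟩ := isConj_iff.mp (mem_cls.mp hz)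
    refine Finset.card_bij' (fun w _ => (c⁻¹ * w.1 * c, c⁻¹ * w.2 * c))
      (fun w _ => (c * w.1 * c⁻¹, c * w.2 * c⁻¹)) ?_ ?_ ?_ ?_
    · intro w hw
      simp only [hFJ, Finset.mem_filter, hmemT] at hw ⊢
      have e : c⁻¹ * w.1 * c * (c⁻¹ * w.2 * c) = c⁻¹ * (w.1 * w.2) * (c⁻¹)⁻¹ := by group
      rw [e, twoPart_conj, hw.2, orderOf_conj_eq]
      refine ⟨⟨⟨?_, ?_⟩, hw.1.2⟩, by group⟩
      · rw [show c⁻¹ * w.1 * c = c⁻¹ * w.1 * (c⁻¹)⁻¹ by group, orderOf_conj_eq, hw.1.1.1]
      · rw [show c⁻¹ * w.2 * c = c⁻¹ * w.2 * (c⁻¹)⁻¹ by group, orderOf_conj_eq, hw.1.1.2]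
    · intro w hw
      simp only [hFJ, Finset.mem_filter, hmemT] at hw ⊢
      have e : c * w.1 * c⁻¹ * (c * w.2 * c⁻¹) = c * (w.1 * w.2) * c⁻¹ := by group
      rw [e, twoPart_conj, hw.2, orderOf_conj_eq, orderOf_conj_eq, orderOf_conj_eq]
      exact ⟨hw.1, rfl⟩
    · intro w _; simp [mul_assoc]
    · intro w _; simp [mul_assoc]
  rw [Finset.card_eq_sum_card_fiberwise (t := cls J) (f := fun w : G × G => twoPart (w.1 * w.2))
    fun w hw => mem_cls.mpr (hone J _ hJ2 (exists_two_part P hP ((hmemT w).mp hw).2)),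
    Finset.sum_congr rfl hfibre, Finset.sum_const, smul_eq_mul, card_cls, hbij, hAcard]

end

end CfsgLib.KleinOrder
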