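import Cfsg.Agent.Lib.Blocks12.KleinCount
import Cfsg.Agent.Lib.Involutions.BrauerSuzuki
import Cfsg.Agent.Lib.Characters.FrobSchur
import Cfsg.Agent.Lib.Characters.LinearTwist
import Cfsg.Agent.Lib.Chars17.IrrBasic
import Mathlib.GroupTheory.Transfer

/-!
Brauer: the order of a group with a Sylow four-group and no normal 2-complement from the degrees
of its principal 2-block.
-/

set_option autoImplicit false

noncomputable section

namespace CfsgLib.KleinOrder

open Cfsg CfsgLib.Characters CfsgLib.Involutions CfsgLib.Chars17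
open scoped ComplexConjugate

universe u

variable {G : Type u} [Group G] [Fintype G]

/-- The Sylow group is a four-group and the involutions are fused. -/
theorem klein_setup (P : Sylow 2 G) (g₀ : ℕ) (hg₀ : Odd g₀) (hG : Nat.card G = 4 * g₀)
    (hnc : ¬ ∃ N : Subgroup G, N.Normal ∧ Nat.card N = g₀) :
    IsKleinFour (P : Subgroup G) ∧
      ∀ s t : G, orderOf s = 2 → orderOf t = 2 → IsConj s t := by
  classical
  have hcard : Nat.card P = 4 := by
    obtain ⟨k, hk⟩ := IsPGroup.iff_card.mp P.isPGroup'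
    have h := (P : Subgroup G).card_mul_index
    rw [hG] at h
    have h1 : Nat.card P ∣ 4 := by
      have hd : Nat.card P ∣ 4 * g₀ := ⟨_, h.symm⟩
      refine Nat.Coprime.dvd_of_dvd_mul_right ?_ hd
      rw [hk]
      exact Nat.Coprime.pow_left k (Nat.coprime_two_left.mpr hg₀)
    have hodd : Odd (P : Subgroup G).index :=
      Nat.odd_iff.mpr (by have := P.not_dvd_index; omega)
    have h2 : 4 ∣ Nat.card P := by
      refine Nat.Coprime.dvd_of_dvd_mul_right ?_ (⟨g₀, h⟩ : 4 ∣ Nat.card P * (P : Subgroup G).index)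
      exact Nat.Coprime.pow_left 2 (Nat.coprime_two_left.mpr hodd)
    exact Nat.dvd_antisymm h1 h2
  have hcompl : ∀ N : Subgroup G, Subgroup.IsComplement' N (P : Subgroup G) → Nat.card N = g₀ :=
    fun N hN => by
      have h := hN.card_mul
      rw [hcard, hG] at h
      omega
  have hncyc : ¬ IsCyclic P := fun hcyc => by
    have hmin : (Nat.card G).minFac = 2 := (Nat.minFac_eq_two_iff _).mpr (by omega)
    have hle := IsCyclic.normalizer_le_centralizer hmin hcyc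
    exact hnc ⟨_, inferInstance, hcompl _ (MonoidHom.ker_transferSylow_isComplement' P hle)⟩
  have hP : IsKleinFour (P : Subgroup G) := by
    refine ⟨hcard, ?_⟩
    have hdvd : Monoid.exponent (P : Subgroup G) ∣ 2 ^ 2 := by
      rw [show (2 : ℕ) ^ 2 = 4 by norm_num, ← hcard]
      exact Group.exponent_dvd_nat_card
    obtain ⟨k, hk2, hk⟩ := (Nat.dvd_prime_pow Nat.prime_two).mp hdvd
    interval_cases k
    · rw [pow_zero] at hk
      haveI := Monoid.exp_eq_one_iff.mp hk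
      have := Finite.card_le_one_iff_subsingleton.mpr (inferInstance : Subsingleton (P : Subgroup G))
      omega
    · simpa using hk
    · exfalso
      obtain ⟨g, hg⟩ : ∃ g : (P : Subgroup G), orderOf g = 4 := by
        by_contra hcon
        push Not at hcon
        have h2 : Monoid.exponent (P : Subgroup G) ∣ 2 := Monoid.exponent_dvd.mpr fun g => by
          have hd : orderOf g ∣ 2 ^ 2 := by
            rw [show (2 : ℕ) ^ 2 = 4 by norm_num, ← hcard]
            exact orderOf_dvd_natCard g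
          obtain ⟨j, hj2, hj⟩ := (Nat.dvd_prime_pow Nat.prime_two).mp hd
          interval_cases j
          · simp [hj]
          · simp [hj]
          · exact absurd hj (by simpa using hcon g)
        rw [hk] at h2
        norm_num at h2
      exact hncyc (isCyclic_of_orderOf_eq_card g (by rw [hg]; exact hcard.symm))
  refine ⟨hP, fun s t hs ht => ?_⟩
  rcases klein_dichotomy P hP with h1 | ⟨h3, -⟩
  · obtain ⟨hsub, -⟩ := Nat.card_eq_one_iff_unique.mp h1
    exact ConjClasses.mk_eq_mk_iff_isConj.mp (congrArg Subtype.val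
      (hsub.elim ⟨ConjClasses.mk s, s, hs, rfl⟩ ⟨ConjClasses.mk t, t, ht, rfl⟩))
  · obtain ⟨N, hN, hc⟩ := (klein_three_iff P hP).mp h3
    exact absurd ⟨N, hN, hcompl N hc⟩ hnc

section
variable (P : Sylow 2 G) (hP : IsKleinFour (P : Subgroup G))
  (hone : ∀ s t : G, orderOf s = 2 → orderOf t = 2 → IsConj s t)
  {M : Ideal AlgInt} (hM : IsPModular 2 M) {J : G} (hJ : J ∈ P) (hJ2 : orderOf J = 2)
  {χ₁ χ₂ χ₃ : IrrCharacter G} {ε₁ ε₂ ε₃ : ℤ}
  (hB : principalBlock M G =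
    {χ : IrrCharacter G | (χ : G → ℂ) = (fun _ => 1) ∨ χ = χ₁ ∨ χ = χ₂ ∨ χ = χ₃})
  (hdist : (χ₁ : G → ℂ) ≠ (fun _ => 1) ∧ (χ₂ : G → ℂ) ≠ (fun _ => 1) ∧
    (χ₃ : G → ℂ) ≠ (fun _ => 1) ∧ χ₁ ≠ χ₂ ∧ χ₁ ≠ χ₃ ∧ χ₂ ≠ χ₃)
  (hε : (ε₁ = 1 ∨ ε₁ = -1) ∧ (ε₂ = 1 ∨ ε₂ = -1) ∧ (ε₃ = 1 ∨ ε₃ = -1))
  (hval : (χ₁ : G → ℂ) J = ε₁ ∧ (χ₂ : G → ℂ) J = ε₂ ∧ (χ₃ : G → ℂ) J = ε₃)
include hP hone hM hJ hJ2 hB hdist hε hval

open Classical in
/-- The principal block on elements of even order, and the degree relation. -/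
theorem block_data :
    (∀ χ : IrrCharacter G, ∑ g ∈ Finset.univ.filter (fun g : G => 2 ∣ orderOf g),
        conj ((χ : G → ℂ) g) =
      (Nat.card G : ℂ) / 4 * ((if χ = principalIrr G then 1 else 0) +
        (if χ = χ₁ then (ε₁ : ℂ) else 0) + (if χ = χ₂ then (ε₂ : ℂ) else 0) +
        (if χ = χ₃ then (ε₃ : ℂ) else 0))) ∧
    1 + ε₁ * (charDegree (χ₁ : G → ℂ) : ℤ) + ε₂ * (charDegree (χ₂ : G → ℂ) : ℤ) +
      ε₃ * (charDegree (χ₃ : G → ℂ) : ℤ) = 0 := by
  obtain ⟨h1, h2, h3, h12, h13, h23⟩ := hdist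
  set p0 := principalIrr G with hp0
  have n1 : p0 ≠ χ₁ := fun h => h1 (h ▸ rfl)
  have n2 : p0 ≠ χ₂ := fun h => h2 (h ▸ rfl)
  have n3 : p0 ≠ χ₃ := fun h => h3 (h ▸ rfl)
  set B := principalBlock M G with hBdef
  have hBlk : IsPBlock M B := CfsgLib.Blocks.isPBlock_principalBlock M
  have hS : Finset.univ.filter (· ∈ B) = ({p0, χ₁, χ₂, χ₃} : Finset (IrrCharacter G)) := by
    ext χ
    rw [hB]
    simp only [Finset.mem_filter, Finset.mem_univ, true_and, Set.mem_setOf_eq, Finset.mem_insert,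
      Finset.mem_singleton]
    constructor
    · rintro (h | h)
      · exact Or.inl (Subtype.ext h)
      · exact Or.inr h
    · rintro (h | h)
      · exact Or.inl (congrArg Subtype.val h)
      · exact Or.inr h
  have hsum : ∀ f : IrrCharacter G → ℂ,
      ∑ χ ∈ Finset.univ.filter (· ∈ B), f χ = f p0 + (f χ₁ + (f χ₂ + f χ₃)) := fun f => by
    rw [hS, Finset.sum_insert (by simp [n1, n2, n3]), Finset.sum_insert (by simp [h12, h13]),
      Finset.sum_insert (by simp [h23]), Finset.sum_singleton]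
  have hweak : ∀ g : G, ¬ 2 ∣ orderOf g → (1 : ℂ) + ((ε₁ : ℂ) * (χ₁ : G → ℂ) g +
      ((ε₂ : ℂ) * (χ₂ : G → ℂ) g + (ε₃ : ℂ) * (χ₃ : G → ℂ) g)) = 0 := fun g hg => by
    have h := CfsgLib.Blocks.weak_orth hM hBlk hg (y := J) (by rw [hJ2])
    rw [hsum, hval.1, hval.2.1, hval.2.2] at h
    simp only [hp0, principalIrr, map_one, mul_one, map_intCast] at h
    linear_combination h
  have hconst : ∀ χ : IrrCharacter G, χ ∈ B → ∀ g : G, 2 ∣ orderOf g →
      (χ : G → ℂ) g = (χ : G → ℂ) J := by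
    intro χ hχ g hg
    obtain ⟨t, y, rfl, ht, hy, hc⟩ := klein_even_decomp P hP hg
    rw [principalConstant G M hM t ht y (klein_odd_mem_core P hP ht hy hc) χ hχ]
    exact classFunction_eq_of_isConj (irr_isClassFunction χ) (hone t J ht hJ2)
  have hmem : ∀ χ : IrrCharacter G, χ = χ₁ ∨ χ = χ₂ ∨ χ = χ₃ → χ ∈ B := fun χ h => by
    rw [hB]; exact Or.inr h
  have sq : ∀ {e : ℤ}, e = 1 ∨ e = -1 → (e : ℂ) * e = 1 := by rintro e (rfl | rfl) <;> norm_num
  have hθ : ∀ g : G, (1 : ℂ) + ((ε₁ : ℂ) * (χ₁ : G → ℂ) g + ((ε₂ : ℂ) * (χ₂ : G → ℂ) g +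
      (ε₃ : ℂ) * (χ₃ : G → ℂ) g)) = if 2 ∣ orderOf g then 4 else 0 := fun g => by
    split_ifs with hg
    · rw [hconst χ₁ (hmem _ (by tauto)) g hg, hconst χ₂ (hmem _ (by tauto)) g hg,
        hconst χ₃ (hmem _ (by tauto)) g hg, hval.1, hval.2.1, hval.2.2, sq hε.1, sq hε.2.1,
        sq hε.2.2]
      norm_num
    · exact hweak g hg
  refine ⟨fun χ => ?_, ?_⟩
  · have hfun : (fun g : G => if 2 ∣ orderOf g then (4 : ℂ) else 0) =
        (p0 : G → ℂ) + ((ε₁ : ℂ) • (χ₁ : G → ℂ) + ((ε₂ : ℂ) • (χ₂ : G → ℂ) +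
          (ε₃ : ℂ) • (χ₃ : G → ℂ))) := by
      funext g
      rw [← hθ g]
      rfl
    have h := congrArg (fun f => classInner f (χ : G → ℂ)) hfun
    simp only [classInner_add_left, classInner_smul_left, classInner_irr] at h
    rw [classInner] at h
    simp only [ite_mul, zero_mul] at h
    rw [← Finset.sum_filter, ← Finset.mul_sum] at h
    have e : ∀ a : IrrCharacter G, (if a = χ then (1 : ℂ) else 0) = if χ = a then 1 else 0 :=
      fun a => by simp only [eq_comm]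
    rw [e p0, e χ₁, e χ₂, e χ₃] at h
    simp only [mul_ite, mul_one, mul_zero] at h
    have hG0 : (Nat.card G : ℂ) ≠ 0 := Nat.cast_ne_zero.mpr Nat.card_pos.ne'
    field_simp at h ⊢
    linear_combination h
  · have h := hweak 1 (by rw [orderOf_one]; norm_num)
    rw [← cast_irrDegree, ← cast_irrDegree, ← cast_irrDegree] at h
    have h' : ((1 + ε₁ * (charDegree (χ₁ : G → ℂ) : ℤ) + ε₂ * (charDegree (χ₂ : G → ℂ) : ℤ) +
        ε₃ * (charDegree (χ₃ : G → ℂ) : ℤ) : ℤ) : ℂ) = ((0 : ℤ) : ℂ) := by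
      push_cast
      linear_combination h
    exact_mod_cast h'

/-- The order equation. -/
theorem order_eq : ∃ r : ℕ,
    r * Nat.card (Subgroup.centralizer ((P : Subgroup G) : Set G)) =
      Nat.card (Subgroup.centralizer ({J} : Set G)) ∧
    (8 : ℚ) * r ^ 2 * Nat.card (Subgroup.centralizer ({J} : Set G)) =
      Nat.card G * (1 + (ε₁ : ℚ) / charDegree (χ₁ : G → ℂ) + (ε₂ : ℚ) / charDegree (χ₂ : G → ℂ) +
        (ε₃ : ℚ) / charDegree (χ₃ : G → ℂ)) := by
  classical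
  obtain ⟨r, hr, hT⟩ := pair_count P hP hone hJ hJ2
  refine ⟨r, hr, ?_⟩
  obtain ⟨hsumEv, -⟩ := block_data P hP hone hM hJ hJ2 hB hdist hε hval
  have h := CfsgLib.ClassCount.card_pairs_mul_centralizers J J
    (Finset.univ.filter fun g : G => 2 ∣ orderOf g)
  rw [hT] at h
  simp only [irr_apply_inv, hsumEv, mul_add, Finset.sum_add_distrib, mul_ite, mul_zero,
    Finset.sum_ite_eq', Finset.mem_univ, if_true, hval.1, hval.2.1, hval.2.2] at h
  rw [← CfsgLib.ClassCount.card_div_degree, ← CfsgLib.ClassCount.card_div_degree,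
    ← CfsgLib.ClassCount.card_div_degree, ← CfsgLib.ClassCount.card_div_degree, ← cast_irrDegree χ₁,
    ← cast_irrDegree χ₂, ← cast_irrDegree χ₃] at h
  simp only [principalIrr, div_one, mul_one] at h
  set C := Subgroup.centralizer ({J} : Set G)
  have hidx : (C.index : ℂ) * Nat.card C = Nat.card G := by exact_mod_cast C.index_mul_card
  have e3 : ∀ {e : ℤ}, e = 1 ∨ e = -1 → (e : ℂ) * e * e = e := by rintro e (rfl | rfl) <;> norm_num
  have hG0 : (Nat.card G : ℂ) ≠ 0 := Nat.cast_ne_zero.mpr Nat.card_pos.ne'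
  push_cast at h
  have key : (8 : ℂ) * r ^ 2 * Nat.card C =
      Nat.card G * (1 + (ε₁ : ℂ) / charDegree (χ₁ : G → ℂ) + (ε₂ : ℂ) / charDegree (χ₂ : G → ℂ) +
        (ε₃ : ℂ) / charDegree (χ₃ : G → ℂ)) := by
    refine mul_left_cancel₀ hG0 ?_
    linear_combination 4 * h + (-8 * (r : ℂ) ^ 2 * Nat.card C) * hidx +
      ((Nat.card G : ℂ) ^ 2 / charDegree (χ₁ : G → ℂ)) * e3 hε.1 +
      ((Nat.card G : ℂ) ^ 2 / charDegree (χ₂ : G → ℂ)) * e3 hε.2.1 +
      ((Nat.card G : ℂ) ^ 2 / charDegree (χ₃ : G → ℂ)) * e3 hε.2.2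
  have key' : (((8 : ℚ) * r ^ 2 * Nat.card C : ℚ) : ℂ) =
      ((Nat.card G * (1 + (ε₁ : ℚ) / charDegree (χ₁ : G → ℂ) + (ε₂ : ℚ) / charDegree (χ₂ : G → ℂ) +
        (ε₃ : ℚ) / charDegree (χ₃ : G → ℂ)) : ℚ) : ℂ) := by
    push_cast
    exact key
  exact_mod_cast key'

/-- The order formula. -/
theorem order_formula :
    (Nat.card G : ℚ) = 8 * (((charDegree (χ₁ : G → ℂ) : ℚ) * charDegree (χ₂ : G → ℂ) *
      charDegree (χ₃ : G → ℂ)) / ((charDegree (χ₁ : G → ℂ) + ε₁) * (charDegree (χ₂ : G → ℂ) + ε₂) *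
        (charDegree (χ₃ : G → ℂ) + ε₃))) *
      (Nat.card (Subgroup.centralizer ({J} : Set G)) : ℚ) ^ 3 /
      (Nat.card (Subgroup.centralizer ((P : Subgroup G) : Set G)) : ℚ) ^ 2 := by
  obtain ⟨r, hr, h⟩ := order_eq P hP hone hM hJ hJ2 hB hdist hε hval
  obtain ⟨-, horth⟩ := block_data P hP hone hM hJ hJ2 hB hdist hε hval
  set a := Nat.card (Subgroup.centralizer ({J} : Set G))
  set c := Nat.card (Subgroup.centralizer ((P : Subgroup G) : Set G))
  set x := (charDegree (χ₁ : G → ℂ) : ℚ) with hx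
  set y := (charDegree (χ₂ : G → ℂ) : ℚ) with hy
  set z := (charDegree (χ₃ : G → ℂ) : ℚ) with hz
  have hx0 : x ≠ 0 := Nat.cast_ne_zero.mpr (irrDegree_pos χ₁).ne'
  have hy0 : y ≠ 0 := Nat.cast_ne_zero.mpr (irrDegree_pos χ₂).ne'
  have hz0 : z ≠ 0 := Nat.cast_ne_zero.mpr (irrDegree_pos χ₃).ne'
  have ha : (a : ℚ) ≠ 0 := Nat.cast_ne_zero.mpr Nat.card_pos.ne'
  have hc : (c : ℚ) ≠ 0 := Nat.cast_ne_zero.mpr Nat.card_pos.ne'
  have hrQ : (r : ℚ) * c = a := by exact_mod_cast hr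
  have hr0 : (r : ℚ) ≠ 0 := fun h0 => ha (by rw [← hrQ, h0, zero_mul])
  have horthQ : 1 + (ε₁ : ℚ) * x + (ε₂ : ℚ) * y + (ε₃ : ℚ) * z = 0 := by
    rw [hx, hy, hz]; exact_mod_cast horth
  have hid : ((x + ε₁) * (y + ε₂) * (z + ε₃) : ℚ) =
      x * y * z * (1 + (ε₁ : ℚ) / x + (ε₂ : ℚ) / y + (ε₃ : ℚ) / z) := by
    field_simp
    rcases hε with ⟨e1 | e1, e2 | e2, e3 | e3⟩ <;> subst e1 e2 e3 <;> push_cast at horthQ ⊢ <;>
      first
      | linear_combination horthQ
      | linear_combination -horthQ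
  set S := 1 + (ε₁ : ℚ) / x + (ε₂ : ℚ) / y + (ε₃ : ℚ) / z with hS
  have hS0 : S ≠ 0 := fun h0 => by
    rw [h0, mul_zero] at h
    exact (mul_ne_zero (mul_ne_zero (by norm_num) (pow_ne_zero 2 hr0)) ha) h
  rw [hid, show x * y * z / (x * y * z * S) = 1 / S by field_simp, ← hrQ]
  rw [← hrQ] at h
  field_simp
  linear_combination -h

open Classical in
theorem dihedral_case (hprod : ε₁ * ε₂ * ε₃ = -1) (hε₃ : ε₃ = -1) :
    ∃ m : ℕ, 4 * Nat.card (Subgroup.centralizer ({J} : Set G)) =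
        m * Nat.card (Subgroup.centralizer ((P : Subgroup G) : Set G)) *
          (charDegree (χ₃ : G → ℂ) + 1) ∧
      8 * Nat.card G = m ^ 3 * Nat.card (Subgroup.centralizer ((P : Subgroup G) : Set G)) *
        (charDegree (χ₃ : G → ℂ) ^ 3 - charDegree (χ₃ : G → ℂ)) := by
  obtain ⟨r, hr, h⟩ := order_eq P hP hone hM hJ hJ2 hB hdist hε hval
  obtain ⟨hsumEv, horth⟩ := block_data P hP hone hM hJ hJ2 hB hdist hε hval
  obtain ⟨h1, h2, h3, h12, h13, h23⟩ := hdist
  have p1 := irrDegree_pos χ₁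
  have p2 := irrDegree_pos χ₂
  have p3 := irrDegree_pos χ₃
  obtain ⟨e1, e2⟩ : ε₁ = 1 ∧ ε₂ = 1 := by
    subst hε₃
    rcases hε.1 with a | a <;> rcases hε.2.1 with b | b <;> subst a b <;> norm_num at hprod
    · exact ⟨rfl, rfl⟩
    · omega
  subst e1 e2 hε₃
  push_cast at h
  -- odd degrees
  have hodd : ∀ (χ : IrrCharacter G) (e : ℤ), (e = 1 ∨ e = -1) → (χ : G → ℂ) J = e →
      Odd (charDegree (χ : G → ℂ)) := by
    intro χ e he hv
    obtain ⟨k, hk⟩ := CfsgLib.ClassCount.exists_mult χ (Subgroup.zpowers J)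
    have hu : (Finset.univ : Finset (Subgroup.zpowers J)) =
        {1, ⟨J, Subgroup.mem_zpowers J⟩} := by
      refine (Finset.eq_univ_of_card _ ?_).symm
      rw [Finset.card_pair (fun hh => ne_one_of_involution hJ2 (congrArg Subtype.val hh).symm),
        ← Nat.card_eq_fintype_card, Nat.card_zpowers, hJ2]
    rw [hu, Finset.sum_pair (fun hh => ne_one_of_involution hJ2 (congrArg Subtype.val hh).symm),
      Nat.card_zpowers, hJ2] at hk
    simp only [OneMemClass.coe_one, inv_one, inv_eq_of_mul_eq_one_right (mul_self_eq_one hJ2), hv,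
      ← cast_irrDegree χ] at hk
    have hk' : (charDegree (χ : G → ℂ) : ℤ) + e = 2 * k := by
      have : (((charDegree (χ : G → ℂ) : ℤ) + e : ℤ) : ℂ) = ((2 * k : ℤ) : ℂ) := by
        push_cast; exact_mod_cast hk
      exact_mod_cast this
    rw [Nat.odd_iff]
    rcases he with rfl | rfl <;> omega
  -- indicators
  have hν : ∀ χ : IrrCharacter G, Odd (charDegree (χ : G → ℂ)) →
      ((∀ g, ((χ : G → ℂ) g).im = 0) ∧ CfsgLib.FrobSchur.fsInd (χ : G → ℂ) = 1) ∨
      (¬ (∀ g, ((χ : G → ℂ) g).im = 0) ∧ CfsgLib.FrobSchur.fsInd (χ : G → ℂ) = 0) := by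
    intro χ ho
    rcases CfsgLib.FrobSchur.fsInd_cases χ.2 with ⟨hr', h' | h'⟩ | h'
    · exact Or.inl ⟨hr', h'⟩
    · exfalso
      obtain ⟨φ, hφ⟩ := χ
      obtain ⟨n, ρ, hρ, rfl⟩ := hφ
      obtain ⟨Bm, hB0, hBm⟩ := (CfsgLib.FrobSchur.exists_invForm_iff_real ρ hρ).mpr hr'
      have hskew : Bm.transpose = -Bm := by
        rw [CfsgLib.FrobSchur.transpose_eq_fsInd_smul ρ hρ hBm, h', neg_one_smul]
      have hev := CfsgLib.FrobSchur.even_card_of_skew hskew
        (CfsgLib.FrobSchur.isUnit_det_of_invForm ρ hρ hBm hB0).ne_zero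
      rw [Fintype.card_fin] at hev
      have hn : charDegree ρ.character = n := CfsgLib.LinearTwist.charDegree_eq_of_apply_one
        (by simp [Representation.char_one])
      change Odd (charDegree ρ.character) at ho
      rw [hn] at ho
      exact (Nat.not_odd_iff_even.mpr hev) ho
    · exact Or.inr h'
  have hone0 : CfsgLib.FrobSchur.fsInd (principalIrr G : G → ℂ) = 1 := by
    rw [CfsgLib.FrobSchur.fsInd_eq_sum]
    simp [principalIrr]
  have hνsum : CfsgLib.FrobSchur.fsInd (principalIrr G : G → ℂ) +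
      CfsgLib.FrobSchur.fsInd (χ₁ : G → ℂ) + CfsgLib.FrobSchur.fsInd (χ₂ : G → ℂ) -
      CfsgLib.FrobSchur.fsInd (χ₃ : G → ℂ) = 0 := by
    have h0 : ∑ χ : IrrCharacter G, CfsgLib.FrobSchur.fsInd (χ : G → ℂ) *
        ∑ g ∈ Finset.univ.filter (fun g : G => 2 ∣ orderOf g), conj ((χ : G → ℂ) g) = 0 := by
      simp only [CfsgLib.FrobSchur.fsInd_eq_sum, mul_assoc, ← Finset.mul_sum, Finset.sum_mul]
      rw [Finset.sum_comm]
      refine mul_eq_zero_of_right _ (Finset.sum_eq_zero fun w _ => ?_)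
      simp only [Finset.mul_sum]
      rw [Finset.sum_comm]
      refine Finset.sum_eq_zero fun g hg => ?_
      rw [column_orth, if_neg]
      intro hc
      have hg' := (Finset.mem_filter.mp hg).2
      have h4 := klein_order_two_part P hP hg'
      have ho : orderOf (w * w) = orderOf g := orderOf_eq_of_isConj hc.symm
      have hw : 2 ∣ orderOf w := by
        refine (ho ▸ hg').trans ?_
        rw [← pow_two, orderOf_pow]
        exact Nat.div_dvd_of_dvd (Nat.gcd_dvd_left _ _)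
      have h5 := klein_order_two_part P hP hw
      rw [← pow_two, orderOf_pow, Nat.gcd_eq_right hw] at ho
      omega
    simp only [hsumEv, mul_add, Finset.sum_add_distrib, mul_ite, mul_zero, Finset.sum_ite_eq',
      Finset.mem_univ, if_true, Int.cast_one, Int.cast_neg] at h0
    have hG0 : (Nat.card G : ℂ) / 4 ≠ 0 :=
      div_ne_zero (Nat.cast_ne_zero.mpr Nat.card_pos.ne') (by norm_num)
    refine mul_left_cancel₀ hG0 ?_
    rw [mul_zero]
    linear_combination h0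
  rw [hone0] at hνsum
  -- `χ₁` and `χ₂` are complex conjugate
  have hnr : ¬ ∀ g, ((χ₁ : G → ℂ) g).im = 0 := by
    rcases hν χ₁ (hodd χ₁ 1 (Or.inl rfl) hval.1) with ⟨-, a⟩ | ⟨a, -⟩
    · exfalso
      rcases hν χ₂ (hodd χ₂ 1 (Or.inl rfl) hval.2.1) with ⟨-, b⟩ | ⟨-, b⟩ <;>
        rcases hν χ₃ (hodd χ₃ (-1) (Or.inr rfl) hval.2.2) with ⟨-, c⟩ | ⟨-, c⟩ <;>
          rw [a, b, c] at hνsum <;> norm_num at hνsum
    · exact a
  obtain ⟨χ', hχ'⟩ : ∃ χ' : IrrCharacter G, ∀ g, (χ' : G → ℂ) g = conj ((χ₁ : G → ℂ) g) := by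
    refine ⟨⟨fun g => conj ((χ₁ : G → ℂ) g), ?_⟩, fun g => rfl⟩
    rw [isIrrCharacter_iff_classInner_self (isCharacter_conj (irr_isCharacter χ₁))]
    have hh := congrArg conj (classInner_irr_self χ₁.2)
    rw [map_one] at hh
    rw [← hh]
    simp [classInner, map_sum]
  have hne1 : χ' ≠ χ₁ := fun e => hnr fun g => by
    have := hχ' g
    rw [e] at this
    exact Complex.conj_eq_iff_im.mp this.symm
  have hne0 : χ' ≠ principalIrr G := fun e => h1 (funext fun g => by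
    have := hχ' g
    rw [e] at this
    simpa [principalIrr] using (congrArg conj this).symm)
  have hx12 : charDegree (χ₁ : G → ℂ) = charDegree (χ₂ : G → ℂ) := by
    have e : χ' = χ₂ := by
      have hE := hsumEv χ'
      have hE1 := congrArg conj (hsumEv χ₁)
      simp only [hχ'] at hE
      rw [map_sum] at hE1
      rw [hE] at hE1
      simp only [if_neg hne0, if_neg hne1, if_neg (fun h => h1 (congrArg Subtype.val h) :
        χ₁ ≠ principalIrr G), if_neg h12, if_neg h13, if_true, map_mul, map_div₀, map_add, map_zero,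
        map_one, Complex.conj_natCast, Int.cast_one, Int.cast_neg, add_zero, zero_add, map_ofNat] at hE1
      by_contra hcon
      rw [if_neg hcon] at hE1
      have hG0 : (Nat.card G : ℂ) / 4 ≠ 0 :=
        div_ne_zero (Nat.cast_ne_zero.mpr Nat.card_pos.ne') (by norm_num)
      have := mul_left_cancel₀ hG0 hE1
      split_ifs at this <;> norm_num at this
    rw [← e, CfsgLib.LinearTwist.charDegree_eq_of_apply_one
      (χ := (χ' : G → ℂ)) (n := charDegree (χ₁ : G → ℂ))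
      (by rw [hχ', ← cast_irrDegree, Complex.conj_natCast])]
  set x := charDegree (χ₁ : G → ℂ) with hx
  set q := charDegree (χ₃ : G → ℂ) with hq
  rw [← hx12] at h horth
  have hq2 : q = 2 * x + 1 := by omega
  rw [hq2] at h ⊢
  push_cast at h
  set a := Nat.card (Subgroup.centralizer ({J} : Set G)) with ha
  set c := Nat.card (Subgroup.centralizer ((P : Subgroup G) : Set G)) with hc
  have hxQ : (x : ℚ) ≠ 0 := Nat.cast_ne_zero.mpr p1.ne'
  have hid : Nat.card G * (4 * (x + 1) ^ 2) = 8 * r ^ 2 * a * (2 * x * (2 * x + 1)) := by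
    have hq' : ((2 * x + 1 : ℕ) : ℚ) ≠ 0 := by positivity
    push_cast at hq'
    field_simp at h
    have : ((Nat.card G * (4 * (x + 1) ^ 2) : ℕ) : ℚ) =
        ((8 * r ^ 2 * a * (2 * x * (2 * x + 1)) : ℕ) : ℚ) := by
      push_cast
      linear_combination (-2 : ℚ) * h
    exact_mod_cast this
  obtain ⟨I, hI⟩ : a ∣ Nat.card G := Subgroup.card_subgroup_dvd_card _
  have ha0 : 0 < a := Nat.card_pos
  have hid2 : I * (x + 1) ^ 2 = x * (2 * x + 1) * (2 * r) ^ 2 := by
    refine Nat.eq_of_mul_eq_mul_left (by positivity : 0 < 4 * a) ?_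
    rw [hI] at hid
    linear_combination hid
  obtain ⟨m, hm⟩ : x + 1 ∣ 2 * r := by
    refine (Nat.pow_dvd_pow_iff two_ne_zero).mp ?_
    refine Nat.Coprime.dvd_of_dvd_mul_left ?_ ⟨I, by rw [← hid2]; ring⟩
    refine Nat.Coprime.pow_left 2 (Nat.Coprime.mul_right ?_ ?_)
    · rw [Nat.coprime_comm]
      exact (Nat.coprime_self_add_right).mpr (Nat.coprime_one_right x)
    · rw [show 2 * x + 1 = (x + 1) + x by ring, Nat.coprime_self_add_right, Nat.coprime_comm]
      exact (Nat.coprime_self_add_right).mpr (Nat.coprime_one_right x)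
  refine ⟨m, ?_, ?_⟩
  · rw [← hr]
    linear_combination (2 * c) * hm
  · have h4 : (2 * x + 1) ^ 3 - (2 * x + 1) = 4 * x * (x + 1) * (2 * x + 1) := by
      have : (2 * x + 1) ^ 3 = 4 * x * (x + 1) * (2 * x + 1) + (2 * x + 1) := by ring
      rw [this, Nat.add_sub_cancel]
    rw [h4, hI]
    have hI2 : I = x * (2 * x + 1) * m ^ 2 := by
      refine Nat.eq_of_mul_eq_mul_right (by positivity : 0 < (x + 1) ^ 2) ?_
      rw [hid2, hm]; ring
    rw [hI2, ← hr]
    linear_combination (4 * x * (2 * x + 1) * m ^ 2 * c) * hm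

end

end CfsgLib.KleinOrder
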