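import Cfsg.Agent.Lib.ModRep.Main
import Cfsg.Agent.Lib.BrauerPairs.Bridge
import Cfsg.Agent.Lib.BlockCover.DefectGroup
import Mathlib.GroupTheory.GroupAction.Quotient

/-!
# Blocks of least dimension are nilpotent

If the dimension of a block is `p ^ (2a - d)` then, for a Sylow subgroup `P`, a single `P`-double
coset gives a basis of the block algebra; this controls all the fusion of Brauer pairs.
-/

set_option autoImplicit false
set_option linter.unusedSectionVars false
set_option linter.style.haveILetI false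

namespace CfsgLib.MinimalDim

open MonoidAlgebra CfsgLib.BrauerPairs
open scoped Classical

variable {k : Type*} [Field k] {G : Type*} [Group G] [Fintype G]

/-- The two sided action of `P` on `G`. -/
@[reducible] def biAction (P : Subgroup G) : MulAction (P × P) G where
  smul u x := (u.1 : G) * x * (u.2 : G)⁻¹
  one_smul x := by show ((1 : P) : G) * x * ((1 : P) : G)⁻¹ = x; simp
  mul_smul u v x := by
    show ((u.1 * v.1 : P) : G) * x * ((u.2 * v.2 : P) : G)⁻¹ =
      (u.1 : G) * ((v.1 : G) * x * (v.2 : G)⁻¹) * (u.2 : G)⁻¹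
    simp [mul_assoc]

variable (P : Subgroup G)

attribute [local instance] biAction

theorem smul_def (u : P × P) (x : G) : u • x = (u.1 : G) * x * (u.2 : G)⁻¹ := rfl

/-- The translate of an element of the group algebra. -/
noncomputable def tr (u : P × P) : MonoidAlgebra k G →ₗ[k] MonoidAlgebra k G :=
  (LinearMap.mulLeft k (single (u.1 : G) (1 : k))).comp
    (LinearMap.mulRight k (single ((u.2 : G)⁻¹) (1 : k)))

theorem tr_apply (u : P × P) (w : MonoidAlgebra k G) :
    tr P u w = single (u.1 : G) (1 : k) * (w * single ((u.2 : G)⁻¹) (1 : k)) := rfl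

theorem tr_single (u : P × P) (x : G) (c : k) : tr P u (single x c) = single (u • x) c := by
  rw [tr_apply, single_mul_single, single_mul_single, smul_def, mul_one, one_mul, mul_assoc]

theorem tr_mul (u v : P × P) (w : MonoidAlgebra k G) : tr P (u * v) w = tr P u (tr P v w) := by
  simp only [tr_apply, Prod.fst_mul, Prod.snd_mul, Subgroup.coe_mul, mul_inv_rev]
  rw [show (single ((u.1 : G) * (v.1 : G)) (1 : k) : MonoidAlgebra k G) =
      single (u.1 : G) 1 * single (v.1 : G) 1 by rw [single_mul_single, mul_one],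
    show (single ((v.2 : G)⁻¹ * (u.2 : G)⁻¹) (1 : k) : MonoidAlgebra k G) =
      single ((v.2 : G)⁻¹) 1 * single ((u.2 : G)⁻¹) 1 by rw [single_mul_single, mul_one]]
  simp only [mul_assoc]

theorem coeff_tr (u : P × P) (w : MonoidAlgebra k G) (y : G) :
    (tr P u w).coeff (u • y) = w.coeff y := by
  induction w using MonoidAlgebra.induction_linear with
  | zero => simp
  | add a b ha hb => simp [map_add, coeff_add, ha, hb]
  | single x c =>
    rw [tr_single, coeff_single, coeff_single, Finsupp.single_apply, Finsupp.single_apply]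
    simp

theorem one_tr (w : MonoidAlgebra k G) : tr P 1 w = w := by
  simp [tr_apply, ← one_def]

/-- A nonzero subspace stable under the translations has a nonzero fixed element. -/
theorem exists_fixed {p : ℕ} [hp : Fact p.Prime] [CharP k p] (hP : IsPGroup p P)
    (W : Submodule k (MonoidAlgebra k G)) (hW : ∀ u : P × P, ∀ w ∈ W, tr P u w ∈ W)
    {v : MonoidAlgebra k G} (hv : v ∈ W) (hv0 : v ≠ 0) :
    ∃ w ∈ W, w ≠ 0 ∧ ∀ u : P × P, tr P u w = w := by
  set ι : ZMod p →+* k := ZMod.castHom dvd_rfl k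
  let Φ : (P × P → ZMod p) →+ MonoidAlgebra k G :=
    { toFun := fun c => ∑ u, ι (c u) • tr P u v
      map_zero' := by simp
      map_add' := fun c c' => by simp [add_smul, Finset.sum_add_distrib] }
  have hΦ : ∀ u c, tr P u (Φ c) = Φ fun t => c (u⁻¹ * t) := by
    intro u c
    show tr P u (∑ t, ι (c t) • tr P t v) = ∑ t, ι (c (u⁻¹ * t)) • tr P t v
    rw [map_sum]
    refine Fintype.sum_equiv (Equiv.mulLeft u) _ _ fun t => ?_
    simp only [map_smul, ← tr_mul, Equiv.coe_mulLeft, inv_mul_cancel_left]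
  letI act : MulAction (P × P) Φ.range :=
    { smul := fun u w => ⟨tr P u w.1, by
        obtain ⟨c, hc⟩ := w.2
        exact ⟨_, by rw [← hc]; exact (hΦ u c).symm⟩⟩
      one_smul := fun w => Subtype.ext (one_tr P _)
      mul_smul := fun u u' w => Subtype.ext (tr_mul P u u' _) }
  haveI : Finite Φ.range := Finite.of_surjective Φ.rangeRestrict Φ.rangeRestrict_surjective
  have hmem : v ∈ Φ.range := ⟨Pi.single 1 1, by
    show ∑ t, ι ((Pi.single 1 1 : P × P → ZMod p) t) • tr P t v = v
    rw [Finset.sum_eq_single 1 (fun t _ ht => by rw [Pi.single_eq_of_ne ht, map_zero, zero_smul])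
      (fun h => absurd (Finset.mem_univ _) h), Pi.single_eq_same, map_one, one_smul, one_tr]⟩
  have hdvd : p ∣ Nat.card Φ.range := by
    set w : Φ.range := ⟨v, hmem⟩
    have ho : addOrderOf w = p := addOrderOf_eq_prime (Subtype.ext (by
      simp [w, ← Nat.cast_smul_eq_nsmul k])) fun h => hv0 (congrArg Subtype.val h)
    have h := addOrderOf_dvd_natCard w
    rwa [ho] at h
  have hPP : IsPGroup p (P × P) := by
    obtain ⟨n, hn⟩ := IsPGroup.iff_card.1 hP
    exact IsPGroup.of_card (n := n + n) (by rw [Nat.card_prod, hn, pow_add])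
  obtain ⟨w, hw, hw0⟩ := hPP.exists_fixed_point_of_prime_dvd_card_of_fixed_point Φ.range hdvd
    (a := 0) fun u => Subtype.ext (map_zero (tr P u))
  refine ⟨w.1, ?_, fun h => hw0 (Subtype.ext h.symm), fun u => congrArg Subtype.val (hw u)⟩
  obtain ⟨c, hc⟩ := w.2
  rw [← hc]
  exact W.sum_mem fun t _ => W.smul_mem _ (hW t v hv)

/-- The sum over a double coset. -/
noncomputable def dsum (x : G) : MonoidAlgebra k G :=
  Blocks.ofFun fun y => if y ∈ MulAction.orbit (P × P) x then (1 : k) else 0

theorem coeff_dsum (x y : G) :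
    (dsum (k := k) P x).coeff y = if y ∈ MulAction.orbit (P × P) x then 1 else 0 :=
  Blocks.coeff_ofFun _ _

/-- The order of the stabilizer in `P × P`. -/
noncomputable def stabCard (x : G) : ℕ := Nat.card (MulAction.stabilizer (P × P) x)

theorem stabCard_eq_of_mem {x y : G} (h : y ∈ MulAction.orbit (P × P) x) :
    stabCard P y = stabCard P x := by
  have h1 := MulAction.card_orbit_mul_card_stabilizer_eq_card_group (P × P) x
  have h2 := MulAction.card_orbit_mul_card_stabilizer_eq_card_group (P × P) y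
  rw [← Nat.card_eq_fintype_card, ← Nat.card_eq_fintype_card, ← Nat.card_eq_fintype_card] at h1 h2
  rw [MulAction.orbit_eq_iff.2 h] at h2
  have h3 : 0 < Nat.card (MulAction.orbit (P × P) x) :=
    Nat.card_pos_iff.2 ⟨⟨⟨x, MulAction.mem_orbit_self x⟩⟩, inferInstance⟩
  exact Nat.eq_of_mul_eq_mul_left h3 (h2.trans h1.symm)

variable {E : MonoidAlgebra k G} (hE : E ∈ fixAlg k (⊤ : Subgroup G))

include hE in
theorem tr_mul_right (u : P × P) (w : MonoidAlgebra k G) : tr P u (w * E) = tr P u w * E := by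
  have hc : Commute (single ((u.2 : G)⁻¹) (1 : k)) E :=
    commute_of_supp_fix (single_mem_suppAlg (Subgroup.mem_top _) 1) hE
  simp only [tr_apply, mul_assoc, hc.eq]

theorem mul_eq_zero_of_invariant {w : MonoidAlgebra k G}
    (hw : ∀ (u : P × P) (y : G), w.coeff (u • y) = w.coeff y)
    (h0 : ∀ x : G, w.coeff x ≠ 0 → dsum P x * E = 0) : w * E = 0 := by
  haveI := Fintype.ofFinite (MulAction.orbitRel.Quotient (P × P) G)
  have hw' : w = ∑ ω : MulAction.orbitRel.Quotient (P × P) G, w.coeff ω.out • dsum P ω.out := by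
    ext y
    simp only [coeff_sum, coeff_smul, Finsupp.finsetSum_apply, Finsupp.smul_apply, coeff_dsum,
      smul_eq_mul, mul_ite, mul_one, mul_zero]
    rw [Finset.sum_eq_single (Quotient.mk'' y : MulAction.orbitRel.Quotient (P × P) G)]
    · have hy : y ∈ MulAction.orbit (P × P)
          (Quotient.mk'' y : MulAction.orbitRel.Quotient (P × P) G).out :=
        MulAction.mem_orbit_symm.1 (MulAction.orbitRel_apply.1 (Quotient.exact' (Quotient.out_eq'
          (Quotient.mk'' y : MulAction.orbitRel.Quotient (P × P) G))))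
      rw [if_pos hy]
      obtain ⟨u, hu⟩ := hy
      exact (congrArg _ hu.symm).trans (hw u _)
    · intro ω _ hne
      rw [if_neg]
      intro hy
      exact hne ((Quotient.out_eq' ω).symm.trans (Quotient.sound' (MulAction.orbitRel_apply.2 hy)).symm)
    · exact fun h => absurd (Finset.mem_univ _) h
  rw [hw', Finset.sum_mul]
  refine Finset.sum_eq_zero fun ω _ => ?_
  rw [smul_mul_assoc]
  by_cases h : w.coeff ω.out = 0
  · rw [h, zero_smul]
  · rw [h0 _ h, smul_zero]

include hE in
theorem coeff_dsum_mul_invariant (x : G) (u : P × P) (y : G) :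
    (dsum P x * E).coeff (u • y) = (dsum P x * E).coeff y := by
  rw [coeff_mul_fintype, coeff_mul_fintype]
  refine (Fintype.sum_equiv (MulAction.toPerm u) _ _ fun c => ?_).symm
  simp only [MulAction.toPerm_apply, coeff_dsum]
  congr 1
  · congr 1
    exact propext (by
      rw [← MulAction.orbit_eq_iff, ← MulAction.orbit_eq_iff, MulAction.orbit_smul])
  · rw [← mem_fixAlg_iff_coeff.1 hE (u.2 : G) (Subgroup.mem_top _) (c⁻¹ * y)]
    congr 1
    simp only [smul_def]
    group

variable {p : ℕ} [hp : Fact p.Prime] [CharP k p]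

include hE in
/-- Large stabilizers do not occur in the product of a double coset sum with `E`. -/
theorem coeff_dsum_mul_eq_zero (hP : IsPGroup p P) {d : ℕ}
    (hbr : ∀ Q : Subgroup G, IsPGroup p Q → brMap k Q E ≠ 0 → Nat.card Q ≤ p ^ d) {x y : G}
    (hx : p ^ d < stabCard P x) (hy : stabCard P x ≤ stabCard P y) :
    (dsum P x * E).coeff y = 0 := by
  set H := MulAction.stabilizer (P × P) y with hH
  have hPP : IsPGroup p (P × P) := by
    obtain ⟨n, hn⟩ := IsPGroup.iff_card.1 hP
    exact IsPGroup.of_card (n := n + n) (by rw [Nat.card_prod, hn, pow_add])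
  rw [coeff_mul_fintype, sum_eq_sum_fixedPoints (p := p) (hPP.to_subgroup H)]
  · refine Finset.sum_eq_zero fun a ha => ?_
    have hfix : ∀ u ∈ H, u • a = a := fun u hu => (Finset.mem_filter.1 ha).2 ⟨u, hu⟩
    rw [coeff_dsum]
    split_ifs with hax
    · rw [one_mul]
      have hle : H ≤ MulAction.stabilizer (P × P) a := fun u hu => hfix u hu
      let S := MulAction.stabilizer (P × P) a
      let f : S →* G := P.subtype.comp ((MonoidHom.snd P P).comp S.subtype)
      have hf : Function.Injective f := fun u v huv => by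
        have h2 : (u.1.2 : G) = v.1.2 := huv
        have hu : (u.1.1 : G) * a * (u.1.2 : G)⁻¹ = a := u.2
        have hv : (v.1.1 : G) * a * (v.1.2 : G)⁻¹ = a := v.2
        rw [h2] at hu
        have h1 : (u.1.1 : G) = v.1.1 :=
          mul_right_cancel (mul_right_cancel (hu.trans hv.symm))
        exact Subtype.ext (Prod.ext (Subtype.ext h1) (Subtype.ext h2))
      have hcard : Nat.card f.range = stabCard P x := by
        rw [← Nat.card_congr (MonoidHom.ofInjective hf).toEquiv]
        exact stabCard_eq_of_mem P hax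
      have hHS : H = S := by
        refine Subgroup.eq_of_le_of_card_ge hle ?_
        show stabCard P a ≤ stabCard P y
        rw [stabCard_eq_of_mem P hax]
        exact hy
      have hRp : IsPGroup p f.range := hP.to_le (by
        rintro _ ⟨u, rfl⟩
        exact u.1.2.2)
      have h0 : brMap k f.range E = 0 := not_not.1 fun h => by
        have := hbr _ hRp h
        omega
      rw [← coeff_brMap_of_mem E (Q := f.range) (x := a⁻¹ * y), h0]
      · simp
      refine mem_cz.2 ?_
      rintro _ ⟨u, rfl⟩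
      have hu : (u.1.1 : G) * a * (u.1.2 : G)⁻¹ = a := u.2
      have huy : (u.1.1 : G) * y * (u.1.2 : G)⁻¹ = y :=
        (show u.1 ∈ H by rw [hHS]; exact u.2)
      show (u.1.2 : G) * (a⁻¹ * y) = a⁻¹ * y * (u.1.2 : G)
      conv_rhs => rw [← huy, ← hu]
      group
    · rw [zero_mul]
  · intro u c
    show (dsum P x).coeff (u.1 • c) * E.coeff ((u.1 • c)⁻¹ * y) =
      (dsum P x).coeff c * E.coeff (c⁻¹ * y)
    congr 1
    · simp only [coeff_dsum]
      congr 1
      exact propext (by
        rw [← MulAction.orbit_eq_iff, ← MulAction.orbit_eq_iff, MulAction.orbit_smul])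
    · rw [← mem_fixAlg_iff_coeff.1 hE (u.1.2 : G) (Subgroup.mem_top _) (c⁻¹ * y)]
      congr 1
      have huy : (u.1.1 : G) * y * (u.1.2 : G)⁻¹ = y := u.2
      conv_lhs => rw [← huy]
      simp only [smul_def]
      group

include hE in
/-- Some double coset sum with a small stabilizer survives in the block. -/
theorem exists_dsum_ne_zero (hP : IsPGroup p P) (hidem : E * E = E) (hE0 : E ≠ 0) {d : ℕ}
    (hbr : ∀ Q : Subgroup G, IsPGroup p Q → brMap k Q E ≠ 0 → Nat.card Q ≤ p ^ d) :
    ∃ x : G, dsum P x * E ≠ 0 ∧ stabCard P x ≤ p ^ d := by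
  set W := LinearMap.range (LinearMap.mulRight k E) with hWdef
  obtain ⟨w, hwW, hw0, hw⟩ := exists_fixed (p := p) P hP W
    (fun u w hw => by
      obtain ⟨z, rfl⟩ := hw
      exact ⟨tr P u z, (tr_mul_right P hE u z).symm⟩) (v := E)
    ⟨1, one_mul E⟩ hE0
  have hinv : ∀ (u : P × P) (y : G), w.coeff (u • y) = w.coeff y := fun u y => by
    conv_lhs => rw [← hw u]
    exact coeff_tr P u w y
  have hwE : w * E = w := by
    obtain ⟨z, rfl⟩ := hwW
    show z * E * E = z * E
    rw [mul_assoc, hidem]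
  have hne : (Finset.univ.filter fun x : G => dsum P x * E ≠ 0).Nonempty := by
    by_contra h
    refine hw0 (hwE ▸ mul_eq_zero_of_invariant P hinv fun x _ => ?_)
    exact not_not.1 fun hx => h ⟨x, Finset.mem_filter.2 ⟨Finset.mem_univ _, hx⟩⟩
  obtain ⟨x, hx, hmin⟩ := Finset.exists_min_image _ (stabCard P) hne
  refine ⟨x, (Finset.mem_filter.1 hx).2, le_of_not_gt fun hd => (Finset.mem_filter.1 hx).2 ?_⟩
  have h1 : dsum P x * E * E = 0 := mul_eq_zero_of_invariant P
    (coeff_dsum_mul_invariant P hE x) fun y hy => not_not.1 fun hne0 => hy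
      (coeff_dsum_mul_eq_zero P hE hP hbr hd (hmin y (Finset.mem_filter.2 ⟨Finset.mem_univ _, hne0⟩)))
  rwa [mul_assoc, hidem] at h1

include hE in
/-- If the block has the least possible dimension, one double coset gives a basis. -/
theorem exists_basis_coset {a d : ℕ} (hPc : Nat.card P = p ^ a) (hda : d ≤ 2 * a)
    (hidem : E * E = E) (hE0 : E ≠ 0)
    (hbr : ∀ Q : Subgroup G, IsPGroup p Q → brMap k Q E ≠ 0 → Nat.card Q ≤ p ^ d)
    (hdim : Module.finrank k (LinearMap.range (LinearMap.mulRight k E)) = p ^ (2 * a - d)) :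
    ∃ x : G, stabCard P x = p ^ d ∧
      (∀ z : MonoidAlgebra k G, ∃ w : MonoidAlgebra k G,
        (∀ y, w.coeff y ≠ 0 → y ∈ MulAction.orbit (P × P) x) ∧ w * E = z * E) ∧
      ∀ w : MonoidAlgebra k G, (∀ y, w.coeff y ≠ 0 → y ∈ MulAction.orbit (P × P) x) →
        w * E = 0 → w = 0 := by
  have hP : IsPGroup p P := IsPGroup.of_card hPc
  obtain ⟨x, hx, hxd⟩ := exists_dsum_ne_zero P hE hP hidem hE0 hbr
  let O := MulAction.orbit (P × P) x
  have huniq : ∀ w : MonoidAlgebra k G, (∀ y, w.coeff y ≠ 0 → y ∈ O) → w * E = 0 → w = 0 := by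
    intro w hw hwE
    by_contra hw0
    let K : Submodule k (MonoidAlgebra k G) :=
      { carrier := {w | (∀ y, w.coeff y ≠ 0 → y ∈ O) ∧ w * E = 0}
        zero_mem' := ⟨fun y h => absurd (by simp) h, zero_mul E⟩
        add_mem' := fun {u v} hu hv => ⟨fun y h => by
          rw [coeff_add, Finsupp.add_apply] at h
          by_cases h1 : u.coeff y = 0
          · exact hv.1 y (by simpa [h1] using h)
          · exact hu.1 y h1, by rw [add_mul, hu.2, hv.2, add_zero]⟩
        smul_mem' := fun c u hu => ⟨fun y h => hu.1 y (by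
          rw [coeff_smul, Finsupp.smul_apply] at h
          exact fun h0 => h (by rw [h0, smul_zero])), by rw [smul_mul_assoc, hu.2, smul_zero]⟩ }
    obtain ⟨v, hv, hv0, hvf⟩ := exists_fixed (p := p) P hP K (fun u v hv => ⟨fun y hy => by
        rw [← smul_inv_smul u y, coeff_tr] at hy
        show y ∈ O
        rw [← MulAction.orbit_eq_iff, ← MulAction.orbit_eq_iff.2 (hv.1 _ hy), MulAction.orbit_smul],
        by rw [← tr_mul_right P hE, hv.2, map_zero]⟩) (v := w) ⟨hw, hwE⟩ hw0
    have hinv : ∀ (u : P × P) (y : G), v.coeff (u • y) = v.coeff y := fun u y => by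
      conv_lhs => rw [← hvf u]
      exact coeff_tr P u v y
    have hvd : v = v.coeff x • dsum P x := by
      ext y
      rw [coeff_smul, Finsupp.smul_apply, coeff_dsum, smul_eq_mul]
      split_ifs with hy
      · obtain ⟨u, rfl⟩ := hy
        rw [mul_one]
        exact hinv u x
      · rw [mul_zero]
        exact not_not.1 fun h => hy (hv.1 y h)
    have hc : v.coeff x ≠ 0 := fun h => hv0 (by rw [hvd, h, zero_smul])
    refine hx ((smul_eq_zero.1 (?_ : v.coeff x • (dsum P x * E) = 0)).resolve_left hc)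
    rw [← smul_mul_assoc, ← hvd, hv.2]
  let S : Submodule k (MonoidAlgebra k G) :=
    Submodule.span k (Set.range fun y : O => single (y : G) (1 : k))
  have hS : ∀ w ∈ S, ∀ y, w.coeff y ≠ 0 → y ∈ O := by
    intro w hw
    induction hw using Submodule.span_induction with
    | mem v hv =>
      obtain ⟨o, rfl⟩ := hv
      intro y hy
      rw [coeff_single, Finsupp.single_apply] at hy
      split_ifs at hy with h
      · exact h ▸ o.2
      · exact absurd rfl hy
    | zero => intro y hy; exact absurd (by simp) hy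
    | add u v _ _ hu hv =>
      intro y hy
      rw [coeff_add, Finsupp.add_apply] at hy
      by_cases h1 : u.coeff y = 0
      · exact hv y (by simpa [h1] using hy)
      · exact hu y h1
    | smul c u _ hu =>
      intro y hy
      rw [coeff_smul, Finsupp.smul_apply] at hy
      exact hu y fun h => hy (by rw [h, smul_zero])
  have hli : LinearIndependent k fun y : O => single (y : G) (1 : k) := by
    have := (MonoidAlgebra.basis G k).linearIndependent.comp (fun y : O => (y : G))
      Subtype.val_injective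
    simpa [Function.comp_def] using this
  have hSdim : Module.finrank k S = Nat.card O := by
    rw [finrank_span_eq_card hli, Nat.card_eq_fintype_card]
  let f : S →ₗ[k] LinearMap.range (LinearMap.mulRight k E) :=
    (LinearMap.mulRight k E).rangeRestrict.comp S.subtype
  have hf : Function.Injective f := by
    rw [← LinearMap.ker_eq_bot, LinearMap.ker_eq_bot']
    intro w hw
    exact Subtype.ext (huniq w.1 (hS _ w.2) (congrArg Subtype.val hw))
  haveI : Module.Finite k (MonoidAlgebra k G) := Module.Finite.of_basis (MonoidAlgebra.basis G k)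
  have hle : Nat.card O ≤ p ^ (2 * a - d) :=
    hSdim ▸ hdim ▸ LinearMap.finrank_le_finrank_of_injective hf
  have hmul := MulAction.card_orbit_mul_card_stabilizer_eq_card_group (P × P) x
  rw [← Nat.card_eq_fintype_card, ← Nat.card_eq_fintype_card, ← Nat.card_eq_fintype_card,
    Nat.card_prod, hPc] at hmul
  have hpow : p ^ (2 * a - d) * p ^ d = p ^ a * p ^ a := by
    rw [← pow_add, ← pow_add]; congr 1; omega
  have hp0 : 0 < p ^ d := pow_pos hp.out.pos d
  have hOc : Nat.card O = p ^ (2 * a - d) := by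
    refine le_antisymm hle (Nat.le_of_mul_le_mul_right ?_ hp0)
    rw [hpow, ← hmul]
    exact Nat.mul_le_mul_left _ hxd
  refine ⟨x, ?_, fun z => ?_, huniq⟩
  · have h1 : Nat.card O * stabCard P x = Nat.card O * p ^ d := by
      rw [show Nat.card O * p ^ d = p ^ a * p ^ a by rw [hOc, hpow]]
      exact hmul
    exact Nat.eq_of_mul_eq_mul_left (hOc ▸ pow_pos hp.out.pos _) h1
  · have hsurj : Function.Surjective f :=
      (LinearMap.injective_iff_surjective_of_finrank_eq_finrank (by rw [hSdim, hOc, hdim])).1 hf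
    obtain ⟨w, hw⟩ := hsurj ((LinearMap.mulRight k E).rangeRestrict z)
    exact ⟨w.1, hS _ w.2, congrArg Subtype.val hw⟩

include hE in
/-- Every pair is normalized through the basis coset. -/
theorem exists_mem_centralizer {x : G}
    (hex : ∀ z : MonoidAlgebra k G, ∃ w : MonoidAlgebra k G,
        (∀ y, w.coeff y ≠ 0 → y ∈ MulAction.orbit (P × P) x) ∧ w * E = z * E)
    (huniq : ∀ w : MonoidAlgebra k G, (∀ y, w.coeff y ≠ 0 → y ∈ MulAction.orbit (P × P) x) →
        w * E = 0 → w = 0)
    {Q : Subgroup G} (hQP : Q ≤ P) (hP : IsPGroup p P) (hQ : brMap k Q E ≠ 0) {n : G}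
    (hn : n ∈ Subgroup.normalizer (Q : Set G)) :
    ∃ y ∈ MulAction.orbit (P × P) x, n⁻¹ * y ∈ cz Q := by
  by_contra hno
  push Not at hno
  obtain ⟨w, hw, hwE⟩ := hex (single n 1)
  set z := single n⁻¹ (1 : k) * w with hz
  have hzE : z * E = E := by
    rw [hz, mul_assoc, hwE, ← mul_assoc, single_mul_single, inv_mul_cancel, mul_one, ← one_def,
      one_mul]
  have hcoef : ∀ y, z.coeff y = w.coeff (n * y) := fun y => by
    rw [hz, coeff_mul_fintype, Finset.sum_eq_single n⁻¹ (fun b _ hb => by
      rw [coeff_single, Finsupp.single_eq_of_ne hb, zero_mul])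
      (fun h => absurd (Finset.mem_univ _) h), coeff_single, Finsupp.single_eq_same, one_mul,
      inv_inv]
  have hfix : z ∈ fixAlg k Q := by
    intro q hq
    have hq' : n * q * n⁻¹ ∈ P := hQP ((Subgroup.mem_normalizer_iff.1 hn q).1 hq)
    let u : P × P := (⟨_, hq'⟩, ⟨q, hQP hq⟩)
    have hu : conjA q z = single n⁻¹ (1 : k) * tr P u w := by
      rw [hz, conjA, tr_apply, ← mul_assoc (single n⁻¹ (1 : k)) (single (u.1 : G) (1 : k)),
        single_mul_single, ← mul_assoc (single q (1 : k)), single_mul_single, mul_one,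
        show n⁻¹ * (u.1 : G) = q * n⁻¹ by show n⁻¹ * (n * q * n⁻¹) = _; group, mul_assoc]
    rw [hu, hz]
    congr 1
    refine sub_eq_zero.1 (huniq _ (fun y hy => ?_) ?_)
    · rw [coeff_sub, Finsupp.sub_apply] at hy
      by_cases h1 : w.coeff y = 0
      · have h2 : w.coeff (u⁻¹ • y) ≠ 0 := by
          rw [← coeff_tr P u w (u⁻¹ • y), smul_inv_smul]
          simpa [h1] using hy
        rw [← MulAction.orbit_eq_iff, ← MulAction.orbit_eq_iff.2 (hw _ h2), MulAction.orbit_smul]
      · exact hw y h1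
    · have hc : Commute (single ((u.2 : G)⁻¹) (1 : k)) E :=
        commute_of_supp_fix (single_mem_suppAlg (Subgroup.mem_top _) 1) hE
      rw [sub_mul, ← tr_mul_right P hE, hwE, tr_mul_right P hE, tr_single, smul_def, sub_eq_zero]
      show single (n * q * n⁻¹ * n * q⁻¹) (1 : k) * E = _
      rw [show n * q * n⁻¹ * n * q⁻¹ = n by group]
  have hbz : brMap k Q z = 0 := by
    ext y
    by_cases hy : y ∈ cz Q
    · rw [coeff_brMap_of_mem _ hy, hcoef, coeff_zero, Finsupp.zero_apply]
      refine not_not.1 fun h => hno _ (hw _ h) ?_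
      rw [inv_mul_cancel_left]
      exact hy
    · rw [coeff_brMap_of_notMem _ hy, coeff_zero, Finsupp.zero_apply]
  apply hQ
  rw [← hzE, brMap_mul (hP.to_le hQP) hfix (fixAlg_anti le_top hE), hbz, zero_mul]

open Cfsg in
/-- A block whose dimension is `p ^ (2a - d)` is nilpotent. -/
theorem isNilpotentBlock_of_minimal {M : Ideal AlgInt} (hM : IsPModular p M)
    {B : Set (IrrCharacter G)} (hB : IsPBlock M B) {D : Subgroup G}
    (hD : IsDefectGroup p M B D) {a d : ℕ} (ha : (Nat.card G).factorization p = a)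
    (hd : Nat.card D = p ^ d)
    (hmin : ∑ᶠ χ ∈ B, charDegree (χ : G → ℂ) ^ 2 = p ^ (2 * a - d)) :
    IsNilpotentBlock p M B := by
  haveI := hM.2.1
  haveI := charP_res (M := M) hM
  have hDd := (isDefectGroup_iff hM hB D).1 hD
  have hidem := isBlockIdem_eG hM hB
  have hEfix : eG hM B ∈ fixAlg (ResK M) (⊤ : Subgroup G) := hidem.fixed
  have hbr : ∀ Q : Subgroup G, IsPGroup p Q → brMap (ResK M) Q (eG hM B) ≠ 0 →
      Nat.card Q ≤ p ^ d := fun Q hQ h =>
    hd ▸ (brSetup_block hM hB).card_le_defect hDd hQ le_top h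
  obtain ⟨S, hDS⟩ := hDd.pgroup.exists_le_sylow
  set P : Subgroup G := (S : Subgroup G) with hPdef
  have hPp : IsPGroup p P := S.isPGroup'
  have hPc : Nat.card P = p ^ a := by rw [hPdef, S.card_eq_multiplicity, ha]
  have hda : d ≤ a := (Nat.pow_le_pow_iff_right hp.out.one_lt).1
    (hd ▸ hPc ▸ Subgroup.card_le_of_le hDS)
  obtain ⟨x, hxs, hex, huniq⟩ := exists_basis_coset P hEfix hPc (by omega) hidem.idem
    hidem.ne_zero hbr (by rw [ModRep.finrank_block hM hB, hmin])
  -- a representative centralising `D`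
  obtain ⟨g, hgO, hgc⟩ := exists_mem_centralizer P hEfix hex huniq hDS hPp hDd.br_ne
    (Subgroup.one_mem _)
  rw [inv_one, one_mul] at hgc
  have hgs : stabCard P g = p ^ d := (stabCard_eq_of_mem P hgO).trans hxs
  let f : D →* MulAction.stabilizer (P × P) g :=
    (MonoidHom.prod (Subgroup.inclusion hDS) (Subgroup.inclusion hDS)).codRestrict _ fun r => by
      show (r : G) * g * (r : G)⁻¹ = g
      rw [mem_cz.1 hgc r r.2, mul_inv_cancel_right]
  have hfinj : Function.Injective f := fun r r' h => by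
    have h1 := congrArg (fun u : MulAction.stabilizer (P × P) g => (u.1.1 : G)) h
    exact Subtype.ext h1
  have hfb : Function.Surjective f :=
    (hfinj.bijective_of_nat_card_le (by rw [← stabCard, hgs, hd])).2
  refine ⟨hB, fun Q e hQ n hn _ hreg => ?_⟩
  obtain ⟨-, -, hO⟩ := (isBrauerPairOf_iff hM B Q e).1 hQ
  have hQp : IsPGroup p Q := hO.pgroup
  have hQne : brMap (ResK M) Q (eG hM B) ≠ 0 := (brSetup_block hM hB).brMap_ne_zero hO
  obtain ⟨T, hQT⟩ := hQp.exists_le_sylow
  obtain ⟨t, ht⟩ := MulAction.exists_smul_eq G T S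
  set Q' := Q.map (MulAut.conj t).toMonoidHom with hQ'
  have hQ'P : Q' ≤ P := by
    rintro _ ⟨q, hq, rfl⟩
    rw [hPdef, ← ht, Sylow.coe_subgroup_smul]
    exact ⟨q, hQT hq, rfl⟩
  have hQ'ne : brMap (ResK M) Q' (eG hM B) ≠ 0 := by
    rw [← hEfix t (Subgroup.mem_top t), hQ', ← conjA_brMap]
    exact fun h => hQne (conjA_inj (h.trans (conjA_zero t).symm))
  set m := t * n * t⁻¹ with hm
  have hmN : m ∈ Subgroup.normalizer (Q' : Set G) := by
    refine Subgroup.mem_normalizer_iff.2 fun y => ?_
    constructor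
    · rintro ⟨q, hq, rfl⟩
      exact ⟨n * q * n⁻¹, (Subgroup.mem_normalizer_iff.1 hn q).1 hq, by simp [hm, mul_assoc]⟩
    · rintro ⟨q, hq, hy⟩
      refine ⟨n⁻¹ * q * n, (Subgroup.mem_normalizer_iff.1 hn _).2 (by simpa [mul_assoc] using hq), ?_⟩
      simp only [MulEquiv.coe_toMonoidHom, MulAut.conj_apply, hm] at hy ⊢
      rw [show y = (t * n * t⁻¹)⁻¹ * (t * n * t⁻¹ * y * (t * n * t⁻¹)⁻¹) * (t * n * t⁻¹) by group,
        ← hy]
      group
  obtain ⟨y, hyO, hyc⟩ := exists_mem_centralizer P hEfix hex huniq hQ'P hPp hQ'ne hmN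
  obtain ⟨u, hu⟩ : y ∈ MulAction.orbit (P × P) g := by
    rwa [MulAction.orbit_eq_iff.2 hgO]
  replace hu : u • g = y := hu
  -- `m` induces on `Q'` the conjugation by an element of `P`
  set c : P := u.1 * u.2⁻¹ with hc
  have key : ∀ q ∈ Q', m * q * m⁻¹ = (c : G) * q * (c : G)⁻¹ := by
    intro q hq
    have hq' : m * q * m⁻¹ ∈ Q' := (Subgroup.mem_normalizer_iff.1 hmN q).1 hq
    have h1 : m * q * m⁻¹ * y = y * q := by
      have h := mem_cz.1 hyc q hq
      calc m * q * m⁻¹ * y = m * (q * (m⁻¹ * y)) := by group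
        _ = y * q := by rw [h]; group
    rw [← hu, smul_def] at h1
    let w : P × P := (u.1⁻¹ * ⟨_, hQ'P hq'⟩ * u.1, u.2⁻¹ * ⟨q, hQ'P hq⟩ * u.2)
    have hw : w ∈ MulAction.stabilizer (P × P) g := by
      show w • g = g
      simp only [smul_def, w, Subgroup.coe_mul, Subgroup.coe_inv]
      calc (u.1 : G)⁻¹ * (m * q * m⁻¹) * u.1 * g * ((u.2 : G)⁻¹ * q * u.2)⁻¹
          = (u.1 : G)⁻¹ * (m * q * m⁻¹ * ((u.1 : G) * g * (u.2 : G)⁻¹)) * q⁻¹ * u.2 := by group
        _ = g := by rw [h1]; group
    obtain ⟨r, hr⟩ := hfb ⟨w, hw⟩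
    have e1 := congrArg (fun s : MulAction.stabilizer (P × P) g => (s.1.1 : G)) hr
    have e2 := congrArg (fun s : MulAction.stabilizer (P × P) g => (s.1.2 : G)) hr
    simp only [f, w, MonoidHom.codRestrict_apply, MonoidHom.prod_apply, Subgroup.coe_inclusion,
      Subgroup.coe_mul, Subgroup.coe_inv] at e1 e2
    rw [e1] at e2
    simp only [hc, Subgroup.coe_mul, Subgroup.coe_inv]
    calc m * q * m⁻¹ = (u.1 : G) * ((u.1 : G)⁻¹ * (m * q * m⁻¹) * u.1) * (u.1 : G)⁻¹ := by group
      _ = _ := by rw [e2]; group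
  have keyn : ∀ j : ℕ, ∀ q ∈ Q', m ^ j * q * (m ^ j)⁻¹ = ((c : G) ^ j) * q * ((c : G) ^ j)⁻¹ := by
    intro j
    induction j with
    | zero => intro q _; simp
    | succ j ih =>
      intro q hq
      have hq' : m * q * m⁻¹ ∈ Q' := (Subgroup.mem_normalizer_iff.1 hmN q).1 hq
      rw [pow_succ, pow_succ, show m ^ j * m * q * (m ^ j * m)⁻¹ = m ^ j * (m * q * m⁻¹) * (m ^ j)⁻¹
        by group, ih _ hq', key q hq]
      group
  obtain ⟨l, hl⟩ := IsPGroup.iff_orderOf.1 hPp c
  have hpow : m ^ p ^ l ∈ cz Q' := by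
    refine mem_cz_iff_conj.2 fun q hq => ?_
    have h := keyn (p ^ l) q hq
    rw [← hl, ← SubgroupClass.coe_pow, pow_orderOf_eq_one, OneMemClass.coe_one, one_mul, inv_one,
      mul_one] at h
    rw [← hl]
    calc q * m ^ orderOf c * q⁻¹ = q * (m ^ orderOf c * q * (m ^ orderOf c)⁻¹)⁻¹ * m ^ orderOf c := by
          group
      _ = _ := by rw [h]; group
  have hmreg : ¬ p ∣ orderOf m := by
    rw [hm, show t * n * t⁻¹ = MulAut.conj t n from rfl, MulEquiv.orderOf_eq]
    exact hreg
  obtain ⟨j, hj⟩ := exists_pow_eq_self_of_coprime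
    (Nat.Coprime.pow_left l (hp.out.coprime_iff_not_dvd.2 hmreg))
  have hmc : m ∈ cz Q' := hj ▸ Subgroup.pow_mem _ hpow j
  refine mem_cz.2 fun q hq => ?_
  have h := mem_cz.1 hmc (t * q * t⁻¹) ⟨q, hq, rfl⟩
  calc q * n = t⁻¹ * (t * q * t⁻¹ * m) * t := by rw [hm]; group
    _ = n * q := by rw [h, hm]; group

end CfsgLib.MinimalDim
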