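import Cfsg.Agent.Lib.Chars17.IrrBasic
import Cfsg.Agent.Lib.Characters.Clifford
import Cfsg.Agent.Lib.Characters.Values
import Cfsg.Agent.Lib.Structure.IndexPowers
import Cfsg.Agent.Lib.Structure.SolvableRadical
import Mathlib.GroupTheory.FiniteAbelian.Duality
import Mathlib.RepresentationTheory.Invariants
import Mathlib.Analysis.Complex.Polynomial.Basic
import Mathlib.RingTheory.RootsOfUnity.AlgebraicallyClosed

/-!
The nilpotent length of a solvable group is at most the number of its character degrees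
(Broline–Garrison: a character containing the Fitting subgroup in its kernel is not of largest
degree).
-/

set_option autoImplicit false

noncomputable section

namespace CfsgLib.NilpotentLength

open Cfsg CfsgLib.Characters CfsgLib.Chars17
open scoped ComplexConjugate

universe u

/-! ### A regular orbit on linear characters -/

/-- Restriction along conjugation. -/
def conjAct {G : Type u} [Group G] (N : Subgroup G) [N.Normal] (x : G) (lam : N →* ℂˣ) : N →* ℂˣ :=
  lam.comp (MulAut.conjNormal x : MulAut N).toMonoidHom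

theorem conjAct_apply {G : Type u} [Group G] (N : Subgroup G) [hN : N.Normal] (x : G)
    (lam : N →* ℂˣ) (m : N) :
    conjAct N x lam m = lam ⟨x * m * x⁻¹, hN.conj_mem (m : G) m.2 x⟩ := by
  simp only [conjAct, MonoidHom.comp_apply, MulEquiv.coe_toMonoidHom]
  exact congrArg lam (Subtype.ext (by simp))

theorem conjAct_mul {G : Type u} [Group G] (N : Subgroup G) [N.Normal] (x y : G) (lam : N →* ℂˣ) :
    conjAct N (x * y) lam = conjAct N y (conjAct N x lam) := by
  ext m
  simp [conjAct, MulAut.mul_apply]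

theorem conjAct_one {G : Type u} [Group G] (N : Subgroup G) [N.Normal] (lam : N →* ℂˣ) :
    conjAct N 1 lam = lam := by
  ext m
  simp [conjAct]

theorem conjAct_map_mul {G : Type u} [Group G] (N : Subgroup G) [N.Normal] (x : G)
    (a b : N →* ℂˣ) : conjAct N x (a * b) = conjAct N x a * conjAct N x b := rfl

theorem conjAct_map_inv {G : Type u} [Group G] (N : Subgroup G) [N.Normal] (x : G)
    (a : N →* ℂˣ) : conjAct N x a⁻¹ = (conjAct N x a)⁻¹ := rfl

/-- The stabiliser of a point in `M`. -/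
def stab {G V : Type*} [Group G] [CommGroup V] (φ : G → V →* V) (hφ1 : ∀ v, φ 1 v = v)
    (hφmul : ∀ x y v, φ (x * y) v = φ y (φ x v)) (M : Subgroup G) (lam : V) : Subgroup G where
  carrier := {x | x ∈ M ∧ φ x lam = lam}
  one_mem' := ⟨M.one_mem, hφ1 lam⟩
  mul_mem' := fun {a b} ha hb => ⟨M.mul_mem ha.1 hb.1, by rw [hφmul, ha.2, hb.2]⟩
  inv_mem' := fun {a} ha => ⟨M.inv_mem ha.1, by
    conv_lhs => rw [← ha.2]
    rw [← hφmul, mul_inv_cancel, hφ1]⟩

/-- A regular orbit: an abelian group of exponent prime to that of the module. -/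
theorem exists_regular {G V : Type*} [Group G] [Finite G] [CommGroup V] (φ : G → V →* V)
    (hφ1 : ∀ v, φ 1 v = v) (hφmul : ∀ x y v, φ (x * y) v = φ y (φ x v)) (F M : Subgroup G)
    (A : Subgroup V) (hA : ∀ x ∈ M, ∀ v ∈ A, φ x v ∈ A)
    (hF : ∀ x ∈ F, ∀ v ∈ A, φ x v = v)
    (hab : ∀ x ∈ M, ∀ y ∈ M, x * y * x⁻¹ * y⁻¹ ∈ F)
    (hord : ∀ x ∈ M, ∃ o : ℕ, x ^ o ∈ F ∧ ∀ v ∈ A, v ^ o = 1 → v = 1)
    (hfaith : ∀ x ∈ M, x ∉ F → ∃ v ∈ A, φ x v ≠ v) :
    ∃ v ∈ A, ∀ x ∈ M, φ x v = v → x ∈ F := by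
  classical
  have hcomm : ∀ x ∈ M, ∀ y ∈ M, ∀ v ∈ A, φ x (φ y v) = φ y (φ x v) := by
    intro x hx y hy v hv
    rw [← hφmul, ← hφmul, show y * x = (y * x * y⁻¹ * x⁻¹) * (x * y) by group, hφmul,
      hF _ (hab y hy x hx) v hv]
  obtain ⟨lam, hlam, hmin⟩ : ∃ lam ∈ A, ∀ mu ∈ A,
      Nat.card (stab φ hφ1 hφmul M lam) ≤ Nat.card (stab φ hφ1 hφmul M mu) := by
    have hex : ∃ k, ∃ lam ∈ A, Nat.card (stab φ hφ1 hφmul M lam) = k := ⟨_, 1, A.one_mem, rfl⟩
    obtain ⟨lam, hlam, hk⟩ := Nat.find_spec hex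
    exact ⟨lam, hlam, fun mu hmu => hk ▸ Nat.find_min' hex ⟨mu, hmu, rfl⟩⟩
  refine ⟨lam, hlam, fun s hs hsfix => ?_⟩
  by_contra hsF
  obtain ⟨w, hw, hne⟩ := hfaith s hs hsF
  set mu := φ s w * w⁻¹ with hmu
  have hmuA : mu ∈ A := A.mul_mem (hA s hs w hw) (A.inv_mem hw)
  have hmu1 : mu ≠ 1 := fun h => hne (mul_inv_eq_one.mp h)
  obtain ⟨o, ho, ho1⟩ := hord s hs
  -- no element fixed by `s` is of the form `T v` except one
  have hdisj : ∀ v ∈ A, φ s (φ s v * v⁻¹) = φ s v * v⁻¹ → φ s v * v⁻¹ = 1 := by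
    intro v hv hfix
    set t := φ s v * v⁻¹ with ht
    have hpow : ∀ j : ℕ, φ (s ^ j) v = t ^ j * v := by
      intro j
      induction j with
      | zero => rw [pow_zero, pow_zero, hφ1, one_mul]
      | succ j ih =>
        rw [pow_succ, hφmul, ih, map_mul, map_pow, hfix, pow_succ, mul_assoc, ht,
          inv_mul_cancel_right]
    have h1 := hpow o
    rw [hF _ ho v hv] at h1
    exact ho1 t (A.mul_mem (hA s hs v hv) (A.inv_mem hv)) (right_eq_mul.mp h1)
  have hmufix : φ s mu ≠ mu := fun h => hmu1 (hdisj w hw h)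
  -- the product has a smaller stabiliser
  have hle : stab φ hφ1 hφmul M (lam * mu) ≤ stab φ hφ1 hφmul M lam := by
    rintro x ⟨hx, hxfix⟩
    refine ⟨hx, ?_⟩
    have e : φ x lam * lam⁻¹ = (φ x mu * mu⁻¹)⁻¹ := by
      rw [map_mul] at hxfix
      rw [eq_inv_iff_mul_eq_one, mul_mul_mul_comm, ← mul_inv, hxfix, mul_inv_cancel]
    have hl : φ s (φ x lam * lam⁻¹) = φ x lam * lam⁻¹ := by
      rw [map_mul, map_inv, hcomm s hs x hx lam hlam, hsfix]
    set v := φ x w * w⁻¹ with hvdef
    have hv : v ∈ A := A.mul_mem (hA x hx w hw) (A.inv_mem hw)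
    have hr : φ x mu * mu⁻¹ = φ s v * v⁻¹ := by
      rw [hvdef, hmu]
      simp only [map_mul, map_inv, hcomm x hx s hs w hw, mul_inv_rev, inv_inv]
      ac_rfl
    have h3 : φ s v * v⁻¹ = 1 := by
      refine hdisj v hv ?_
      rw [← hr]
      have h4 : φ x mu * mu⁻¹ = (φ x lam * lam⁻¹)⁻¹ := by rw [e, inv_inv]
      rw [h4, map_inv, hl]
    rw [hr, h3, inv_one] at e
    exact mul_inv_eq_one.mp e
  have hlt : stab φ hφ1 hφmul M (lam * mu) < stab φ hφ1 hφmul M lam := by
    refine lt_of_le_of_ne hle fun he => hmufix ?_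
    have hs' : s ∈ stab φ hφ1 hφmul M (lam * mu) := he ▸ ⟨hs, hsfix⟩
    have h := hs'.2
    rw [map_mul, hsfix] at h
    exact mul_left_cancel h
  have hcard : Nat.card (stab φ hφ1 hφmul M (lam * mu)) < Nat.card (stab φ hφ1 hφmul M lam) := by
    refine lt_of_le_of_ne (Nat.le_of_dvd Nat.card_pos (Subgroup.card_dvd_of_le hle)) fun he => ?_
    exact hlt.ne (Subgroup.eq_of_le_of_card_ge hle he.ge)
  exact absurd (hmin _ (A.mul_mem hlam hmuA)) (not_le.mpr hcard)

/-! ### Fixed vectors -/

/-- The trace of the sum over a group is the order times the dimension of the fixed space. -/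
theorem sum_character_ne_zero {P : Type u} [Group P] [Finite P] [Fintype P] {V : Type*}
    [AddCommGroup V] [Module ℂ V] [FiniteDimensional ℂ V] (σ : Representation ℂ P V) {u : V}
    (hu : u ≠ 0) (hfix : ∀ x, σ x u = u) : ∑ x, σ.character x ≠ 0 := by
  classical
  haveI : Invertible (Fintype.card P : ℂ) :=
    invertibleOfNonzero (Nat.cast_ne_zero.mpr Fintype.card_ne_zero)
  intro h0
  have htr := (Representation.isProj_averageMap σ).trace
  have hz : (LinearMap.trace ℂ V) (Representation.averageMap σ) = 0 := by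
    simp only [Representation.averageMap, GroupAlgebra.average, map_smul, map_sum,
      MonoidAlgebra.of_apply, Representation.asAlgebraHom_single, one_smul, smul_eq_mul]
    rw [show (∑ x : P, LinearMap.trace ℂ V (σ x)) = 0 from h0, mul_zero]
  rw [hz, eq_comm, Nat.cast_eq_zero] at htr
  have hbot : σ.invariants = ⊥ := Submodule.finrank_eq_zero.mp htr
  have hmem : u ∈ σ.invariants := hfix
  rw [hbot, Submodule.mem_bot] at hmem
  exact hu hmem

/-- A nonvanishing sum gives a fixed vector. -/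
theorem exists_fixed {P : Type u} [Group P] [Fintype P] {n : ℕ}
    (σ : Representation ℂ P (Fin n → ℂ)) (h : ∑ x, σ.character x ≠ 0) :
    ∃ u : Fin n → ℂ, u ≠ 0 ∧ ∀ x, σ x u = u := by
  set E : Module.End ℂ (Fin n → ℂ) := ∑ x, σ x with hE
  have hE0 : E ≠ 0 := by
    intro h0
    apply h
    have : ∑ x, σ.character x = LinearMap.trace ℂ _ E := by rw [hE, map_sum]; rfl
    rw [this, h0, map_zero]
  obtain ⟨v, hv⟩ : ∃ v, E v ≠ 0 := by
    by_contra hall
    push Not at hall
    exact hE0 (LinearMap.ext hall)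
  refine ⟨E v, hv, fun x => ?_⟩
  rw [← Module.End.mul_apply]
  congr 1
  rw [hE, Finset.mul_sum]
  exact Fintype.sum_bijective (x * ·) (Group.mulLeft_bijective x) _ _ fun y => (map_mul σ x y).symm

/-! ### The maximal degree -/

variable {G : Type u} [Group G] [Finite G]

theorem fitting_le_iff {N : Subgroup G} (hN : N.Normal) (hnil : Group.IsNilpotent N) :
    N ≤ fittingSubgroup G := le_sSup ⟨hN, hnil⟩

theorem fitting_normal : (fittingSubgroup G).Normal :=
  Subgroup.sSup_normal _ fun _ h => h.1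

/-- Broline–Garrison. -/
theorem not_max (hsolv : Group.IsSolvable G) (hF : fittingSubgroup G ≠ ⊤) (χ : IrrCharacter G)
    (hker : fittingSubgroup G ≤ irrKer χ) :
    ∃ ψ : IrrCharacter G, charDegree (χ : G → ℂ) < charDegree (ψ : G → ℂ) := by
  classical
  by_contra hmax
  push Not at hmax
  haveI := Fintype.ofFinite G
  set F := fittingSubgroup G with hFdef
  haveI hFn : F.Normal := fitting_normal
  haveI hFnil : Group.IsNilpotent F := CfsgLib.IndexPowers.isNilpotent_fitting
  -- a chief factor above `F`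
  haveI : Group.IsSolvable (G ⧸ F) :=
    Group.isSolvable_of_surjective (f := QuotientGroup.mk' F) (QuotientGroup.mk'_surjective F)
  have hne : (⊤ : Subgroup (G ⧸ F)) ≠ ⊥ := fun h => hF (by
    have := congrArg (Subgroup.comap (QuotientGroup.mk' F)) h
    rwa [Subgroup.comap_top, MonoidHom.comap_bot, QuotientGroup.ker_mk', eq_comm] at this)
  obtain ⟨Mb, hMb, -⟩ := CfsgLib.Structure.exists_isMinNormal_le
    (inferInstance : (⊤ : Subgroup (G ⧸ F)).Normal) hne
  obtain ⟨q, hq, helem⟩ :=
    CfsgLib.Structure.isElementaryAbelian_of_isMinNormal_of_isSolvable hMb inferInstance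
  haveI := Fact.mk hq
  haveI := hMb.normal
  set f := QuotientGroup.mk' F with hf
  set M := Mb.comap f with hM
  haveI hMn : M.Normal := hMb.normal.comap f
  have hFM : F ≤ M := fun x hx => by
    rw [hM, Subgroup.mem_comap, show f x = 1 from (QuotientGroup.eq_one_iff x).2 hx]
    exact Mb.one_mem
  have hMne : ¬ M ≤ F := fun h => hMb.ne_bot (by
    refine le_bot_iff.mp fun y hy => ?_
    obtain ⟨x, rfl⟩ := QuotientGroup.mk'_surjective F y
    exact Subgroup.mem_bot.mpr ((QuotientGroup.eq_one_iff x).2 (h hy)))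
  have hmin : ∀ R : Subgroup G, R.Normal → F ≤ R → R ≤ M → R = F ∨ R = M := by
    intro R hR hFR hRM
    have hmapn : (R.map f).Normal := hR.map f (QuotientGroup.mk'_surjective F)
    rcases hMb.2.2 (R.map f) hmapn (Subgroup.map_le_iff_le_comap.2 hRM) with h | h
    · refine Or.inl (le_antisymm ?_ hFR)
      rw [Subgroup.map_eq_bot_iff, hf, QuotientGroup.ker_mk'] at h
      exact h
    · refine Or.inr ?_
      rw [hM, ← h, Subgroup.comap_map_eq, hf, QuotientGroup.ker_mk', sup_eq_left.mpr hFR]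
  obtain ⟨hMcomm, hMexp⟩ := helem
  have hab : ∀ x ∈ M, ∀ y ∈ M, x * y * x⁻¹ * y⁻¹ ∈ F := by
    intro x hx y hy
    refine (QuotientGroup.eq_one_iff _).mp ?_
    have h := congrArg Subtype.val (hMcomm.is_comm.comm ⟨f x, hx⟩ ⟨f y, hy⟩)
    change f (x * y * x⁻¹ * y⁻¹) = 1
    rw [map_mul, map_mul, map_mul, map_inv, map_inv]
    change f x * f y = f y * f x at h
    rw [h]; group
  have hexp : ∀ x ∈ M, x ^ q ∈ F := by
    intro x hx
    refine (QuotientGroup.eq_one_iff _).mp ?_
    show f (x ^ q) = 1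
    rw [map_pow]
    exact hMexp (f x) hx
  -- a Sylow subgroup of `M`
  obtain ⟨P₀⟩ : Nonempty (Sylow q M) := inferInstance
  set P := (P₀ : Subgroup M).map M.subtype with hP
  have hPM : P ≤ M := Subgroup.map_subtype_le _
  have hPq : IsPGroup q P := P₀.isPGroup'.map _
  have hMFP : ∀ x ∈ M, ∃ y ∈ P, ∃ z ∈ F, y * z = x := by
    have hindex : (F.subgroupOf M ⊔ (P₀ : Subgroup M)) = ⊤ := by
      rw [← Subgroup.index_eq_one]
      have h1 : ¬ q ∣ (F.subgroupOf M ⊔ (P₀ : Subgroup M)).index := fun h =>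
        P₀.not_dvd_index (h.trans (Subgroup.index_dvd_of_le le_sup_right))
      have hmq : IsPGroup q (M ⧸ F.subgroupOf M) := by
        intro g
        obtain ⟨x, rfl⟩ := QuotientGroup.mk'_surjective _ g
        refine ⟨1, ?_⟩
        rw [pow_one, ← map_pow]
        exact (QuotientGroup.eq_one_iff _).mpr (by simpa [Subgroup.mem_subgroupOf] using hexp x x.2)
      obtain ⟨k, hk⟩ := IsPGroup.iff_card.1 hmq
      rw [← Subgroup.index_eq_card] at hk
      obtain ⟨j, -, hj⟩ := (Nat.dvd_prime_pow hq).mp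
        (hk ▸ Subgroup.index_dvd_of_le (le_sup_left : F.subgroupOf M ≤ F.subgroupOf M ⊔ (P₀ : Subgroup M)))
      rcases j with _ | j
      · rw [hj, pow_zero]
      · exact absurd (hj ▸ dvd_pow_self q j.succ_ne_zero) h1
    intro x hx
    have hmem : (⟨x, hx⟩ : M) ∈ (P₀ : Subgroup M) ⊔ F.subgroupOf M := by
      rw [sup_comm, hindex]; trivial
    rw [← SetLike.mem_coe, Subgroup.mul_normal] at hmem
    obtain ⟨y, hy, z, hz, hyz⟩ := hmem
    exact ⟨y, ⟨y, hy, rfl⟩, z, hz, congrArg Subtype.val hyz⟩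
  set NP := Subgroup.normalizer (P : Set G)
  have hFNP : F ⊔ NP = ⊤ := by
    have hfr : NP ⊔ M = ⊤ := Sylow.normalizer_sup_eq_top P₀
    rw [eq_top_iff, ← hfr]
    refine sup_le le_sup_right fun x hx => ?_
    obtain ⟨y, hy, z, hz, rfl⟩ := hMFP x hx
    exact Subgroup.mul_mem _ (Subgroup.mem_sup_right (Subgroup.le_normalizer hy))
      (Subgroup.mem_sup_left hz)
  have hNP : NP ≠ ⊤ := by
    intro h
    have hPn : P.Normal := Subgroup.normalizer_eq_top_iff.mp h
    refine hMne fun x hx => ?_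
    obtain ⟨y, hy, z, hz, rfl⟩ := hMFP x hx
    exact F.mul_mem (fitting_le_iff hPn hPq.isNilpotent hy) hz
  obtain ⟨H, hH, hNH⟩ := (eq_top_or_exists_le_coatom NP).resolve_left hNP
  have hPH : P ≤ H := Subgroup.le_normalizer.trans hNH
  have hFH : ¬ F ≤ H := fun h => hH.1 (top_le_iff.mp (hFNP ▸ sup_le h hNH))
  -- a minimal normal subgroup inside `F` outside `H`
  obtain ⟨M₀, hM₀⟩ := ({R : Subgroup G | R.Normal ∧ R ≤ F ∧ ¬ R ≤ H}).toFinite.exists_minimal
    ⟨F, hFn, le_rfl, hFH⟩
  obtain ⟨hM₀n, hM₀F, hM₀H⟩ := hM₀.prop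
  haveI := hM₀n
  have hsmall : ∀ R : Subgroup G, R.Normal → R ≤ M₀ → R ≠ M₀ → R ≤ H := by
    intro R hR hle hne'
    by_contra hRH
    exact hne' (le_antisymm hle (hM₀.le_of_le ⟨hR, hle.trans hM₀F, hRH⟩ hle))
  have hcomF : ⁅M₀, F⁆ ≤ H := by
    refine hsmall _ inferInstance (Subgroup.commutator_le_left M₀ F) fun he => ?_
    apply hM₀H
    have key : ∀ k, M₀ ≤ ((⊤ : Subgroup F).lowerCentralSeries k).map F.subtype := by
      intro k
      induction k with
      | zero =>
        rw [Subgroup.lowerCentralSeries_zero, ← MonoidHom.range_eq_map, Subgroup.range_subtype]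
        exact hM₀F
      | succ k ih =>
        rw [← he, Subgroup.lowerCentralSeries_succ, Subgroup.map_commutator]
        refine Subgroup.commutator_mono ih ?_
        rw [← MonoidHom.range_eq_map, Subgroup.range_subtype]
    obtain ⟨k, hk⟩ := Subgroup.nilpotent_iff_lowerCentralSeries.1 hFnil
    exact (key k).trans (by rw [hk, Subgroup.map_bot]; exact bot_le)
  set L := M₀ ⊓ H with hL
  have hLcom : ∀ a ∈ M₀, ∀ b ∈ F, a * b * a⁻¹ * b⁻¹ ∈ L := fun a ha b hb =>
    have hmem := Subgroup.commutator_mem_commutator ha hb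
    ⟨Subgroup.commutator_le_left M₀ F hmem, hcomF hmem⟩
  have hHM₀ : H ⊔ M₀ = ⊤ := hH.2 _ (left_lt_sup.mpr hM₀H)
  have hLn : L.Normal := by
    rw [← Subgroup.normalizer_eq_top_iff, ← top_le_iff, ← hHM₀]
    refine sup_le (fun g hg => ?_) (fun g hg => ?_)
    · rw [Subgroup.mem_normalizer_iff]
      intro x
      refine ⟨fun hx => ⟨hM₀n.conj_mem x hx.1 g, H.mul_mem (H.mul_mem hg hx.2) (H.inv_mem hg)⟩,
        fun hx => ?_⟩
      have h1 := hM₀n.conj_mem _ hx.1 g⁻¹
      have h2 := H.mul_mem (H.mul_mem (H.inv_mem hg) hx.2) hg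
      simp only [mul_assoc, inv_mul_cancel_left, inv_mul_cancel, mul_one, inv_inv] at h1 h2
      exact ⟨h1, h2⟩
    · rw [Subgroup.mem_normalizer_iff]
      have key : ∀ a ∈ M₀, ∀ x ∈ L, a * x * a⁻¹ ∈ L := fun a ha x hx => by
        have := L.mul_mem (hLcom a ha x (hM₀F hx.1)) hx
        simpa [mul_assoc] using this
      intro x
      refine ⟨key g hg x, fun hx => ?_⟩
      have := key g⁻¹ (M₀.inv_mem hg) _ hx
      simpa [mul_assoc] using this
  haveI := hLn
  have hab₀ : ∀ a ∈ M₀, ∀ b ∈ M₀, a * b * a⁻¹ * b⁻¹ ∈ L := fun a ha b hb => hLcom a ha b (hM₀F hb)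
  set L' := L.subgroupOf M₀ with hL'
  haveI : L'.Normal := inferInstance
  have hcommQ : ∀ a b : M₀ ⧸ L', a * b = b * a := by
    intro a b
    induction a using QuotientGroup.induction_on with | H a => ?_
    induction b using QuotientGroup.induction_on with | H b => ?_
    rw [← mul_inv_eq_one, mul_inv_rev, ← mul_assoc]
    change ((a * b * a⁻¹ * b⁻¹ : M₀) : M₀ ⧸ L') = 1
    exact (QuotientGroup.eq_one_iff _).mpr (hab₀ a a.2 b b.2)
  -- `q` does not divide `|M₀ : L|`
  have hPnot : ∃ x ∈ P, ∃ m ∈ M₀, x * m * x⁻¹ * m⁻¹ ∉ L := by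
    by_contra hall
    push Not at hall
    apply hM₀H
    intro m hm
    set R := P ⊔ L with hR
    haveI : IsPGroup q P := hPq
    have hPR : P ≤ R := le_sup_left
    -- `m P m⁻¹ ≤ P L`
    have hconj : P.map (MulAut.conj m).toMonoidHom ≤ R := by
      rintro _ ⟨x, hx, rfl⟩
      have h := L.inv_mem (hall x hx m hm)
      have e : m * x * m⁻¹ = (x * m * x⁻¹ * m⁻¹)⁻¹ * x := by group
      show m * x * m⁻¹ ∈ R
      rw [e]
      exact R.mul_mem (Subgroup.mem_sup_right h) (hPR hx)
    have hRM : R ≤ M := sup_le hPM (inf_le_left.trans (hM₀F.trans hFM))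
    have hsyl : ∀ Q : Subgroup G, IsPGroup q Q → Q ≤ R → Nat.card Q ≤ Nat.card P := by
      intro Q hQ hQR
      have hQM : Q ≤ M := hQR.trans hRM
      obtain ⟨S, hS⟩ := (hQ.comap_of_injective M.subtype M.subtype_injective).exists_le_sylow
      rw [hP, Subgroup.card_map_of_injective M.subtype_injective, P₀.card_eq_multiplicity, ← S.card_eq_multiplicity,
        ← Nat.card_congr (Subgroup.subgroupOfEquivOfLe hQM).toEquiv]
      exact Nat.le_of_dvd Nat.card_pos (Subgroup.card_dvd_of_le hS)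
    have hmk : ∀ Q : Subgroup G, IsPGroup q Q → Q ≤ R → Nat.card Q = Nat.card P →
        ∃ S : Sylow q R, (S : Subgroup R) = Q.subgroupOf R := by
      intro Q hQ hQR hc
      obtain ⟨S, hS⟩ := (hQ.comap_of_injective R.subtype R.subtype_injective).exists_le_sylow
      refine ⟨S, (Subgroup.eq_of_le_of_card_ge hS ?_).symm⟩
      show Nat.card (S : Subgroup R) ≤ Nat.card (Q.subgroupOf R)
      rw [Nat.card_congr (Subgroup.subgroupOfEquivOfLe hQR).toEquiv, hc,
        ← Subgroup.card_map_of_injective R.subtype_injective]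
      exact hsyl _ (S.isPGroup'.map _) (Subgroup.map_subtype_le _)
    obtain ⟨S₁, hS₁⟩ := hmk P hPq hPR rfl
    obtain ⟨S₂, hS₂⟩ := hmk _ (hPq.map _) hconj
      (Subgroup.card_map_of_injective (MulAut.conj m).injective)
    obtain ⟨g, hg⟩ := MulAction.exists_smul_eq R S₁ S₂
    obtain ⟨a, ha, l, hl, hal⟩ : ∃ a ∈ P, ∃ l ∈ L, l * a = (g : G) := by
      have hgm : (g : G) ∈ L ⊔ P := by rw [sup_comm]; exact g.2
      rw [← SetLike.mem_coe, Subgroup.normal_mul] at hgm
      obtain ⟨l, hl, a, ha, h⟩ := hgm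
      exact ⟨a, ha, l, hl, h⟩
    have hnorm : ∀ x ∈ P, (l⁻¹ * m) * x * (l⁻¹ * m)⁻¹ ∈ P := by
      intro x hx
      have h1 : (⟨m * x * m⁻¹, hconj ⟨x, hx, rfl⟩⟩ : R) ∈ (S₂ : Subgroup R) := by
        rw [hS₂]; exact ⟨x, hx, rfl⟩
      rw [← hg, Sylow.coe_subgroup_smul, Subgroup.mem_pointwise_smul_iff_inv_smul_mem] at h1
      rw [hS₁] at h1
      have h2 : (g : G)⁻¹ * (m * x * m⁻¹) * (g : G) ∈ P := by
        simpa [Subgroup.mem_subgroupOf, MulAut.smul_def] using h1
      rw [← hal] at h2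
      have := P.mul_mem (P.mul_mem ha h2) (P.inv_mem ha)
      simpa [mul_assoc] using this
    have hmem : l⁻¹ * m ∈ NP := by
      rw [Subgroup.mem_normalizer_iff]
      intro x
      refine ⟨hnorm x, fun hx => ?_⟩
      let φ : P → P := fun z => ⟨_, hnorm z.1 z.2⟩
      have hφ : Function.Injective φ := fun a b h => Subtype.ext
        ((MulAut.conj (l⁻¹ * m)).injective (congrArg Subtype.val h))
      obtain ⟨z, hz⟩ := (Finite.injective_iff_surjective.mp hφ) ⟨_, hx⟩
      exact (MulAut.conj (l⁻¹ * m)).injective (congrArg Subtype.val hz) ▸ z.2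
    have := H.mul_mem hl.2 (hNH hmem)
    rwa [mul_inv_cancel_left] at this
  -- linear characters of `M₀` trivial on `L`
  let A : Subgroup (M₀ →* ℂˣ) :=
    { carrier := {lam | ∀ m : M₀, (m : G) ∈ L → lam m = 1}
      one_mem' := fun _ _ => rfl
      mul_mem' := fun {a b} ha hb m hm => by rw [MonoidHom.mul_apply, ha m hm, hb m hm, one_mul]
      inv_mem' := fun {a} ha m hm => by rw [MonoidHom.inv_apply, ha m hm, inv_one] }
  have hAconj : ∀ x : G, ∀ lam ∈ A, conjAct M₀ x lam ∈ A := fun x lam hlam m hm => by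
    rw [conjAct_apply]; exact hlam _ (hLn.conj_mem _ hm x)
  have hsep : ∀ m : M₀, (m : G) ∉ L → ∃ lam ∈ A, lam m ≠ 1 := by
    intro m hm
    letI : CommGroup (M₀ ⧸ L') := { (inferInstance : Group (M₀ ⧸ L')) with mul_comm := hcommQ }
    have hne' : (m : M₀ ⧸ L') ≠ 1 := fun h => hm ((QuotientGroup.eq_one_iff m).mp h)
    obtain ⟨φ, hφ⟩ := CommGroup.exists_apply_ne_one_of_hasEnoughRootsOfUnity (M₀ ⧸ L') ℂ hne'
    exact ⟨φ.comp (QuotientGroup.mk' L'), fun n hn => by
      rw [MonoidHom.comp_apply, QuotientGroup.mk'_apply, (QuotientGroup.eq_one_iff n).2 hn, map_one],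
      hφ⟩
  have hAF : ∀ x ∈ F, ∀ lam ∈ A, conjAct M₀ x lam = lam := by
    intro x hx lam hlam
    ext1 m
    rw [conjAct_apply]
    have h1 : lam (⟨x * m * x⁻¹, hM₀n.conj_mem (m : G) m.2 x⟩ * m⁻¹) = 1 := by
      refine hlam _ ?_
      have := L.inv_mem (hLcom m m.2 x hx)
      simpa [mul_assoc] using this
    rwa [map_mul, map_inv, mul_inv_eq_one] at h1
  have hfaith : ∀ x ∈ M, x ∉ F → ∃ lam ∈ A, conjAct M₀ x lam ≠ lam := by
    let C : Subgroup G :=
      { carrier := {x | x ∈ M ∧ ∀ lam ∈ A, conjAct M₀ x lam = lam}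
        one_mem' := ⟨M.one_mem, fun lam _ => conjAct_one M₀ lam⟩
        mul_mem' := fun {a b} ha hb => ⟨M.mul_mem ha.1 hb.1, fun lam hl => by
          rw [conjAct_mul, ha.2 lam hl, hb.2 lam hl]⟩
        inv_mem' := fun {a} ha => ⟨M.inv_mem ha.1, fun lam hl => by
          conv_lhs => rw [← ha.2 lam hl]
          rw [← conjAct_mul, mul_inv_cancel, conjAct_one]⟩ }
    have hCn : C.Normal := ⟨fun c hc g => ⟨hMn.conj_mem c hc.1 g, fun lam hl => by
      rw [mul_assoc, conjAct_mul, conjAct_mul, hc.2 _ (hAconj g lam hl), ← conjAct_mul,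
        mul_inv_cancel, conjAct_one]⟩⟩
    intro x hx hxF
    by_contra hall
    push Not at hall
    rcases hmin C hCn (fun y hy => ⟨hFM hy, hAF y hy⟩) (fun y hy => hy.1) with h | h
    · exact hxF (h ▸ (⟨hx, hall⟩ : x ∈ C))
    · obtain ⟨y, hy, m, hm, hnL⟩ := hPnot
      have hm' : y * m * y⁻¹ * m⁻¹ ∈ M₀ := M₀.mul_mem (hM₀n.conj_mem m hm y) (M₀.inv_mem hm)
      obtain ⟨lam, hlam, hne'⟩ := hsep ⟨_, hm'⟩ hnL
      apply hne'
      have hfix := (show y ∈ C by rw [h]; exact hPM hy).2 lam hlam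
      have h2 := DFunLike.congr_fun hfix ⟨m, hm⟩
      rw [conjAct_apply] at h2
      rw [show (⟨_, hm'⟩ : M₀) = ⟨y * m * y⁻¹, hM₀n.conj_mem m hm y⟩ * (⟨m, hm⟩ : M₀)⁻¹ from rfl,
        map_mul, h2, map_inv, mul_inv_cancel]
  have hqnd : ¬ q ∣ L'.index := by
    intro hdiv
    letI : CommGroup (M₀ ⧸ L') := { (inferInstance : Group (M₀ ⧸ L')) with mul_comm := hcommQ }
    -- the subgroup of elements of `q`-power order modulo `L`
    let T : Subgroup G :=
      { carrier := {m | m ∈ M₀ ∧ ∃ j, m ^ q ^ j ∈ L}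
        one_mem' := ⟨M₀.one_mem, 0, by simp⟩
        mul_mem' := fun {a b} ha hb => ⟨M₀.mul_mem ha.1 hb.1, by
          obtain ⟨i, hi⟩ := ha.2
          obtain ⟨j, hj⟩ := hb.2
          refine ⟨i + j, ?_⟩
          have hi' : (QuotientGroup.mk (⟨a, ha.1⟩ : M₀) : M₀ ⧸ L') ^ q ^ i = 1 := by
            rw [← QuotientGroup.mk_pow, QuotientGroup.eq_one_iff]; exact hi
          have hj' : (QuotientGroup.mk (⟨b, hb.1⟩ : M₀) : M₀ ⧸ L') ^ q ^ j = 1 := by
            rw [← QuotientGroup.mk_pow, QuotientGroup.eq_one_iff]; exact hj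
          have h : (QuotientGroup.mk (⟨a, ha.1⟩ * ⟨b, hb.1⟩ : M₀) : M₀ ⧸ L') ^ q ^ (i + j) = 1 := by
            have e1 : q ^ (i + j) = q ^ i * q ^ j := pow_add q i j
            have e2 : q ^ (i + j) = q ^ j * q ^ i := by rw [e1, mul_comm]
            rw [QuotientGroup.mk_mul, mul_pow]
            conv_lhs => arg 1; rw [e1, pow_mul, hi', one_pow]
            rw [one_mul, e2, pow_mul, hj', one_pow]
          rw [← QuotientGroup.mk_pow, QuotientGroup.eq_one_iff] at h
          exact h⟩
        inv_mem' := fun {a} ha => ⟨M₀.inv_mem ha.1, by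
          obtain ⟨j, hj⟩ := ha.2
          exact ⟨j, by rw [inv_pow]; exact L.inv_mem hj⟩⟩ }
    have hTn : T.Normal := ⟨fun m hm g => ⟨hM₀n.conj_mem m hm.1 g, by
      obtain ⟨j, hj⟩ := hm.2
      exact ⟨j, by rw [conj_pow]; exact hLn.conj_mem _ hj g⟩⟩⟩
    have hT : T = M₀ := by
      by_contra hne'
      obtain ⟨y, hy⟩ := exists_prime_orderOf_dvd_card' q (Subgroup.index_eq_card L' ▸ hdiv)
      obtain ⟨m, rfl⟩ := QuotientGroup.mk'_surjective L' y
      have hTH : (m : G) ∈ H := hsmall T hTn (fun x hx => hx.1) hne' ⟨m.2, 1, by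
        have h := pow_orderOf_eq_one (QuotientGroup.mk' L' m)
        rw [hy, ← map_pow, QuotientGroup.mk'_apply, QuotientGroup.eq_one_iff] at h
        simpa using Subgroup.mem_subgroupOf.mp h⟩
      have : QuotientGroup.mk' L' m = 1 := (QuotientGroup.eq_one_iff m).mpr ⟨m.2, hTH⟩
      rw [this, orderOf_one] at hy
      exact hq.one_lt.ne hy
    -- fixed points of the `q`-group `P` on the `q`-group `M₀/L`
    let act : P →* MulAut (M₀ ⧸ L') :=
      { toFun := fun x => QuotientGroup.congr L' L' (MulAut.conjNormal (x : G) : MulAut M₀) (by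
          ext m
          constructor
          · rintro ⟨n, hn, rfl⟩
            simpa [hL', Subgroup.mem_subgroupOf] using hLn.conj_mem _ hn x
          · intro hm
            refine ⟨(MulAut.conjNormal (x : G)⁻¹ : MulAut M₀) m, ?_, ?_⟩
            · simpa [hL', Subgroup.mem_subgroupOf] using hLn.conj_mem _ hm (x : G)⁻¹
            · apply Subtype.ext
              simp [mul_assoc])
        map_one' := by
          ext a
          induction a using QuotientGroup.induction_on with | H a => simp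
        map_mul' := fun x y => by
          ext a
          induction a using QuotientGroup.induction_on with | H a => simp }
    letI : MulAction P (M₀ ⧸ L') :=
      { smul := fun x a => act x a
        one_smul := fun a => by show act 1 a = a; rw [map_one]; rfl
        mul_smul := fun x y a => by show act (x * y) a = act x (act y a); rw [map_mul]; rfl }
    have hfix := hPq.exists_fixed_point_of_prime_dvd_card_of_fixed_point (M₀ ⧸ L')
      (Subgroup.index_eq_card L' ▸ hdiv) (a := 1) (fun x => map_one (act x))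
    obtain ⟨b, hb, hb1⟩ := hfix
    obtain ⟨m₁, rfl⟩ := QuotientGroup.mk'_surjective L' b
    -- the fixed points form a normal subgroup
    let D : Subgroup G :=
      { carrier := {m | m ∈ M₀ ∧ ∀ x ∈ M, x * m * x⁻¹ * m⁻¹ ∈ L}
        one_mem' := ⟨M₀.one_mem, fun x _ => by simp⟩
        mul_mem' := fun {a b} ha hb => ⟨M₀.mul_mem ha.1 hb.1, fun x hx => by
          have h := L.mul_mem (ha.2 x hx) (hLn.conj_mem _ (hb.2 x hx) a)
          simpa [mul_assoc] using h⟩
        inv_mem' := fun {a} ha => ⟨M₀.inv_mem ha.1, fun x hx => by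
          have h := hLn.conj_mem _ (L.inv_mem (ha.2 x hx)) a⁻¹
          simpa [mul_assoc] using h⟩ }
    have hDn : D.Normal := ⟨fun m hm g => ⟨hM₀n.conj_mem m hm.1 g, fun x hx => by
      have hx' : g⁻¹ * x * g ∈ M := by simpa using hMn.conj_mem x hx g⁻¹
      have h := hLn.conj_mem _ (hm.2 _ hx') g
      simpa [mul_assoc] using h⟩⟩
    have hm₁ : (m₁ : G) ∈ D := by
      refine ⟨m₁.2, fun x hx => ?_⟩
      obtain ⟨y, hy, z, hz, rfl⟩ := hMFP x hx
      have h1 : y * (m₁ : G) * y⁻¹ * (m₁ : G)⁻¹ ∈ L := by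
        have h := hb ⟨y, hy⟩
        change QuotientGroup.mk' L' ((MulAut.conjNormal y : MulAut M₀) m₁) = QuotientGroup.mk' L' m₁ at h
        rw [← div_eq_one, ← map_div, QuotientGroup.mk'_apply, QuotientGroup.eq_one_iff] at h
        simpa [hL', Subgroup.mem_subgroupOf, div_eq_mul_inv, mul_assoc] using h
      have h2 := hLn.conj_mem _ (L.inv_mem (hLcom m₁ m₁.2 z hz)) y
      have h3 := L.mul_mem h2 h1
      simpa [mul_assoc] using h3
    have hDeq : D = M₀ := by
      by_contra hne'
      exact hb1 ((QuotientGroup.eq_one_iff m₁).mpr (Subgroup.mem_subgroupOf.mpr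
        (show (m₁ : G) ∈ L from ⟨m₁.2, hsmall D hDn (fun x hx => hx.1) hne' hm₁⟩))).symm
    obtain ⟨y, hy, m, hm, hnL⟩ := hPnot
    exact hnL ((show m ∈ D by rw [hDeq]; exact hm).2 y (hPM hy))
  obtain ⟨lam, hlam, hreg⟩ := exists_regular
    (fun x => MonoidHom.mk' (conjAct M₀ x) (conjAct_map_mul M₀ x)) (conjAct_one M₀)
    (conjAct_mul M₀) F M A (fun x _ => hAconj x) hAF hab (fun x hx =>
    ⟨q, hexp x hx, fun μ hμ hpow => by
      ext1 m
      have h1 : (μ m) ^ q = 1 := by rw [← MonoidHom.pow_apply, hpow]; rfl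
      have h2 : (μ m) ^ L'.index = 1 := by
        rw [← map_pow]
        exact hμ _ (L'.pow_index_mem m)
      have h3 := Nat.dvd_gcd (orderOf_dvd_of_pow_eq_one h1) (orderOf_dvd_of_pow_eq_one h2)
      rw [Nat.Coprime.gcd_eq_one (hq.coprime_iff_not_dvd.mpr hqnd), Nat.dvd_one, orderOf_eq_one_iff] at h3
      exact h3⟩) hfaith
  -- the character over `lam`
  obtain ⟨φχ, hφχ⟩ := χ
  obtain ⟨b, ρχ, hρχ, rfl⟩ := hφχ
  haveI : Fintype H := Fintype.ofFinite H
  haveI : Fintype M₀ := Fintype.ofFinite M₀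
  have hχF : ∀ z ∈ F, ρχ z = 1 := fun z hz => (character_eq_one_iff ρχ z).mp (mem_irrKer.mp (hker hz))
  have hHF : H ⊔ F = ⊤ := hH.2 _ (left_lt_sup.mpr hFH)
  have hφ : IsIrrCharacter H (fun h : H => ρχ.character h) := by
    refine ⟨b, ρχ.comp H.subtype, ?_, rfl⟩
    rw [isIrreducible_iff] at hρχ ⊢
    refine ⟨hρχ.1, fun U hU => hρχ.2 U fun g v hv => ?_⟩
    have hg : g ∈ H ⊔ F := by rw [hHF]; trivial
    rw [← SetLike.mem_coe, Subgroup.mul_normal] at hg
    obtain ⟨h, hh, z, hz, rfl⟩ := hg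
    rw [map_mul, hχF z hz, mul_one]
    exact hU ⟨h, hh⟩ v hv
  set φ : H → ℂ := fun h : H => ρχ.character h with hφdef
  have hΘ := CfsgLib.Induction.isCharacter_indFun H (isCharacter_of_irr hφ)
  obtain ⟨mlt, hmlt, hsumΘ⟩ := CfsgLib.Clifford.exists_mult hΘ
  set lamF : M₀ → ℂ := fun m => (lam m : ℂ) with hlamF
  have hinnerΘ : classInner (fun m : M₀ => indFun H φ m) lamF ≠ 0 := by
    have hval : ∀ m : M₀, indFun H φ m =
        if (m : G) ∈ L then (H.index : ℂ) * (b : ℂ) else 0 := by
      intro m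
      rw [CfsgLib.Induction.indFun_apply]
      split_ifs with hm
      · have e : ∀ x : G, Cfsg.extendByZero H φ (x⁻¹ * m * x) = (b : ℂ) := fun x => by
          have hxm : x⁻¹ * (m : G) * x ∈ L := by simpa using hLn.conj_mem _ hm x⁻¹
          rw [CfsgLib.Induction.extendByZero_mem H φ hxm.2]
          show ρχ.character _ = _
          rw [(character_eq_one_iff ρχ _).mpr (hχF _ (hM₀F hxm.1)), Representation.char_one,
            Module.finrank_fin_fun]
        simp only [e, Finset.sum_const, Finset.card_univ, nsmul_eq_mul]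
        rw [← Nat.card_eq_fintype_card, ← H.card_mul_index, Nat.cast_mul]
        have : (Nat.card H : ℂ) ≠ 0 := Nat.cast_ne_zero.mpr Nat.card_pos.ne'
        field_simp
      · rw [Finset.sum_eq_zero, mul_zero]
        intro x _
        rw [CfsgLib.Induction.extendByZero_notMem]
        intro hxm
        apply hm
        have h1 : x⁻¹ * (m : G) * x ∈ L := ⟨by simpa using hM₀n.conj_mem _ m.2 x⁻¹, hxm⟩
        simpa [mul_assoc] using hLn.conj_mem _ h1 x
    have hb0 : (b : ℂ) ≠ 0 := by
      have := irr_one_ne_zero (⟨ρχ.character, b, ρχ, hρχ, rfl⟩ : IrrCharacter G)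
      simpa using this
    have hterm : ∀ m : M₀, indFun H φ m * conj (lamF m) =
        if (m : G) ∈ L then (H.index : ℂ) * (b : ℂ) else 0 := by
      intro m
      rw [hval]
      split_ifs with hm
      · simp [hlamF, hlam m hm]
      · rw [zero_mul]
    rw [classInner, Finset.sum_congr rfl fun m _ => hterm m, ← Finset.sum_filter, Finset.sum_const,
      nsmul_eq_mul]
    refine mul_ne_zero (inv_ne_zero (Nat.cast_ne_zero.mpr Nat.card_pos.ne')) (mul_ne_zero ?_
      (mul_ne_zero (Nat.cast_ne_zero.mpr Subgroup.index_ne_zero_of_finite) hb0))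
    exact Nat.cast_ne_zero.mpr (Finset.card_ne_zero.mpr ⟨1, by simp⟩)
  obtain ⟨ψ, hψ0, hψlam⟩ : ∃ ψ : IrrCharacter G, mlt ψ ≠ 0 ∧
      classInner (fun m : M₀ => (ψ : G → ℂ) m) lamF ≠ 0 := by
    by_contra hall
    push Not at hall
    apply hinnerΘ
    have he : (fun m : M₀ => indFun H φ m) =
        ∑ ψ : IrrCharacter G, (mlt ψ : ℂ) • (fun m : M₀ => (ψ : G → ℂ) m) := by
      funext m
      conv_lhs => rw [hsumΘ]
      simp [Finset.sum_apply]
    rw [he, classInner_sum_left]
    refine Finset.sum_eq_zero fun ψ _ => ?_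
    rw [classInner_smul_left]
    rcases eq_or_ne (mlt ψ) 0 with h0 | h0
    · rw [h0, Nat.cast_zero, zero_mul]
    · rw [hall ψ h0, mul_zero]
  have hcon : classInner (fun h : H => (ψ : G → ℂ) h) φ ≠ 0 := by
    intro h0
    apply hψ0
    have h1 := hmlt ψ
    rw [CfsgLib.Induction.classInner_indFun H φ (irr_isClassFunction ψ), classInner_conj_symm, h0,
      map_zero] at h1
    exact_mod_cast h1.symm
  obtain ⟨c, σ, hσ, hσψ⟩ := ψ.2
  have hres : ∀ h : H, (ψ : G → ℂ) h = ρχ.character h := by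
    have hψH : IsCharacter H (fun h : H => (ψ : G → ℂ) h) :=
      CfsgLib.Clifford.isCharacter_subtype (irr_isCharacter ψ) H
    obtain ⟨k, hk, hksum⟩ := CfsgLib.Clifford.exists_mult hψH
    choose d hd0 hd using fun θ : IrrCharacter H => irr_exists_degree θ.2
    set φI : IrrCharacter H := ⟨φ, hφ⟩
    have hk1 : k φI ≠ 0 := fun h0 => hcon (by rw [show φ = (φI : H → ℂ) from rfl, hk, h0, Nat.cast_zero])
    have hφd : d φI = b := by
      have := hd φI
      simp only [φI, hφdef, OneMemClass.coe_one, Representation.char_one, Module.finrank_fin_fun] at this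
      exact_mod_cast this.symm
    have hc : c ≤ b := by
      have := hmax ψ
      simpa [charDegree, ← hσψ, Representation.char_one] using this
    have hdeg : c = ∑ θ : IrrCharacter H, k θ * d θ := by
      have e := congrFun hksum 1
      simp only [OneMemClass.coe_one, Finset.sum_apply, Pi.smul_apply, smul_eq_mul, hd, ← hσψ,
        Representation.char_one, Module.finrank_fin_fun] at e
      exact_mod_cast e
    rw [← Finset.add_sum_erase _ _ (Finset.mem_univ φI), hφd] at hdeg
    have hbpos : 0 < b := hφd ▸ hd0 φI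
    have hk11 : k φI = 1 := by
      have : k φI * b ≤ 1 * b := by rw [one_mul]; omega
      have := Nat.le_of_mul_le_mul_right this hbpos
      omega
    rw [hk11, one_mul] at hdeg
    have hrest : ∀ θ ∈ Finset.univ.erase φI, k θ = 0 := by
      intro θ hθ
      have h0 : ∑ θ ∈ Finset.univ.erase φI, k θ * d θ = 0 := by omega
      have := Finset.sum_eq_zero_iff.mp h0 θ hθ
      rcases Nat.mul_eq_zero.mp this with h | h
      · exact h
      · exact absurd h (hd0 θ).ne'
    intro h
    have e := congrFun hksum h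
    simp only [Finset.sum_apply, Pi.smul_apply, smul_eq_mul] at e
    rw [e, Finset.sum_eq_single φI (fun θ _ hne' => by
        rw [hrest θ (Finset.mem_erase.mpr ⟨hne', Finset.mem_univ _⟩), Nat.cast_zero, zero_mul])
      (by simp), hk11, Nat.cast_one, one_mul]
  have hσH : ∀ z ∈ F, z ∈ H → σ z = 1 := fun z hz hzH => by
    refine (character_eq_one_iff σ z).mp ?_
    rw [hσψ]
    have h1 := hres ⟨z, hzH⟩
    have h2 := hres 1
    rw [OneMemClass.coe_one] at h2
    rw [show (ψ : G → ℂ) z = _ from h1, h2, (character_eq_one_iff ρχ z).mpr (hχF z hz)]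
  -- an eigenvector
  set E : Module.End ℂ (Fin c → ℂ) := ∑ m : M₀, ((lam m⁻¹ : ℂˣ) : ℂ) • σ (m : G) with hE
  have hE0 : E ≠ 0 := by
    intro h0
    apply hψlam
    have htr : LinearMap.trace ℂ _ E = ∑ m : M₀, ((lam m⁻¹ : ℂˣ) : ℂ) * (ψ : G → ℂ) m := by
      rw [hE, map_sum]
      refine Finset.sum_congr rfl fun m _ => ?_
      rw [map_smul, smul_eq_mul, ← hσψ]
      rfl
    rw [h0, map_zero] at htr
    rw [classInner]
    refine mul_eq_zero_of_right _ ?_
    rw [htr]
    refine Finset.sum_congr rfl fun m _ => ?_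
    rw [mul_comm]
    congr 1
    simp only [hlamF]
    rw [map_inv, Units.val_inv_eq_inv_val, Complex.inv_eq_conj]
    refine Complex.norm_eq_one_of_pow_eq_one (n := Nat.card M₀) ?_ Nat.card_pos.ne'
    rw [← Units.val_pow_eq_pow_val, ← map_pow, pow_card_eq_one', map_one, Units.val_one]
  obtain ⟨v, hv⟩ : ∃ v, E v ≠ 0 := by
    by_contra hall
    push Not at hall
    exact hE0 (LinearMap.ext hall)
  set w := E v with hw
  have heig : ∀ m : M₀, σ (m : G) w = ((lam m : ℂˣ) : ℂ) • w := by
    intro m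
    rw [hw, hE, LinearMap.sum_apply, map_sum, Finset.smul_sum]
    refine Fintype.sum_bijective (m * ·) (Group.mulLeft_bijective m) _ _ fun n => ?_
    rw [LinearMap.smul_apply, LinearMap.smul_apply, map_smul, smul_smul, Subgroup.coe_mul, map_mul,
      Module.End.mul_apply]
    congr 1
    simp only [map_mul, map_inv, mul_inv_rev, Units.val_mul, Units.val_inv_eq_inv_val]
    field_simp
  -- project the translates
  haveI : Fintype P := Fintype.ofFinite P
  set uv := ∑ x : P, σ (x : G) w with huv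
  have hproj : ∀ x : P, E (σ (x : G) w) =
      if (x : G) ∈ F then (Nat.card M₀ : ℂ) • w else 0 := by
    intro x
    have hterm : ∀ m : M₀, ((lam m⁻¹ : ℂˣ) : ℂ) • σ (m : G) (σ (x : G) w) =
        (((lam⁻¹ * conjAct M₀ (x : G)⁻¹ lam) m : ℂˣ) : ℂ) • σ (x : G) w := by
      intro m
      have hm' : (x : G)⁻¹ * m * x ∈ M₀ := by simpa using hM₀n.conj_mem _ m.2 (x : G)⁻¹
      rw [← Module.End.mul_apply, ← map_mul,
        show (m : G) * x = x * ((x : G)⁻¹ * m * x) by group, map_mul, Module.End.mul_apply,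
        heig ⟨_, hm'⟩, map_smul, smul_smul, MonoidHom.mul_apply, MonoidHom.inv_apply, Units.val_mul,
        map_inv]
      congr 2
      rw [conjAct_apply]
      congr 2
      exact Subtype.ext (by simp)
    rw [hE, LinearMap.sum_apply]
    simp only [LinearMap.smul_apply, hterm]
    rw [← Finset.sum_smul]
    split_ifs with hx
    · rw [show lam⁻¹ * conjAct M₀ (x : G)⁻¹ lam = 1 from
        inv_mul_eq_one.mpr (hAF _ (F.inv_mem hx) lam hlam).symm]
      simp only [MonoidHom.one_apply, Units.val_one, Finset.sum_const, Finset.card_univ,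
        nsmul_eq_mul, mul_one, ← Nat.card_eq_fintype_card]
      rw [hσH _ hx (hPH x.2), Module.End.one_apply]
    · have hne' : lam⁻¹ * conjAct M₀ (x : G)⁻¹ lam ≠ 1 := fun h => by
        replace h : lam = conjAct M₀ (x : G)⁻¹ lam :=
          MonoidHom.ext fun m => inv_mul_eq_one.mp (DFunLike.congr_fun h m)
        refine hx ?_
        simpa using F.inv_mem (hreg _ (M.inv_mem (hPM x.2)) h.symm)
      obtain ⟨m₀, hm₀⟩ := not_forall.mp fun hall => hne' (MonoidHom.ext hall)
      set μ := lam⁻¹ * conjAct M₀ (x : G)⁻¹ lam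
      have h0 : ∑ m : M₀, ((μ m : ℂˣ) : ℂ) = 0 := by
        refine eq_zero_of_mul_eq_self_left (b := ((μ m₀ : ℂˣ) : ℂ)) ?_ ?_
        · exact fun h => hm₀ (Units.ext h)
        · rw [Finset.mul_sum]
          exact Fintype.sum_bijective (m₀ * ·) (Group.mulLeft_bijective m₀) _ _ fun m => by
            rw [map_mul, Units.val_mul]
      rw [h0, zero_smul]
  have huv0 : uv ≠ 0 := by
    intro h0
    have := congrArg E h0
    rw [huv, map_sum, map_zero, Finset.sum_congr rfl fun x _ => hproj x, ← Finset.sum_filter,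
      Finset.sum_const, ← Nat.cast_smul_eq_nsmul ℂ, smul_smul] at this
    rcases smul_eq_zero.mp this with h | h
    · rcases mul_eq_zero.mp h with h | h
      · exact Finset.card_ne_zero.mpr ⟨1, by simp⟩ (Nat.cast_eq_zero.mp h)
      · exact Nat.card_pos.ne' (Nat.cast_eq_zero.mp h)
    · exact hv h
  have hnz := sum_character_ne_zero (σ.comp P.subtype) huv0 fun x => by
    rw [huv, map_sum]
    refine Fintype.sum_bijective (x * ·) (Group.mulLeft_bijective x) _ _ fun y => ?_
    show σ (x : G) (σ (y : G) w) = σ ((x * y : P) : G) w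
    rw [Subgroup.coe_mul, map_mul, Module.End.mul_apply]
  have hnz' : ∑ x, Representation.character (ρχ.comp P.subtype) x ≠ 0 := by
    convert hnz using 1
    refine Finset.sum_congr rfl fun x _ => ?_
    show ρχ.character (x : G) = σ.character (x : G)
    rw [hσψ]
    exact (hres ⟨x, hPH x.2⟩).symm
  obtain ⟨u₀, hu₀, hu₀fix⟩ := exists_fixed _ hnz'
  -- the vectors fixed by `M`
  have hMfix : ∀ x ∈ M, ρχ x u₀ = u₀ := fun x hx => by
    obtain ⟨y, hy, z, hz, rfl⟩ := hMFP x hx
    rw [map_mul, hχF z hz, mul_one]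
    exact hu₀fix ⟨y, hy⟩
  let U : Submodule ℂ (Fin b → ℂ) :=
    { carrier := {v | ∀ x ∈ M, ρχ x v = v}
      zero_mem' := fun x _ => map_zero _
      add_mem' := fun {a c} ha hc x hx => by rw [map_add, ha x hx, hc x hx]
      smul_mem' := fun r a ha x hx => by rw [map_smul, ha x hx] }
  have hU : U = ⊤ := by
    refine (((isIrreducible_iff ρχ).mp hρχ).2 U fun g v hv x hx => ?_).resolve_left fun h => hu₀ ?_
    · have h1 := hv (g⁻¹ * x * g) (by simpa using hMn.conj_mem x hx g⁻¹)
      rw [← Module.End.mul_apply, ← map_mul, show x * g = g * (g⁻¹ * x * g) by group, map_mul,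
        Module.End.mul_apply, h1]
    · have : u₀ ∈ U := hMfix
      rwa [h, Submodule.mem_bot] at this
  obtain ⟨x₀, hx₀, hx₀F⟩ : ∃ x ∈ P, x ∉ F := by
    by_contra hall
    push Not at hall
    refine hMne fun x hx => ?_
    obtain ⟨y, hy, z, hz, rfl⟩ := hMFP x hx
    exact F.mul_mem (hall y hy) hz
  have hσx : σ x₀ = 1 := by
    refine (character_eq_one_iff σ x₀).mp ?_
    rw [hσψ]
    have h1 := hres ⟨x₀, hPH hx₀⟩
    have h2 := hres 1
    rw [OneMemClass.coe_one] at h2
    rw [show (ψ : G → ℂ) x₀ = _ from h1, h2]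
    refine (character_eq_one_iff ρχ x₀).mpr (LinearMap.ext fun v => ?_)
    have : v ∈ U := hU ▸ Submodule.mem_top
    exact this x₀ (hPM hx₀)
  have h := hproj ⟨x₀, hx₀⟩
  rw [if_neg hx₀F, hσx, Module.End.one_apply] at h
  have hEw : E w = (Nat.card M₀ : ℂ) • w := by
    have h1 := hproj 1
    rw [if_pos (show ((1 : P) : G) ∈ F from F.one_mem), OneMemClass.coe_one, map_one,
      Module.End.one_apply] at h1
    exact h1
  rw [hEw] at h
  rcases smul_eq_zero.mp h with h | h
  · exact Nat.card_pos.ne' (Nat.cast_eq_zero.mp h)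
  · exact hv h

/-- Nilpotency of a factor passes to preimages. -/
theorem nilpotent_quot_of_comap {G Q : Type*} [Group G] [Group Q] (f : G →* Q)
    (hf : Function.Surjective f) (A B : Subgroup Q) {X Y : Subgroup G} (hX : X = A.comap f)
    (hY : Y = B.comap f) [(X.subgroupOf Y).Normal] (hAn : (A.subgroupOf B).Normal)
    (h : ∀ _ : (A.subgroupOf B).Normal, Group.IsNilpotent (B ⧸ A.subgroupOf B)) :
    Group.IsNilpotent (Y ⧸ X.subgroupOf Y) := by
  subst hX hY
  haveI := hAn
  haveI := h hAn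
  let g := f.subgroupComap B
  have hg : Function.Surjective g := MonoidHom.subgroupComap_surjective_of_surjective f B hf
  let ψm : ↥(B.comap f) →* (B ⧸ A.subgroupOf B) := (QuotientGroup.mk' _).comp g
  have hψm : Function.Surjective ψm := (QuotientGroup.mk'_surjective _).comp hg
  have hker : ψm.ker = (A.comap f).subgroupOf (B.comap f) := by
    rw [show ψm.ker = (QuotientGroup.mk' (A.subgroupOf B)).ker.comap g from
      (MonoidHom.comap_ker _ _).symm, QuotientGroup.ker_mk']
    rfl
  exact Group.nilpotent_of_mulEquiv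
    ((QuotientGroup.quotientMulEquivOfEq hker.symm).trans
      (QuotientGroup.quotientKerEquivOfSurjective ψm hψm)).symm

/-- The chain. -/
theorem exists_chain : ∀ (n : ℕ) (G : Type u) [Group G] [Finite G], Group.IsSolvable G →
    Nat.card {d : ℕ // ∃ χ : IrrCharacter G, charDegree (χ : G → ℂ) = d} ≤ n →
    ∃ N : Fin (n + 1) → Subgroup G, N 0 = ⊥ ∧ N (Fin.last n) = ⊤ ∧ Monotone N ∧
      (∀ i, (N i).Normal) ∧ ∀ i : Fin n, ∀ h : (N i.castSucc).subgroupOf (N i.succ) |>.Normal,
        Group.IsNilpotent (↥(N i.succ) ⧸ (N i.castSucc).subgroupOf (N i.succ)) := by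
  intro n
  induction n with
  | zero =>
    intro G _ _ _ hle
    exfalso
    haveI : Finite {d : ℕ // ∃ χ : IrrCharacter G, charDegree (χ : G → ℂ) = d} :=
      Set.Finite.to_subtype (s := {d : ℕ | ∃ χ : IrrCharacter G, charDegree (χ : G → ℂ) = d}) (by
        haveI := Fintype.ofFinite G
        exact Set.finite_range (fun χ : IrrCharacter G => charDegree (χ : G → ℂ)))
    haveI : Nonempty {d : ℕ // ∃ χ : IrrCharacter G, charDegree (χ : G → ℂ) = d} :=
      ⟨⟨_, principalIrr G, rfl⟩⟩
    exact absurd Nat.card_pos (by omega :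
      ¬ 0 < Nat.card {d : ℕ // ∃ χ : IrrCharacter G, charDegree (χ : G → ℂ) = d})
  | succ n ih =>
    intro G _ _ hsolv hle
    classical
    haveI := Fintype.ofFinite G
    haveI hfin : Finite {d : ℕ // ∃ χ : IrrCharacter G, charDegree (χ : G → ℂ) = d} :=
      Set.Finite.to_subtype (s := {d : ℕ | ∃ χ : IrrCharacter G, charDegree (χ : G → ℂ) = d})
        (Set.finite_range (fun χ : IrrCharacter G => charDegree (χ : G → ℂ)))
    by_cases hF : fittingSubgroup G = ⊤
    · have hnil : Group.IsNilpotent (⊤ : Subgroup G) := hF ▸ CfsgLib.IndexPowers.isNilpotent_fitting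
      refine ⟨fun i => if i = 0 then ⊥ else ⊤, if_pos rfl, if_neg (Fin.last_pos).ne', ?_, ?_, ?_⟩
      · intro i j hij
        dsimp only
        by_cases hi : i = 0
        · rw [if_pos hi]; exact bot_le
        · rw [if_neg hi, if_neg (fun hj => hi (le_antisymm (hij.trans hj.le) (Fin.zero_le i)))]
      · intro i
        dsimp only
        split_ifs <;> infer_instance
      · intro i h
        haveI := h
        have : Group.IsNilpotent ↥(if i.succ = 0 then (⊥ : Subgroup G) else ⊤) := by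
          rw [if_neg (Fin.succ_ne_zero i)]; exact hnil
        haveI := this
        exact Group.nilpotent_of_surjective (QuotientGroup.mk' _) (QuotientGroup.mk'_surjective _)
    · set F := fittingSubgroup G with hFdef
      haveI hFn : F.Normal := fitting_normal
      haveI hFnil : Group.IsNilpotent F := CfsgLib.IndexPowers.isNilpotent_fitting
      set f := QuotientGroup.mk' F with hf
      -- fewer degrees in the quotient
      haveI : Nonempty (IrrCharacter G) := ⟨principalIrr G⟩
      obtain ⟨χ₀, hχ₀⟩ := Finite.exists_max (fun χ : IrrCharacter G => charDegree (χ : G → ℂ))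
      have hdeg : ∀ η : IrrCharacter (G ⧸ F),
          charDegree (η : G ⧸ F → ℂ) = charDegree (infl F η : G → ℂ) := fun η => by
        simp [charDegree, infl_apply]
      have hlt : Nat.card {d : ℕ // ∃ χ : IrrCharacter (G ⧸ F), charDegree (χ : G ⧸ F → ℂ) = d} <
          Nat.card {d : ℕ // ∃ χ : IrrCharacter G, charDegree (χ : G → ℂ) = d} := by
        have hsub : ∀ d : ℕ, (∃ χ : IrrCharacter (G ⧸ F), charDegree (χ : G ⧸ F → ℂ) = d) →
            ∃ χ : IrrCharacter G, charDegree (χ : G → ℂ) = d := fun d ⟨η, hη⟩ =>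
          ⟨infl F η, (hdeg η).symm.trans hη⟩
        refine lt_of_le_of_ne
          (Nat.card_le_card_of_injective (fun d => (⟨d.1, hsub d.1 d.2⟩ : _))
            fun a b h => Subtype.ext (by simpa using congrArg Subtype.val h)) fun he => ?_
        have hsurj := ((Function.Injective.bijective_of_nat_card_le
          (f := fun d : {d : ℕ // ∃ χ : IrrCharacter (G ⧸ F), charDegree (χ : G ⧸ F → ℂ) = d} =>
            (⟨d.1, hsub d.1 d.2⟩ : {d : ℕ // ∃ χ : IrrCharacter G, charDegree (χ : G → ℂ) = d}))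
          (fun a b h => Subtype.ext (by simpa using congrArg Subtype.val h)) he.ge)).2
          ⟨_, χ₀, rfl⟩
        obtain ⟨⟨d, η, hη⟩, hd⟩ := hsurj
        have hd' : d = charDegree (χ₀ : G → ℂ) := congrArg Subtype.val hd
        obtain ⟨ψ, hψ⟩ := not_max hsolv hF (infl F η) (le_irrKer_infl F η)
        rw [← hdeg η, hη, hd'] at hψ
        exact absurd (hχ₀ ψ) (not_le.mpr hψ)
      haveI : Group.IsSolvable (G ⧸ F) :=
        Group.isSolvable_of_surjective (f := f) (QuotientGroup.mk'_surjective F)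
      obtain ⟨N', h0, hlast, hmono, hnorm, hnilp⟩ := ih (G ⧸ F) inferInstance (by omega)
      refine ⟨Fin.cons ⊥ (fun i => (N' i).comap f), Fin.cons_zero _ _, ?_, ?_, ?_, ?_⟩
      · rw [← Fin.succ_last, Fin.cons_succ, hlast, Subgroup.comap_top]
      · intro i j hij
        cases i using Fin.cases with
        | zero => rw [Fin.cons_zero]; exact bot_le
        | succ i =>
          cases j using Fin.cases with
          | zero => exact absurd hij (not_le.mpr (Fin.succ_pos i))
          | succ j =>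
            rw [Fin.cons_succ, Fin.cons_succ]
            exact Subgroup.comap_mono (hmono (Fin.succ_le_succ_iff.mp hij))
      · intro i
        cases i using Fin.cases with
        | zero => rw [Fin.cons_zero]; infer_instance
        | succ i => rw [Fin.cons_succ]; exact (hnorm i).comap f
      · intro i h
        cases i using Fin.cases with
        | zero =>
          haveI := h
          have : Group.IsNilpotent
              ↥((Fin.cons (⊥ : Subgroup G) (fun i => (N' i).comap f) : Fin (n + 2) → Subgroup G)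
                (Fin.succ (0 : Fin (n + 1)))) := by
            rw [Fin.cons_succ, h0, MonoidHom.comap_bot, hf, QuotientGroup.ker_mk']
            exact hFnil
          haveI := this
          exact Group.nilpotent_of_surjective (QuotientGroup.mk' _) (QuotientGroup.mk'_surjective _)
        | succ i =>
          haveI := h
          exact nilpotent_quot_of_comap f (QuotientGroup.mk'_surjective F) (N' i.castSucc)
            (N' i.succ) (by rw [Fin.castSucc_succ, Fin.cons_succ]) (by rw [Fin.cons_succ])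
            ((hnorm i.castSucc).subgroupOf _) fun hAn => hnilp i hAn

end CfsgLib.NilpotentLength
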