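import Cfsg.Agent.Lib.Blocks.MinimalPrincipal
import Cfsg.Agent.Lib.BlockCover.PrincipalSquares
import Cfsg.Agent.Lib.Blocks.Kernel
import Cfsg.Agent.Lib.Blocks.PPart
import Cfsg.Agent.Lib.OddOrder.PLengthOne
import Cfsg.Agent.Lib.Chars17.IrrBasic

/-!
`p`-length at most one and restriction of the principal block to the Sylow normaliser.
-/

set_option autoImplicit false

namespace CfsgLib.PLengthBlock

open Cfsg CfsgLib.Characters CfsgLib.CharCorr
open scoped ComplexConjugate

universe u

variable {G : Type u} [Group G] [Fintype G] {p : ℕ} [hp : Fact p.Prime] {M : Ideal AlgInt}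

/-- If restrictions to the normaliser are irreducible, the sums over the Sylow subgroup vanish
outside the kernel. -/
theorem sum_sylow_eq_zero (P : Sylow p G) {χ : IrrCharacter G}
    (hirr : IsIrrCharacter ↥(Subgroup.normalizer ((P : Subgroup G) : Set G))
      (fun n : ↥(Subgroup.normalizer ((P : Subgroup G) : Set G)) => (χ : G → ℂ) n))
    [Fintype (P : Subgroup G)] (hk : ¬ (P : Subgroup G) ≤ Chars17.irrKer χ) :
    ∑ u : (P : Subgroup G), (χ : G → ℂ) u = 0 := by
  classical
  set N := Subgroup.normalizer ((P : Subgroup G) : Set G)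
  set Q : Subgroup N := (P : Subgroup G).subgroupOf N
  haveI : Q.Normal := Subgroup.normal_in_normalizer
  let _ := Fintype.ofFinite Q
  have h1 := Chars17.sum_coset_eq_zero (χ := ⟨_, hirr⟩) (N := Q) (fun hle => hk fun x hx => by
    have := hle (show (⟨x, Subgroup.le_normalizer hx⟩ : N) ∈ Q from hx)
    rw [Chars17.mem_irrKer] at this ⊢
    simpa using this) 1
  simp only [one_mul] at h1
  rw [← h1]
  refine (Fintype.sum_equiv (Subgroup.subgroupOfEquivOfLe
    (Subgroup.le_normalizer (H := (P : Subgroup G)))).toEquiv _ _ fun x => ?_).symm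
  rfl

/-- The squared degrees of the principal block of the normal closure. -/
theorem squares_closure (hM : IsPModular p M) (P : Sylow p G) (L : Subgroup G) [L.Normal]
    [Fintype L] (hPL : (P : Subgroup G) ≤ L) (hmin : L ≤ Subgroup.normalClosure ((P : Subgroup G) : Set G))
    (hirr : ∀ χ ∈ principalBlock M G, IsIrrCharacter ↥(Subgroup.normalizer ((P : Subgroup G) : Set G))
      (fun n : ↥(Subgroup.normalizer ((P : Subgroup G) : Set G)) => (χ : G → ℂ) n)) :
    ∑ᶠ θ ∈ principalBlock M L, charDegree (θ : L → ℂ) ^ 2 =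
      Nat.card ((P.subtype hPL : Sylow p L) : Subgroup L) := by
  classical
  set PL : Subgroup L := ((P.subtype hPL : Sylow p L) : Subgroup L) with hPLdef
  let _ := Fintype.ofFinite PL
  let _ := Fintype.ofFinite (P : Subgroup G)
  have hbL : IsPBlock M (principalBlock M L) := Blocks.isPBlock_principalBlock M
  -- every member but the principal one sums to zero
  have hzero : ∀ θ ∈ principalBlock M L, θ ≠ principalIrr L → ∑ u : PL, (θ : L → ℂ) u = 0 := by
    intro θ hθ hne
    obtain ⟨χ, hχ, hc⟩ := BlockCover.exists_constituent_of_covers L hM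
      (Blocks.isPBlock_principalBlock M) hbL (BlockCover.principalIrr_mem (G := G) hM)
      (BlockCover.principalIrr_mem (G := L) hM)
      (by rw [BlockCover.principal_res L]; exact one_ne_zero) hθ
    -- the sylow group is outside the kernel
    have hk : ¬ (P : Subgroup G) ≤ Chars17.irrKer χ := fun hle => by
      have hL : L ≤ Chars17.irrKer χ := hmin.trans (Subgroup.normalClosure_le_normal hle)
      apply hc
      have : (fun n : L => (χ : G → ℂ) n) = (χ : G → ℂ) 1 • ((principalIrr L : L → ℂ)) := by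
        funext n
        rw [Pi.smul_apply, smul_eq_mul, principalIrr_apply, mul_one]
        exact Chars17.mem_irrKer.1 (hL n.2)
      rw [this, classInner_smul_left, classInner_irr_ne (principalIrr L).2 θ.2
        (fun h => hne (Subtype.ext h.symm)), mul_zero]
    have hχ0 := sum_sylow_eq_zero P (hirr χ hχ) hk
    have hdec : ∀ v : L, (χ : G → ℂ) v =
        ∑ η : IrrCharacter L, classInner (fun n : L => (χ : G → ℂ) n) (η : L → ℂ) * (η : L → ℂ) v :=
      fun v => by simpa [Function.comp_def] using congrFun (irr_res_eq_sum χ L.subtype) v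
    have hsum : ∑ u : PL, (χ : G → ℂ) ((u : L) : G) = 0 := by
      rw [← hχ0]
      let e : PL ≃ (P : Subgroup G) := (Subgroup.subgroupOfEquivOfLe hPL).toEquiv
      refine Fintype.sum_equiv e (fun u : PL => (χ : G → ℂ) ((u : L) : G)) (fun u => (χ : G → ℂ) u)
        fun x => ?_
      rfl
    replace hsum : ∑ u : PL, ∑ η : IrrCharacter L,
        classInner (fun n : L => (χ : G → ℂ) n) (η : L → ℂ) * (η : L → ℂ) u = 0 := by
      rw [← hsum]; exact Finset.sum_congr rfl fun u _ => (hdec (u : L)).symm
    rw [Finset.sum_comm] at hsum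
    simp only [← Finset.mul_sum] at hsum
    choose m hm using fun η : IrrCharacter L =>
      classInner_char_nat (CfsgLib.CharGalois.isCharacter_comp (irr_isCharacter χ) L.subtype)
        (irr_isCharacter η)
    have hS : ∀ η : IrrCharacter L, ∃ s : ℕ, ∑ u : PL, (η : L → ℂ) u = (s : ℂ) := fun η => by
      obtain ⟨s, hs⟩ := ClassCount.exists_mult η PL
      refine ⟨Nat.card PL * s, ?_⟩
      rw [← Equiv.sum_comp (Equiv.inv PL) fun u : PL => (η : L → ℂ) u]
      simpa using hs
    choose s hs using hS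
    simp only [Subgroup.coe_subtype] at hm
    simp only [hm, hs] at hsum
    have h0 : ∑ η : IrrCharacter L, m η * s η = 0 := by exact_mod_cast hsum
    rcases Nat.mul_eq_zero.1 ((Finset.sum_eq_zero_iff.1 h0) θ (Finset.mem_univ _)) with h | h
    · exact absurd (by rw [hm θ, h, Nat.cast_zero]) hc
    · rw [hs θ, h, Nat.cast_zero]
  set S := Finset.univ.filter (· ∈ principalBlock M L)
  rw [finsum_mem_eq_sum_of_inter_support_eq _ (t := S) (by simp [S])]
  have hvan : ∀ u : PL, u ≠ 1 → ∑ θ ∈ S, (θ : L → ℂ) 1 * (θ : L → ℂ) (u : L) = 0 := by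
    intro u hu
    obtain ⟨k, hk⟩ := IsPGroup.iff_orderOf.1 (P.subtype hPL : Sylow p L).isPGroup' u
    rw [← Subgroup.orderOf_coe] at hk
    have h0 := Blocks.blockCoeff_eq_zero_of_singular hM hbL (y := ((u : L))⁻¹) (by
      rw [orderOf_inv, hk]
      refine dvd_pow_self p fun hk0 => hu ?_
      rw [hk0, pow_zero, orderOf_eq_one_iff] at hk
      exact Subtype.ext hk)
    rw [blockCoeff, finsum_mem_eq_sum_of_inter_support_eq _ (t := S) (by simp [S]), mul_eq_zero] at h0
    rcases h0 with h0 | h0
    · simp at h0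
    · rw [← h0]
      exact Finset.sum_congr rfl fun θ _ => by rw [irr_apply_inv, Complex.conj_conj]
  apply Nat.cast_injective (R := ℂ)
  have htot : ∑ u : PL, ∑ θ ∈ S, (θ : L → ℂ) 1 * (θ : L → ℂ) (u : L) =
      ∑ θ ∈ S, (θ : L → ℂ) 1 * (θ : L → ℂ) 1 := by
    rw [Finset.sum_eq_single 1 (fun u _ hu => hvan u hu) (by simp), OneMemClass.coe_one]
  rw [Finset.sum_comm, Finset.sum_eq_single (principalIrr L) (fun θ hθ hne => by
    rw [← Finset.mul_sum, hzero θ (Finset.mem_filter.1 hθ).2 hne, mul_zero])
    (fun h => absurd (Finset.mem_filter.2 ⟨Finset.mem_univ _,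
      BlockCover.principalIrr_mem (G := L) hM⟩) h)] at htot
  simp only [principalIrr_apply, mul_one, Finset.sum_const, Finset.card_univ, nsmul_eq_mul,
    ← Nat.card_eq_fintype_card] at htot
  rw [htot]
  push_cast
  exact Finset.sum_congr rfl fun θ _ => by rw [← irr_one_eq_charDegree]; ring

theorem pLengthLE_of_irreducible (hM : IsPModular p M) (P : Sylow p G)
    (hirr : ∀ χ ∈ principalBlock M G, IsIrrCharacter ↥(Subgroup.normalizer ((P : Subgroup G) : Set G))
      (fun n : ↥(Subgroup.normalizer ((P : Subgroup G) : Set G)) => (χ : G → ℂ) n)) :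
    PLengthLE p 1 G := by
  classical
  have := hM.2.1
  set L := Subgroup.normalClosure ((P : Subgroup G) : Set G) with hLdef
  let _ := Fintype.ofFinite L
  have hPL : (P : Subgroup G) ≤ L := Subgroup.le_normalClosure
  obtain ⟨R, hRn, hRp, hRP⟩ := MinimalPrincipal.normal_complement hM (P.subtype hPL)
    (squares_closure hM P L hPL le_rfl hirr)
  set K := pPrimeCore p G
  have hRK : R.map L.subtype ≤ K := by
    have h1 : R ≤ pPrimeCore p L := PCore.le_pPrimeCore_of_not_dvd hRn hRp
    refine le_trans (Subgroup.map_mono h1) ?_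
    refine PCore.le_pPrimeCore inferInstance ?_
    rw [Subgroup.card_map_of_injective L.subtype_injective]
    exact PCore.pPrimeCore_coprime
  have hKL : K ⊔ L = K ⊔ (P : Subgroup G) := by
    refine le_antisymm (sup_le le_sup_left ?_) (sup_le_sup_left hPL _)
    have h2 := congrArg (Subgroup.map L.subtype) hRP
    rw [Subgroup.map_sup, ← MonoidHom.range_eq_map, Subgroup.range_subtype, P.coe_subtype,
      Subgroup.subgroupOf_map_subtype, inf_eq_left.2 hPL] at h2
    calc L = R.map L.subtype ⊔ (P : Subgroup G) := h2.symm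
      _ ≤ K ⊔ (P : Subgroup G) := sup_le_sup_right hRK _
  haveI : K.Normal := inferInstance
  refine OddOrder.PLengthOne.of_series (K := K) (N := K ⊔ L) PCore.pPrimeCore_coprime ?_ ?_
  · obtain ⟨n, hn⟩ := P.isPGroup'.exists_card_eq
    have h1 : K.relIndex (K ⊔ (P : Subgroup G)) ∣ p ^ n := by
      rw [sup_comm, Subgroup.relIndex_sup_right, ← hn]
      exact Subgroup.relIndex_dvd_card _ _
    obtain ⟨i, -, hi⟩ := (Nat.dvd_prime_pow hp.out).1 h1
    exact ⟨i, by rw [hKL, hi]⟩
  · exact fun h => P.not_dvd_index (h.trans (Subgroup.index_dvd_of_le (hKL ▸ le_sup_right)))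

theorem irreducible_of_pLengthLE (hM : IsPModular p M) (P : Sylow p G) (h : PLengthLE p 1 G)
    (χ : IrrCharacter G) (hχ : χ ∈ principalBlock M G) :
    IsIrrCharacter ↥(Subgroup.normalizer ((P : Subgroup G) : Set G))
      (fun n : ↥(Subgroup.normalizer ((P : Subgroup G) : Set G)) => (χ : G → ℂ) n) := by
  classical
  set N := Subgroup.normalizer ((P : Subgroup G) : Set G) with hNdef
  set K := pPrimeCore p G
  set T := pPrimePCore p G
  haveI : T.Normal := by simp only [T, pPrimePCore]; infer_instance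
  have hPT : (P : Subgroup G) ≤ T := by
    obtain ⟨n, hn⟩ := P.isPGroup'.exists_card_eq
    refine fun x hx => (QuotientGroup.eq_one_iff x).1 ?_
    refine Blocks.eq_one_of_pow_order_dvd hp.out (k := n) ?_ fun hd => ?_
    · exact (orderOf_map_dvd (QuotientGroup.mk' T) x).trans (by
        rw [← hn, ← Subgroup.orderOf_mk x hx]; exact orderOf_dvd_natCard _)
    · exact OddOrder.PLengthOne.index_eq h (hd.trans (by
        rw [Subgroup.index_eq_card]; exact orderOf_dvd_natCard _))
  have hTK : T ≤ K ⊔ (P : Subgroup G) := PCore.pPrimePCore_le_sup_sylow P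
  have htop : N ⊔ K = ⊤ := by
    rw [eq_top_iff, ← Sylow.normalizer_sup_eq_top' P hPT]
    exact sup_le le_sup_left (hTK.trans (sup_le le_sup_right (Subgroup.le_normalizer.trans le_sup_left)))
  have hKker : ∀ k ∈ K, (χ : G → ℂ) k = (χ : G → ℂ) 1 := fun k hk =>
    Blocks.principalBlock_kernel hM hχ (fun hd => by
      have := PCore.pPrimeCore_coprime (p := p) (G := G)
      exact hp.out.coprime_iff_not_dvd.1 this.symm hd) hk
  obtain ⟨n, ρ, hρ, hχρ⟩ := χ.2
  refine ⟨n, ρ.comp N.subtype, ?_, ?_⟩
  · rw [isIrreducible_iff] at hρ ⊢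
    refine ⟨hρ.1, fun U hU => hρ.2 U fun g => ?_⟩
    have hg : g ∈ ((N ⊔ K : Subgroup G) : Set G) := by rw [htop]; trivial
    rw [Subgroup.mul_normal] at hg
    obtain ⟨a, ha, k, hk, rfl⟩ := hg
    have hk1 : ρ k = 1 := (Chars17.character_eq_one_iff ρ k).1 (by rw [hχρ]; exact hKker k hk)
    intro v hv
    simpa [map_mul, hk1] using hU ⟨a, ha⟩ v hv
  · funext x
    rw [← hχρ]
    rfl

end CfsgLib.PLengthBlock
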