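import Cfsg.Agent.Lib.Characters.BrauerInduction
import Cfsg.Agent.Lib.Characters.Induction
import Cfsg.Prelude.Def_Blocks
import Mathlib.GroupTheory.Transfer

/-!
`p^a` times the indicator of the `p`-regular elements is a generalized character.
-/

namespace CfsgLib.Contribution

open Cfsg CfsgLib.Characters

universe u

theorem not_dvd_orderOf_of_not_dvd_card {X : Type u} [Group X] [Finite X] {p : ℕ} (K : Subgroup X)
    (hK : ¬ p ∣ Nat.card K) {y : X} (hy : y ∈ K) : ¬ p ∣ orderOf y := by
  intro h
  apply hK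
  have : orderOf (⟨y, hy⟩ : K) ∣ Nat.card K := orderOf_dvd_natCard _
  rw [← Subgroup.orderOf_coe] at this
  exact h.trans this

/-- In an elementary group the `p`-regular elements form a normal subgroup of `p`-power index. -/
theorem exists_regular_subgroup {X : Type u} [Group X] [Finite X] {p q : ℕ} (hp : p.Prime)
    (hq : q.Prime) (hX : IsElementary q X) :
    ∃ K : Subgroup X, K.Normal ∧ (∀ y, y ∈ K ↔ ¬ p ∣ orderOf y) ∧ ∃ j, K.index = p ^ j := by
  obtain ⟨x, hxc, hcop, k, hk⟩ := hX
  have hZn : (Subgroup.zpowers x).Normal := ⟨fun n hn g => by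
    obtain ⟨i, rfl⟩ := Subgroup.mem_zpowers_iff.mp hn
    have : Commute g (x ^ i) := (Commute.zpow_right (Subgroup.mem_center_iff.mp hxc g) i)
    rw [this.eq, mul_inv_cancel_right]
    exact hn⟩
  by_cases hpq : p = q
  · subst hpq
    refine ⟨Subgroup.zpowers x, hZn, fun y => ⟨fun hy => ?_, fun hy => ?_⟩, k, hk⟩
    · refine not_dvd_orderOf_of_not_dvd_card _ ?_ hy
      rw [Nat.card_zpowers]
      exact hp.coprime_iff_not_dvd.mp hcop.symm
    · rw [← QuotientGroup.eq_one_iff, ← orderOf_eq_one_iff]
      refine Nat.eq_one_of_dvd_coprimes ((Nat.Coprime.pow_left k (hp.coprime_iff_not_dvd.mpr hy))) ?_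
        (orderOf_map_dvd (QuotientGroup.mk' _) y)
      rw [← hk, Subgroup.index_eq_card]
      exact orderOf_dvd_natCard _
  · haveI := Fact.mk hp
    let P : Sylow p X := default
    have hPc : (P : Subgroup X) ≤ Subgroup.center X := by
      intro y hy
      have hyz : y ∈ Subgroup.zpowers x := by
        rw [← QuotientGroup.eq_one_iff, ← orderOf_eq_one_iff]
        obtain ⟨j, hj⟩ := IsPGroup.iff_orderOf.mp P.isPGroup' ⟨y, hy⟩
        rw [← Subgroup.orderOf_coe] at hj
        refine Nat.eq_one_of_dvd_coprimes (((Nat.coprime_primes hp hq).mpr hpq).pow j k) ?_ ?_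
        · exact hj ▸ orderOf_map_dvd (QuotientGroup.mk' _) y
        · rw [← hk, Subgroup.index_eq_card]; exact orderOf_dvd_natCard _
      exact (Subgroup.zpowers_le.mpr hxc) hyz
    have hle : Subgroup.normalizer ((P : Subgroup X) : Set X) ≤
        Subgroup.centralizer ((P : Subgroup X) : Set X) := fun g _ =>
      Subgroup.mem_centralizer_iff.mpr fun h hh => (Subgroup.mem_center_iff.mp (hPc hh) g).symm
    set T := MonoidHom.transferSylow P hle with hT
    refine ⟨T.ker, inferInstance, fun y => ⟨fun hy => ?_, fun hy => ?_⟩, ?_⟩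
    · exact not_dvd_orderOf_of_not_dvd_card _ (MonoidHom.not_dvd_card_ker_transferSylow P hle) hy
    · rw [MonoidHom.mem_ker, ← orderOf_eq_one_iff]
      obtain ⟨j, hj⟩ := IsPGroup.iff_orderOf.mp P.isPGroup' (T y)
      refine Nat.eq_one_of_dvd_coprimes (Nat.Coprime.pow_left j (hp.coprime_iff_not_dvd.mpr hy)) ?_
        (orderOf_map_dvd T y)
      rw [hj]
    · obtain ⟨j, hj⟩ := IsPGroup.iff_card.mp P.isPGroup'
      exact ⟨j, hj ▸ (MonoidHom.ker_transferSylow_isComplement' P hle).symm.index_eq_card⟩

variable {G : Type u} [Group G] [Fintype G]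

open scoped Classical in
/-- `p^a` times the indicator function of the `p`-regular elements. -/
noncomputable def regInd (p : ℕ) (g : G) : ℂ :=
  if ¬ p ∣ orderOf g then ((p ^ (Nat.card G).factorization p : ℕ) : ℂ) else 0

theorem regInd_generalized {p : ℕ} (hp : p.Prime) :
    IsGeneralizedCharacter G (regInd (G := G) p) := by
  classical
  refine CfsgLib.Brauer.isGeneralizedCharacter_of_restrictions (fun g h => ?_) fun E q hq hE => ?_
  · simp only [regInd]
    rw [show orderOf (h * g * h⁻¹) = orderOf g from (MulAut.conj h).orderOf_eq g]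
  obtain ⟨K, hK, hmem, j, hj⟩ := exists_regular_subgroup hp hq hE
  haveI := hK
  have hjle : j ≤ (Nat.card G).factorization p := by
    rw [← hp.pow_dvd_iff_le_factorization Nat.card_pos.ne', ← hj]
    exact (Subgroup.index_dvd_card K).trans (Subgroup.card_subgroup_dvd_card E)
  obtain ⟨i, hi⟩ := Nat.exists_eq_add_of_le hjle
  have hchar : IsCharacter E (CfsgLib.Induction.indLinear (H := K) (fun _ => (1 : ℂ))) :=
    CfsgLib.Induction.isCharacter_indFun K CfsgLib.Induction.isCharacter_const_one
  have heq : (fun e : E => regInd p (e : G)) =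
      ((p ^ i : ℕ) : ℂ) • CfsgLib.Induction.indLinear (H := K) (fun _ => (1 : ℂ)) := by
    funext e
    change regInd p (e : G) = ((p ^ i : ℕ) : ℂ) * indFun K (fun _ => (1 : ℂ)) e
    simp only [regInd, Subgroup.orderOf_coe]
    by_cases he : e ∈ K
    · rw [if_pos ((hmem e).mp he)]
      have h1 : indFun K (fun _ => (1 : ℂ)) e = (K.index : ℂ) := by
        have h2 := CfsgLib.Induction.indFun_normal_apply (H := K) (fun _ => (1 : ℂ)) ⟨e, he⟩
        rw [Finset.sum_const, Finset.card_univ, ← Nat.card_eq_fintype_card, nsmul_one] at h2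
        rw [show indFun K (fun _ => (1 : ℂ)) e = _ from h2,
          ← K.index_mul_card, Nat.cast_mul]
        field_simp [(Nat.cast_ne_zero.mpr Nat.card_pos.ne' : (Nat.card K : ℂ) ≠ 0)]
      rw [h1, hj, ← Nat.cast_mul, ← pow_add, hi, add_comm]
    · rw [if_neg (not_not.mpr (not_not.mp (fun h => he ((hmem e).mpr h)))),
        CfsgLib.Induction.indFun_normal_eq_zero (H := K) he, mul_zero]
  rw [heq]
  exact isGeneralizedCharacter_natCast_smul (isGeneralizedCharacter_of_isCharacter hchar) _

end CfsgLib.Contribution
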