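import Cfsg.Agent.Lib.Blocks12.Schur
import Cfsg.Agent.S0867
import Cfsg.Agent.Lib.Characters.Clifford
import Cfsg.Agent.Lib.Characters.Galois
import Cfsg.Agent.Lib.Characters.Values
import Cfsg.Agent.Lib.CharCorr.Basic
import Cfsg.Agent.Lib.Chars17.IrrBasic
import Cfsg.Agent.Lib.Blocks.DualHallHigman
import Cfsg.Agent.Lib.Coprime.SchurZassenhaus
import Cfsg.Agent.Lib.PCore.PSolvable

/-!
The index of `O_p(G)` in a Sylow subgroup of a `p`-solvable linear group: reduction to a
`p`-rational character of `L ⋊ P₀` by canonical extensions, then Schur's bound.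
-/

set_option autoImplicit false

noncomputable section

namespace CfsgLib.PSolvableBound

open Cfsg CfsgLib.Characters CfsgLib.Clifford CfsgLib.CharGalois
open scoped ComplexConjugate

universe u

/-- The determinantal character of a Galois conjugate. -/
theorem detChar_map {T : Type u} [Group T] [Finite T] (σ : ℂ ≃+* ℂ) {χ : T → ℂ}
    (h : IsIrrCharacter T χ) :
    detChar (fun x => σ (χ x)) = fun x => σ (detChar χ x) := by
  obtain ⟨n, ρ, hρ, rfl⟩ := h
  haveI := hρ
  haveI := galoisRep_irreducible σ ρ hρ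
  have e : (fun x => σ (ρ.character x)) = (galoisRep σ ρ).character :=
    funext fun x => (galoisRep_character σ ρ x).symm
  rw [e, CfsgLib.CharExtension.detChar_eq, CfsgLib.CharExtension.detChar_eq]
  funext x
  have hm : LinearMap.toMatrix' (galoisRep σ ρ x) = (LinearMap.toMatrix' (ρ x)).map σ := by
    ext i j
    simp only [LinearMap.toMatrix'_apply, Matrix.map_apply]
    have hsingle : (coordMap σ n).symm (Pi.single j (1 : ℂ)) = Pi.single j (1 : ℂ) := by
      apply (coordMap σ n).injective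
      rw [AddEquiv.apply_symm_apply]
      funext k
      show _ = σ ((Pi.single j (1 : ℂ) : Fin n → ℂ) k)
      by_cases hk : k = j
      · subst hk; simp
      · simp [hk]
    change coordMap σ n (ρ x ((coordMap σ n).symm _)) i = σ _
    rw [hsingle]
    rfl
  beta_reduce
  rw [← LinearMap.det_toMatrix', hm, ← LinearMap.det_toMatrix' (f := ρ x)]
  exact (RingHom.map_det σ.toRingHom _).symm

/-- Galois conjugation preserves the determinantal order. -/
theorem detOrder_map {T : Type u} [Group T] [Finite T] (σ : ℂ ≃+* ℂ) {χ : T → ℂ}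
    (h : IsIrrCharacter T χ) : detOrder (fun x => σ (χ x)) = detOrder χ := by
  unfold Cfsg.detOrder
  rw [detChar_map σ h]
  exact orderOf_injective (σ.toRingHom.toMonoidHom.compLeft T)
    (fun f g hfg => funext fun x => σ.injective (congrFun hfg x)) _

/-- The determinantal order divides the group order. -/
theorem detOrder_dvd {L : Type u} [Group L] [Finite L] {θ : L → ℂ} (hθ : IsIrrCharacter L θ) :
    detOrder θ ∣ Nat.card L := by
  obtain ⟨hdc, hd1⟩ := CfsgLib.CharExtension.isCharacter_detChar (⊤ : Subgroup L)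
    (CfsgLib.CharCorr.isIrrCharacter_comp_equiv hθ (Subgroup.topEquiv (G := L)))
  obtain ⟨l, hl⟩ := CfsgLib.LinearExt.exists_unitsHom hdc hd1
  obtain ⟨n, ρ, hρ, rfl⟩ := hθ
  unfold Cfsg.detOrder
  refine orderOf_dvd_of_pow_eq_one ?_
  rw [CfsgLib.CharExtension.detChar_eq]
  funext x
  rw [Pi.pow_apply, Pi.one_apply, ← map_pow, ← map_pow, pow_card_eq_one', map_one, map_one]

variable {X : Type u} [Group X] [Finite X] {p : ℕ} (L : Subgroup X)

/-- The character of `X` over the orbit of a character of a normal `p'`-subgroup. -/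
theorem orbit_char [Fintype X] [Fintype L] [hL : L.Normal] (hp : p.Prime) (hpL : ¬ p ∣ Nat.card L)
    {a : ℕ} (hidx : L.index = p ^ a) {θ : L → ℂ} (hθ : IsIrrCharacter L θ) :
    ∃ Ψ : X → ℂ, IsCharacter X Ψ ∧
      (∀ l : L, Ψ l = ∑ ψ ∈ (conjOrbit_finite hL θ).toFinset, ψ l) ∧
      ∀ (g : X) (k : ℕ), orderOf g = p ^ k → ∀ m : ℕ, ¬ p ∣ m → Ψ (g ^ m) = Ψ g := by
  classical
  set T := inertia hL θ with hT
  have hLT : L ≤ T := le_inertia hL (isClassFunction_of_isCharacter (isCharacter_of_irr hθ))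
  letI : Fintype T := Fintype.ofFinite T
  let eL := Subgroup.subgroupOfEquivOfLe hLT
  let θ' : (L.subgroupOf T) → ℂ := θ ∘ eL
  have hθ' : IsIrrCharacter (L.subgroupOf T) θ' := CfsgLib.CharCorr.isIrrCharacter_comp_equiv hθ eL
  obtain ⟨d, hd0, hd⟩ := irr_exists_degree hθ'
  have hcard' : Nat.card (L.subgroupOf T) = Nat.card L := Nat.card_congr eL.toEquiv
  obtain ⟨j, -, hj⟩ : ∃ j, j ≤ a ∧ (L.subgroupOf T).index = p ^ j :=
    (Nat.dvd_prime_pow hp).mp (hidx ▸ Subgroup.relIndex_dvd_index_of_le hLT)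
  have hcopL : ∀ e : ℕ, e ∣ Nat.card L → Nat.Coprime (p ^ j) e := fun e he =>
    ((hp.coprime_iff_not_dvd.mpr hpL).pow_left j).coprime_dvd_right he
  have hdL : d ∣ Nat.card L := by
    obtain ⟨m, hm1, -, hm2⟩ := irr_degree_dvd_card (⟨θ', hθ'⟩ : IrrCharacter (L.subgroupOf T))
    rw [← hcard']
    exact (Nat.cast_inj.1 (hm1.symm.trans hd)) ▸ hm2
  have hcop : Nat.Coprime (L.subgroupOf T).index (detOrder θ' * d) := by
    rw [hj]
    exact Nat.Coprime.mul_right (hcopL _ (hcard' ▸ detOrder_dvd hθ')) (hcopL _ hdL)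
  have hinv : ∀ (g : T) (n : L.subgroupOf T), θ' ⟨g * n * g⁻¹,
      (inferInstance : (L.subgroupOf T).Normal).conj_mem (n : T) n.2 g⟩ = θ' n := by
    intro g n
    exact mem_inertia.mp g.2 ⟨((n : T) : X), n.2⟩
  obtain ⟨η, ⟨hη, hηL, hηd⟩, huniq⟩ := Cfsg.Agent.S0867.result (L.subgroupOf T) θ' hθ' hinv d hd hcop
  refine ⟨indFun T η, CfsgLib.Induction.isCharacter_indFun T (isCharacter_of_irr hη), ?_, ?_⟩
  · intro l
    rw [CfsgLib.Induction.indFun_apply]
    have hval : ∀ x : X, Cfsg.extendByZero T η (x⁻¹ * l * x) = conjChar hL θ x⁻¹ l := by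
      intro x
      have hm : x⁻¹ * (l : X) * x ∈ L := by simpa using hL.conj_mem (l : X) l.2 x⁻¹
      rw [CfsgLib.Induction.extendByZero_mem T η (hLT hm)]
      refine (hηL ⟨⟨_, hLT hm⟩, hm⟩).trans ?_
      exact congrArg θ (Subtype.ext (show x⁻¹ * (l : X) * x = x⁻¹ * (l : X) * x⁻¹⁻¹ by rw [inv_inv]))
    simp only [hval]
    rw [Fintype.sum_equiv (Equiv.inv X) (fun x => conjChar hL θ x⁻¹ l) (fun x => conjChar hL θ x l)
      (fun x => by simp)]
    have hfib : ∀ ψ ∈ (conjOrbit_finite hL θ).toFinset,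
        ∑ x ∈ Finset.univ.filter (fun x => conjChar hL θ x = ψ), conjChar hL θ x l =
          (Nat.card T : ℂ) * ψ l := by
      intro ψ hψ
      obtain ⟨g, rfl⟩ := (conjOrbit_finite hL θ).mem_toFinset.1 hψ
      rw [Finset.sum_congr rfl (fun x hx => by rw [(Finset.mem_filter.mp hx).2]), Finset.sum_const,
        nsmul_eq_mul]
      congr 2
      rw [← Fintype.card_subtype, ← Nat.card_eq_fintype_card]
      refine Nat.card_congr
        { toFun := fun x => ⟨x.1 * g⁻¹, show conjChar hL θ (x.1 * g⁻¹) = θ by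
            rw [← conjChar_mul, x.2, conjChar_mul, mul_inv_cancel, conjChar_one]⟩
          invFun := fun t => ⟨t.1 * g, by
            rw [← conjChar_mul, show conjChar hL θ t.1 = θ from t.2]⟩
          left_inv := fun x => Subtype.ext (by simp)
          right_inv := fun t => Subtype.ext (by simp) }
    rw [← Finset.sum_fiberwise_of_maps_to (g := fun x => conjChar hL θ x)
      (t := (conjOrbit_finite hL θ).toFinset)
      (fun x _ => (conjOrbit_finite hL θ).mem_toFinset.2 ⟨x, rfl⟩), Finset.sum_congr rfl hfib,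
      ← Finset.mul_sum, ← mul_assoc, inv_mul_cancel₀ (Nat.cast_ne_zero.mpr Nat.card_pos.ne'),
      one_mul]
  · intro g k hg m hm
    haveI : NeZero (Nat.card X) := ⟨Nat.card_pos.ne'⟩
    set s := (Nat.card X).factorization p
    set t := Nat.card X / p ^ s
    have ht : ¬ p ∣ t := Nat.not_dvd_ordCompl hp Nat.card_pos.ne'
    have hsplit : p ^ s * t = Nat.card X := Nat.ordProj_mul_ordCompl_eq_self _ p
    have hst : (p ^ s).Coprime t := (hp.coprime_iff_not_dvd.mpr ht).pow_left s
    obtain ⟨m', hm1, hm2⟩ := Nat.chineseRemainder hst m 1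
    have hmcop : m'.Coprime (Nat.card X) := by
      rw [← hsplit]
      refine Nat.Coprime.mul_right ?_ (hm2.gcd_eq.trans (by simp))
      exact hm1.gcd_eq.trans ((hp.coprime_iff_not_dvd.mpr hm).pow_left s).symm
    obtain ⟨σ, hσ⟩ := exists_autComplex (Nat.card X) hmcop
    have hLt : Nat.card L ∣ t :=
      Nat.Coprime.dvd_of_dvd_mul_left ((hp.coprime_iff_not_dvd.mpr hpL).symm.pow_right s)
        (hsplit.symm ▸ Subgroup.card_subgroup_dvd_card L)
    have hσT : ∀ x : T, σ (η x) = η (x ^ m') := fun x =>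
      map_char_eq_pow (isCharacter_of_irr hη) σ (fun z hz => hσ z (by
        obtain ⟨e, he⟩ := Subgroup.card_subgroup_dvd_card T
        rw [he, pow_mul, hz, one_pow])) x
    have hσθ : (fun x => σ (η x)) = η := by
      refine huniq _ (isIrrCharacter_map σ hη) (fun n => ?_) ?_
      · rw [hσT]
        have hpow : (n : T) ^ m' = (n : T) := by
          have h1 : orderOf (n : T) ∣ t := by
            rw [Subgroup.orderOf_coe]
            exact ((orderOf_dvd_natCard n).trans hcard'.dvd).trans hLt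
          rw [← pow_mod_orderOf, hm2.of_dvd h1, pow_mod_orderOf, pow_one]
        exact (congrArg η hpow).trans (hηL n)
      · rw [detOrder_map σ hη, hηd]
        exact Nat.Coprime.coprime_dvd_right (dvd_mul_right _ d) hcop
    have hind : σ (indFun T η g) = indFun T η g := by
      rw [CfsgLib.Induction.indFun_apply, map_mul, map_inv₀, map_natCast, map_sum]
      congr 1
      refine Finset.sum_congr rfl fun x _ => ?_
      by_cases hx : x⁻¹ * g * x ∈ T
      · rw [CfsgLib.Induction.extendByZero_mem T η hx]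
        exact congrFun hσθ _
      · rw [CfsgLib.Induction.extendByZero_notMem T η hx, map_zero]
    rw [map_char_eq_pow (CfsgLib.Induction.isCharacter_indFun T (isCharacter_of_irr hη)) σ hσ g] at hind
    rw [← hind]
    congr 1
    have h1 : orderOf g ∣ p ^ s := by
      rw [hg]
      exact pow_dvd_pow p ((hp.pow_dvd_iff_le_factorization Nat.card_pos.ne').mp
        (hg ▸ orderOf_dvd_natCard g))
    exact pow_eq_pow_iff_modEq.mpr (hm1.of_dvd h1).symm

/-- A `p`-rational character over an invariant set of characters of `L`. -/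
theorem sum_char [Fintype X] [Fintype L] [hL : L.Normal] (hp : p.Prime) (hpL : ¬ p ∣ Nat.card L)
    {a : ℕ} (hidx : L.index = p ^ a) (S : Finset (L → ℂ)) (hirr : ∀ ψ ∈ S, IsIrrCharacter L ψ)
    (hclosed : ∀ ψ ∈ S, ∀ g : X, conjChar hL ψ g ∈ S) :
    ∃ Ψ : X → ℂ, IsCharacter X Ψ ∧ (∀ l : L, Ψ l = ∑ ψ ∈ S, ψ l) ∧
      ∀ (g : X) (k : ℕ), orderOf g = p ^ k → ∀ m : ℕ, ¬ p ∣ m → Ψ (g ^ m) = Ψ g := by
  classical
  induction S using Finset.strongInduction with
  | H S ih =>
    rcases S.eq_empty_or_nonempty with rfl | ⟨θ, hθ⟩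
    · exact ⟨0, isCharacter_zero, fun l => by simp, fun _ _ _ _ _ => rfl⟩
    set O := (conjOrbit_finite hL θ).toFinset
    have hOS : O ⊆ S := fun ψ hψ => by
      obtain ⟨g, rfl⟩ := (conjOrbit_finite hL θ).mem_toFinset.1 hψ
      exact hclosed θ hθ g
    have hθO : θ ∈ O := (conjOrbit_finite hL θ).mem_toFinset.2 ⟨1, (conjChar_one hL θ).symm⟩
    obtain ⟨Ψ₁, h1c, h1l, h1m⟩ := orbit_char L hp hpL hidx (hirr θ hθ)
    obtain ⟨Ψ₂, h2c, h2l, h2m⟩ := ih (S \ O) (Finset.sdiff_ssubset hOS ⟨θ, hθO⟩)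
      (fun ψ hψ => hirr ψ (Finset.mem_sdiff.mp hψ).1) (fun ψ hψ g => by
        refine Finset.mem_sdiff.mpr ⟨hclosed ψ (Finset.mem_sdiff.mp hψ).1 g, fun hO => ?_⟩
        obtain ⟨x, hx⟩ := (conjOrbit_finite hL θ).mem_toFinset.1 hO
        refine (Finset.mem_sdiff.mp hψ).2 ((conjOrbit_finite hL θ).mem_toFinset.2 ⟨x * g⁻¹, ?_⟩)
        rw [← conjChar_mul, ← hx, conjChar_mul, mul_inv_cancel, conjChar_one])
    refine ⟨Ψ₁ + Ψ₂, isCharacter_add h1c h2c, fun l => ?_, fun g k hg m hm => ?_⟩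
    · rw [Pi.add_apply, h1l, h2l, add_comm, Finset.sum_sdiff hOS]
    · simp only [Pi.add_apply, h1m g k hg m hm, h2m g k hg m hm]

/-- The bound for a normal `p'`-subgroup of `p`-power index. -/
theorem index_centralizer_le [hL : L.Normal] (hp : p.Prime) (hpL : ¬ p ∣ Nat.card L) {a : ℕ}
    (hidx : L.index = p ^ a) {χ : X → ℂ} (hχ : IsCharacter X χ)
    (hfaith : ∀ l : L, χ l = χ 1 → (l : X) = 1) {n : ℕ} (hn : χ 1 = n) :
    (Subgroup.centralizer (L : Set X)).index.factorization p ≤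
      ∑ i ∈ Finset.range (n + 1), n / ((p - 1) * p ^ i) := by
  classical
  haveI : Fintype X := Fintype.ofFinite X
  haveI : Fintype L := Fintype.ofFinite L
  have hres : IsCharacter L (fun l : L => χ l) := isCharacter_subtype hχ L
  have hcl := isClassFunction_of_isCharacter hχ
  obtain ⟨m, hm, hsum⟩ := exists_mult hres
  set S : Finset (L → ℂ) :=
    Finset.image (fun ψ : IrrCharacter L => (ψ : L → ℂ))
      (Finset.univ.filter (fun ψ : IrrCharacter L => m ψ ≠ 0)) with hS
  have hSirr : ∀ ψ ∈ S, IsIrrCharacter L ψ := fun ψ hψ => by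
    obtain ⟨φ, -, rfl⟩ := Finset.mem_image.mp hψ
    exact φ.2
  have hSmem : ∀ ψ : IrrCharacter L, (ψ : L → ℂ) ∈ S ↔ m ψ ≠ 0 := fun ψ => by
    simp only [hS, Finset.mem_image, Finset.mem_filter, Finset.mem_univ, true_and]
    exact ⟨fun ⟨φ, h1, h2⟩ => Subtype.ext h2 ▸ h1, fun h => ⟨ψ, h, rfl⟩⟩
  obtain ⟨Ψ, hΨ, hΨl, hΨm⟩ := sum_char L hp hpL hidx S hSirr (fun ψ hψ g => by
    obtain ⟨φ, hφ, rfl⟩ := Finset.mem_image.mp hψ
    have h1 := (Finset.mem_filter.mp hφ).2
    refine (hSmem ⟨_, isIrrCharacter_conjChar hL φ.2 g⟩).mpr fun h0 => h1 ?_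
    have h2 := hm ⟨_, isIrrCharacter_conjChar hL φ.2 g⟩
    rw [classInner_res_conjChar hL hcl, hm φ, h0] at h2
    exact_mod_cast h2)
  obtain ⟨N, ρ, rfl⟩ := hΨ
  have hsumS : ∀ l : L, ρ.character l =
      ∑ ψ ∈ Finset.univ.filter (fun ψ : IrrCharacter L => m ψ ≠ 0), (ψ : L → ℂ) l := fun l => by
    rw [hΨl l, hS, Finset.sum_image fun a _ b _ h => Subtype.ext h]
  have hNn : N ≤ n := by
    have e1 := hsumS 1
    have e2 := congrFun hsum 1
    simp only [OneMemClass.coe_one, Representation.char_one, Module.finrank_fin_fun] at e1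
    simp only [Finset.sum_apply, Pi.smul_apply, smul_eq_mul, OneMemClass.coe_one, hn] at e2
    choose d hd0 hd using fun ψ : IrrCharacter L => irr_exists_degree ψ.2
    simp only [hd] at e1 e2
    have h1 : N = ∑ ψ ∈ Finset.univ.filter (fun ψ : IrrCharacter L => m ψ ≠ 0), d ψ := by
      exact_mod_cast e1
    have h2 : n = ∑ ψ : IrrCharacter L, m ψ * d ψ := by exact_mod_cast e2
    rw [h1, h2]
    refine (Finset.sum_le_sum fun ψ hψ => ?_).trans
      (Finset.sum_le_sum_of_subset (Finset.filter_subset _ _))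
    exact Nat.le_mul_of_pos_left _ (Nat.pos_of_ne_zero (Finset.mem_filter.mp hψ).2)
  let K : Subgroup X := (ρ : X →* Module.End ℂ (Fin N → ℂ)).ker
  have hKL : ∀ l : L, (l : X) ∈ K → (l : X) = 1 := by
    intro l hl
    apply hfaith
    have h1 : ρ.character l = ρ.character 1 :=
      (CfsgLib.Chars17.character_eq_one_iff ρ _).mpr (MonoidHom.mem_ker.mp hl)
    have h2 := hsumS l
    have h3 := hsumS 1
    rw [OneMemClass.coe_one] at h3
    rw [h2, h3] at h1
    have hre : ∀ ψ : IrrCharacter L, ((ψ : L → ℂ) l).re ≤ ((ψ : L → ℂ) 1).re := fun ψ => by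
      obtain ⟨d, -, hd⟩ := irr_exists_degree ψ.2
      refine (Complex.re_le_norm _).trans ?_
      refine (norm_le_degree_of_isCharacter (irr_isCharacter ψ) l).trans ?_
      rw [hd, Complex.norm_natCast, Complex.natCast_re]
    have h4 := congrArg Complex.re h1
    simp only [Complex.re_sum] at h4
    have h5 := (Finset.sum_eq_sum_iff_of_le fun ψ _ => hre ψ).mp h4
    have e1 := congrFun hsum l
    have e2 := congrFun hsum 1
    simp only [Finset.sum_apply, Pi.smul_apply, smul_eq_mul, OneMemClass.coe_one] at e1 e2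
    rw [e1, e2]
    refine Finset.sum_congr rfl fun ψ _ => ?_
    rcases eq_or_ne (m ψ) 0 with h0 | h0
    · simp [h0]
    congr 1
    have h6 := h5 ψ (Finset.mem_filter.mpr ⟨Finset.mem_univ _, h0⟩)
    obtain ⟨d, -, hd⟩ := irr_exists_degree ψ.2
    have h7 : ‖(ψ : L → ℂ) l‖ ≤ d := by
      refine (norm_le_degree_of_isCharacter (irr_isCharacter ψ) l).trans ?_
      rw [hd, Complex.norm_natCast]
    rw [hd, Complex.natCast_re] at h6
    rw [hd]
    refine Complex.ext (by rw [h6, Complex.natCast_re]) ?_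
    rw [Complex.natCast_im]
    have h8 : ‖(ψ : L → ℂ) l‖ ^ 2 = ((ψ : L → ℂ) l).re ^ 2 + ((ψ : L → ℂ) l).im ^ 2 := by
      rw [Complex.sq_norm, Complex.normSq_apply]; ring
    have h9 : ((ψ : L → ℂ) l).im ^ 2 ≤ 0 := by
      rw [h6] at h8
      nlinarith [norm_nonneg ((ψ : L → ℂ) l)]
    exact pow_eq_zero_iff two_ne_zero |>.mp (le_antisymm h9 (sq_nonneg _))
  have hKC : K ≤ Subgroup.centralizer (L : Set X) := by
    intro x hx
    refine Subgroup.mem_centralizer_iff.mpr fun l hl => ?_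
    have hK : K.Normal := MonoidHom.normal_ker _
    have h1 : l * x * l⁻¹ * x⁻¹ ∈ K := K.mul_mem (hK.conj_mem x hx l) (K.inv_mem hx)
    have h2 : l * x * l⁻¹ * x⁻¹ ∈ L := by
      have := L.mul_mem hl (hL.conj_mem l⁻¹ (L.inv_mem hl) x)
      rwa [show l * x * l⁻¹ * x⁻¹ = l * (x * l⁻¹ * x⁻¹) by group]
    have h3 := hKL ⟨_, h2⟩ h1
    calc l * x = (l * x * l⁻¹ * x⁻¹) * (x * l) := by group
      _ = x * l := by rw [show l * x * l⁻¹ * x⁻¹ = 1 from h3, one_mul]
  refine le_trans ((Nat.factorization_le_iff_dvd Subgroup.index_ne_zero_of_finite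
    Subgroup.index_ne_zero_of_finite).mpr (Subgroup.index_dvd_of_le hKC) p) ?_
  haveI : K.Normal := MonoidHom.normal_ker _
  let σr : Representation ℂ (X ⧸ K) (Fin N → ℂ) :=
    QuotientGroup.lift K (ρ : X →* Module.End ℂ (Fin N → ℂ)) le_rfl
  have hσr : ∀ x : X, σr.character (QuotientGroup.mk' K x) = ρ.character x := fun x => rfl
  rw [Subgroup.index_eq_card]
  refine le_trans (CfsgLib.SchurBound.exponent_le hp (χ := σr.character) ⟨N, σr, rfl⟩ ?_ (n := N)
    (by simp) ?_) ((Finset.sum_le_sum fun i _ => Nat.div_le_div_right hNn).trans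
      (Finset.sum_le_sum_of_subset (Finset.range_mono (by omega))))
  · intro q hq
    obtain ⟨x, rfl⟩ := QuotientGroup.mk'_surjective K q
    rw [hσr, ← map_one (QuotientGroup.mk' K), hσr, CfsgLib.Chars17.character_eq_one_iff] at hq
    exact (QuotientGroup.eq_one_iff x).mpr (MonoidHom.mem_ker.mpr hq)
  · intro q k hk j hj
    obtain ⟨x, rfl⟩ := QuotientGroup.mk'_surjective K q
    set s := (orderOf x).factorization p
    set t := orderOf x / p ^ s
    have ht : ¬ p ∣ t := Nat.not_dvd_ordCompl hp (orderOf_pos x).ne'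
    have hsplit : p ^ s * t = orderOf x := Nat.ordProj_mul_ordCompl_eq_self _ p
    obtain ⟨e, he1, he2⟩ :=
      Nat.chineseRemainder ((hp.coprime_iff_not_dvd.mpr ht).pow_left s) 1 0
    have hkdvd : p ^ k ∣ p ^ s := by
      refine pow_dvd_pow p ((hp.pow_dvd_iff_le_factorization (orderOf_pos x).ne').mp ?_)
      exact hk ▸ orderOf_map_dvd _ _
    have hq' : QuotientGroup.mk' K (x ^ e) = QuotientGroup.mk' K x := by
      rw [map_pow, ← pow_mod_orderOf, (hk.symm ▸ he1.of_dvd hkdvd :
        e % orderOf (QuotientGroup.mk' K x) = 1 % orderOf (QuotientGroup.mk' K x)),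
        pow_mod_orderOf, pow_one]
    obtain ⟨k', -, hk'⟩ : ∃ k' ≤ s, orderOf (x ^ e) = p ^ k' := by
      refine (Nat.dvd_prime_pow hp).mp (orderOf_dvd_of_pow_eq_one ?_)
      obtain ⟨c, hc⟩ := Nat.modEq_zero_iff_dvd.mp he2
      rw [← pow_mul, hc, show t * c * p ^ s = p ^ s * t * c by ring, hsplit, pow_mul,
        pow_orderOf_eq_one, one_pow]
    rw [← hq', ← map_pow, hσr, hσr]
    exact hΨm _ k' hk' j hj

/-- The bound on the `p`-part of the index of `O_p(G)`. -/
theorem index_pCore_le {G : Type u} [Group G] [Finite G] (hp : p.Prime) (hsolv : IsPSolvable p G)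
    {χ : G → ℂ} (hχ : IsCharacter G χ) (hfaith : ∀ g : G, χ g = χ 1 → g = 1) {n : ℕ}
    (hn : χ 1 = n) :
    (pCore p G).index.factorization p ≤ ∑ i ∈ Finset.range (n + 1), n / ((p - 1) * p ^ i) := by
  classical
  haveI := Fact.mk hp
  set Q := pCore p G with hQ
  have hQp : IsPGroup p Q := CfsgLib.PCore.pCore_isPGroup
  set f := QuotientGroup.mk' Q with hf
  have hf_surj : Function.Surjective f := QuotientGroup.mk'_surjective Q
  set Lb := pPrimeCore p (G ⧸ Q) with hLb
  have hcent : Subgroup.centralizer (Lb : Set (G ⧸ Q)) ≤ Lb :=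
    CfsgLib.DualHallHigman.centralizer_pPrimeCore_le (CfsgLib.PCore.isPSolvable_quotient hsolv Q)
      CfsgLib.PCore.pCore_quotient_pCore
  set K := Lb.comap f with hK
  have hQK : Q ≤ K := fun x hx => by
    rw [hK, Subgroup.mem_comap, show f x = 1 from (QuotientGroup.eq_one_iff x).2 hx]
    exact Lb.one_mem
  haveI : (Q.subgroupOf K).Normal := inferInstance
  obtain ⟨b, hb⟩ := IsPGroup.iff_card.1 hQp
  have hcQ : Nat.card (Q.subgroupOf K) = p ^ b := by
    rw [Nat.card_congr (Subgroup.subgroupOfEquivOfLe hQK).toEquiv, hb]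
  have hidxQ : (Q.subgroupOf K).index = Nat.card Lb := by
    have h1 := (Q.subgroupOf K).card_mul_index
    rw [hcQ, hK, CfsgLib.PCore.card_comap_mk', hb] at h1
    exact Nat.eq_of_mul_eq_mul_left (pow_pos hp.pos b) h1
  have hLbp : ¬ p ∣ Nat.card Lb := CfsgLib.PCore.not_dvd_card_pPrimeCore
  have hcop : (Nat.card (Q.subgroupOf K)).Coprime (Q.subgroupOf K).index := by
    rw [hcQ, hidxQ]
    exact (hp.coprime_iff_not_dvd.mpr hLbp).pow_left b
  obtain ⟨L₀, hL₀⟩ := Subgroup.exists_right_complement'_of_coprime hcop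
  have hL₀card : Nat.card L₀ = (Q.subgroupOf K).index := hL₀.symm.index_eq_card.symm
  set L := L₀.map K.subtype with hL
  have hLcard : Nat.card L = Nat.card Lb := by
    rw [hL, Subgroup.card_map_of_injective K.subtype_injective, hL₀card, hidxQ]
  have hLK : L ≤ K := Subgroup.map_subtype_le _
  have hLQ : ∀ x ∈ L, x ∈ Q → x = 1 := by
    rintro _ ⟨y, hy, rfl⟩ hxQ
    have := hL₀.disjoint.le_bot ⟨show y ∈ Q.subgroupOf K from hxQ, hy⟩
    rw [Subgroup.mem_bot] at this
    simp [this]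
  have hKmul : ∀ k ∈ K, ∃ q ∈ Q, ∃ l ∈ L, q * l = k := by
    intro k hk
    obtain ⟨⟨q, l⟩, hql⟩ := hL₀.2 ⟨k, hk⟩
    exact ⟨((q : K) : G), q.2, ((l : K) : G), ⟨l, l.2, rfl⟩, congrArg Subtype.val hql⟩
  have himg : L.map f = Lb := by
    refine le_antisymm (Subgroup.map_le_iff_le_comap.2 (hK ▸ hLK)) fun y hy => ?_
    obtain ⟨x, rfl⟩ := hf_surj y
    obtain ⟨q, hq, l, hl, rfl⟩ := hKmul x hy
    refine ⟨l, hl, ?_⟩
    rw [map_mul, show f q = 1 from (QuotientGroup.eq_one_iff q).2 hq, one_mul]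
  haveI : Group.IsNilpotent (Q.subgroupOf K) :=
    (hQp.comap_of_injective K.subtype K.subtype_injective).isNilpotent
  -- Frattini argument
  set N := Subgroup.normalizer (L : Set G)
  have hsurj : Function.Surjective (f.comp N.subtype) := by
    intro y
    obtain ⟨g, rfl⟩ := hf_surj y
    haveI : K.Normal := (inferInstance : Lb.Normal).comap f
    let c : K →* K := (MulAut.conjNormal g : MulAut K).toMonoidHom
    have hcinj : Function.Injective c := (MulAut.conjNormal g : MulAut K).injective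
    have hcard : Nat.card (L₀.map c) = (Q.subgroupOf K).index := by
      rw [Subgroup.card_map_of_injective hcinj, hL₀card]
    obtain ⟨k, hk, hkL⟩ := CfsgLib.Coprime.conj_complement_of_card (Q.subgroupOf K) hcop
      (Or.inl inferInstance) (L₀.map c) L₀ hcard hL₀card
    have hkeep : ∀ x ∈ L, ((k : G) * g) * x * ((k : G) * g)⁻¹ ∈ L := by
      rintro _ ⟨z, hz, rfl⟩
      have hm : MulAut.conj k (c z) ∈ L₀ := by
        rw [← hkL]
        exact Subgroup.smul_mem_pointwise_smul _ _ _ (Subgroup.mem_map_of_mem c hz)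
      refine ⟨_, hm, ?_⟩
      simp only [MulAut.conj_apply, Subgroup.coe_subtype, Subgroup.coe_mul, Subgroup.coe_inv, c,
        MulEquiv.coe_toMonoidHom, MulAut.conjNormal_apply]
      group
    refine ⟨⟨(k : G) * g, ?_⟩, ?_⟩
    · rw [Subgroup.mem_normalizer_iff]
      intro x
      refine ⟨fun hx => hkeep x hx, fun hx => ?_⟩
      let φ : L → L := fun z => ⟨_, hkeep z.1 z.2⟩
      have hφ : Function.Injective φ := fun a b h => Subtype.ext
        ((MulAut.conj ((k : G) * g)).injective (congrArg Subtype.val h))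
      obtain ⟨z, hz⟩ := (Finite.injective_iff_surjective.mp hφ) ⟨_, hx⟩
      have := (MulAut.conj ((k : G) * g)).injective (congrArg Subtype.val hz)
      exact this ▸ z.2
    · simp only [MonoidHom.comp_apply, Subgroup.coe_subtype, map_mul,
        show f (k : G) = 1 from (QuotientGroup.eq_one_iff _).2 hk, one_mul]
  -- a Sylow subgroup normalising `L`
  obtain ⟨P₀⟩ : Nonempty (Sylow p N) := inferInstance
  set P := (P₀ : Subgroup N).map N.subtype with hP
  let Pbar := P₀.mapSurjective hsurj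
  set X := L ⊔ P with hX
  have hPN : P ≤ N := Subgroup.map_subtype_le _
  have hXN : X ≤ N := sup_le Subgroup.le_normalizer hPN
  haveI : (L.subgroupOf X).Normal := Subgroup.normal_subgroupOf_of_le_normalizer hXN
  have hLX : L ≤ X := le_sup_left
  have hidx : ∃ a, (L.subgroupOf X).index = p ^ a := by
    obtain ⟨c, hc⟩ := IsPGroup.iff_card.1 (P₀.isPGroup'.map N.subtype)
    have hPX : P ≤ X := le_sup_right
    have htop : L.subgroupOf X ⊔ P.subgroupOf X = ⊤ := by
      rw [← Subgroup.subgroupOf_sup hLX hPX, Subgroup.subgroupOf_self]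
    have h1 : (L.subgroupOf X).index = (L.subgroupOf X).relIndex (P.subgroupOf X) := by
      rw [← Subgroup.relIndex_sup_left, htop, Subgroup.relIndex_top_right]
    have hcP : Nat.card (P.subgroupOf X) = p ^ c :=
      (Nat.card_congr (Subgroup.subgroupOfEquivOfLe hPX).toEquiv).trans hc
    obtain ⟨e, -, he⟩ := (Nat.dvd_prime_pow hp).mp (hcP ▸ Subgroup.relIndex_dvd_card (L.subgroupOf X) (P.subgroupOf X))
    exact ⟨e, h1.trans he⟩
  obtain ⟨a, ha⟩ := hidx
  have hpL : ¬ p ∣ Nat.card (L.subgroupOf X) := by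
    rw [Nat.card_congr (Subgroup.subgroupOfEquivOfLe hLX).toEquiv, hLcard]
    exact hLbp
  have hmain := index_centralizer_le (L.subgroupOf X) hp hpL ha
    (isCharacter_subtype hχ X) (fun l hl => Subtype.ext (hfaith _ hl)) (n := n) hn
  refine le_trans ?_ hmain
  set C := Subgroup.centralizer ((L.subgroupOf X : Subgroup X) : Set X)
  let F : X →* G ⧸ Q := f.comp X.subtype
  have hFC : C.map F ≤ Lb := by
    rintro _ ⟨c, hc, rfl⟩
    refine hcent (Subgroup.mem_centralizer_iff.mpr fun y hy => ?_)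
    rw [← himg] at hy
    obtain ⟨l, hl, rfl⟩ := hy
    have h1 := Subgroup.mem_centralizer_iff.mp hc ⟨l, hLX hl⟩ hl
    have h2 : l * (c : G) = (c : G) * l := congrArg Subtype.val h1
    change f l * f (c : G) = f (c : G) * f l
    rw [← map_mul, ← map_mul, h2]
  set R := F.range
  have hpR : p ^ Q.index.factorization p ∣ Nat.card R := by
    rw [show Q.index = Nat.card (G ⧸ Q) from rfl, ← Pbar.card_eq_multiplicity]
    refine Subgroup.card_dvd_of_le ?_
    rw [Sylow.coe_mapSurjective]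
    rintro _ ⟨x, hx, rfl⟩
    exact ⟨⟨(x : G), le_sup_right (a := L) ⟨x, hx, rfl⟩⟩, rfl⟩
  have hCR : C.map F ≤ R := Subgroup.map_le_range F C
  have h3 : Nat.card (C.map F) * ((C.map F).relIndex R) = Nat.card R := by
    rw [← Subgroup.relIndex_bot_left, ← Subgroup.relIndex_bot_left]
    exact Subgroup.relIndex_mul_relIndex _ _ _ bot_le hCR
  have hnd : ¬ p ∣ Nat.card (C.map F) := fun h => hLbp (h.trans (Subgroup.card_dvd_of_le hFC))
  rw [← h3] at hpR
  have h4 := Nat.Coprime.dvd_of_dvd_mul_left ((hp.coprime_iff_not_dvd.mpr hnd).pow_left _) hpR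
  have h5 : (C.map F).relIndex R ∣ C.index := by
    rw [show R = Subgroup.map F ⊤ from MonoidHom.range_eq_map F, Subgroup.relIndex_map_map,
      top_sup_eq, Subgroup.relIndex_top_right]
    exact Subgroup.index_dvd_of_le le_sup_left
  exact (hp.pow_dvd_iff_le_factorization Subgroup.index_ne_zero_of_finite).mp (h4.trans h5)

end CfsgLib.PSolvableBound
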