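import Cfsg.Agent.Lib.Blocks12.PrimeDegrees
import Cfsg.Agent.Lib.Characters.LinearTwist
import Cfsg.Agent.Lib.Characters.Ramified
import Cfsg.Agent.Lib.Spectrum.Solvable

/-!
A group whose nonlinear irreducible degrees are all prime has at most two of them.
-/

set_option autoImplicit false
set_option linter.style.haveILetI false

noncomputable section

namespace CfsgLib.PrimeDegreesThree

open Cfsg CfsgLib.Characters CfsgLib.Clifford
open scoped ComplexConjugate

universe u

variable {G : Type u} [Group G] [Finite G]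

/-- A linear twist fixing an irreducible character of degree `t` has order dividing `t`. -/
theorem pow_degree_eq_one {ψ : IrrCharacter G} (ν : G →* ℂˣ)
    (h : ∀ g, (ψ : G → ℂ) g * (ν g : ℂ) = (ψ : G → ℂ) g) (g : G) :
    ν g ^ charDegree (ψ : G → ℂ) = 1 := by
  obtain ⟨_, n, ρ, hρ, rfl⟩ := ψ
  haveI := hρ
  have hn : charDegree ρ.character = n := by simp [charDegree, Representation.char_one]
  change ν g ^ charDegree ρ.character = 1
  rw [hn]
  let σ : Representation ℂ G (Fin n → ℂ) :=
    { toFun := fun g => (ν g : ℂ) • ρ g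
      map_one' := by simp
      map_mul' := fun a b => by
        rw [map_mul, map_mul, Units.val_mul, smul_mul_smul_comm] }
  have hσ : σ.character = ρ.character := by
    funext g
    change LinearMap.trace ℂ _ ((ν g : ℂ) • ρ g) = _
    rw [map_smul, smul_eq_mul, mul_comm]
    exact h g
  obtain ⟨T, hT⟩ := CfsgLib.CharExtension.exists_unit_conj ρ σ hσ
  have h1 := congrArg LinearMap.det (hT g)
  change LinearMap.det (T.1 * ρ g) = LinearMap.det (((ν g : ℂ) • ρ g) * T.1) at h1
  rw [map_mul, map_mul, LinearMap.det_smul, Module.finrank_fin_fun] at h1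
  have hTu : IsUnit (LinearMap.det T.1) := T.isUnit.map LinearMap.det
  have hgu : IsUnit (LinearMap.det (ρ g)) :=
    (IsUnit.map ρ (Group.isUnit g)).map LinearMap.det
  apply Units.ext
  rw [Units.val_pow_eq_pow_val, Units.val_one]
  refine mul_right_cancel₀ (mul_ne_zero hgu.ne_zero hTu.ne_zero) ?_
  rw [one_mul, ← mul_assoc, ← h1, mul_comm]

variable (N : Subgroup G) [hN : N.Normal]

/-- Over a normal subgroup of prime index, an invariant linear character has only linear
characters above it. -/
theorem linear_of_invariant_linear [Fintype N] (hs : N.index.Prime) (χ : IrrCharacter G)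
    (θ : IrrCharacter N) (lam : N →* ℂˣ) (hlam : (θ : N → ℂ) = fun n => (lam n : ℂ))
    (hinv : ∀ g : G, conjChar hN (θ : N → ℂ) g = θ)
    (hcon : classInner (fun n : N => (χ : G → ℂ) n) (θ : N → ℂ) ≠ 0) :
    charDegree (χ : G → ℂ) = 1 := by
  classical
  haveI := Fintype.ofFinite G
  obtain ⟨_, d, ρ, hρ, rfl⟩ := χ
  haveI := hρ
  have hd : charDegree ρ.character = d := by simp [charDegree, Representation.char_one]
  change charDegree ρ.character = 1
  rw [hd]
  have hres := CfsgLib.Ramified.res_eq_smul_of_invariant N ⟨d, ρ, hρ, rfl⟩ θ.2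
    (fun g n => congrFun (hinv g) n) hcon
  set e := classInner (fun n : N => ρ.character n) (θ : N → ℂ)
  have he : e = (d : ℂ) := by
    have := congrFun hres 1
    simpa [hlam, Representation.char_one] using this.symm
  have hscalN : ∀ n ∈ N, ∃ c : ℂ, ρ n = c • (LinearMap.id : (Fin d → ℂ) →ₗ[ℂ] _) := by
    intro n hn
    refine (norm_char_eq_iff_scalar ρ n).mp ?_
    have hv : ρ.character n = e * (lam ⟨n, hn⟩ : ℂ) := by
      have := congrFun hres ⟨n, hn⟩
      simpa [hlam] using this
    have hl : ‖(lam ⟨n, hn⟩ : ℂ)‖ = 1 := by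
      refine Complex.norm_eq_one_of_pow_eq_one (n := Nat.card N) ?_ Nat.card_pos.ne'
      rw [← Units.val_pow_eq_pow_val, ← map_pow, pow_card_eq_one', map_one, Units.val_one]
    rw [hv, he, norm_mul, hl, mul_one, Complex.norm_natCast, Module.finrank_fin_fun]
  obtain ⟨g, hg⟩ : ∃ g, g ∉ N := by
    by_contra hall
    push Not at hall
    exact hs.one_lt.ne' (Subgroup.index_eq_one.mpr ((Subgroup.eq_top_iff' N).mpr hall))
  let K : Subgroup G :=
    { carrier := {x | Commute (ρ g) (ρ x)}
      one_mem' := by simp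
      mul_mem' := fun {a b} (ha : Commute _ _) (hb : Commute _ _) => by
        show Commute _ _
        rw [map_mul]
        exact ha.mul_right hb
      inv_mem' := fun {a} (ha : Commute _ _) => by
        show Commute _ _
        let u := ρ.asGroupHom a
        have hu : (u : Module.End ℂ (Fin d → ℂ)) = ρ a := rfl
        have hi : ((u⁻¹ : (Module.End ℂ (Fin d → ℂ))ˣ) : Module.End ℂ (Fin d → ℂ)) = ρ a⁻¹ := by
          simp only [u, ← map_inv]; rfl
        rw [← hi]
        exact (hu.symm ▸ ha : Commute (ρ g) (u : Module.End ℂ (Fin d → ℂ))).units_inv_right }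
  have hle : N ≤ K := fun n hn => by
    obtain ⟨c, hc⟩ := hscalN n hn
    show Commute _ _
    rw [hc]
    exact (Commute.one_right _).smul_right c
  have hK : ∀ x, Commute (ρ g) (ρ x) := by
    rcases (Nat.dvd_prime hs).mp (Subgroup.index_dvd_of_le hle) with h | h
    · exact fun x => ((Subgroup.eq_top_iff' K).mp (Subgroup.index_eq_one.mp h) x : x ∈ K)
    · have hKN : K ≤ N := by
        rw [← Subgroup.relIndex_eq_one]
        exact mul_right_cancel₀ hs.ne_zero (by
          have h2 := Subgroup.relIndex_mul_index hle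
          rw [h] at h2
          rw [one_mul, h2])
      exact absurd (hKN (show g ∈ K from Commute.refl _)) hg
  obtain ⟨c, hc⟩ := CfsgLib.CharExtension.exists_scalar_of_commute ρ (ρ g) (fun x => hK x)
  let S : Subgroup G :=
    { carrier := {x | ∃ c : ℂ, ρ x = c • (1 : Module.End ℂ (Fin d → ℂ))}
      one_mem' := ⟨1, by simp⟩
      mul_mem' := by
        rintro a b ⟨x, hx⟩ ⟨y, hy⟩
        exact ⟨x * y, by rw [map_mul, hx, hy, smul_mul_smul_comm, mul_one]⟩
      inv_mem' := by
        rintro a ⟨x, hx⟩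
        refine ⟨x⁻¹, ?_⟩
        rcases eq_or_ne x 0 with rfl | hx0
        · have h1 : ρ a⁻¹ * ρ a = 1 := by rw [← map_mul, inv_mul_cancel, map_one]
          rw [hx, zero_smul, mul_zero] at h1
          rw [inv_zero, zero_smul, ← mul_one (ρ a⁻¹), ← h1, mul_zero]
        have h1 : ρ a⁻¹ * ρ a = 1 := by rw [← map_mul, inv_mul_cancel, map_one]
        rw [hx, mul_smul_comm, mul_one] at h1
        rw [← h1, inv_smul_smul₀ hx0] }
  have hS : S = ⊤ := by
    rcases (Nat.dvd_prime hs).mp (Subgroup.index_dvd_of_le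
      (show N ≤ S from fun n hn => hscalN n hn)) with h | h
    · exact Subgroup.index_eq_one.mp h
    · have hSN : S ≤ N := by
        rw [← Subgroup.relIndex_eq_one]
        exact mul_right_cancel₀ hs.ne_zero (by
          have h2 := Subgroup.relIndex_mul_index (show N ≤ S from fun n hn => hscalN n hn)
          rw [h] at h2
          rw [one_mul, h2])
      exact absurd (hSN (show g ∈ S from ⟨c, by rw [hc, Algebra.algebraMap_eq_smul_one]⟩)) hg
  have := CfsgLib.CharScalar.finrank_dvd_index ρ (⊤ : Subgroup G) fun z _ =>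
    (Subgroup.eq_top_iff' S).mp hS z
  rw [Subgroup.index_top, Module.finrank_fin_fun] at this
  exact Nat.dvd_one.mp this

/-- The induction. -/
theorem exists_two : ∀ (M : ℕ) (G : Type u) [Group G] [Finite G], Nat.card G ≤ M →
    (∀ χ : IrrCharacter G, charDegree (χ : G → ℂ) ≠ 1 → (charDegree (χ : G → ℂ)).Prime) →
    ∃ a b : ℕ, ∀ χ : IrrCharacter G, charDegree (χ : G → ℂ) = 1 ∨
      charDegree (χ : G → ℂ) = a ∨ charDegree (χ : G → ℂ) = b := by
  intro M
  induction M with
  | zero => intro G _ _ hM; exact absurd Nat.card_pos (by omega : ¬ 0 < Nat.card G)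
  | succ M ih =>
    intro G _ _ hM h
    classical
    haveI := Fintype.ofFinite G
    rcases subsingleton_or_nontrivial G with hsub | hnt
    · refine ⟨1, 1, fun χ => Or.inl ?_⟩
      have := (CfsgLib.ClassCount.degree_eq χ).2.1
      rw [Nat.card_unique] at this
      exact Nat.dvd_one.mp this
    obtain ⟨N, hN, hs⟩ := CfsgLib.Spectrum.exists_normal_prime_index G
      (CfsgLib.PrimeDegrees.isSolvable (Nat.card G) G le_rfl h)
    haveI := hN
    haveI := Fintype.ofFinite N
    have hNh : ∀ θ : IrrCharacter N, charDegree (θ : N → ℂ) ≠ 1 →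
        (charDegree (θ : N → ℂ)).Prime := by
      intro θ hθ
      obtain ⟨χ, hd⟩ := ItoMichler.exists_degree_dvd N θ
      have hne : charDegree (χ : G → ℂ) ≠ 1 := fun h1 => hθ (Nat.dvd_one.mp (h1 ▸ hd))
      rcases (Nat.dvd_prime (h χ hne)).mp hd with h1 | h1
      · exact absurd h1 hθ
      · exact h1 ▸ h χ hne
    have hlt : Nat.card N < Nat.card G := by
      have h1 := N.card_mul_index
      have h2 := hs.two_le
      have h3 : 0 < Nat.card N := Nat.card_pos
      nlinarith
    obtain ⟨t, u, htu⟩ := ih N (by omega) hNh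
    set s := N.index
    -- a character of `G` has the degree of a constituent, or is of degree `s` over a linear one
    have hstep : ∀ χ : IrrCharacter G, ∀ θ : IrrCharacter N,
        classInner (fun n : N => (χ : G → ℂ) n) (θ : N → ℂ) ≠ 0 →
        charDegree (χ : G → ℂ) = charDegree (θ : N → ℂ) ∨
        charDegree (χ : G → ℂ) = s ∧ charDegree (θ : N → ℂ) = 1 := by
      intro χ θ hcon
      obtain ⟨k, hk, hks⟩ := CfsgLib.Ramified.degree_ratio_dvd_index N χ.2 θ.2 hcon
      rw [(CfsgLib.ClassCount.degree_eq χ).1, (CfsgLib.ClassCount.degree_eq θ).1,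
        ← Nat.cast_mul, Nat.cast_inj] at hk
      rcases (Nat.dvd_prime hs).mp hks with rfl | rfl
      · exact Or.inl (hk.trans (one_mul _))
      · refine Or.inr ?_
        have hp : (charDegree (χ : G → ℂ)).Prime := h χ fun h1 => by
          rw [h1] at hk
          exact hs.not_dvd_one ⟨_, hk⟩
        rw [hk, Nat.prime_mul_iff] at hp
        rcases hp with ⟨-, h1⟩ | ⟨-, h1⟩
        · exact ⟨by rw [hk, h1, mul_one], h1⟩
        · exact absurd h1 hs.ne_one
    have hcase : ∀ χ : IrrCharacter G, charDegree (χ : G → ℂ) = 1 ∨ charDegree (χ : G → ℂ) = t ∨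
        charDegree (χ : G → ℂ) = u ∨ charDegree (χ : G → ℂ) = s := by
      intro χ
      obtain ⟨θ, hθ⟩ := CfsgLib.NormalRes.exists_mult_ne_zero N χ
      rcases hstep χ θ hθ with he | ⟨he, -⟩
      · rcases htu θ with h1 | h1 | h1
        · exact Or.inl (he.trans h1)
        · exact Or.inr (Or.inl (he.trans h1))
        · exact Or.inr (Or.inr (Or.inl (he.trans h1)))
      · exact Or.inr (Or.inr (Or.inr he))
    -- easy cases
    by_cases hts : t = s
    · exact ⟨s, u, fun χ => by rcases hcase χ with h1 | h1 | h1 | h1 <;> omega⟩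
    by_cases hus : u = s
    · exact ⟨t, s, fun χ => by rcases hcase χ with h1 | h1 | h1 | h1 <;> omega⟩
    by_cases htu' : t = u
    · exact ⟨t, s, fun χ => by rcases hcase χ with h1 | h1 | h1 | h1 <;> omega⟩
    by_cases hnt : ∀ θ : IrrCharacter N, charDegree (θ : N → ℂ) = t → t = 1
    · refine ⟨u, s, fun χ => ?_⟩
      obtain ⟨θ, hθ⟩ := CfsgLib.NormalRes.exists_mult_ne_zero N χ
      rcases hstep χ θ hθ with he | ⟨he, -⟩
      · rcases htu θ with h1 | h1 | h1
        · exact Or.inl (he.trans h1)
        · exact Or.inl (he.trans (h1.trans (hnt θ h1)))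
        · exact Or.inr (Or.inl (he.trans h1))
      · exact Or.inr (Or.inr he)
    by_cases hnu : ∀ θ : IrrCharacter N, charDegree (θ : N → ℂ) = u → u = 1
    · refine ⟨t, s, fun χ => ?_⟩
      obtain ⟨θ, hθ⟩ := CfsgLib.NormalRes.exists_mult_ne_zero N χ
      rcases hstep χ θ hθ with he | ⟨he, -⟩
      · rcases htu θ with h1 | h1 | h1
        · exact Or.inl (he.trans h1)
        · exact Or.inr (Or.inl (he.trans h1))
        · exact Or.inl (he.trans (h1.trans (hnu θ h1)))
      · exact Or.inr (Or.inr he)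
    push Not at hnt hnu
    obtain ⟨ψt, hψt, ht1⟩ := hnt
    obtain ⟨ψu, hψu, hu1⟩ := hnu
    have htp : t.Prime := hψt ▸ hNh ψt (hψt ▸ ht1)
    have hup : u.Prime := hψu ▸ hNh ψu (hψu ▸ hu1)
    -- nonlinear characters of `N` are invariant
    have hinvψ : ∀ ψ : IrrCharacter N, charDegree (ψ : N → ℂ) ≠ 1 →
        ∀ g : G, conjChar hN (ψ : N → ℂ) g = ψ := by
      intro ψ hψ g
      obtain ⟨χ, hχ⟩ := CfsgLib.NormalRes.exists_mult_ne_zero_of_irr N ψ
      obtain ⟨e, he⟩ := CfsgLib.NormalRes.mult_nat N (irr_isCharacter χ) ψ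
      have he' : classInner (fun n : N => (χ : G → ℂ) n) (ψ : N → ℂ) = (e : ℂ) := he
      have hdeg := clifford_degree hN χ.2 ψ.2 hχ
      rw [he', (CfsgLib.ClassCount.degree_eq χ).1, (CfsgLib.ClassCount.degree_eq ψ).1,
        ← Nat.cast_mul, ← Nat.cast_mul, Nat.cast_inj] at hdeg
      have hχ1 : charDegree (χ : G → ℂ) ≠ 1 := fun h1 => by
        rw [h1] at hdeg
        exact hψ (Nat.dvd_one.mp ⟨_, hdeg.trans (mul_comm _ _)⟩)
      have hp := h χ hχ1
      rw [hdeg, Nat.prime_mul_iff] at hp
      rcases hp with ⟨-, h1⟩ | ⟨-, h1⟩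
      · exact absurd h1 hψ
      have hi : inertia hN (ψ : N → ℂ) = ⊤ := Subgroup.index_eq_one.mp (Nat.eq_one_of_mul_eq_one_left h1)
      exact ((Subgroup.eq_top_iff' _).mp hi g : g ∈ inertia hN (ψ : N → ℂ))
    -- linear characters of `N` are invariant
    have hinv1 : ∀ lam : N →* ℂˣ, ∀ g : G, lam.comp (MulAut.conjNormal g).toMonoidHom = lam := by
      intro lam g
      let ν : N →* ℂˣ := lam.comp (MulAut.conjNormal g).toMonoidHom / lam
      suffices key : ∀ ψ : IrrCharacter N, charDegree (ψ : N → ℂ) ≠ 1 →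
          ∀ n, ν n ^ charDegree (ψ : N → ℂ) = 1 by
        ext1 n
        have ha := key ψt (hψt ▸ ht1) n
        have hb := key ψu (hψu ▸ hu1) n
        rw [hψt] at ha
        rw [hψu] at hb
        have hone : ν n = 1 := orderOf_eq_one_iff.mp (Nat.eq_one_of_dvd_coprimes
          ((Nat.coprime_primes htp hup).mpr htu') (orderOf_dvd_of_pow_eq_one ha)
          (orderOf_dvd_of_pow_eq_one hb))
        exact div_eq_one.mp hone
      intro ψ hψ
      refine pow_degree_eq_one ν fun n => ?_
      have htw := CfsgLib.LinearTwist.isIrr_mul_hom ψ.2 lam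
      have hdeg : charDegree (fun n : N => (ψ : N → ℂ) n * (lam n : ℂ)) ≠ 1 := by
        simpa [charDegree] using hψ
      have h1 := congrFun (hinvψ ⟨_, htw⟩ hdeg g) n
      have h2 := congrFun (hinvψ ψ hψ g) n
      simp only [conjChar] at h1 h2
      rw [h2] at h1
      change (ψ : N → ℂ) n * (((lam (MulAut.conjNormal g n) / lam n : ℂˣ)) : ℂ) = _
      have he : MulAut.conjNormal g n = (⟨g * n * g⁻¹, hN.conj_mem _ n.2 g⟩ : N) :=
        Subtype.ext (MulAut.conjNormal_apply g n)
      rw [he, Units.val_div_eq_div_val, mul_div_assoc', h1,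
        mul_div_assoc, div_self (Units.ne_zero _), mul_one]
    refine ⟨t, u, fun χ => ?_⟩
    obtain ⟨θ, hθ⟩ := CfsgLib.NormalRes.exists_mult_ne_zero N χ
    rcases hstep χ θ hθ with he | ⟨-, he⟩
    · rcases htu θ with h1 | h1 | h1
      · exact Or.inl (he.trans h1)
      · exact Or.inr (Or.inl (he.trans h1))
      · exact Or.inr (Or.inr (he.trans h1))
    · obtain ⟨lam, hlam⟩ :=
        CfsgLib.LinearTwist.exists_hom_of_charDegree_one (irr_isCharacter θ) he
      refine Or.inl (linear_of_invariant_linear N hs χ θ lam hlam (fun g => ?_) hθ)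
      funext n
      have h1 : lam (MulAut.conjNormal g n) = lam n := DFunLike.congr_fun (hinv1 lam g) n
      have he' : MulAut.conjNormal g n = (⟨g * n * g⁻¹, hN.conj_mem _ n.2 g⟩ : N) :=
        Subtype.ext (MulAut.conjNormal_apply g n)
      rw [conjChar, hlam]
      show (lam _ : ℂ) = lam n
      rw [← he', h1]

end CfsgLib.PrimeDegreesThree
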