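import Cfsg.Agent.Lib.Blocks12.Basic
import Cfsg.Agent.Lib.Characters.Values

/-! # Faithful principal block characters of degree less than `2p` of perfect groups -/

set_option autoImplicit false

namespace CfsgLib.PrincipalSmall

open Cfsg CfsgLib.Characters
open CfsgLib.Blocks (lRing MemLocalIdeal.mul_left)
open scoped ComplexConjugate

variable {G : Type*} [Group G] [Fintype G] {p : ℕ} [hp : Fact p.Prime] {M : Ideal AlgInt}

theorem char_congr (hM : IsPModular p M) {χ : IrrCharacter G} (hχ : χ ∈ principalBlock M G) {g : G}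
    (hg : ¬ p ∣ (Subgroup.centralizer ({g} : Set G)).index) :
    MemLocalIdeal M (((χ : G → ℂ) g - (χ : G → ℂ) 1) / (χ : G → ℂ) 1) := by
  have h := hχ g
  simp only [centralChar, mul_one, div_one] at h
  have h2 := Blocks.MemLocalIdeal.mul_left hM (Blocks.inv_natCast_mem_lRing hM hg)
    (Blocks.MemLocalIdeal.neg hM h)
  convert h2 using 1
  have h0 : ((Subgroup.centralizer ({g} : Set G)).index : ℂ) ≠ 0 :=
    Nat.cast_ne_zero.mpr Subgroup.index_ne_zero_of_finite
  have h1 := irr_one_ne_zero χ
  field_simp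
  ring

theorem eq_one_of_prime (hM : IsPModular p M) (hperf : commutator G = ⊤) (χ : IrrCharacter G)
    (hχ : χ ∈ principalBlock M G) (hfaith : ∀ g : G, (χ : G → ℂ) g = (χ : G → ℂ) 1 → g = 1)
    (hdeg : charDegree (χ : G → ℂ) < 2 * p) {g : G} {q : ℕ} (hq : q.Prime) (hqp : q ≠ p)
    (hg : orderOf g = q)
    (hidx : ∀ k : ℕ, ¬ p ∣ (Subgroup.centralizer ({g ^ k} : Set G)).index) : False := by
  classical
  have hqd : ¬ p ∣ q := fun h => hqp ((hp.out.eq_one_or_self_of_dvd _ dvd_rfl).elim
    (fun h1 => absurd h1 hp.out.ne_one) (fun _ => ((Nat.prime_dvd_prime_iff_eq hp.out hq).1 h).symm))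
  obtain ⟨N, ρ, hρ, hχρ⟩ := χ.2
  have hN1 : (χ : G → ℂ) 1 = (N : ℂ) := by rw [← hχρ, Representation.char_one]; simp
  have hNdeg : charDegree (χ : G → ℂ) = N := by
    have h := (CfsgLib.ClassCount.degree_eq χ).1
    rw [hN1] at h
    exact_mod_cast h.symm
  have hNpos : 0 < N := hNdeg ▸ (CfsgLib.ClassCount.degree_eq χ).2.2
  have hNC : (N : ℂ) ≠ 0 := Nat.cast_ne_zero.mpr hNpos.ne'
  obtain ⟨c, ω, hω, hc⟩ := exists_eigenbasis ρ g
  rw [hg] at hω
  have hfr : Module.finrank ℂ (Fin N → ℂ) = N := Module.finrank_fin_fun ℂ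
  have hcard : (Finset.univ : Finset (Fin (Module.finrank ℂ (Fin N → ℂ)))).card = N := by
    rw [Finset.card_univ, Fintype.card_fin, hfr]
  have hpow : ∀ k : ℕ, (χ : G → ℂ) (g ^ k) = ∑ i, ω i ^ k := by
    intro k
    rw [← hχρ]
    refine character_eq_sum_of_eigenbasis ρ _ c _ fun i => ?_
    induction k with
    | zero => simp
    | succ k ih => rw [pow_succ', map_mul, Module.End.mul_apply, ih, map_smul, hc, smul_smul, pow_succ]
  have hcong : ∀ k : ℕ, MemLocalIdeal M (((χ : G → ℂ) (g ^ k) - N) / N) := fun k => by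
    have := char_congr hM hχ (hidx k)
    rwa [hN1] at this
  -- nontrivial eigenvalues have multiplicity `p`
  have hmult : ∀ i, ω i ≠ 1 → (Finset.univ.filter fun l => ω l = ω i).card = p := by
    intro i hi
    set w := ω i with hw
    set m := (Finset.univ.filter fun l => ω l = w).card with hm
    have hw0 : w ≠ 0 := fun h => by
      have := hω i; rw [← hw, h, zero_pow hq.ne_zero] at this; exact zero_ne_one this
    have hw1 : w ^ q = 1 := hω i
    have hsum : ∑ k ∈ Finset.range q, (((χ : G → ℂ) (g ^ k) - N) / N) * (w⁻¹) ^ k =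
        (q : ℂ) * m / N := by
      have h0 : ∑ k ∈ Finset.range q, (w⁻¹) ^ k = 0 := by
        rw [geom_sum_eq (by simpa using hi), inv_pow, hw1, inv_one, sub_self, zero_div]
      simp only [div_mul_eq_mul_div, sub_mul, ← Finset.sum_div, Finset.sum_sub_distrib,
        ← Finset.mul_sum, h0, mul_zero, sub_zero, hpow, Finset.sum_mul]
      rw [Finset.sum_comm]
      congr 1
      have h1 : ∀ l, ∑ k ∈ Finset.range q, ω l ^ k * (w⁻¹) ^ k = if ω l = w then (q : ℂ) else 0 := by
        intro l
        simp only [← mul_pow]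
        split_ifs with h
        · simp [h, mul_inv_cancel₀ hw0]
        · rw [geom_sum_eq, mul_pow, hω, inv_pow, hw1, inv_one, mul_one, sub_self, zero_div]
          intro h2
          rw [mul_inv_eq_one₀ hw0] at h2
          exact h h2
      simp only [h1, Finset.sum_ite, Finset.sum_const_zero, add_zero, Finset.sum_const,
        nsmul_eq_mul, hm]
      ring
    have hint : ∀ k : ℕ, MemLocalRing M ((w⁻¹) ^ k) := fun k =>
      Blocks.isIntegral_mem_lRing hM (IsIntegral.pow (IsIntegral.of_pow hq.pos
        (by rw [inv_pow, hw1, inv_one]; exact isIntegral_one)) k)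
    have hI : MemLocalIdeal M ((q : ℂ) * m / N) := by
      rw [← hsum]
      exact Blocks.MemLocalIdeal.sum hM _ fun k _ =>
        Blocks.MemLocalIdeal.mul_right hM (hcong k) (hint k)
    have hI' : MemLocalIdeal M ((m : ℂ) / N) := by
      have := Blocks.MemLocalIdeal.mul_left hM (Blocks.inv_natCast_mem_lRing hM hqd) hI
      convert this using 1
      have : (q : ℂ) ≠ 0 := Nat.cast_ne_zero.mpr hq.ne_zero
      field_simp
    have hmpos : 0 < m := Finset.card_pos.2 ⟨i, Finset.mem_filter.2 ⟨Finset.mem_univ _, rfl⟩⟩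
    have hmN : m ≤ N := hcard ▸ Finset.card_filter_le _ _
    by_cases hpN : p ∣ N
    · exfalso
      have hNp : N = p := by
        obtain ⟨e, he⟩ := hpN
        have : e < 2 := by
          by_contra h
          have : p * 2 ≤ p * e := Nat.mul_le_mul_left p (by omega)
          omega
        interval_cases e <;> omega
      have h1 : MemLocalIdeal M (m : ℂ) := by
        have := Blocks.MemLocalIdeal.mul_left hM (natCast_mem (lRing hM) N) hI'
        rwa [mul_div_cancel₀ _ hNC] at this
      have h2 : p ∣ m := (Blocks.memLocalIdeal_natCast_iff hM m).1 h1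
      have h3 : m = p := le_antisymm (hNp ▸ hmN) (Nat.le_of_dvd hmpos h2)
      rw [h3, hNp, div_self (Nat.cast_ne_zero.mpr hp.out.ne_zero)] at hI'
      exact Blocks.not_memLocalIdeal_one hM hI'
    · have h1 : MemLocalIdeal M (m : ℂ) := by
        have := Blocks.MemLocalIdeal.mul_left hM (natCast_mem (lRing hM) N) hI'
        rwa [mul_div_cancel₀ _ hNC] at this
      obtain ⟨e, he⟩ := (Blocks.memLocalIdeal_natCast_iff hM m).1 h1
      have : e < 2 := by
        by_contra h
        have : p * 2 ≤ p * e := Nat.mul_le_mul_left p (by omega)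
        omega
      interval_cases e <;> omega
  have huniq : ∀ i j, ω i ≠ 1 → ω j ≠ 1 → ω i = ω j := by
    intro i j hi hj
    by_contra hne
    have hd : Disjoint (Finset.univ.filter fun l => ω l = ω i) (Finset.univ.filter fun l => ω l = ω j) :=
      Finset.disjoint_filter.2 fun l _ h1 h2 => hne (h1 ▸ h2)
    have h1 := Finset.card_le_univ (((Finset.univ.filter fun l => ω l = ω i)) ∪
      (Finset.univ.filter fun l => ω l = ω j))
    rw [Finset.card_union_of_disjoint hd, hmult i hi, hmult j hj, Fintype.card_fin, hfr] at h1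
    omega
  by_cases hall : ∀ i, ω i = 1
  · have h1 := hpow 1
    simp only [pow_one, hall, Finset.sum_const, Finset.card_univ, Fintype.card_fin, hfr,
      nsmul_eq_mul, mul_one] at h1
    have := hfaith g (by rw [h1, hN1])
    rw [this, orderOf_one] at hg
    exact hq.ne_one hg.symm
  push Not at hall
  obtain ⟨i, hi⟩ := hall
  have hdet : LinearMap.det (ρ g) = 1 := by
    let D : G →* ℂˣ := MonoidHom.toHomUnits (LinearMap.det.comp ρ)
    have : g ∈ D.ker := Abelianization.commutator_subset_ker D (hperf ▸ Subgroup.mem_top g)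
    have h2 := congrArg Units.val (MonoidHom.mem_ker.1 this)
    simpa [D] using h2
  have hmat : LinearMap.toMatrix c c (ρ g) = Matrix.diagonal ω := by
    ext a l
    rw [LinearMap.toMatrix_apply, hc, map_smul, Finsupp.smul_apply, Module.Basis.repr_self,
      Matrix.diagonal_apply, smul_eq_mul, Finsupp.single_apply]
    by_cases h : a = l
    · subst h; simp
    · simp [h, Ne.symm h]
  rw [← LinearMap.det_toMatrix c, hmat, Matrix.det_diagonal,
    ← Finset.prod_filter_mul_prod_filter_not Finset.univ (fun l => ω l = ω i),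
    Finset.prod_congr rfl (fun l hl => (Finset.mem_filter.1 hl).2), Finset.prod_const, hmult i hi,
    Finset.prod_eq_one (fun l hl => ?_), mul_one] at hdet
  · have h1 : orderOf (ω i) ∣ p := orderOf_dvd_of_pow_eq_one hdet
    have h2 : orderOf (ω i) ∣ q := orderOf_dvd_of_pow_eq_one (hω i)
    have h3 := Nat.dvd_gcd h1 h2
    rw [Nat.coprime_iff_gcd_eq_one.1 ((Nat.coprime_primes hp.out hq).2 hqp.symm),
      Nat.dvd_one, orderOf_eq_one_iff] at h3
    exact hi h3
  · by_contra hne
    exact (Finset.mem_filter.1 hl).2 (huniq l i hne hi)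

end CfsgLib.PrincipalSmall
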