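import Cfsg.Agent.Lib.Blocks12.Bounds
import Cfsg.Agent.Lib.BlockCover.DefectGroup
import Cfsg.Prelude.Def_BlockRank
import Mathlib.RingTheory.PrincipalIdealDomain

/-! # Integral expansion of `p^d` times a regular restriction; blocks of rank one -/

set_option autoImplicit false

namespace CfsgLib.Contribution

open Cfsg CfsgLib.Characters CfsgLib.Blocks
open scoped ComplexConjugate

universe u

variable {G : Type u} [Group G] [Fintype G] {p : ℕ} {M : Ideal AlgInt} [Fintype (ConjClasses G)]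
variable {B : Set (IrrCharacter G)}

omit [Fintype (ConjClasses G)] in
theorem finsum_block_eq {R : Type*} [AddCommMonoid R] (F : IrrCharacter G → R) :
    ∑ᶠ ψ ∈ B, F ψ = ∑ ψ ∈ members B, F ψ :=
  finsum_mem_eq_sum_of_inter_support_eq _ (by ext; simp [mem_members])

/-- `p^d` times the regular part of a combination in the block is such a combination. -/
theorem exists_regular_combination (hM : IsPModular p M) (hB : IsPBlock M B)
    (n : IrrCharacter G → ℤ) :
    ∃ m : IrrCharacter G → ℤ, ∀ g : G,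
      (p : ℂ) ^ blockDefect p B *
          pRegularPart p (fun x => ∑ ψ ∈ members B, (n ψ : ℂ) * (ψ : G → ℂ) x) g =
        ∑ φ ∈ members B, (m φ : ℂ) * (φ : G → ℂ) g := by
  classical
  refine ⟨fun φ => ∑ ψ ∈ members B, n ψ * contribInt p B ψ φ, fun g => ?_⟩
  have h1 : ∀ ψ ∈ members B, (n ψ : ℂ) *
      (if ¬ p ∣ orderOf g then (p : ℂ) ^ blockDefect p B * (ψ : G → ℂ) g else 0) =
      ∑ φ ∈ members B, ((n ψ * contribInt p B ψ φ : ℤ) : ℂ) * (φ : G → ℂ) g := by
    intro ψ hψ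
    rw [expand hM hB (mem_members.1 hψ) g, Finset.mul_sum]
    refine Finset.sum_congr rfl fun φ hφ => ?_
    rw [Int.cast_mul, contribInt_cast hM hB ψ (Finset.mem_filter.1 hφ).2]
    ring
  push_cast at h1 ⊢
  simp only [Finset.sum_mul]
  rw [Finset.sum_comm, ← Finset.sum_congr rfl h1, pRegularPart]
  by_cases hg : IsPRegular p g
  · rw [if_pos hg, Finset.mul_sum]
    refine Finset.sum_congr rfl fun ψ _ => ?_
    rw [if_pos (show ¬ p ∣ orderOf g from hg)]
    ring
  · rw [if_neg hg, mul_zero, Finset.sum_eq_zero]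
    intro ψ _
    rw [if_neg (show ¬ ¬ p ∣ orderOf g from hg), mul_zero]

/-- The structure of a block of rank one. -/
theorem rank_one_structure (hM : IsPModular p M) (hB : IsPBlock M B) (hl : blockRank p B = 1) :
    ∃ (f : IrrCharacter G → ℤ) (d : IrrCharacter G → ℕ),
      (∀ χ ∈ B, ∀ x : G, IsPRegular p x →
        (χ : G → ℂ) x = (d χ : ℂ) * ∑ ψ ∈ members B, (f ψ : ℂ) * (ψ : G → ℂ) x) ∧
      ∑ χ ∈ members B, d χ ^ 2 = p ^ blockDefect p B := by
  classical
  obtain ⟨χ₀, hχ₀, h0, -⟩ := exists_height_zero hM hB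
  have hp1 : IsPRegular p (1 : G) := by
    show ¬ p ∣ orderOf (1 : G); rw [orderOf_one]; exact hM.1.not_dvd_one
  -- proportionality
  have hne : pRegularPart p (χ₀ : G → ℂ) ≠ 0 := fun h => by
    have := congrFun h 1
    rw [Pi.zero_apply, pRegularPart, if_pos hp1] at this
    exact irr_one_ne_zero χ₀ this
  have hprop : ∀ χ ∈ B, ∀ x : G, IsPRegular p x →
      (χ : G → ℂ) x * (χ₀ : G → ℂ) 1 = (χ : G → ℂ) 1 * (χ₀ : G → ℂ) x := by
    intro χ hχ x hx
    set S := Submodule.span ℂ ((fun χ : IrrCharacter G => pRegularPart p (χ : G → ℂ)) '' B)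
    have hmem : ∀ ψ ∈ B, pRegularPart p (ψ : G → ℂ) ∈ S := fun ψ hψ =>
      Submodule.subset_span ⟨ψ, hψ, rfl⟩
    obtain ⟨c, hc⟩ := (finrank_eq_one_iff_of_nonzero' (⟨_, hmem χ₀ hχ₀⟩ : S)
      (fun h => hne (congrArg Subtype.val h))).1 hl ⟨_, hmem χ hχ⟩
    have hc' : ∀ z : G, c * pRegularPart p (χ₀ : G → ℂ) z = pRegularPart p (χ : G → ℂ) z :=
      fun z => congrFun (congrArg Subtype.val hc) z
    have e1 := hc' x
    have e2 := hc' 1
    simp only [pRegularPart, if_pos hx, if_pos hp1] at e1 e2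
    rw [← e1, ← e2]; ring
  -- the greatest common divisor of the degrees
  set D : IrrCharacter G → ℤ := fun χ => (charDegree (χ : G → ℂ) : ℤ) with hD
  obtain ⟨f, hf⟩ := Finset.gcd_eq_sum_mul (members B) D
  set g := (members B).gcd D with hg
  have hdeg : ∀ χ : IrrCharacter G, (χ : G → ℂ) 1 = (D χ : ℂ) := fun χ => by
    rw [(CfsgLib.ClassCount.degree_eq χ).1, hD]; push_cast; rfl
  have hDpos : ∀ χ : IrrCharacter G, 0 < D χ := fun χ => by
    simp only [hD]; exact_mod_cast (CfsgLib.ClassCount.degree_eq χ).2.2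
  have hdvd : ∀ χ ∈ members B, g ∣ D χ := fun χ hχ => Finset.gcd_dvd hχ
  have hgpos : 0 < g := by
    have h1 := Int.nonneg_of_normalize_eq_self (Finset.normalize_gcd (s := members B) (f := D))
    rcases lt_or_eq_of_le h1 with h | h
    · exact h
    · exact absurd (zero_dvd_iff.1 ((h.trans hg.symm).symm ▸ hdvd χ₀ (mem_members.2 hχ₀))) (hDpos χ₀).ne'
  set d : IrrCharacter G → ℕ := fun χ => (D χ / g).toNat with hd
  have hdmul : ∀ χ ∈ members B, (d χ : ℤ) * g = D χ := fun χ hχ => by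
    simp only [hd]
    rw [Int.toNat_of_nonneg (Int.ediv_nonneg (hDpos χ).le hgpos.le), Int.ediv_mul_cancel (hdvd χ hχ)]
  have hbez : ∑ ψ ∈ members B, f ψ * (d ψ : ℤ) = 1 := by
    apply mul_right_cancel₀ hgpos.ne'
    rw [Finset.sum_mul, one_mul]
    conv_rhs => rw [hf]
    refine Finset.sum_congr rfl fun ψ hψ => ?_
    rw [mul_assoc, hdmul ψ hψ]; ring
  set φ : G → ℂ := fun x => ∑ ψ ∈ members B, (f ψ : ℂ) * (ψ : G → ℂ) x with hφ
  have hval : ∀ χ ∈ members B, ∀ x : G, IsPRegular p x → (χ : G → ℂ) x = (d χ : ℂ) * φ x := by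
    intro χ hχ x hx
    have hχ0 : (χ₀ : G → ℂ) 1 ≠ 0 := irr_one_ne_zero χ₀
    have h1 : φ x * (χ₀ : G → ℂ) 1 = (g : ℂ) * (χ₀ : G → ℂ) x := by
      rw [hφ, Finset.sum_mul, hf]
      push_cast
      rw [Finset.sum_mul]
      refine Finset.sum_congr rfl fun ψ hψ => ?_
      rw [mul_assoc, hprop ψ (mem_members.1 hψ) x hx, hdeg]; ring
    apply mul_right_cancel₀ hχ0
    rw [mul_assoc, h1, hprop χ (mem_members.1 hχ) x hx, hdeg, ← hdmul χ hχ]
    push_cast; ring
  refine ⟨f, d, fun χ hχ => hval χ (mem_members.2 hχ), ?_⟩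
  -- the contributions
  set K : ℂ := (p : ℂ) ^ blockDefect p B * (Nat.card G : ℂ)⁻¹ * regSum p φ φ with hK
  have hcon : ∀ χ ∈ members B, ∀ ψ ∈ members B,
      contrib p (blockDefect p B) χ ψ = (d χ : ℂ) * (d ψ : ℂ) * K := by
    intro χ hχ ψ hψ
    simp only [hK, contrib, regSum, Finset.mul_sum]
    refine Finset.sum_congr rfl fun x hx => ?_
    have hx' : IsPRegular p x := (Finset.mem_filter.1 hx).2
    rw [hval χ hχ x hx', hval ψ hψ x hx', map_mul, Complex.conj_natCast]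
    ring
  obtain ⟨z, hz⟩ : ∃ z : ℤ, K = z := by
    refine ⟨∑ χ ∈ members B, ∑ ψ ∈ members B, f χ * f ψ * contribInt p B χ ψ, ?_⟩
    push_cast
    have h1 : ∑ χ ∈ members B, (f χ : ℂ) * (d χ : ℂ) = 1 := by exact_mod_cast hbez
    calc K = (∑ χ ∈ members B, (f χ : ℂ) * (d χ : ℂ)) *
          (∑ ψ ∈ members B, (f ψ : ℂ) * (d ψ : ℂ)) * K := by rw [h1]; ring
      _ = _ := by
        rw [Finset.sum_mul_sum, Finset.sum_mul]
        refine Finset.sum_congr rfl fun χ hχ => ?_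
        rw [Finset.sum_mul]
        refine Finset.sum_congr rfl fun ψ hψ => ?_
        rw [contribInt_cast hM hB χ (mem_members.1 hψ), hcon χ hχ ψ hψ]; ring
  have hint : ∀ χ ∈ members B, ∀ ψ ∈ members B, contribInt p B χ ψ = (d χ : ℤ) * d ψ * z := by
    intro χ hχ ψ hψ
    have h1 := contribInt_cast hM hB χ (mem_members.1 hψ)
    rw [hcon χ hχ ψ hψ, hz] at h1
    exact_mod_cast h1
  have hm0 := mem_members.2 hχ₀
  -- the height zero contribution is prime to `p`
  have hpz : ¬ (p : ℤ) ∣ contribInt p B χ₀ χ₀ := fun h => by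
    have h1 : MemLocalIdeal M ((contribInt p B χ₀ χ₀ : ℤ) : ℂ) := (memLocalIdeal_intCast_iff hM _).2 h
    rw [contribInt_cast hM hB χ₀ hχ₀, contrib_eq hM hB χ₀ hχ₀] at h1
    refine tfac_unit hM hB hχ₀ h0 hχ₀ ?_
    have hu : (red p B χ₀ : ℂ) ≠ 0 := Nat.cast_ne_zero.mpr (red_pos hχ₀).ne'
    rw [show tfac p χ₀ χ₀ = (red p B χ₀ : ℂ)⁻¹ * ((red p B χ₀ : ℂ) * tfac p χ₀ χ₀) by field_simp]
    exact MemLocalIdeal.mul_left hM (inv_natCast_mem_lRing hM h0) h1
  rw [hint χ₀ hm0 χ₀ hm0] at hpz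
  have hrow := contribInt_row hM hB hχ₀
  rw [Finset.sum_congr rfl (fun ψ hψ => show contribInt p B χ₀ ψ ^ 2 =
      ((d χ₀ : ℤ) ^ 2 * z ^ 2) * (d ψ : ℤ) ^ 2 by rw [hint χ₀ hm0 ψ hψ]; ring),
    ← Finset.mul_sum, hint χ₀ hm0 χ₀ hm0] at hrow
  have hd0 : (d χ₀ : ℤ) ≠ 0 := fun h => hpz (by rw [h, zero_mul, zero_mul]; exact dvd_zero _)
  have hz0 : z ≠ 0 := fun h => hpz (by rw [h, mul_zero]; exact dvd_zero _)
  set S : ℤ := ∑ ψ ∈ members B, (d ψ : ℤ) ^ 2 with hS
  have heq : z * S = (p : ℤ) ^ blockDefect p B := by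
    apply mul_left_cancel₀ (mul_ne_zero (pow_ne_zero 2 hd0) hz0)
    linear_combination hrow
  have hcop : IsCoprime z ((p : ℤ) ^ blockDefect p B) :=
    ((Nat.prime_iff_prime_int.1 hM.1).coprime_iff_not_dvd.2
      fun h => hpz (h.mul_left _)).symm.pow_right
  have hz1 : IsUnit z := hcop.isUnit_of_dvd ⟨S, heq.symm⟩
  have hSn : 0 ≤ S := Finset.sum_nonneg fun ψ _ => sq_nonneg _
  have hfin : S = (p : ℤ) ^ blockDefect p B := by
    rcases Int.isUnit_iff.1 hz1 with h | h <;> rw [h] at heq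
    · linarith
    · have : (0 : ℤ) < (p : ℤ) ^ blockDefect p B := by
        have := hM.1.pos
        positivity
      linarith
  rw [hS] at hfin
  exact_mod_cast hfin

end CfsgLib.Contribution
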