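import Cfsg.Agent.Lib.Characters.Galois
import Cfsg.Agent.Lib.Characters.Generalized
import Cfsg.Agent.Lib.Characters.Values
import Cfsg.Agent.Lib.Blk4.Modular
import Cfsg.Agent.Lib.Blocks.LocalRing
import Mathlib.Data.Nat.Factorial.Basic
import Mathlib.Data.Nat.Multiplicity
import Mathlib.Data.Nat.ChineseRemainder

/-!
Schur's bound on the `p`-part of a group with a faithful `p`-rational character.
-/

set_option autoImplicit false

noncomputable section

namespace CfsgLib.SchurBound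

open Cfsg CfsgLib.Characters CfsgLib.CharGalois

universe u

variable {G : Type u} [Group G] [Finite G] {p : ℕ} {χ : G → ℂ}

/-- The values of a `p`-rational character at `p`-elements are fixed by powers prime to `p`. -/
theorem apply_pow_of_adjoin (hp : p.Prime) (hχ : IsCharacter G χ) {r : ℕ} (hr : 0 < r)
    (hpr : ¬ p ∣ r)
    (hval : ∀ g : G, χ g ∈ IntermediateField.adjoin ℚ
      ({Complex.exp (2 * Real.pi * Complex.I / r)} : Set ℂ))
    {g : G} {k : ℕ} (hg : orderOf g = p ^ k) {m : ℕ} (hm : ¬ p ∣ m) : χ (g ^ m) = χ g := by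
  set ζ : ℂ := Complex.exp (2 * Real.pi * Complex.I / r)
  have hζ : IsPrimitiveRoot ζ r := Complex.isPrimitiveRoot_exp r hr.ne'
  have hN0 : r * Nat.card G ≠ 0 := Nat.mul_ne_zero hr.ne' Nat.card_pos.ne'
  have : NeZero (r * Nat.card G) := ⟨hN0⟩
  set s := (r * Nat.card G).factorization p
  set t := r * Nat.card G / p ^ s
  have ht : ¬ p ∣ t := Nat.not_dvd_ordCompl hp hN0
  have hsplit : p ^ s * t = r * Nat.card G := Nat.ordProj_mul_ordCompl_eq_self _ p
  have hcop : (p ^ s).Coprime t := (hp.coprime_iff_not_dvd.mpr ht).pow_left s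
  obtain ⟨m', hm1, hm2⟩ := Nat.chineseRemainder hcop m 1
  have hmcop : m'.Coprime (r * Nat.card G) := by
    rw [← hsplit]
    refine Nat.Coprime.mul_right ?_ (hm2.gcd_eq.trans (by simp))
    exact hm1.gcd_eq.trans ((hp.coprime_iff_not_dvd.mpr hm).pow_left s).symm
  obtain ⟨σ, hσ⟩ := exists_autComplex (r * Nat.card G) hmcop
  have hrt : r ∣ t :=
    Nat.Coprime.dvd_of_dvd_mul_left ((hp.coprime_iff_not_dvd.mpr hpr).symm.pow_right s)
      (hsplit ▸ dvd_mul_right r _)
  have hfix : σ ζ = ζ := by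
    rw [hσ ζ (by rw [pow_mul, hζ.pow_eq_one, one_pow])]
    have h1 : m' ≡ 1 [MOD orderOf ζ] := by
      rw [← hζ.eq_orderOf]; exact hm2.of_dvd hrt
    rw [← pow_mod_orderOf, h1, pow_mod_orderOf, pow_one]
  have hall : ∀ z ∈ IntermediateField.adjoin ℚ ({ζ} : Set ℂ), σ z = z := by
    intro z hz
    induction hz using IntermediateField.adjoin_induction with
    | mem x hx => rw [Set.mem_singleton_iff] at hx; rw [hx, hfix]
    | algebraMap q => rw [eq_ratCast, map_ratCast]
    | add x y _ _ hx hy => rw [map_add, hx, hy]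
    | inv x _ hx => rw [map_inv₀, hx]
    | mul x y _ _ hx hy => rw [map_mul, hx, hy]
  have h2 : χ (g ^ m') = χ g := by
    rw [← map_char_eq_pow hχ σ (fun z hz => hσ z (by rw [mul_comm, pow_mul, hz, one_pow])) g,
      hall _ (hval g)]
  have hord : orderOf g ∣ p ^ s := by
    rw [hg]
    refine pow_dvd_pow p ((hp.pow_dvd_iff_le_factorization hN0).mp ?_)
    exact (hg ▸ orderOf_dvd_natCard g).trans (dvd_mul_left _ r)
  rw [← h2]
  exact congrArg χ (pow_eq_pow_iff_modEq.mpr (hm1.of_dvd hord).symm)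

/-- The values at nontrivial `p`-elements of a faithful character fixed by powers prime to `p`. -/
theorem exists_value (hp : p.Prime) (hχ : IsCharacter G χ) (hfaith : ∀ g : G, χ g = χ 1 → g = 1)
    {n : ℕ} (hn : χ 1 = n) {g : G} {k : ℕ} (hk : orderOf g = p ^ (k + 1))
    (hfix : ∀ m : ℕ, ¬ p ∣ m → χ (g ^ m) = χ g) :
    ∃ j ∈ Finset.Icc 1 (n / (p - 1)), χ g = (n : ℂ) - (p : ℂ) * (j : ℂ) := by
  classical
  obtain ⟨M, hM⟩ := CfsgLib.Blk4.Modular.exists_isPModular p hp
  haveI := hM.2.1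
  letI := Ideal.Quotient.field M
  haveI := CfsgLib.Blocks.charP_residue hM
  haveI := Fact.mk hp
  let C := Subgroup.zpowers g
  let x : C := ⟨g, Subgroup.mem_zpowers g⟩
  obtain ⟨N, z, hz, hd⟩ := exists_root_decomp (isCharacter_comp hχ C.subtype) x
  have hC : Nat.card C = p ^ (k + 1) := by rw [Nat.card_zpowers, hk]
  rw [hC] at hz
  have hd' : ∀ e : ℕ, χ (g ^ e) = ∑ i, z i ^ e := fun e => by
    rw [← hd e]; simp [x]
  have hN : (N : ℂ) = n := by
    rw [← hn, ← pow_zero g, hd' 0]; simp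
  have h1 : χ g = ∑ i, z i := by simpa using hd' 1
  -- rationality
  obtain ⟨q, hq⟩ := exists_rat_char hχ g fun m hm => hfix m fun h => by
    have hpG : p ∣ Nat.card G :=
      (dvd_pow_self p k.succ_ne_zero).trans (hk ▸ orderOf_dvd_natCard g)
    exact hp.not_dvd_one (hm ▸ Nat.dvd_gcd h hpG)
  obtain ⟨c, hc⟩ := exists_int_of_isIntegral_rat (q := q) (hq ▸ isIntegral_of_isCharacter hχ g)
  have hcg : χ g = (c : ℂ) := by rw [hq, ← hc]; push_cast; rfl
  -- congruence
  have hdvd : (p : ℤ) ∣ (n : ℤ) - c := by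
    rw [← CfsgLib.Blocks.intCast_mem_iff hM]
    have hzi : ∀ i, IsIntegral ℤ (z i) := fun i =>
      IsIntegral.of_pow (pow_pos hp.pos (k + 1)) (by rw [hz i]; exact isIntegral_one)
    have heq : (((n : ℤ) - c : ℤ) : AlgInt) = ∑ i, (1 - (⟨z i, hzi i⟩ : AlgInt)) := by
      apply Subtype.ext
      simp [Finset.sum_sub_distrib, ← h1, hcg, hN]
    rw [heq]
    refine M.sum_mem fun i _ => ?_
    rw [← Ideal.Quotient.eq_zero_iff_mem, map_sub, map_one, sub_eq_zero]
    have hpow : (Ideal.Quotient.mk M (⟨z i, hzi i⟩ : AlgInt)) ^ p ^ (k + 1) = 1 := by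
      rw [← map_pow, show (⟨z i, hzi i⟩ : AlgInt) ^ p ^ (k + 1) = 1 from Subtype.ext (hz i), map_one]
    exact ((iterateFrobenius_inj (AlgInt ⧸ M) p (k + 1)) (by
      simp only [iterateFrobenius_def, one_pow, hpow])).symm
  -- strict upper bound
  have hlt : c < n := by
    have h := norm_le_degree_of_isCharacter hχ g
    rw [hn, hcg, Complex.norm_intCast, Complex.norm_natCast] at h
    have h' : c ≤ n := by exact_mod_cast (le_abs_self (c : ℝ)).trans h
    refine lt_of_le_of_ne h' fun he => ?_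
    have hg1 := hfaith g (by rw [hcg, hn, he]; simp)
    rw [hg1, orderOf_one] at hk
    exact (Nat.one_lt_pow k.succ_ne_zero hp.one_lt).ne hk
  -- lower bound
  have geom : ∀ (P : ℕ) (w : ℂ), w ^ P = 1 →
      ∑ e ∈ Finset.range P, w ^ e = if w = 1 then (P : ℂ) else 0 := by
    intro P w hw
    split_ifs with h
    · simp [h]
    · rw [geom_sum_eq h, hw, sub_self, zero_div]
  have hA : ∃ A : ℕ, ∑ e ∈ Finset.range (p ^ (k + 1)), χ (g ^ e) = A := by
    refine ⟨∑ i, if z i = 1 then p ^ (k + 1) else 0, ?_⟩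
    simp only [hd']
    rw [Finset.sum_comm]
    push_cast
    refine Finset.sum_congr rfl fun i _ => ?_
    rw [geom _ _ (hz i)]
    split_ifs <;> simp
  have hB : ∃ B : ℕ, B ≤ n * p ^ k ∧ ∑ e ∈ Finset.range (p ^ k), χ (g ^ (p * e)) = B := by
    refine ⟨∑ i, if z i ^ p = 1 then p ^ k else 0, ?_, ?_⟩
    · have hNn : N = n := by exact_mod_cast hN
      calc (∑ i, if z i ^ p = 1 then p ^ k else 0) ≤ ∑ _i : Fin N, p ^ k :=
            Finset.sum_le_sum fun i _ => by split_ifs <;> simp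
        _ = n * p ^ k := by simp [hNn]
    · simp only [hd']
      rw [Finset.sum_comm]
      push_cast
      refine Finset.sum_congr rfl fun i _ => ?_
      simp only [pow_mul]
      rw [geom _ _ (by rw [← pow_mul, ← pow_succ']; exact hz i)]
      split_ifs <;> simp
  obtain ⟨A, hA⟩ := hA
  obtain ⟨B, hBle, hB⟩ := hB
  have hsplit : (A : ℤ) = ((p : ℤ) ^ (k + 1) - (p : ℤ) ^ k) * c + B := by
    have hpart := (Finset.sum_filter_add_sum_filter_not (Finset.range (p ^ (k + 1)))
      (fun e => p ∣ e) (fun e => χ (g ^ e))).symm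
    have himg : (Finset.range (p ^ (k + 1))).filter (fun e => p ∣ e) =
        (Finset.range (p ^ k)).image (fun e => p * e) := by
      ext e
      simp only [Finset.mem_filter, Finset.mem_range, Finset.mem_image]
      constructor
      · rintro ⟨he, j, rfl⟩
        exact ⟨j, Nat.lt_of_mul_lt_mul_left (a := p) (by rwa [← pow_succ']), rfl⟩
      · rintro ⟨j, hj, rfl⟩
        exact ⟨by rw [pow_succ']; exact Nat.mul_lt_mul_of_pos_left hj hp.pos, dvd_mul_right p j⟩
    rw [himg, Finset.sum_image (fun a _ b _ h => Nat.eq_of_mul_eq_mul_left hp.pos h), hB,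
      Finset.sum_congr rfl (fun e he => (hfix e (Finset.mem_filter.mp he).2).trans hcg),
      Finset.sum_const, hA, nsmul_eq_mul] at hpart
    have hcard : ((Finset.range (p ^ (k + 1))).filter (fun e => ¬ p ∣ e)).card + p ^ k =
        p ^ (k + 1) := by
      have := (Finset.range (p ^ (k + 1))).card_filter_add_card_filter_not (fun e => p ∣ e)
      rw [himg, Finset.card_image_of_injOn (fun a _ b _ h => Nat.eq_of_mul_eq_mul_left hp.pos h),
        Finset.card_range, Finset.card_range] at this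
      omega
    have hcardC : ((((Finset.range (p ^ (k + 1))).filter (fun e => ¬ p ∣ e)).card : ℕ) : ℂ) =
        (p : ℂ) ^ (k + 1) - (p : ℂ) ^ k := by
      rw [eq_sub_iff_add_eq]; exact_mod_cast hcard
    rw [hcardC] at hpart
    have hC' : (((A : ℤ) : ℂ)) = ((((p : ℤ) ^ (k + 1) - (p : ℤ) ^ k) * c + B : ℤ) : ℂ) := by
      push_cast; linear_combination hpart
    exact_mod_cast hC'
  obtain ⟨j, hj⟩ := hdvd
  have hppos : (0 : ℤ) < p := by exact_mod_cast hp.pos
  have hj1 : 1 ≤ j := by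
    rcases le_or_gt j 0 with h | h
    · exfalso
      have := mul_nonpos_of_nonneg_of_nonpos hppos.le h
      omega
    · omega
  have hlow : -(n : ℤ) ≤ ((p : ℤ) - 1) * c := by
    have hP : (0 : ℤ) < (p : ℤ) ^ k := pow_pos hppos k
    have hB' : (B : ℤ) ≤ (n : ℤ) * (p : ℤ) ^ k := by exact_mod_cast hBle
    refine le_of_mul_le_mul_left ?_ hP
    have e1 : (p : ℤ) ^ k * (((p : ℤ) - 1) * c) = ((p : ℤ) ^ (k + 1) - (p : ℤ) ^ k) * c := by
      rw [pow_succ]; ring
    rw [e1]
    nlinarith [Int.natCast_nonneg A]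
  have hbound : j * ((p : ℤ) - 1) ≤ n := by
    have hmul : ((p : ℤ) - 1) * ((p : ℤ) * j) ≤ (n : ℤ) * p := by
      rw [← hj]; nlinarith
    nlinarith
  refine ⟨j.toNat, Finset.mem_Icc.mpr ⟨by omega, ?_⟩, ?_⟩
  · rw [Nat.le_div_iff_mul_le (by have := hp.two_le; omega)]
    zify
    rw [Int.toNat_of_nonneg (by omega), Nat.cast_sub hp.one_le]
    simpa using hbound
  · rw [hcg, show ((j.toNat : ℕ) : ℂ) = ((j : ℤ) : ℂ) by exact_mod_cast Int.toNat_of_nonneg (by omega)]
    have hjc : (n : ℂ) - (c : ℂ) = (p : ℂ) * (j : ℂ) := by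
      have h3 : (((n : ℤ) - c : ℤ) : ℂ) = (((p : ℤ) * j : ℤ) : ℂ) := by rw [hj]
      push_cast at h3; exact h3
    linear_combination -hjc

/-- Schur's bound. -/
theorem exponent_le (hp : p.Prime) (hχ : IsCharacter G χ) (hfaith : ∀ g : G, χ g = χ 1 → g = 1)
    {n : ℕ} (hn : χ 1 = n)
    (hfix : ∀ (g : G) (k : ℕ), orderOf g = p ^ k → ∀ m : ℕ, ¬ p ∣ m → χ (g ^ m) = χ g) :
    (Nat.card G).factorization p ≤ ∑ i ∈ Finset.range (n + 1), n / ((p - 1) * p ^ i) := by
  classical
  haveI := Fact.mk hp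
  set J := n / (p - 1)
  obtain ⟨P⟩ : Nonempty (Sylow p G) := inferInstance
  letI : Fintype (P : Subgroup G) := Fintype.ofFinite _
  let F : ↥(P : Subgroup G) → ℂ :=
    ∏ j ∈ Finset.Icc 1 J, fun x : (P : Subgroup G) => χ (x : G) - ((n : ℂ) - (p : ℂ) * (j : ℂ))
  have hgen : IsGeneralizedCharacter (P : Subgroup G) F := by
    refine Finset.prod_induction _ (IsGeneralizedCharacter (P : Subgroup G))
      (fun a b ha hb => isGeneralizedCharacter_mul ha hb) isGeneralizedCharacter_one fun j _ => ?_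
    have h1 := isGeneralizedCharacter_intCast_smul (isGeneralizedCharacter_one (G := (P : Subgroup G)))
      ((n : ℤ) - (p : ℤ) * j)
    convert isGeneralizedCharacter_sub
      (isGeneralizedCharacter_of_isCharacter (isCharacter_comp hχ (P : Subgroup G).subtype)) h1 using 1
    funext x
    simp
  have hvan : ∀ x : (P : Subgroup G), x ≠ 1 → F x = 0 := by
    intro x hx
    obtain ⟨k, hk⟩ := IsPGroup.iff_orderOf.1 P.isPGroup' x
    obtain ⟨k, rfl⟩ : ∃ k', k = k' + 1 := by
      refine ⟨k - 1, ?_⟩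
      rcases k with _ | k
      · exact absurd (orderOf_eq_one_iff.1 (by rwa [pow_zero] at hk)) hx
      · omega
    rw [← Subgroup.orderOf_coe] at hk
    obtain ⟨j, hj, hval⟩ := exists_value hp hχ hfaith hn hk (hfix _ _ hk)
    simp only [F, Finset.prod_apply]
    exact Finset.prod_eq_zero hj (by rw [hval, sub_self])
  have hF1 : F 1 = ((p ^ J * J.factorial : ℕ) : ℂ) := by
    simp only [F, Finset.prod_apply, OneMemClass.coe_one, hn, sub_sub_cancel]
    rw [Finset.prod_mul_distrib, Finset.prod_const, Nat.card_Icc, Nat.add_sub_cancel,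
      ← Finset.prod_Ico_id_eq_factorial]
    push_cast
    rfl
  obtain ⟨z, hz⟩ := classInner_generalized_int hgen (isGeneralizedCharacter_one (G := (P : Subgroup G)))
  have hdvd : Nat.card (P : Subgroup G) ∣ p ^ J * J.factorial := by
    rw [classInner, Finset.sum_eq_single 1 (fun x _ hx => by simp [hvan x hx]) (by simp),
      Pi.one_apply, map_one, mul_one, hF1, inv_mul_eq_iff_eq_mul₀ (by simp)] at hz
    refine Int.natCast_dvd_natCast.mp ⟨z, ?_⟩
    exact_mod_cast hz
  rw [P.card_eq_multiplicity,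
    hp.pow_dvd_iff_le_factorization (Nat.mul_ne_zero (pow_ne_zero _ hp.ne_zero) J.factorial_ne_zero),
    Nat.factorization_mul (pow_ne_zero _ hp.ne_zero) J.factorial_ne_zero, hp.factorization_pow,
    Finsupp.add_apply, Finsupp.single_eq_same] at hdvd
  have hlog : Nat.log p J < n + 1 :=
    Nat.lt_succ_of_le ((Nat.log_le_self p J).trans (Nat.div_le_self n (p - 1)))
  rw [Nat.factorization_factorial hp hlog] at hdvd
  refine hdvd.trans (le_of_eq ?_)
  rw [Finset.range_eq_Ico, Finset.sum_eq_sum_Ico_succ_bot (Nat.succ_pos n)]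
  simp only [pow_zero, mul_one, zero_add, J]
  congr 1
  exact Finset.sum_congr rfl fun i _ => Nat.div_div_eq_div_mul _ _ _

end CfsgLib.SchurBound
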