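import Cfsg.Agent.Lib.LinGrp.Arcs
import Mathlib

/-!
Blichfeldt: a normal generator of an irreducible group of isometries whose eigenvalues all lie
within distance less than one of one of them is a scalar.
-/

set_option autoImplicit false
set_option linter.style.haveILetI false

noncomputable section

namespace CfsgLib.SixtyDegree

open CfsgLib.LinGrp
open scoped InnerProductSpace ComplexConjugate

universe u v

variable {G : Type u} [Group G] {V : Type v} [NormedAddCommGroup V] [InnerProductSpace ℂ V]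
  [FiniteDimensional ℂ V] {A : G →* (V →L[ℂ] V)}

omit [FiniteDimensional ℂ V] in
theorem norm_sum_sq {ι : Type*} [DecidableEq ι] (s : Finset ι) (f : ι → V)
    (h : ∀ i ∈ s, ∀ j ∈ s, i ≠ j → ⟪f i, f j⟫_ℂ = 0) :
    ‖∑ i ∈ s, f i‖ ^ 2 = ∑ i ∈ s, ‖f i‖ ^ 2 := by
  induction s using Finset.induction_on with
  | empty => simp
  | insert a s ha ih =>
    rw [Finset.sum_insert ha, Finset.sum_insert ha, ← ih fun i hi j hj =>
      h i (Finset.mem_insert_of_mem hi) j (Finset.mem_insert_of_mem hj)]
    have h0 : ⟪f a, ∑ i ∈ s, f i⟫_ℂ = 0 := by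
      rw [inner_sum]
      exact Finset.sum_eq_zero fun i hi => h a (Finset.mem_insert_self _ _) i
        (Finset.mem_insert_of_mem hi) fun e => ha (e ▸ hi)
    rw [pow_two, pow_two, pow_two, norm_add_sq_eq_norm_sq_add_norm_sq_of_inner_eq_zero _ _ h0]

/-- The eigen-component of a vector. -/
def comp (A : G →* (V →L[ℂ] V)) (g : G) (p : ℕ) (μ : ℂ) (w : V) : V :=
  (p : ℂ)⁻¹ • ∑ i ∈ Finset.range p, (μ⁻¹) ^ i • A (g ^ i) w

omit [FiniteDimensional ℂ V] in
theorem comp_eigen {g : G} {p : ℕ} (hg : g ^ p = 1) {μ : ℂ} (hμ : μ ^ p = 1) (hp : p ≠ 0) (w : V) :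
    A g (comp A g p μ w) = μ • comp A g p μ w := by
  have hμ0 : μ ≠ 0 := by rintro rfl; simp [zero_pow hp] at hμ
  rw [comp, map_smul, map_sum, smul_comm μ]
  congr 1
  rw [Finset.smul_sum]
  obtain ⟨q, rfl⟩ : ∃ q, p = q + 1 := ⟨p - 1, by omega⟩
  rw [Finset.sum_range_succ, Finset.sum_range_succ' (fun i => μ • μ⁻¹ ^ i • A (g ^ i) w)]
  congr 1
  · refine Finset.sum_congr rfl fun i _ => ?_
    rw [map_smul, ← apply_mul, ← pow_succ', smul_smul, pow_succ' μ⁻¹, ← mul_assoc,
      mul_inv_cancel₀ hμ0, one_mul]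
  · rw [map_smul, ← apply_mul, ← pow_succ', hg, pow_zero, pow_zero, one_smul]
    congr 1
    rw [inv_pow]
    exact inv_eq_of_mul_eq_one_right (by rw [← pow_succ, hμ])

omit [FiniteDimensional ℂ V] in
theorem sum_comp {g : G} {p : ℕ} (hp : p ≠ 0) {ζ : ℂ} (hζ : IsPrimitiveRoot ζ p) (w : V) :
    ∑ j ∈ Finset.range p, comp A g p (ζ ^ j) w = w := by
  have hz : ∀ i ∈ Finset.range p, ∑ j ∈ Finset.range p, ((ζ ^ j)⁻¹) ^ i =
      if i = 0 then (p : ℂ) else 0 := by
    intro i hi
    split_ifs with h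
    · subst h; simp
    · rw [Finset.sum_congr rfl (fun j _ => show ((ζ ^ j)⁻¹) ^ i = ((ζ ^ i)⁻¹) ^ j by
        rw [inv_pow, inv_pow, ← pow_mul, ← pow_mul, mul_comm])]
      have h1 : (ζ ^ i)⁻¹ ≠ 1 := fun e => h (Nat.eq_zero_of_dvd_of_lt
        ((hζ.pow_eq_one_iff_dvd i).mp (inv_eq_one.mp e)) (Finset.mem_range.mp hi))
      rw [geom_sum_eq h1, inv_pow, ← pow_mul, mul_comm, pow_mul, hζ.pow_eq_one, one_pow, inv_one,
        sub_self, zero_div]
  simp only [comp, ← Finset.smul_sum]
  rw [Finset.sum_comm]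
  simp only [← Finset.sum_smul]
  rw [Finset.sum_congr rfl (fun i hi => by rw [hz i hi])]
  simp [ite_smul, Nat.pos_of_ne_zero hp, apply_one, smul_smul, inv_mul_cancel₀
    (Nat.cast_ne_zero.mpr hp : (p : ℂ) ≠ 0)]

omit [FiniteDimensional ℂ V] in
/-- The displacement by `g` is bounded by the distance to the eigenspace of `lam`. -/
theorem norm_displace_le (hA : IsIso' A) {g : G} {p : ℕ} (hg : g ^ p = 1) (hp : p ≠ 0) {lam : ℂ}
    (hl : lam ^ p = 1) {c : ℝ} (hev : ∀ (v : V) (μ : ℂ), v ≠ 0 → A g v = μ • v → ‖μ - lam‖ ≤ c)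
    (w v : V) (hv : A g v = lam • v) :
    ‖A g w - lam • w‖ ^ 2 ≤ c ^ 2 * ‖w - v‖ ^ 2 := by
  classical
  haveI : NeZero p := ⟨hp⟩
  obtain ⟨ζ, hζ⟩ : ∃ ζ : ℂ, IsPrimitiveRoot ζ p := ⟨_, Complex.isPrimitiveRoot_exp p hp⟩
  set u := w - v with hu
  have hd : A g w - lam • w = A g u - lam • u := by
    rw [hu, map_sub, hv, smul_sub]; abel
  rw [hd]
  set P := fun j => comp A g p (ζ ^ j) u with hP
  have heig : ∀ j, A g (P j) = ζ ^ j • P j := fun j =>
    comp_eigen hg (by rw [← pow_mul, mul_comm, pow_mul, hζ.pow_eq_one, one_pow]) hp u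
  have horth : ∀ i ∈ Finset.range p, ∀ j ∈ Finset.range p, i ≠ j → ⟪P i, P j⟫_ℂ = 0 := by
    intro i hi j hj hij
    by_cases h0 : P i = 0
    · rw [h0, inner_zero_left]
    · exact inner_eq_zero_of_eigen hA g (heig i) (heig j) h0 fun e =>
        hij (hζ.pow_inj (Finset.mem_range.mp hi) (Finset.mem_range.mp hj) e)
  have hdec : A g u - lam • u = ∑ j ∈ Finset.range p, (ζ ^ j - lam) • P j := by
    conv_lhs => rw [← sum_comp (A := A) (g := g) hp hζ u]
    rw [map_sum, Finset.smul_sum, ← Finset.sum_sub_distrib]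
    exact Finset.sum_congr rfl fun j _ => by rw [show comp A g p (ζ ^ j) u = P j from rfl, heig, sub_smul]
  rw [hdec, norm_sum_sq _ _ (fun i hi j hj hij => by
    rw [inner_smul_left, inner_smul_right, horth i hi j hj hij, mul_zero, mul_zero])]
  conv_rhs => rw [← sum_comp (A := A) (g := g) hp hζ u, norm_sum_sq _ _ horth, Finset.mul_sum]
  refine Finset.sum_le_sum fun j _ => ?_
  rw [norm_smul, mul_pow]
  by_cases h0 : P j = 0
  · simp only [hP] at h0
    simp [hP, h0]
  · have := hev (P j) (ζ ^ j) h0 (heig j)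
    gcongr

section Main

variable [Finite G]

/-- The common eigenspace of the conjugates by the members of `S`. -/
def fixSpace (A : G →* (V →L[ℂ] V)) (g : G) (lam : ℂ) (S : Finset G) : Submodule ℂ V where
  carrier := {v | ∀ k ∈ S, A (k * g * k⁻¹) v = lam • v}
  add_mem' := fun {a b} ha hb k hk => by rw [map_add, ha k hk, hb k hk, smul_add]
  zero_mem' := fun k _ => by simp
  smul_mem' := fun r a ha k hk => by rw [map_smul, ha k hk, smul_comm]

omit [FiniteDimensional ℂ V] [Finite G] in
theorem mem_fixSpace {g : G} {lam : ℂ} {S : Finset G} {v : V} :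
    v ∈ fixSpace A g lam S ↔ ∀ k ∈ S, A (k * g * k⁻¹) v = lam • v := Iff.rfl

/-- The main theorem. -/
theorem scalar_of_close (hA : IsIso' A)
    (hirr : ∀ U : Submodule ℂ V, (∀ h : G, ∀ v ∈ U, A h v ∈ U) → U = ⊥ ∨ U = ⊤)
    {g : G} {p : ℕ} (hg : g ^ p = 1) (hp : p ≠ 0) (hgen : Subgroup.normalClosure {g} = ⊤)
    {lam : ℂ} (hl : lam ^ p = 1) (hlam : ∃ v : V, v ≠ 0 ∧ A g v = lam • v) {c : ℝ} (hc0 : 0 ≤ c)
    (hc : c < 1) (hev : ∀ (v : V) (μ : ℂ), v ≠ 0 → A g v = μ • v → ‖μ - lam‖ ≤ c) :
    ∀ v : V, A g v = lam • v := by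
  classical
  haveI := Fintype.ofFinite G
  obtain ⟨v₀, hv₀, hgv₀⟩ := hlam
  let 𝓛 := Finset.univ.filter fun S : Finset G => S.Nonempty ∧ fixSpace A g lam S ≠ ⊥
  have h𝓛 : 𝓛.Nonempty := by
    refine ⟨{1}, Finset.mem_filter.mpr ⟨Finset.mem_univ _, Finset.singleton_nonempty _, fun e => hv₀ ?_⟩⟩
    have hm : v₀ ∈ fixSpace A g lam {1} := fun k hk => by
      rw [Finset.mem_singleton.mp hk]; simpa using hgv₀
    rw [e] at hm
    exact (Submodule.mem_bot ℂ).mp hm
  obtain ⟨S, hS, hmin⟩ := Finset.exists_min_image 𝓛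
    (fun S => Module.finrank ℂ (fixSpace A g lam S)) h𝓛
  obtain ⟨⟨k₀, hk₀⟩, hF0⟩ := (Finset.mem_filter.mp hS).2
  set F := fixSpace A g lam S with hF
  set b := stdOrthonormalBasis ℂ F with hb
  let r : ℝ := Module.finrank ℂ F
  have hr : 0 < r := by
    have : 0 < Module.finrank ℂ F := Nat.pos_of_ne_zero fun e => hF0 (Submodule.finrank_eq_zero.mp e)
    simp only [r]
    exact_mod_cast this
  let D : G → ℝ := fun h => ∑ i, ‖A h (b i : V) - F.starProjection (A h (b i : V))‖ ^ 2
  have hb1 : ∀ (h : G) (i), ‖A h (b i : V)‖ = 1 := fun h i => by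
    rw [hA h]; exact b.orthonormal.1 i
  have hDnn : ∀ h, 0 ≤ D h := fun h => Finset.sum_nonneg fun i _ => sq_nonneg _
  have hnear : ∀ (w x : V), x ∈ F → ‖w - F.starProjection w‖ ≤ ‖w - x‖ := fun w x hx => by
    rw [F.starProjection_minimal w]
    exact ciInf_le ⟨0, by rintro _ ⟨y, rfl⟩; exact norm_nonneg _⟩ (⟨x, hx⟩ : F)
  have hDr : ∀ h, D h ≤ r := fun h => by
    calc D h ≤ ∑ _i : Fin (Module.finrank ℂ F), (1 : ℝ) := Finset.sum_le_sum fun i _ => by
          have := hnear (A h (b i : V)) 0 F.zero_mem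
          rw [sub_zero, hb1] at this
          exact pow_le_one₀ (norm_nonneg _) this
      _ = r := by simp [r]
  have hD0 : ∀ h, D h = 0 → ∀ v ∈ F, A h v ∈ F := by
    intro h h0 v hv
    have hz : ∀ i, A h (b i : V) ∈ F := fun i => by
      have := (Finset.sum_eq_zero_iff_of_nonneg (fun i _ => sq_nonneg _)).mp h0 i (Finset.mem_univ _)
      rw [sq_eq_zero_iff, norm_eq_zero, sub_eq_zero] at this
      rw [this]; exact F.starProjection_apply_mem _
    have e := congrArg (fun x : F => (x : V)) (b.sum_repr ⟨v, hv⟩)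
    simp only [Submodule.coe_sum, Submodule.coe_smul] at e
    rw [← e, map_sum]
    exact F.sum_mem fun i _ => by rw [map_smul]; exact F.smul_mem _ (hz i)
  -- the contraction
  have hstep : ∀ h, ∀ k ∈ S, D (h⁻¹ * (k * g * k⁻¹) * h) ≤ c ^ 2 * D h := by
    intro h k hk
    rw [Finset.mul_sum]
    refine Finset.sum_le_sum fun i _ => ?_
    set w := A h (b i : V) with hw
    set x := F.starProjection w
    have hx : A (k * g * k⁻¹) x = lam • x := (F.starProjection_apply_mem w) k hk
    have hconj : A (k * g * k⁻¹) w - lam • w = A k (A g (A k⁻¹ w) - lam • A k⁻¹ w) := by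
      rw [map_sub, map_smul, ← apply_mul k k⁻¹ w, mul_inv_cancel, apply_one, ← apply_mul g k⁻¹ w,
        ← apply_mul k (g * k⁻¹) w, ← mul_assoc]
    have hx' : A g (A k⁻¹ x) = lam • A k⁻¹ x := by
      have := congrArg (fun z => A k⁻¹ z) hx
      simp only [map_smul, ← apply_mul] at this
      rw [← this, ← apply_mul]
      congr 2
      group
    have h1 := norm_displace_le hA hg hp hl hev (A k⁻¹ w) (A k⁻¹ x) hx'
    rw [← map_sub, hA k⁻¹ (w - x)] at h1
    refine le_trans (pow_le_pow_left₀ (norm_nonneg _) ?_ 2) h1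
    refine (hnear _ (lam • (b i : V)) (F.smul_mem _ (b i).2)).trans (le_of_eq ?_)
    rw [show A (h⁻¹ * (k * g * k⁻¹) * h) (b i : V) - lam • (b i : V) =
        A h⁻¹ (A (k * g * k⁻¹) w - lam • w) by
      rw [map_sub, map_smul, hw, apply_inv_apply, ← apply_mul, ← apply_mul, mul_assoc],
      hA h⁻¹, hconj, hA k]
  have hc2 : c ^ 2 < 1 := by nlinarith
  -- no intermediate distances
  have hdich : ∀ h, D h = 0 ∨ D h = r := by
    by_contra hcon
    push Not at hcon
    obtain ⟨h₀, hh₀⟩ := hcon
    obtain ⟨h, hh, hhmin⟩ := Finset.exists_min_image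
      (Finset.univ.filter fun h => D h ≠ 0 ∧ D h ≠ r) D ⟨h₀, by simpa using hh₀⟩
    obtain ⟨hne0, hner⟩ := (Finset.mem_filter.mp hh).2
    have hinv : ∀ k ∈ S, ∀ v ∈ F, A (k * g * k⁻¹) (A h v) = A h (A (h⁻¹ * (k * g * k⁻¹) * h) v) ∧
        A (h⁻¹ * (k * g * k⁻¹) * h) v ∈ F := by
      intro k hk v hv
      refine ⟨by simp only [← apply_mul]; congr 2; group, hD0 _ ?_ v hv⟩
      by_contra h0
      have hlt : D (h⁻¹ * (k * g * k⁻¹) * h) < D h := by
        have := hstep h k hk
        have h2 : 0 < D h := lt_of_le_of_ne (hDnn h) (Ne.symm hne0)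
        nlinarith
      exact absurd (hhmin _ (Finset.mem_filter.mpr ⟨Finset.mem_univ _, h0,
        fun e => by linarith [hDr h]⟩)) (not_le.mpr hlt)
    -- the translate
    set hS' := S.image fun k => h * k with hS'def
    have hmem' : ∀ v, v ∈ fixSpace A g lam hS' ↔ A h⁻¹ v ∈ F := fun v => by
      simp only [mem_fixSpace, hS'def, Finset.forall_mem_image, hF]
      refine forall₂_congr fun k _ => ?_
      rw [show h * k * g * (h * k)⁻¹ = h * (k * g * k⁻¹) * h⁻¹ by group, apply_mul, apply_mul]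
      constructor
      · intro e
        have := congrArg (fun z => A h⁻¹ z) e
        simpa only [apply_inv_apply, map_smul] using this
      · intro e
        rw [e, map_smul, ← apply_mul h h⁻¹ v, mul_inv_cancel, apply_one]
    have hfr : Module.finrank ℂ (fixSpace A g lam hS') = Module.finrank ℂ F := by
      let f : F →ₗ[ℂ] fixSpace A g lam hS' :=
        { toFun := fun v => ⟨A h v, (hmem' _).mpr (by rw [apply_inv_apply]; exact v.2)⟩
          map_add' := fun a b => Subtype.ext (map_add (A h) _ _)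
          map_smul' := fun a b => Subtype.ext (map_smul (A h) _ _) }
      refine (LinearEquiv.finrank_eq (LinearEquiv.ofBijective f ⟨fun a b e => ?_, fun v => ?_⟩)).symm
      · have := congrArg (fun z : fixSpace A g lam hS' => A h⁻¹ (z : V)) e
        simp only [f, LinearMap.coe_mk, AddHom.coe_mk, apply_inv_apply] at this
        exact Subtype.ext this
      · exact ⟨⟨_, (hmem' _).mp v.2⟩, Subtype.ext (by
          show A h (A h⁻¹ (v : V)) = v
          rw [← apply_mul, mul_inv_cancel, apply_one])⟩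
    -- the translate lies in every eigenspace or is orthogonal to one
    by_cases hall : ∀ k ∈ S, ∀ v ∈ F, A (k * g * k⁻¹) (A h v) = lam • A h v
    · apply hne0
      refine Finset.sum_eq_zero fun i _ => ?_
      rw [sq_eq_zero_iff, norm_eq_zero, sub_eq_zero, eq_comm, Submodule.starProjection_eq_self_iff]
      exact fun k hk => hall k hk _ (b i).2
    · push Not at hall
      obtain ⟨k, hk, v₁, hv₁, hv₁ne⟩ := hall
      have horth : ∀ v ∈ F, ∀ x ∈ F, ⟪x, A h v⟫_ℂ = 0 := by
        intro v hv x hx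
        set gi := k * g * k⁻¹ with hgi
        have hgp : gi ^ p = 1 := by rw [hgi, conj_pow, hg, mul_one, mul_inv_cancel]
        set y := comp A gi p lam (A h v) with hy
        have hgl : A gi y = lam • y := comp_eigen hgp hl hp _
        have hpw : ∀ i : ℕ, A h⁻¹ (A (gi ^ i) (A h v)) ∈ F := fun i => by
          induction i with
          | zero => rw [pow_zero, apply_one, apply_inv_apply]; exact hv
          | succ i ih =>
            obtain ⟨e1, e2⟩ := hinv k hk _ ih
            rw [← apply_mul h h⁻¹, mul_inv_cancel, apply_one] at e1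
            rw [pow_succ', apply_mul, e1, apply_inv_apply]
            exact e2
        have hyF : A h⁻¹ y ∈ F := by
          rw [hy, comp, map_smul, map_sum]
          refine F.smul_mem _ (F.sum_mem fun i _ => ?_)
          rw [map_smul]
          exact F.smul_mem _ (hpw i)
        have hy0 : y = 0 := by
          by_contra hy0
          set S'' := insert k hS' with hS''
          have hsub : fixSpace A g lam S'' ≤ fixSpace A g lam hS' := fun z hz k' hk' =>
            hz k' (Finset.mem_insert_of_mem hk')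
          have hy'' : y ∈ fixSpace A g lam S'' := by
            intro k' hk'
            rcases Finset.mem_insert.mp hk' with rfl | hk'
            · exact hgl
            · exact (hmem' y).mpr hyF k' hk'
          have hS''L : S'' ∈ 𝓛 := Finset.mem_filter.mpr ⟨Finset.mem_univ _, Finset.insert_nonempty _ _,
            fun e => hy0 ((Submodule.mem_bot ℂ).mp (e ▸ hy''))⟩
          have heq := Submodule.eq_of_le_of_finrank_le hsub (hfr.le.trans (hmin _ hS''L))
          have : A h v₁ ∈ fixSpace A g lam S'' := by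
            rw [heq]; exact (hmem' _).mpr (by rw [apply_inv_apply]; exact hv₁)
          exact hv₁ne (this k (Finset.mem_insert_self _ _))
        have hxk : A gi x = lam • x := hx k hk
        by_cases hx0 : x = 0
        · rw [hx0, inner_zero_left]
        have hl1 : conj lam * lam = 1 := by
          rw [← Complex.normSq_eq_conj_mul_self, Complex.normSq_eq_norm_sq,
            norm_eq_one_of_eigen hA gi hx0 hxk]
          simp
        have hpow : ∀ i : ℕ, A (gi ^ i) x = lam ^ i • x := by
          intro i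
          induction i with
          | zero => rw [pow_zero, pow_zero, one_smul, apply_one]
          | succ i ih => rw [pow_succ', apply_mul, ih, map_smul, hxk, smul_smul, pow_succ]
        have hterm : ∀ i : ℕ, lam⁻¹ ^ i * ⟪x, A (gi ^ i) (A h v)⟫_ℂ = ⟪x, A h v⟫_ℂ := by
          intro i
          have e := inner_map hA (gi ^ i) x (A h v)
          rw [hpow, inner_smul_left, map_pow] at e
          rw [inv_eq_of_mul_eq_one_left hl1]
          exact e
        have h1 : ⟪x, y⟫_ℂ = ⟪x, A h v⟫_ℂ := by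
          rw [hy, comp, inner_smul_right, inner_sum]
          simp only [inner_smul_right, hterm, Finset.sum_const, Finset.card_range, nsmul_eq_mul]
          rw [← mul_assoc, inv_mul_cancel₀ (Nat.cast_ne_zero.mpr hp), one_mul]
        rw [← h1, hy0, inner_zero_right]
      apply hner
      calc D h = ∑ _i : Fin (Module.finrank ℂ F), (1 : ℝ) := Finset.sum_congr rfl fun i _ => by
            rw [(Submodule.starProjection_apply_eq_zero_iff F).mpr
              ((Submodule.mem_orthogonal _ _).mpr fun x hx => horth _ (b i).2 x hx), sub_zero, hb1,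
              one_pow]
        _ = r := by simp [r]
  -- the translates are fixed
  let H : Subgroup G :=
    { carrier := {t | ∀ v ∈ F, A t v ∈ F}
      one_mem' := fun v hv => by rwa [apply_one]
      mul_mem' := fun {s t} hs ht v hv => by rw [apply_mul]; exact hs _ (ht v hv)
      inv_mem' := fun {t} ht v hv => by
        have hpow : ∀ i : ℕ, A (t ^ i) v ∈ F := fun i => by
          induction i with
          | zero => rwa [pow_zero, apply_one]
          | succ i ih => rw [pow_succ', apply_mul]; exact ht _ ih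
        have : t⁻¹ = t ^ (orderOf t - 1) := by
          rw [inv_eq_iff_mul_eq_one, ← pow_succ', Nat.sub_add_cancel (orderOf_pos t),
            pow_orderOf_eq_one]
        rw [this]; exact hpow _ }
  have hH : ∀ h, h⁻¹ * (k₀ * g * k₀⁻¹) * h ∈ H := by
    intro h
    rcases hdich h with h0 | h0
    · refine H.mul_mem (H.mul_mem (H.inv_mem (hD0 h h0)) (fun v hv => ?_)) (hD0 h h0)
      rw [hv k₀ hk₀]
      exact F.smul_mem _ hv
    · refine hD0 _ ?_
      rcases hdich (h⁻¹ * (k₀ * g * k₀⁻¹) * h) with h1 | h1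
      · exact h1
      · exfalso
        have := hstep h k₀ hk₀
        rw [h0, h1] at this
        nlinarith
  have htop : H = ⊤ := by
    rw [eq_top_iff, ← hgen, Subgroup.normalClosure, Subgroup.closure_le]
    intro t ht
    obtain ⟨a, ha, hat⟩ := Group.mem_conjugatesOfSet_iff.mp ht
    obtain rfl : a = g := ha
    obtain ⟨s, rfl⟩ := isConj_iff.mp hat
    rw [show s * a * s⁻¹ = (k₀ * s⁻¹)⁻¹ * (k₀ * a * k₀⁻¹) * (k₀ * s⁻¹) by group]
    exact hH _
  have hFtop : F = ⊤ := (hirr F fun h v hv => (htop ▸ Subgroup.mem_top h : h ∈ H) v hv).resolve_left hF0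
  intro v
  have hm : A k₀ v ∈ F := hFtop ▸ Submodule.mem_top
  have := congrArg (fun z => A k₀⁻¹ z) (hm k₀ hk₀)
  simp only [map_smul, ← apply_mul] at this
  rw [show k₀⁻¹ * (k₀ * g * k₀⁻¹ * k₀) = g by group, inv_mul_cancel, apply_one] at this
  exact this

end Main

end CfsgLib.SixtyDegree
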