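import Cfsg.Agent.Lib.Blocks12.PSolvableBound
import Cfsg.Agent.Lib.Characters.NormalRes

/-!
`p`-solvable linear groups of degree at most `p - 1` with a nonnormal Sylow `p`-subgroup.
-/

set_option autoImplicit false

noncomputable section

namespace CfsgLib.SmallDegree

open Cfsg CfsgLib.Characters

universe u

variable {G : Type u} [Group G] [Finite G] {p : ℕ} {χ : G → ℂ}

/-- Below degree `p - 1` a Sylow `p`-subgroup is normal. -/
theorem normal_of_small (hp : p.Prime) (hsolv : IsPSolvable p G) (hχ : IsCharacter G χ)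
    (hfaith : ∀ g : G, χ g = χ 1 → g = 1) {n : ℕ} (hn : χ 1 = n) (hlt : n < p - 1)
    (P : Sylow p G) : (P : Subgroup G).Normal := by
  haveI := Fact.mk hp
  have h := CfsgLib.PSolvableBound.index_pCore_le hp hsolv hχ hfaith hn
  rw [Finset.sum_eq_zero fun i _ => Nat.div_eq_of_lt
    (lt_of_lt_of_le hlt (Nat.le_mul_of_pos_right _ (pow_pos hp.pos i)))] at h
  have hle := CfsgLib.PCore.pCore_le_sylow P
  have hdvd : Nat.card (P : Subgroup G) ∣ Nat.card (pCore p G) := by
    rw [P.card_eq_multiplicity, hp.pow_dvd_iff_le_factorization Nat.card_pos.ne',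
      ← (pCore p G).card_mul_index,
      Nat.factorization_mul Nat.card_pos.ne' Subgroup.index_ne_zero_of_finite, Finsupp.add_apply]
    omega
  have heq : pCore p G = (P : Subgroup G) :=
    Subgroup.eq_of_le_of_card_ge hle (Nat.le_of_dvd Nat.card_pos hdvd)
  rw [← heq]
  exact pCore_normal p G

/-- A character of degree `p - 1` of such a group is irreducible. -/
theorem irreducible_of_not_normal (hp : p.Prime) (hsolv : IsPSolvable p G) (hχ : IsCharacter G χ)
    (hfaith : ∀ g : G, χ g = χ 1 → g = 1) {n : ℕ} (hn : χ 1 = n) (hle : n ≤ p - 1)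
    (P : Sylow p G) (hP : ¬ (P : Subgroup G).Normal) : n = p - 1 ∧ IsIrrCharacter G χ := by
  classical
  haveI := Fact.mk hp
  haveI := Fintype.ofFinite G
  have hn1 : n = p - 1 := by
    by_contra hne
    exact hP (normal_of_small hp hsolv hχ hfaith hn (lt_of_le_of_ne hle hne) P)
  refine ⟨hn1, ?_⟩
  by_contra hirr
  obtain ⟨m, hm, hsum⟩ := CfsgLib.Clifford.exists_mult hχ
  obtain ⟨ψ₀, hψ₀⟩ : ∃ ψ₀, m ψ₀ ≠ 0 := by
    by_contra hall
    push Not at hall
    have hp2 := hp.two_le
    have e := congrFun hsum 1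
    simp only [Finset.sum_apply, Pi.smul_apply, smul_eq_mul, hall, Nat.cast_zero, zero_mul,
      Finset.sum_const_zero, hn] at e
    have : n = 0 := by exact_mod_cast e
    omega
  set χ₂ : G → ℂ := ∑ ψ : IrrCharacter G, ((if ψ = ψ₀ then m ψ - 1 else m ψ : ℕ) : ℂ) • (ψ : G → ℂ)
  have hχ₂ : IsCharacter G χ₂ :=
    isCharacter_sum _ fun ψ _ => by
      rw [Nat.cast_smul_eq_nsmul]; exact isCharacter_nsmul (irr_isCharacter ψ) _
  have hadd : χ = (ψ₀ : G → ℂ) + χ₂ := by
    rw [hsum, ← Finset.add_sum_erase _ _ (Finset.mem_univ ψ₀)]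
    simp only [χ₂]
    rw [← Finset.add_sum_erase _ (fun ψ : IrrCharacter G =>
      ((if ψ = ψ₀ then m ψ - 1 else m ψ : ℕ) : ℂ) • (ψ : G → ℂ)) (Finset.mem_univ ψ₀), if_pos rfl,
      ← add_assoc]
    congr 1
    · rw [Nat.cast_sub (Nat.one_le_iff_ne_zero.mpr hψ₀), Nat.cast_one, sub_smul, one_smul,
        add_sub_cancel]
    · exact Finset.sum_congr rfl fun ψ hψ => by rw [if_neg (Finset.ne_of_mem_erase hψ)]
  obtain ⟨n₂, hn₂⟩ := exists_degree hχ₂
  obtain ⟨n₁, hn₁0, hn₁⟩ := irr_exists_degree ψ₀.2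
  have hsumdeg : n = n₁ + n₂ := by
    have e := congrFun hadd 1
    rw [Pi.add_apply, hn, hn₁, hn₂] at e
    exact_mod_cast e
  have hn₂0 : n₂ ≠ 0 := by
    intro h0
    obtain ⟨k, σ, hσ⟩ := hχ₂
    apply hirr
    have hk : k = 0 := by
      rw [← hσ, Representation.char_one, h0] at hn₂
      simpa using hn₂
    have hzero : χ₂ = 0 := by
      subst hk
      rw [← hσ]
      funext g
      have : σ g = 0 := Subsingleton.elim _ _
      simp [Representation.character, this]
    rw [hadd, hzero, add_zero]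
    exact ψ₀.2
  have hstep : ∀ (φ : G → ℂ), IsCharacter G φ → ∀ k : ℕ, φ 1 = k → k < p - 1 →
      ∃ K : Subgroup G, K.Normal ∧ (∀ g ∈ K, φ g = φ 1) ∧ ((P : Subgroup G) ⊔ K).Normal ∧
        ∀ x ∈ (P : Subgroup G) ⊔ K, ∃ j : ℕ, x ^ p ^ j ∈ K := by
    intro φ hφ k hk hlt
    obtain ⟨d, ρ, rfl⟩ := hφ
    let K : Subgroup G := (ρ : G →* Module.End ℂ (Fin d → ℂ)).ker
    haveI hK : K.Normal := MonoidHom.normal_ker _
    let σr : Representation ℂ (G ⧸ K) (Fin d → ℂ) :=
      QuotientGroup.lift K (ρ : G →* Module.End ℂ (Fin d → ℂ)) le_rfl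
    have hσr : ∀ x : G, σr.character (QuotientGroup.mk' K x) = ρ.character x := fun x => rfl
    have hsj := QuotientGroup.mk'_surjective K
    have hnorm := normal_of_small hp (CfsgLib.PCore.isPSolvable_quotient hsolv K)
      (χ := σr.character) ⟨d, σr, rfl⟩ (fun q hq => by
        obtain ⟨x, rfl⟩ := hsj q
        rw [← map_one (QuotientGroup.mk' K), hσr, hσr, CfsgLib.Chars17.character_eq_one_iff] at hq
        exact (QuotientGroup.eq_one_iff x).mpr (MonoidHom.mem_ker.mpr hq))
      (n := k) (by rw [← map_one (QuotientGroup.mk' K), hσr, hk]) hlt (P.mapSurjective hsj)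
    rw [Sylow.coe_mapSurjective] at hnorm
    refine ⟨K, hK, fun g hg => (CfsgLib.Chars17.character_eq_one_iff ρ g).mpr (MonoidHom.mem_ker.mp hg),
      ?_, fun x hx => ?_⟩
    · have := hnorm.comap (QuotientGroup.mk' K)
      rwa [Subgroup.comap_map_eq, QuotientGroup.ker_mk'] at this
    · have hm : QuotientGroup.mk' K x ∈ (P : Subgroup G).map (QuotientGroup.mk' K) := by
        rw [← Subgroup.mem_comap, Subgroup.comap_map_eq, QuotientGroup.ker_mk']
        exact hx
      obtain ⟨j, hj⟩ := (P.isPGroup'.map (QuotientGroup.mk' K)) ⟨_, hm⟩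
      have hj' : QuotientGroup.mk' K (x ^ p ^ j) = 1 := by
        rw [map_pow]; exact congrArg Subtype.val hj
      exact ⟨j, (QuotientGroup.eq_one_iff _).mp hj'⟩
  have hp1 := hp.two_le
  obtain ⟨K₁, hK₁, hK₁v, hN₁, hp₁⟩ := hstep _ (irr_isCharacter ψ₀) n₁ hn₁ (by omega)
  obtain ⟨K₂, hK₂, hK₂v, hN₂, hp₂⟩ := hstep _ hχ₂ n₂ hn₂ (by omega)
  set R := ((P : Subgroup G) ⊔ K₁) ⊓ ((P : Subgroup G) ⊔ K₂) with hR
  have hPR : (P : Subgroup G) ≤ R := le_inf le_sup_left le_sup_left
  have hRp : IsPGroup p R := by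
    intro x
    obtain ⟨j₁, hj₁⟩ := hp₁ x x.2.1
    obtain ⟨j₂, hj₂⟩ := hp₂ x x.2.2
    refine ⟨j₁ + j₂, Subtype.ext ?_⟩
    rw [SubgroupClass.coe_pow, OneMemClass.coe_one]
    refine hfaith _ ?_
    have h1 : (x : G) ^ p ^ (j₁ + j₂) ∈ K₁ := by
      rw [pow_add, pow_mul]; exact K₁.pow_mem hj₁ _
    have h2 : (x : G) ^ p ^ (j₁ + j₂) ∈ K₂ := by
      rw [pow_add, mul_comm, pow_mul]; exact K₂.pow_mem hj₂ _
    rw [hadd, Pi.add_apply, Pi.add_apply, hK₁v _ h1, hK₂v _ h2]
  have heq : R = (P : Subgroup G) := P.is_maximal' hRp hPR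
  haveI := hN₁
  haveI := hN₂
  exact hP (heq ▸ (inferInstance : R.Normal))

/-- The degree is a power of two. -/
theorem two_power (hp : p.Prime) (hsolv : IsPSolvable p G) (hχ : IsCharacter G χ)
    (hfaith : ∀ g : G, χ g = χ 1 → g = 1) {n : ℕ} (hn : χ 1 = n) (hn1 : n = p - 1)
    (P : Sylow p G) (hP : ¬ (P : Subgroup G).Normal) : ∃ k : ℕ, n = 2 ^ k := by
  classical
  haveI := Fact.mk hp
  rcases hp.eq_two_or_odd with rfl | hodd
  · exact ⟨0, by rw [hn1]; rfl⟩
  set Q := pCore p G with hQ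
  set f := QuotientGroup.mk' Q with hf
  have hfs : Function.Surjective f := QuotientGroup.mk'_surjective Q
  set Lb := pPrimeCore p (G ⧸ Q) with hLb
  have hcent : Subgroup.centralizer (Lb : Set (G ⧸ Q)) ≤ Lb :=
    CfsgLib.DualHallHigman.centralizer_pPrimeCore_le (CfsgLib.PCore.isPSolvable_quotient hsolv Q)
      CfsgLib.PCore.pCore_quotient_pCore
  set K := Lb.comap f with hK
  haveI : K.Normal := (inferInstance : Lb.Normal).comap f
  have hpLb : ¬ p ∣ Nat.card Lb := CfsgLib.PCore.not_dvd_card_pPrimeCore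
  by_cases hall : ∀ q : ℕ, q.Prime → q ≠ p → ∀ (S : Sylow q K) (R : Subgroup G), IsPGroup p R →
      R ≤ Subgroup.normalizer (((S : Subgroup K).map K.subtype : Subgroup G) : Set G) →
      ∀ r ∈ R, ∀ s ∈ (S : Subgroup K).map K.subtype, r * s = s * r
  · exfalso
    let Pb := P.mapSurjective hfs
    -- every Sylow subgroup of the quotient centralizes a Sylow subgroup of `Lb`
    have hC : ∀ q : ℕ, q.Prime → q ∣ Nat.card Lb → ∀ k : ℕ, q ^ k ∣ Nat.card Lb →
        q ^ k ∣ Nat.card ↥(Subgroup.centralizer ((Pb : Subgroup (G ⧸ Q)) : Set (G ⧸ Q)) ⊓ Lb) := by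
      intro q hq hqd k hk
      haveI := Fact.mk hq
      have hqp : q ≠ p := fun h => hpLb (h ▸ hqd)
      obtain ⟨S⟩ : Nonempty (Sylow q K) := inferInstance
      set S' := (S : Subgroup K).map K.subtype with hS'
      set N := Subgroup.normalizer (S' : Set G)
      obtain ⟨R₀⟩ : Nonempty (Sylow p N) := inferInstance
      set R := (R₀ : Subgroup N).map N.subtype
      have hcomm := hall q hq hqp S R (R₀.isPGroup'.map _) (Subgroup.map_subtype_le _)
      have hfr : N ⊔ K = ⊤ := Sylow.normalizer_sup_eq_top S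
      -- the image of `R` is a Sylow subgroup
      obtain ⟨Rb, hRb⟩ := (R₀.isPGroup'.map (f.comp N.subtype)).exists_le_sylow
      have hcardR : Nat.card (Rb : Subgroup (G ⧸ Q)) ≤
          Nat.card ((R₀ : Subgroup N).map (f.comp N.subtype)) := by
        set M := (f.comp N.subtype).range
        have hMtop : M ⊔ Lb = ⊤ := by
          have hmap := congrArg (Subgroup.map f) hfr
          rw [Subgroup.map_sup, hK, Subgroup.map_comap_eq_self_of_surjective hfs,
            Subgroup.map_top_of_surjective f hfs] at hmap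
          convert hmap using 2
          rw [show M = (f.comp N.subtype).range from rfl, MonoidHom.range_comp, Subgroup.range_subtype]
        haveI hsj : Fact (Function.Surjective (f.comp N.subtype).rangeRestrict) :=
          ⟨MonoidHom.rangeRestrict_surjective _⟩
        let RM := R₀.mapSurjective (f.comp N.subtype).rangeRestrict_surjective
        have e1 : (R₀ : Subgroup N).map (f.comp N.subtype) = (RM : Subgroup M).map M.subtype := by
          rw [Sylow.coe_mapSurjective, Subgroup.map_map]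
          rfl
        have hidx : ¬ p ∣ M.index := by
          intro hd
          apply hpLb
          have h1 : M.index = M.relIndex Lb := by
            rw [← Subgroup.relIndex_top_right, ← hMtop, sup_comm]
            have h2 := Subgroup.relIndex_mul_relIndex (M ⊓ Lb) M (Lb ⊔ M) inf_le_left le_sup_right
            have h3 := Subgroup.relIndex_mul_relIndex (M ⊓ Lb) Lb (Lb ⊔ M) inf_le_right le_sup_left
            rw [Subgroup.relIndex_sup_left, Subgroup.inf_relIndex_right] at h3
            rw [Subgroup.inf_relIndex_left] at h2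
            have h4 : Lb.relIndex M ≠ 0 := Subgroup.index_ne_zero_of_finite
            rw [← h2, mul_comm (M.relIndex Lb)] at h3
            exact (Nat.eq_of_mul_eq_mul_left (Nat.pos_of_ne_zero h4) h3).symm
          exact (h1 ▸ hd).trans (Subgroup.relIndex_dvd_card M Lb)
        rw [e1, Subgroup.card_map_of_injective M.subtype_injective, Rb.card_eq_multiplicity,
          RM.card_eq_multiplicity]
        refine Nat.pow_le_pow_right hp.pos ?_
        rw [← M.card_mul_index, Nat.factorization_mul Nat.card_pos.ne' Subgroup.index_ne_zero_of_finite,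
          Finsupp.add_apply, Nat.factorization_eq_zero_of_not_dvd hidx, add_zero]
      have hReq : (R₀ : Subgroup N).map (f.comp N.subtype) = (Rb : Subgroup (G ⧸ Q)) :=
        Subgroup.eq_of_le_of_card_ge hRb hcardR
      obtain ⟨c, hc⟩ := MulAction.exists_smul_eq (G ⧸ Q) Rb Pb
      -- conjugate the image of `S` into the centralizer
      have hsub : (S'.map f).map (MulAut.conj c).toMonoidHom ≤
          Subgroup.centralizer ((Pb : Subgroup (G ⧸ Q)) : Set (G ⧸ Q)) ⊓ Lb := by
        rintro _ ⟨_, ⟨s, hs, rfl⟩, rfl⟩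
        refine ⟨Subgroup.mem_centralizer_iff.mpr fun y hy => ?_, ?_⟩
        · rw [← hc, Sylow.coe_subgroup_smul] at hy
          obtain ⟨r', hr', rfl⟩ := hy
          rw [← hReq] at hr'
          obtain ⟨r, hr, rfl⟩ := hr'
          have h := hcomm r ⟨r, hr, rfl⟩ s hs
          show MulAut.conj c (f (r : G)) * MulAut.conj c (f s) = MulAut.conj c (f s) * MulAut.conj c (f (r : G))
          rw [← map_mul, ← map_mul]
          congr 1
          rw [← map_mul, ← map_mul, h]
        · have hsK : f s ∈ Lb := (Subgroup.map_subtype_le _ hs : s ∈ K)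
          exact (inferInstance : Lb.Normal).conj_mem _ hsK c
      refine dvd_trans ?_ (Subgroup.card_dvd_of_le hsub)
      rw [Subgroup.card_map_of_injective (MulAut.conj c).injective]
      -- the image of a Sylow subgroup of `K` is full
      have hf' : Function.Surjective (f.subgroupComap Lb) :=
        MonoidHom.subgroupComap_surjective_of_surjective f Lb hfs
      let SL := S.mapSurjective hf'
      have e2 : S'.map f = (SL : Subgroup Lb).map Lb.subtype := by
        rw [Sylow.coe_mapSurjective, hS', Subgroup.map_map, Subgroup.map_map]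
        rfl
      rw [e2, Subgroup.card_map_of_injective Lb.subtype_injective, SL.card_eq_multiplicity]
      exact pow_dvd_pow q ((hq.pow_dvd_iff_le_factorization Nat.card_pos.ne').mp hk)
    have hLbC : Lb ≤ Subgroup.centralizer ((Pb : Subgroup (G ⧸ Q)) : Set (G ⧸ Q)) := by
      have hdvd : Nat.card Lb ∣ Nat.card
          ↥(Subgroup.centralizer ((Pb : Subgroup (G ⧸ Q)) : Set (G ⧸ Q)) ⊓ Lb) := by
        rw [Nat.dvd_iff_prime_pow_dvd_dvd]
        intro q k hq hk
        rcases Nat.eq_zero_or_pos k with rfl | hk0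
        · simp
        · exact hC q hq ((dvd_pow_self q hk0.ne').trans hk) k hk
      exact inf_eq_right.mp (Subgroup.eq_of_le_of_card_ge inf_le_right
        (Nat.le_of_dvd Nat.card_pos hdvd))
    have hPbL : (Pb : Subgroup (G ⧸ Q)) ≤ Lb := fun x hx => hcent
      (Subgroup.mem_centralizer_iff.mpr fun y hy =>
        (Subgroup.mem_centralizer_iff.mp (hLbC hy) x hx).symm)
    apply hP
    have hPQ : (P : Subgroup G) ≤ Q := fun x hx => by
      have hxb : f x ∈ (Pb : Subgroup (G ⧸ Q)) := by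
        rw [Sylow.coe_mapSurjective]; exact ⟨x, hx, rfl⟩
      refine (QuotientGroup.eq_one_iff x).mp ?_
      by_contra hne
      obtain ⟨k, hk⟩ := IsPGroup.iff_orderOf.1 Pb.isPGroup' ⟨f x, hxb⟩
      rw [Subgroup.orderOf_mk] at hk
      rcases k with _ | k
      · exact hne (orderOf_eq_one_iff.mp (hk.trans (pow_zero p)))
      · refine hpLb ((dvd_pow_self p k.succ_ne_zero).trans (hk ▸ ?_))
        exact Subgroup.orderOf_dvd_natCard _ (hPbL hxb)
    rw [le_antisymm hPQ (CfsgLib.PCore.pCore_le_sylow P)]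
    exact pCore_normal p G
  · push Not at hall
    obtain ⟨q, hq, hqp, S, R, hR, hRN, r, hr, s, hs, hrs⟩ := hall
    haveI := Fact.mk hq
    set S' := (S : Subgroup K).map K.subtype
    set H := S' ⊔ R with hH
    haveI hSn : (S'.subgroupOf H).Normal :=
      Subgroup.normal_subgroupOf_of_le_normalizer (sup_le Subgroup.le_normalizer hRN)
    have hSH : S' ≤ H := le_sup_left
    have hRH : R ≤ H := le_sup_right
    have hS'q : IsPGroup q S' := S.isPGroup'.map _
    obtain ⟨b, hb⟩ := IsPGroup.iff_card.1 hS'q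
    obtain ⟨c, hc⟩ := IsPGroup.iff_card.1 hR
    have hcS : Nat.card (S'.subgroupOf H) = q ^ b :=
      (Nat.card_congr (Subgroup.subgroupOfEquivOfLe hSH).toEquiv).trans hb
    have hcR : Nat.card (R.subgroupOf H) = p ^ c :=
      (Nat.card_congr (Subgroup.subgroupOfEquivOfLe hRH).toEquiv).trans hc
    have hcardH : Nat.card H ∣ q ^ b * p ^ c := by
      have h := CfsgLib.PCore.card_sup_dvd_mul (S'.subgroupOf H) (R.subgroupOf H)
      rw [← Subgroup.subgroupOf_sup hSH hRH, Subgroup.subgroupOf_self, hcS, hcR, Subgroup.card_top] at h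
      exact h
    obtain ⟨PH⟩ : Nonempty (Sylow p H) := inferInstance
    have hPH : ¬ (PH : Subgroup H).Normal := by
      intro hnorm
      haveI := hnorm
      have hRP : R.subgroupOf H ≤ (PH : Subgroup H) := by
        obtain ⟨P', hP'⟩ := (hR.comap_of_injective H.subtype H.subtype_injective).exists_le_sylow
        haveI := Sylow.unique_of_normal PH hnorm
        exact (Subsingleton.elim P' PH) ▸ hP'
      refine hrs ?_
      have hmem1 : (⟨s, hSH hs⟩ : H) * ⟨r, hRH hr⟩ * (⟨s, hSH hs⟩ : H)⁻¹ * (⟨r, hRH hr⟩ : H)⁻¹ ∈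
          S'.subgroupOf H ⊓ (PH : Subgroup H) := by
        refine ⟨?_, ?_⟩
        · rw [show (⟨s, hSH hs⟩ : H) * ⟨r, hRH hr⟩ * (⟨s, hSH hs⟩ : H)⁻¹ * (⟨r, hRH hr⟩ : H)⁻¹ =
            ⟨s, hSH hs⟩ * (⟨r, hRH hr⟩ * (⟨s, hSH hs⟩ : H)⁻¹ * (⟨r, hRH hr⟩ : H)⁻¹) by group]
          exact Subgroup.mul_mem _ hs (hSn.conj_mem _ (Subgroup.inv_mem _ hs) _)
        · exact Subgroup.mul_mem _ (hnorm.conj_mem _ (hRP hr) _) (Subgroup.inv_mem _ (hRP hr))
      obtain ⟨e, he⟩ := IsPGroup.iff_card.1 PH.isPGroup'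
      have hbot : S'.subgroupOf H ⊓ (PH : Subgroup H) = ⊥ :=
        Subgroup.inf_eq_bot_of_coprime (by
          rw [hcS, he]; exact ((Nat.coprime_primes hq hp).mpr hqp).pow b e)
      rw [hbot, Subgroup.mem_bot] at hmem1
      have h' : s * r * s⁻¹ * r⁻¹ = 1 := congrArg Subtype.val hmem1
      calc r * s = (s * r * s⁻¹ * r⁻¹)⁻¹ * (s * r) := by group
        _ = s * r := by rw [h', inv_one, one_mul]
    have hirr := (irreducible_of_not_normal hp (CfsgLib.PCore.isPSolvable_subgroup hsolv H)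
      (CfsgLib.Clifford.isCharacter_subtype hχ H) (fun h e => Subtype.ext (hfaith _ e)) (n := n) hn
      (le_of_eq hn1) PH hPH).2
    obtain ⟨d, hd1, -, hd2⟩ := irr_degree_dvd_card (⟨_, hirr⟩ : IrrCharacter H)
    have hdn : d = n := by exact_mod_cast hd1.symm.trans hn
    rw [hdn] at hd2
    have hcop : n.Coprime (p ^ c) := by
      refine Nat.Coprime.pow_right c (Nat.Coprime.symm ?_)
      rw [hp.coprime_iff_not_dvd]
      intro hd
      have := hp.two_le
      have := Nat.le_of_dvd (by omega) hd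
      omega
    have hnq : n ∣ q ^ b := Nat.Coprime.dvd_of_dvd_mul_right hcop (hd2.trans hcardH)
    obtain ⟨k, -, hk⟩ := (Nat.dvd_prime_pow hq).mp hnq
    have h2n : 2 ∣ n := by have := hp.two_le; omega
    rw [hk] at h2n
    exact ⟨k, by rw [hk, ← (Nat.prime_dvd_prime_iff_eq Nat.prime_two hq).mp
      (Nat.prime_two.dvd_of_dvd_pow h2n)]⟩

end CfsgLib.SmallDegree
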