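import Cfsg.Agent.Lib.Blocks12.SixtyDegree
import Cfsg.Agent.Lib.Blocks12.DihedralBlock
import Cfsg.Agent.Lib.Blocks.Knorr
import Cfsg.Agent.Lib.Blocks.PrincipalDegree
import Cfsg.Agent.Lib.LinGrp.Unitary
import Cfsg.Agent.Lib.FewOrders.Prime

/-!
An element of prime order with few eigenvalues in a principal block character, and the refinement
of Burnside's theorem on two prime divisors.
-/

set_option autoImplicit false
set_option linter.style.haveILetI false

namespace CfsgLib.SmallSpread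

open Cfsg CfsgLib.Characters CfsgLib.Blocks
open scoped ComplexConjugate

universe u

/-- A multiple of the exponents bringing them all near the first one. -/
theorem pigeon {p : ℕ} (hp : 0 < p) (E : Finset ℕ) {a₁ : ℕ} (h1 : a₁ ∈ E)
    (hcard : 6 ^ (E.card - 1) < p) :
    ∃ D, 0 < D ∧ D < p ∧ ∀ a ∈ E, ∃ e : ℤ,
      (p : ℤ) ∣ (D : ℤ) * a - (D : ℤ) * a₁ - e ∧ 6 * |e| < p := by
  classical
  have hpz : (0 : ℤ) < p := by exact_mod_cast hp
  let res : ℕ → ℕ → ℤ := fun m a => ((m : ℤ) * ((a : ℤ) - a₁)) % (p : ℤ)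
  have hres : ∀ m a, 0 ≤ res m a ∧ res m a < p := fun m a =>
    ⟨Int.emod_nonneg _ hpz.ne', Int.emod_lt_of_pos _ hpz⟩
  let f : Fin p → (↥(E.erase a₁) → Fin 6) := fun m a =>
    ⟨(6 * res m a.1 / p).toNat, by
      have h := hres m a.1
      have h2 : 6 * res m a.1 / (p : ℤ) < 6 := Int.ediv_lt_of_lt_mul hpz (by linarith)
      omega⟩
  have hlt : Fintype.card (↥(E.erase a₁) → Fin 6) < Fintype.card (Fin p) := by
    rw [Fintype.card_fun, Fintype.card_fin, Fintype.card_fin, Fintype.card_coe,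
      Finset.card_erase_of_mem h1]
    exact hcard
  obtain ⟨x, y, hxy, hfxy⟩ := Fintype.exists_ne_map_eq_of_card_lt f hlt
  obtain ⟨m, m', hmm, hf⟩ : ∃ m m' : Fin p, (m' : ℕ) < m ∧ f m = f m' := by
    rcases Nat.lt_or_gt_of_ne (fun e => hxy (Fin.ext e)) with h | h
    · exact ⟨y, x, h, hfxy.symm⟩
    · exact ⟨x, y, h, hfxy⟩
  refine ⟨(m : ℕ) - m', by omega, by omega, fun a ha => ?_⟩
  by_cases hae : a = a₁
  · exact ⟨0, by simp [hae], by simpa using hp⟩
  refine ⟨res m a - res m' a, ?_, ?_⟩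
  · rw [Nat.cast_sub hmm.le,
      show ((m : ℕ) - (m' : ℕ) : ℤ) * a - ((m : ℕ) - (m' : ℕ) : ℤ) * a₁ - (res m a - res m' a) =
        (((m : ℕ) : ℤ) * ((a : ℤ) - a₁) - res m a) - (((m' : ℕ) : ℤ) * ((a : ℤ) - a₁) - res m' a) by ring]
    exact dvd_sub (Int.dvd_self_sub_emod) (Int.dvd_self_sub_emod)
  · have e := congrArg (fun g : ↥(E.erase a₁) → Fin 6 => ((g ⟨a, Finset.mem_erase.mpr ⟨hae, ha⟩⟩ : Fin 6) : ℕ)) hf
    simp only [f] at e
    have k1 := hres m a
    have k2 := hres m' a
    have q1 : (0 : ℤ) ≤ 6 * res m a / p := Int.ediv_nonneg (by linarith) hpz.le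
    have q2 : (0 : ℤ) ≤ 6 * res m' a / p := Int.ediv_nonneg (by linarith) hpz.le
    have e' : 6 * res m a / (p : ℤ) = 6 * res m' a / (p : ℤ) := by omega
    have d1 := Int.emod_add_mul_ediv (6 * res m a) (p : ℤ)
    have d2 := Int.emod_add_mul_ediv (6 * res m' a) (p : ℤ)
    have b1 := Int.emod_nonneg (6 * res m a) hpz.ne'
    have b2 := Int.emod_nonneg (6 * res m' a) hpz.ne'
    have b3 := Int.emod_lt_of_pos (6 * res m a) hpz
    have b4 := Int.emod_lt_of_pos (6 * res m' a) hpz
    rw [e'] at d1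
    rw [← abs_of_pos (show (0 : ℤ) < 6 by norm_num), ← abs_mul, abs_lt]
    constructor <;> linarith

/-- Close exponents give roots of unity at distance less than one. -/
theorem norm_zpow_sub_one {p : ℕ} (hp : 0 < p) {e : ℤ} (he : 6 * |e| < p) :
    ‖(Complex.exp (2 * Real.pi * Complex.I / p)) ^ e - 1‖ < 1 := by
  rw [← Complex.exp_int_mul,
    show (e : ℂ) * (2 * Real.pi * Complex.I / p) =
      Complex.I * ((2 * Real.pi * e / p : ℝ) : ℂ) by push_cast; ring,
    Complex.norm_exp_I_mul_ofReal_sub_one, Real.norm_eq_abs, abs_mul, abs_two]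
  have hpR : (0 : ℝ) < p := by exact_mod_cast hp
  have hθ : |2 * Real.pi * (e : ℝ) / p / 2| < Real.pi / 6 := by
    have he' : 6 * |(e : ℝ)| < p := by exact_mod_cast he
    rw [show 2 * Real.pi * (e : ℝ) / p / 2 = Real.pi / 6 * (6 * (e : ℝ) / p) by ring, abs_mul,
      abs_of_pos (by positivity : 0 < Real.pi / 6), abs_div, abs_mul, abs_of_pos hpR,
      abs_of_pos (show (0 : ℝ) < 6 by norm_num)]
    exact mul_lt_of_lt_one_right (by positivity) ((div_lt_one hpR).mpr he')
  obtain ⟨h1, h2⟩ := abs_lt.mp hθ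
  have hpi := Real.pi_pos
  have : |Real.sin (2 * Real.pi * (e : ℝ) / p / 2)| < 1 / 2 := by
    rw [abs_lt, ← Real.sin_pi_div_six, ← Real.sin_neg]
    constructor <;>
      exact Real.sin_lt_sin_of_lt_of_le_pi_div_two (by linarith) (by linarith) (by linarith)
  linarith

/-- A root of unity of order `p` is congruent to one. -/
theorem sub_one_mem {p : ℕ} {M : Ideal AlgInt} (hM : IsPModular p M) {x : ℂ} (hx : x ^ p = 1) :
    MemLocalIdeal M (x - 1) := by
  haveI : Fact p.Prime := ⟨hM.1⟩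
  haveI := charP_residue hM
  haveI := IsPModular.isPrime hM
  have hint : IsIntegral ℤ x := IsIntegral.of_pow hM.1.pos (by rw [hx]; exact isIntegral_one)
  let a : AlgInt := ⟨x, hint⟩
  have ha : a ^ p = 1 := Subtype.ext (by simpa [a] using hx)
  have h0 : (Ideal.Quotient.mk M (a - 1)) ^ p = 0 := by
    rw [map_sub, map_one, sub_pow_char, ← map_pow, ha, map_one, one_pow, sub_self]
  have hmem : a - 1 ∈ M := Ideal.Quotient.eq_zero_iff_mem.mp (eq_zero_of_pow_eq_zero h0)
  simpa [a] using memLocalIdeal_coe hM hmem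

theorem invariant_cases {G : Type u} [Group G] {n : ℕ} (ρ : Representation ℂ G (Fin n → ℂ))
    [hρ : ρ.IsIrreducible] (U : Submodule ℂ (Fin n → ℂ)) (h : ∀ (k : G), ∀ v ∈ U, ρ k v ∈ U) :
    U = ⊥ ∨ U = ⊤ := by
  let S : Subrepresentation ρ := ⟨U, fun k v hv => h k v hv⟩
  rcases hρ.eq_bot_or_eq_top S with hS | hS
  · exact Or.inl (congrArg Subrepresentation.toSubmodule hS)
  · exact Or.inr (congrArg Subrepresentation.toSubmodule hS)

variable {G : Type u} [Group G] [Fintype G]

/-- A nontrivial principal block character of degree prime to `q`. -/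
theorem exists_char {p q : ℕ} (hq : q.Prime) {M : Ideal AlgInt} (hM : IsPModular p M) {z : G}
    (hz : p ∣ orderOf z) :
    ∃ χ : IrrCharacter G, χ ∈ principalBlock M G ∧ χ ≠ principalIrr G ∧
      ¬ q ∣ charDegree (χ : G → ℂ) := by
  classical
  by_contra hcon
  push Not at hcon
  set S := Finset.univ.filter (· ∈ principalBlock M G)
  have hp0 : principalIrr G ∈ S := by
    have : principalIrr G ∈ principalBlock M G := sameBlock_refl hM _
    exact Finset.mem_filter.mpr ⟨Finset.mem_univ _, this⟩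
  have h := weak_orth hM (isPBlock_principalBlock M) (x := (1 : G)) (y := z)
    (by rw [orderOf_one]; exact hM.1.not_dvd_one) hz
  rw [← Finset.add_sum_erase _ _ hp0] at h
  simp only [principalIrr_apply, map_one, mul_one] at h
  have hint : IsIntegral ℤ ((-1 : ℂ) / q) := by
    rw [show (-1 : ℂ) / q = ∑ χ ∈ S.erase (principalIrr G),
        ((charDegree (χ : G → ℂ) / q : ℕ) : ℂ) * conj ((χ : G → ℂ) z) by
      rw [div_eq_iff (Nat.cast_ne_zero.mpr hq.ne_zero), Finset.sum_mul,
        show (-1 : ℂ) = ∑ χ ∈ S.erase (principalIrr G), (χ : G → ℂ) 1 * conj ((χ : G → ℂ) z) by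
          linear_combination -h]
      refine Finset.sum_congr rfl fun χ hχ => ?_
      obtain ⟨hne, hS⟩ := Finset.mem_erase.mp hχ
      obtain ⟨t, ht⟩ := hcon χ (Finset.mem_filter.mp hS).2 hne
      rw [(CfsgLib.ClassCount.degree_eq χ).1, ht, Nat.mul_div_cancel_left _ hq.pos]
      push_cast; ring]
    refine IsIntegral.sum _ fun χ _ => (IsIntegral.mul ?_ ?_)
    · exact isIntegral_algebraMap (R := ℤ) (x := ((charDegree (χ : G → ℂ) / q : ℕ) : ℤ))
    · rw [← irr_apply_inv]; exact CfsgLib.ClassCount.irr_isIntegral χ _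
  obtain ⟨t, ht⟩ := exists_int_of_isIntegral_rat (q := (-1 : ℚ) / q) (by push_cast; exact hint)
  rw [eq_div_iff (Nat.cast_ne_zero.mpr hq.ne_zero)] at ht
  have hqd : (q : ℤ) ∣ 1 := ⟨-t, by
    have : t * (q : ℤ) = -1 := by exact_mod_cast ht
    linarith⟩
  exact hq.not_dvd_one (Int.natCast_dvd_natCast.mp (by exact_mod_cast hqd))

/-- The eigenvalues of `z` in a principal block character are at most `d` in number. -/
theorem few_eigen {p : ℕ} {M : Ideal AlgInt} (hM : IsPModular p M) {z : G} (hz : orderOf z = p)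
    (hh : ¬ p ∣ (Subgroup.centralizer ({z} : Set G)).index) (χ : IrrCharacter G)
    (hχ : χ ∈ principalBlock M G) {n : ℕ} (N : Fin n → ℕ) (hN : ∀ i, N i < p) {ζ : ℂ}
    (hζ : IsPrimitiveRoot ζ p) (hval : ∀ l : ℕ, (χ : G → ℂ) (z ^ l) = ∑ i, ζ ^ (N i * l))
    (hd : Nat.gcd (Subgroup.centralizer ({z} : Set G)).index (charDegree (χ : G → ℂ)) < p) :
    (Finset.univ.image N).card ≤
      Nat.gcd (Subgroup.centralizer ({z} : Set G)).index (charDegree (χ : G → ℂ)) := by
  classical
  have hp := hM.1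
  set x := charDegree (χ : G → ℂ) with hx
  set h := (Subgroup.centralizer ({z} : Set G)).index with hhdef
  set d := Nat.gcd h x with hddef
  have hx0 : 0 < x := (CfsgLib.ClassCount.degree_eq χ).2.2
  have hx1 : (χ : G → ℂ) 1 = (x : ℂ) := (CfsgLib.ClassCount.degree_eq χ).1
  obtain ⟨Q, hQ⟩ : d ∣ x := Nat.gcd_dvd_right h x
  have hd0 : 0 < d := Nat.gcd_pos_of_pos_right _ hx0
  have hQ0 : 0 < Q := pos_of_mul_pos_right (hQ ▸ hx0) (Nat.zero_le _)
  -- all powers have the same class size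
  have hidx : ∀ l, 0 < l → l < p → (Subgroup.centralizer ({z ^ l} : Set G)).index = h := by
    intro l h0 hl
    refine congrArg Subgroup.index (le_antisymm ?_ ?_)
    · obtain ⟨s, hs⟩ : ∃ s : ℕ, (z ^ l) ^ s = z :=
        exists_pow_eq_self_of_coprime (x := z) (n := l)
          (by rw [hz]; exact ((hp.coprime_iff_not_dvd).mpr (Nat.not_dvd_of_pos_of_lt h0 hl)).symm)
      intro w hw
      rw [Subgroup.mem_centralizer_singleton_iff] at hw ⊢
      rw [← hs]
      exact ((show Commute w (z ^ l) from hw).pow_right s).eq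
    · intro w hw
      rw [Subgroup.mem_centralizer_singleton_iff] at hw ⊢
      exact ((show Commute w z from hw).pow_right l).eq
  have hw : ∀ l, 0 < l → l < p → IsIntegral ℤ ((χ : G → ℂ) (z ^ l) / Q) := by
    intro l h0 hl
    have hb := Nat.gcd_eq_gcd_ab h x
    rw [show (χ : G → ℂ) (z ^ l) / (Q : ℂ) = (Nat.gcdA h x : ℂ) * centralChar (χ : G → ℂ) (z ^ l) +
        (Nat.gcdB h x : ℂ) * (χ : G → ℂ) (z ^ l) by
      rw [centralChar, hidx l h0 hl, hx1]
      have hb' : (d : ℂ) = (h : ℂ) * (Nat.gcdA h x : ℂ) + (x : ℂ) * (Nat.gcdB h x : ℂ) := by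
        exact_mod_cast congrArg (fun k : ℤ => (k : ℂ)) hb
      have hxQ : (x : ℂ) = (d : ℂ) * Q := by exact_mod_cast hQ
      have hQ0' : (Q : ℂ) ≠ 0 := Nat.cast_ne_zero.mpr hQ0.ne'
      have hx0' : (x : ℂ) ≠ 0 := Nat.cast_ne_zero.mpr hx0.ne'
      field_simp
      linear_combination ((χ : G → ℂ) (z ^ l)) * hxQ + ((χ : G → ℂ) (z ^ l) * Q) * hb']
    exact ((isIntegral_algebraMap (R := ℤ) (x := Nat.gcdA h x)).mul
      (CfsgLib.ClassCount.centralChar_isIntegral χ _)).add
      ((isIntegral_algebraMap (R := ℤ) (x := Nat.gcdB h x)).mul (CfsgLib.ClassCount.irr_isIntegral χ _))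
  set m : ℕ → ℤ := fun k => ((Finset.univ.filter fun i => N i = k).card : ℤ) with hm
  have hmval : ∀ l : ℕ, (χ : G → ℂ) (z ^ l) = ∑ k ∈ Finset.range p, (m k : ℂ) * ζ ^ (k * l) := by
    intro l
    rw [hval, ← Finset.sum_fiberwise_of_maps_to (t := Finset.range p) (g := N)
      fun i _ => Finset.mem_range.mpr (hN i)]
    refine Finset.sum_congr rfl fun k _ => ?_
    rw [Finset.sum_congr rfl (fun i hi => show ζ ^ (N i * l) = ζ ^ (k * l) by
      rw [(Finset.mem_filter.mp hi).2]), Finset.sum_const, nsmul_eq_mul]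
    simp [hm]
  have hgeom : ∀ l, 0 < l → l < p → ∑ k ∈ Finset.range p, ζ ^ (k * l) = 0 := fun l h0 hl => by
    simp_rw [mul_comm _ l]
    rw [CfsgLib.DihedralBlock.root_sum hp.ne_zero hζ l,
      if_neg (Nat.not_dvd_of_pos_of_lt h0 hl)]
  -- the congruence of the multiplicities
  have hcong : ∀ k, k < p → ∃ e : ℤ, m k - m 0 = (Q : ℤ) * e := by
    intro k hk
    have hc := CfsgLib.DihedralBlock.coeff_eq hp.ne_zero hζ (f := fun l => (χ : G → ℂ) (z ^ l))
      (d := fun j => m j - m 0) (sub_self _) (fun l h0 hl => by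
        rw [hmval l]
        simp only [Int.cast_sub, sub_mul, Finset.sum_sub_distrib, ← Finset.mul_sum, hgeom l h0 hl,
          mul_zero, sub_zero]) hk
    have hzp : ∀ j : ℕ, (ζ ^ j) ^ p = 1 := fun j => by
      rw [← pow_mul, mul_comm, pow_mul, hζ.pow_eq_one, one_pow]
    have hterm : ∀ l ∈ Finset.range p, IsIntegral ℤ ((χ : G → ℂ) (z ^ l) * (ζ ^ ((p - k) * l) - 1) / Q) ∧
        MemLocalIdeal M ((χ : G → ℂ) (z ^ l) * (ζ ^ ((p - k) * l) - 1) / Q) := by
      intro l hl
      rcases Nat.eq_zero_or_pos l with rfl | h0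
      · simp only [mul_zero, pow_zero, sub_self, zero_div]
        exact ⟨isIntegral_zero, memLocalIdeal_zero hM⟩
      · rw [mul_div_right_comm]
        exact ⟨(hw l h0 (Finset.mem_range.mp hl)).mul
          (((IsIntegral.of_pow hp.pos (by rw [hζ.pow_eq_one]; exact isIntegral_one) : IsIntegral ℤ ζ).pow _).sub
            isIntegral_one),
          MemLocalIdeal.mul_left hM (memLocalRing_of_isIntegral hM (hw l h0 (Finset.mem_range.mp hl)))
            (sub_one_mem hM (hzp _))⟩
    set T : ℂ := ∑ l ∈ Finset.range p, (χ : G → ℂ) (z ^ l) * (ζ ^ ((p - k) * l) - 1) / Q with hT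
    have hTeq : T = ((p : ℚ) * (m k - m 0) / Q : ℚ) := by
      rw [hT, ← Finset.sum_div, ← hc]
      push_cast; ring
    have hTint : IsIntegral ℤ T := IsIntegral.sum _ fun l hl => (hterm l hl).1
    have hTmem : MemLocalIdeal M T := MemLocalIdeal.sum hM _ fun l hl => (hterm l hl).2
    rw [hTeq] at hTint hTmem
    obtain ⟨t, ht⟩ := exists_int_of_isIntegral_rat hTint
    rw [← ht, Rat.cast_intCast] at hTmem
    obtain ⟨e, he⟩ := (intCast_mem_iff hM t).mp ((memLocalIdeal_coe_iff hM (t : AlgInt)).mp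
      (by simpa using hTmem))
    refine ⟨e, ?_⟩
    rw [eq_div_iff (Nat.cast_ne_zero.mpr hQ0.ne'), he] at ht
    have : ((p : ℤ) * e) * (Q : ℤ) = (p : ℤ) * (m k - m 0) := by exact_mod_cast ht
    have hp' : (p : ℤ) ≠ 0 := by exact_mod_cast hp.ne_zero
    apply mul_left_cancel₀ hp'
    linear_combination -this
  choose! ν hν using hcong
  obtain ⟨k₁, hk₁, hmin⟩ := Finset.exists_min_image (Finset.range p) m
    ⟨0, Finset.mem_range.mpr hp.pos⟩
  set e : ℕ → ℤ := fun k => ν k - ν k₁ with he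
  have hme : ∀ k ∈ Finset.range p, m k = m k₁ + (Q : ℤ) * e k := fun k hk => by
    have a := hν k (Finset.mem_range.mp hk)
    have b := hν k₁ (Finset.mem_range.mp hk₁)
    simp only [he]
    linarith
  have hQz : (0 : ℤ) < Q := by exact_mod_cast hQ0
  have henn : ∀ k ∈ Finset.range p, 0 ≤ e k := fun k hk => by
    by_contra hneg
    push Not at hneg
    have := hmin k hk
    rw [hme k hk] at this
    nlinarith
  have hmsum : ∑ k ∈ Finset.range p, m k = (x : ℤ) := by
    have h0 := hmval 0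
    simp only [pow_zero, mul_zero, mul_one, hx1] at h0
    exact_mod_cast h0.symm
  rw [Finset.sum_congr rfl hme, Finset.sum_add_distrib, Finset.sum_const, Finset.card_range,
    nsmul_eq_mul, ← Finset.mul_sum, hQ, Nat.cast_mul] at hmsum
  set E := ∑ k ∈ Finset.range p, e k with hE
  have hc0 : 0 ≤ m k₁ := by simp [hm]
  have hE0 : 0 ≤ E := Finset.sum_nonneg henn
  have hEd : E ≤ d := by
    by_contra hgt
    push Not at hgt
    nlinarith [mul_nonneg (Int.natCast_nonneg p) hc0]
  -- the block congruence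
  have hz1 : (χ : G → ℂ) z = (Q : ℂ) * ∑ k ∈ Finset.range p, (e k : ℂ) * ζ ^ k := by
    have h1 := hmval 1
    simp only [pow_one, mul_one] at h1
    rw [h1, Finset.sum_congr rfl (fun k hk => show (m k : ℂ) * ζ ^ k =
      (m k₁ : ℂ) * ζ ^ k + (Q : ℂ) * ((e k : ℂ) * ζ ^ k) by rw [hme k hk]; push_cast; ring),
      Finset.sum_add_distrib, ← Finset.mul_sum, ← Finset.mul_sum]
    have := hgeom 1 one_pos hp.one_lt
    simp only [mul_one] at this
    rw [this, mul_zero, zero_add]
  have hblock : MemLocalIdeal M (((h : ℤ) * (E - d) : ℤ) : ℂ) := by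
    have hc : MemLocalIdeal M (centralChar (fun _ : G => (1 : ℂ)) z - centralChar (χ : G → ℂ) z) :=
      hχ z
    have hsum : MemLocalIdeal M (∑ k ∈ Finset.range p, (e k : ℂ) * (ζ ^ k - 1)) :=
      MemLocalIdeal.sum hM _ fun k _ => MemLocalIdeal.mul_left hM
        (memLocalRing_of_isIntegral hM (isIntegral_algebraMap (R := ℤ) (x := e k)))
        (sub_one_mem hM (by rw [← pow_mul, mul_comm, pow_mul, hζ.pow_eq_one, one_pow]))
    have key : (((h : ℤ) * (E - d) : ℤ) : ℂ) =
        -((d : ℂ) * (centralChar (fun _ : G => (1 : ℂ)) z - centralChar (χ : G → ℂ) z)) -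
          (h : ℂ) * ∑ k ∈ Finset.range p, (e k : ℂ) * (ζ ^ k - 1) := by
      have hQ0' : (Q : ℂ) ≠ 0 := Nat.cast_ne_zero.mpr hQ0.ne'
      have hd0' : (d : ℂ) ≠ 0 := Nat.cast_ne_zero.mpr hd0.ne'
      simp only [centralChar, ← hhdef, hx1, hz1, mul_sub, mul_one, Finset.sum_sub_distrib, hE]
      rw [show (x : ℂ) = (d : ℂ) * Q by exact_mod_cast hQ]
      push_cast
      field_simp
      ring
    rw [key]
    exact MemLocalIdeal.sub hM (MemLocalIdeal.neg hM (MemLocalIdeal.mul_left hM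
        (memLocalRing_of_isIntegral hM (isIntegral_algebraMap (R := ℤ) (x := (d : ℤ)))) hc))
      (MemLocalIdeal.mul_left hM
        (memLocalRing_of_isIntegral hM (isIntegral_algebraMap (R := ℤ) (x := (h : ℤ)))) hsum)
  have hdvd : (p : ℤ) ∣ E - d := by
    have := (intCast_mem_iff hM _).mp ((memLocalIdeal_coe_iff hM (((h : ℤ) * (E - d) : ℤ) : AlgInt)).mp
      (by simpa using hblock))
    exact ((Nat.prime_iff_prime_int.mp hp).dvd_mul.mp this).resolve_left
      (fun hd => hh (by exact_mod_cast hd))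
  have hEeq : E = d := by
    have hlt' : (d : ℤ) < p := by exact_mod_cast hd
    have hdvd' : (p : ℤ) ∣ (d : ℤ) - E := by rw [← dvd_neg, neg_sub]; exact hdvd
    obtain ⟨t, ht⟩ := hdvd'
    rcases lt_trichotomy t 0 with h | h | h
    · nlinarith
    · subst h; linarith
    · nlinarith
  have hmk1 : m k₁ = 0 := by
    rw [hEeq] at hmsum
    have hp' : (0 : ℤ) < p := by exact_mod_cast hp.pos
    nlinarith
  have hone : ∀ k ∈ Finset.univ.image N, (1 : ℤ) ≤ e k := by
    intro k hk
    obtain ⟨i, -, rfl⟩ := Finset.mem_image.mp hk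
    have hpos : 0 < m (N i) := by
      simp only [hm]
      exact Nat.cast_pos.mpr (Finset.card_pos.mpr ⟨i, by simp⟩)
    rw [hme _ (Finset.mem_range.mpr (hN i)), hmk1, zero_add] at hpos
    exact (pos_iff_pos_of_mul_pos hpos).mp hQz
  have : ((Finset.univ.image N).card : ℤ) ≤ E := by
    calc ((Finset.univ.image N).card : ℤ) = ∑ _k ∈ Finset.univ.image N, (1 : ℤ) := by simp
      _ ≤ ∑ k ∈ Finset.univ.image N, e k := Finset.sum_le_sum hone
      _ ≤ E := Finset.sum_le_sum_of_subset_of_nonneg (fun k hk => by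
          obtain ⟨i, -, rfl⟩ := Finset.mem_image.mp hk
          exact Finset.mem_range.mpr (hN i)) (fun k hk _ => henn k hk)
  rw [hEeq] at this
  exact_mod_cast this

set_option maxHeartbeats 300000 in
/-- The main inequality. -/
theorem lt_six_pow [IsSimpleGroup G] {p q a b g₀ : ℕ} (hp : p.Prime) (hq : q.Prime) (ha : 0 < a)
    (hg : Nat.card G = p ^ a * q ^ b * g₀) (hne : Nat.card G ≠ p) : p < 6 ^ (g₀ - 1) := by
  classical
  haveI : Fact p.Prime := ⟨hp⟩
  by_contra hge
  push Not at hge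
  have hpG : p ∣ Nat.card G := hg ▸ dvd_mul_of_dvd_left (dvd_mul_of_dvd_left (dvd_pow_self p ha.ne') _) _
  have hna : ∃ x y : G, x * y ≠ y * x := by
    by_contra hc
    push Not at hc
    letI : CommGroup G := { (inferInstance : Group G) with mul_comm := hc }
    haveI : IsSimpleGroup G := inferInstance
    have hpr := IsSimpleGroup.prime_card (α := G)
    rcases (Nat.dvd_prime hpr).mp hpG with h | h
    · exact hp.ne_one h
    · exact hne h.symm
  have hns : ¬ Group.IsSolvable G := fun hs => by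
    obtain ⟨x, y, hxy⟩ := hna
    exact hxy (IsSimpleGroup.comm_iff_isSolvable.mpr hs x y)
  have hg0 : 2 ≤ g₀ := by
    by_contra hlt
    rcases g₀ with _ | _ | g₀
    · simp at hg
    · refine hns (CfsgLib.FewOrders.isSolvable_of_two_primes hp hq fun t ht htd => ?_)
      rw [hg, Nat.zero_add, mul_one] at htd
      rcases ht.dvd_mul.mp htd with h | h
      · exact Or.inl ((Nat.prime_dvd_prime_iff_eq ht hp).mp (ht.dvd_of_dvd_pow h))
      · exact Or.inr ((Nat.prime_dvd_prime_iff_eq ht hq).mp (ht.dvd_of_dvd_pow h))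
    · omega
  have hlt : 6 ^ (g₀ - 1) < p := by
    refine lt_of_le_of_ne hge fun e => ?_
    rw [← e] at hp
    obtain ⟨k, hk⟩ : ∃ k, g₀ - 1 = k + 1 := ⟨g₀ - 2, by omega⟩
    rw [hk, pow_succ] at hp
    rcases Nat.prime_mul_iff.mp hp with ⟨-, h⟩ | ⟨h, -⟩
    · norm_num at h
    · norm_num at h
  have hg0p : g₀ < p := by
    have : g₀ - 1 < 6 ^ (g₀ - 1) := Nat.lt_pow_self (by norm_num)
    omega
  -- the element
  obtain ⟨x, y, hxy⟩ := hna
  haveI : Nontrivial G := ⟨⟨x * y, y * x, hxy⟩⟩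
  obtain ⟨P⟩ : Nonempty (Sylow p G) := inferInstance
  haveI : Nontrivial (P : Subgroup G) := by
    rw [← Finite.one_lt_card_iff_nontrivial, P.card_eq_multiplicity]
    exact Nat.one_lt_pow (fun h => by
      have := (hp.dvd_iff_one_le_factorization Nat.card_pos.ne').1 hpG
      omega) hp.one_lt
  haveI : Nontrivial (Subgroup.center (P : Subgroup G)) := P.2.center_nontrivial
  obtain ⟨w, hw⟩ : ∃ w : Subgroup.center (P : Subgroup G), orderOf w = p := by
    refine exists_prime_orderOf_dvd_card' p ?_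
    obtain ⟨k, hk⟩ := IsPGroup.iff_card.mp (P.2.to_subgroup (Subgroup.center (P : Subgroup G)))
    rw [hk]
    refine dvd_pow_self p fun h0 => ?_
    rw [h0, pow_zero] at hk
    exact absurd (Finite.one_lt_card_iff_nontrivial.mpr ‹Nontrivial (Subgroup.center (P : Subgroup G))›) (by omega)
  set z : G := ((w : (P : Subgroup G)) : G) with hzdef
  have hz : orderOf z = p := by rw [hzdef, Subgroup.orderOf_coe, Subgroup.orderOf_coe, hw]
  have hh : ¬ p ∣ (Subgroup.centralizer ({z} : Set G)).index := fun h => by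
    refine P.not_dvd_index (h.trans (Subgroup.index_dvd_of_le fun v hv => ?_))
    exact Subgroup.mem_centralizer_singleton_iff.2
      (congrArg Subtype.val (Subgroup.mem_center_iff.1 w.2 ⟨v, hv⟩))
  obtain ⟨M, hM⟩ := CfsgLib.Blocks.exists_isPModular (p := p)
  obtain ⟨χ, hχ, hχ1, hχq⟩ := exists_char (G := G) hq hM (z := z) (hz ▸ dvd_rfl)
  -- the bound on the number of eigenvalues
  set d := Nat.gcd (Subgroup.centralizer ({z} : Set G)).index (charDegree (χ : G → ℂ))
  have hdg : d ∣ g₀ := by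
    have h1 : d ∣ (Subgroup.centralizer ({z} : Set G)).index := Nat.gcd_dvd_left _ _
    have h2 : d ∣ charDegree (χ : G → ℂ) := Nat.gcd_dvd_right _ _
    have c1 : d.Coprime (p ^ a) :=
      ((hp.coprime_iff_not_dvd.mpr fun h => hh (h.trans h1)).symm).pow_right a
    have c2 : d.Coprime (q ^ b) :=
      ((hq.coprime_iff_not_dvd.mpr fun h => hχq (h.trans h2)).symm).pow_right b
    refine (c1.mul_right c2).dvd_of_dvd_mul_left ?_
    rw [← hg]
    exact h1.trans (Subgroup.index_dvd_card _)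
  have hdle : d ≤ g₀ := Nat.le_of_dvd (by omega) hdg
  -- eigenvalues
  obtain ⟨ψ, hψ⟩ : ∃ ψ : IrrCharacter G, ψ = χ := ⟨χ, rfl⟩
  obtain ⟨χf, n, ρ, hρ, rfl⟩ := χ
  haveI := hρ
  obtain ⟨B, ω, hω1, hω2⟩ := exists_eigenbasis ρ z
  haveI : NeZero p := ⟨hp.ne_zero⟩
  obtain ⟨ζ, hζdef⟩ : ∃ ζ : ℂ, ζ = Complex.exp (2 * Real.pi * Complex.I / p) := ⟨_, rfl⟩
  have hζ : IsPrimitiveRoot ζ p := hζdef ▸ Complex.isPrimitiveRoot_exp p hp.ne_zero
  have hN' : ∀ i, ∃ j < p, ζ ^ j = ω i := fun i =>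
    hζ.eq_pow_of_pow_eq_one (by rw [← hz]; exact hω1 i)
  choose N hNp hN using hN'
  have hpow : ∀ (l : ℕ) (i), ρ (z ^ l) (B i) = ζ ^ (N i * l) • B i := by
    intro l i
    induction l with
    | zero => simp
    | succ l ih =>
      rw [pow_succ', map_mul, Module.End.mul_apply, ih, map_smul, hω2, smul_smul, Nat.mul_succ,
        pow_add, hN]
  have hcard := few_eigen hM hz hh _ hχ N hNp hζ
    (fun l => character_eq_sum_of_eigenbasis ρ (z ^ l) B _ (hpow l)) (by omega)
  -- a power with close eigenvalues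
  have hnpos : 0 < Module.finrank ℂ (Fin n → ℂ) := CharScalar.finrank_pos ρ
  set i₀ : Fin (Module.finrank ℂ (Fin n → ℂ)) := ⟨0, hnpos⟩
  obtain ⟨D, hD0, hDp, hD⟩ := pigeon hp.pos (Finset.univ.image N)
    (Finset.mem_image_of_mem N (Finset.mem_univ i₀)) (lt_of_le_of_lt
      (Nat.pow_le_pow_right (by norm_num) (by omega)) hlt)
  set g := z ^ D with hgdef
  have hg1 : g ≠ 1 := pow_ne_one_of_lt_orderOf hD0.ne' (hz.symm ▸ hDp)
  have hgp : g ^ p = 1 := by rw [hgdef, ← pow_mul, mul_comm, pow_mul, ← hz, pow_orderOf_eq_one, one_pow]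
  set lam := ζ ^ (N i₀ * D) with hlamdef
  have hclose : ∀ i, ‖ζ ^ (N i * D) - lam‖ < 1 := by
    intro i
    obtain ⟨e, ⟨t, ht⟩, he⟩ := hD (N i) (Finset.mem_image_of_mem N (Finset.mem_univ i))
    have h1 : ζ ^ (N i * D) = lam * ζ ^ e := by
      rw [hlamdef, ← zpow_natCast, ← zpow_natCast, ← zpow_add₀ (hζ.ne_zero hp.ne_zero),
        show ((N i * D : ℕ) : ℤ) = ((N i₀ * D : ℕ) : ℤ) + e + (p : ℤ) * t by push_cast; linarith,
        zpow_add₀ (hζ.ne_zero hp.ne_zero), zpow_mul, zpow_natCast, hζ.pow_eq_one, one_zpow, mul_one]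
    have hn1 : ‖lam‖ = 1 := by
      rw [hlamdef, norm_pow, hζ.norm'_eq_one hp.ne_zero, one_pow]
    rw [h1, show lam * ζ ^ e - lam = lam * (ζ ^ e - 1) by ring, norm_mul, hn1, one_mul, hζdef]
    exact norm_zpow_sub_one hp.pos he
  obtain ⟨i₁, -, hmax⟩ := Finset.exists_max_image Finset.univ
    (fun i => ‖ζ ^ (N i * D) - lam‖) ⟨i₀, Finset.mem_univ _⟩
  -- the unitary model
  obtain ⟨m, hm, W, A, e, hA, hiso⟩ := CfsgLib.LinGrp.exists_unitary_model ρ
  let B' := B.map e
  have hB' : ∀ i, A g (B' i) = ζ ^ (N i * D) • B' i := fun i => by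
    simp only [B', Module.Basis.map_apply, hA, hgdef, hpow, map_smul]
  have hev : ∀ (v : W) (μ : ℂ), v ≠ 0 → A g v = μ • v →
      ‖μ - lam‖ ≤ ‖ζ ^ (N i₁ * D) - lam‖ := by
    intro v μ hv hμ
    obtain ⟨i, hi⟩ : ∃ i, B'.repr v i ≠ 0 := by
      by_contra hc
      push Not at hc
      exact hv (B'.repr.map_eq_zero_iff.mp (Finsupp.ext fun i => hc i))
    have hrep : B'.repr (A g v) i = ζ ^ (N i * D) * B'.repr v i := by
      conv_lhs => rw [← B'.sum_repr v, map_sum]
      simp only [map_smul, hB', map_sum, Finsupp.finsetSum_apply, Finsupp.smul_apply, B'.repr_self,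
        smul_eq_mul, Finsupp.single_apply]
      simp [mul_comm]
    rw [hμ, map_smul, Finsupp.smul_apply, smul_eq_mul] at hrep
    rw [mul_right_cancel₀ hi hrep]
    exact hmax i (Finset.mem_univ _)
  have hirr : ∀ U : Submodule ℂ W, (∀ h : G, ∀ v ∈ U, A h v ∈ U) → U = ⊥ ∨ U = ⊤ := by
    intro U hU
    rcases invariant_cases ρ (U.comap e.toLinearMap) (fun h v hv => by
      show e (ρ h v) ∈ U
      rw [← hA]; exact hU h _ hv) with h | h
    · left
      rw [eq_bot_iff]
      intro u hu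
      have : e.symm u ∈ U.comap e.toLinearMap := by
        show e (e.symm u) ∈ U
        rwa [e.apply_symm_apply]
      rw [h, Submodule.mem_bot] at this
      rw [Submodule.mem_bot]
      exact e.symm.map_eq_zero_iff.mp this
    · right
      rw [eq_top_iff]
      intro u _
      have : e.symm u ∈ U.comap e.toLinearMap := h ▸ Submodule.mem_top
      rwa [Submodule.mem_comap, LinearEquiv.coe_coe, e.apply_symm_apply] at this
  have hgen : Subgroup.normalClosure {g} = ⊤ :=
    ((Subgroup.normalClosure_normal (s := {g})).eq_bot_or_eq_top).resolve_left fun h => hg1 (by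
      have : g ∈ Subgroup.normalClosure {g} := Subgroup.subset_normalClosure rfl
      rwa [h, Subgroup.mem_bot] at this)
  have hl : lam ^ p = 1 := by rw [hlamdef, ← pow_mul, mul_comm, pow_mul, hζ.pow_eq_one, one_pow]
  have hex : ∃ v : W, v ≠ 0 ∧ A g v = lam • v := ⟨B' i₀, B'.ne_zero _, hB' i₀⟩
  have hiso' : CfsgLib.LinGrp.IsIso' (V := W) A := hiso
  have hscal : ∀ v : W, A g v = lam • v :=
    CfsgLib.SixtyDegree.scalar_of_close (V := W) hiso' hirr hgp hp.ne_zero hgen
      hl hex (norm_nonneg _) (hclose i₁) hev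
  -- faithfulness
  have hinj : ∀ h : G, (∀ w, A h w = w) → h = 1 := by
    intro h hh'
    rcases (MonoidHom.normal_ker A).eq_bot_or_eq_top with hk | hk
    · have : h ∈ A.ker := by
        rw [MonoidHom.mem_ker]
        exact ContinuousLinearMap.ext fun w => hh' w
      rwa [hk, Subgroup.mem_bot] at this
    · exfalso
      have hρ1 : ∀ k v, ρ k v = v := fun k v => e.injective (by
        have hk' : A k = 1 := MonoidHom.mem_ker.mp (hk ▸ Subgroup.mem_top k)
        rw [← hA, hk']; rfl)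
      have hn1 : Module.finrank ℂ (Fin n → ℂ) = 1 := by
        rw [← finrank_top ℂ (Fin n → ℂ)]
        have htop : (Submodule.span ℂ {B i₀}) = ⊤ :=
          (invariant_cases ρ _ (fun k v hv => by rwa [hρ1])).resolve_left
            (by simp [B.ne_zero i₀])
        rw [← htop, finrank_span_singleton (B.ne_zero i₀)]
      apply hχ1
      refine Subtype.ext (funext fun k => ?_)
      show ρ.character k = 1
      rw [Representation.character, show ρ k = LinearMap.id from LinearMap.ext (hρ1 k),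
        LinearMap.trace_id, hn1, Nat.cast_one]
  have hcenter : ∀ h : G, g * h = h * g := by
    intro h
    have em : ∀ (s t : G) (u : W), A (s * t) u = A s (A t u) := fun s t u => by rw [map_mul]; rfl
    have := hinj ((h * g)⁻¹ * (g * h)) fun w => by
      rw [em, em g h w, hscal, show lam • A h w = A h (lam • w) by rw [map_smul], ← hscal w, ← em h g w,
        ← em, inv_mul_cancel, map_one]
      rfl
    exact (inv_mul_eq_one.mp this).symm
  have hc : Subgroup.center G = ⊤ :=
    ((inferInstance : (Subgroup.center G).Normal).eq_bot_or_eq_top).resolve_left fun h => hg1 (by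
      have : g ∈ Subgroup.center G := Subgroup.mem_center_iff.mpr fun h => (hcenter h).symm
      rwa [h, Subgroup.mem_bot] at this)
  exact hxy ((Subgroup.mem_center_iff.mp (hc ▸ Subgroup.mem_top y) x))

end CfsgLib.SmallSpread
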