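import Cfsg.Agent.Lib.Blocks12.SmallTIBasic
import Cfsg.Agent.Lib.Characters.Exceptional
import Cfsg.Agent.Lib.OddOrder.CharTools

/-!
Leonard: an irreducible character of degree `x` with `x² + 1 < |P|` for a Sylow subgroup `P` all
of whose nonidentity elements have the same centraliser forces a proper normal subgroup over `P`,
or `N(P) = C(P)` and `x = 1`.
-/

set_option autoImplicit false

noncomputable section

namespace CfsgLib.SmallTI

open Cfsg CfsgLib.Characters CfsgLib.Chars17
open scoped ComplexConjugate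

universe u

variable {G : Type u} [Group G] [Fintype G] {p : ℕ} {P C N : Subgroup G} [Fintype C] [Fintype N]

theorem mult_cc (s : Star p P C N) {f : G → ℂ} (hf : IsClassFunction G f) (x : N)
    (φ : IrrCharacter C) :
    classInner (fun c : C => f c) (cc s x φ : C → ℂ) = classInner (fun c : C => f c) (φ : C → ℂ) := by
  unfold classInner
  congr 1
  refine Fintype.sum_bijective (ccHom s x) (ccHom_bijective s x) _ _ fun c => ?_
  beta_reduce
  rw [cc_apply, show f ((ccHom s x c : C) : G) = f c from hf c x]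

theorem triv_res {f : G → ℂ} {a : IrrCharacter C → ℕ}
    (hf : (fun c : C => f c) = ∑ φ, (a φ : ℂ) • (φ : C → ℂ))
    (hPC : P ≤ C) (h : ∀ φ, a φ ≠ 0 → TrivOn P φ) {u : G} (hu : u ∈ P) : f u = f 1 := by
  have h1 : f u = (∑ φ, (a φ : ℂ) • (φ : C → ℂ)) ⟨u, hPC hu⟩ := congrFun hf ⟨u, hPC hu⟩
  have h2 : f 1 = (∑ φ, (a φ : ℂ) • (φ : C → ℂ)) 1 := by simpa using congrFun hf 1
  rw [h1, h2]
  simp only [Finset.sum_apply, Pi.smul_apply, smul_eq_mul]
  refine Finset.sum_congr rfl fun φ _ => ?_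
  by_cases ha : a φ = 0
  · simp [ha]
  · rw [h φ ha ⟨u, hPC hu⟩ hu]

open Classical in
/-- The restriction to `C` of an irreducible character of small degree. -/
theorem support (s : Star p P C N) (χ : IrrCharacter G)
    (hx : charDegree (χ : G → ℂ) ^ 2 < Nat.card P) {a : IrrCharacter C → ℕ}
    (hres : (fun c : C => (χ : G → ℂ) c) = ∑ φ, (a φ : ℂ) • (φ : C → ℂ))
    (ha : ∀ φ : IrrCharacter C, classInner (fun c : C => (χ : G → ℂ) c) (φ : C → ℂ) = (a φ : ℂ))
    (hdeg : charDegree (χ : G → ℂ) = ∑ φ, a φ * charDegree (φ : C → ℂ)) :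
    (∀ u ∈ P, (χ : G → ℂ) u = (χ : G → ℂ) 1) ∨
      ∃ φ₀, ¬ TrivOn P φ₀ ∧ eN C N ≤ charDegree (χ : G → ℂ) ∧
        (∀ φ, a φ = if φ ∈ orb s φ₀ then 1 else 0) ∧ ∑ φ, a φ ^ 2 = eN C N := by
  have hcl : IsClassFunction C (fun c : C => (χ : G → ℂ) c) :=
    isClassFunction_of_isCharacter (isCharacter_res C (irr_isCharacter χ))
  have hnorm : classInner (fun c : C => (χ : G → ℂ) c) (fun c : C => (χ : G → ℂ) c) =
      ((∑ φ, a φ ^ 2 : ℕ) : ℂ) := by
    rw [classInner_self_eq_sum_sq hcl (m := fun φ => (a φ : ℤ)) (fun φ => by rw [ha φ]; simp)]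
    push_cast
    rfl
  have hk := norm_le s χ hx hnorm
  by_cases hall : ∀ φ, a φ ≠ 0 → TrivOn P φ
  · exact Or.inl fun u hu => triv_res hres s.hPC hall hu
  push Not at hall
  obtain ⟨φ₀, hφ₀, hnt⟩ := hall
  have hinv : ∀ φ ∈ orb s φ₀, a φ = a φ₀ := fun φ hφ => by
    obtain ⟨x, rfl⟩ := mem_orb.mp hφ
    have h := mult_cc s (irr_isClassFunction χ) x φ₀
    rw [ha, ha] at h
    exact_mod_cast h
  have horb : ∑ φ ∈ orb s φ₀, a φ ^ 2 = eN C N * a φ₀ ^ 2 := by
    rw [Finset.sum_congr rfl fun φ hφ => by rw [hinv φ hφ], Finset.sum_const, card_orb s hnt,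
      smul_eq_mul]
  have hsplit := Finset.sum_sdiff (f := fun φ => a φ ^ 2) (Finset.subset_univ (orb s φ₀))
  rw [horb] at hsplit
  have he : 0 < eN C N := Nat.pos_of_ne_zero Subgroup.index_ne_zero_of_finite
  have ha₀ : a φ₀ = 1 := by
    have h1 : eN C N * a φ₀ ^ 2 ≤ eN C N * 1 := by omega
    have h2 := Nat.le_of_mul_le_mul_left h1 he
    nlinarith [Nat.pos_of_ne_zero hφ₀]
  rw [ha₀, one_pow, mul_one] at hsplit
  have hrest : ∀ φ, φ ∉ orb s φ₀ → a φ = 0 := fun φ hφ => by
    have h1 : a φ ^ 2 ≤ ∑ ψ ∈ Finset.univ \ orb s φ₀, a ψ ^ 2 :=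
      Finset.single_le_sum (f := fun ψ => a ψ ^ 2) (fun _ _ => Nat.zero_le _)
        (Finset.mem_sdiff.mpr ⟨Finset.mem_univ _, hφ⟩)
    nlinarith
  refine Or.inr ⟨φ₀, hnt, ?_, fun φ => ?_, by omega⟩
  · rw [hdeg, ← card_orb s hnt, Finset.card_eq_sum_ones]
    refine le_trans (Finset.sum_le_sum fun φ hφ => ?_)
      (Finset.sum_le_sum_of_subset (Finset.subset_univ _))
    rw [hinv φ hφ, ha₀, one_mul]
    exact irrDegree_pos φ
  · split_ifs with h
    · rw [hinv φ h, ha₀]
    · exact hrest φ h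

open Classical in
/-- The main step. -/
theorem degree_one (s : Star p P C N) (χ : IrrCharacter G)
    (hx : charDegree (χ : G → ℂ) ^ 2 + 1 < Nat.card P) (h1 : (χ : G → ℂ) ≠ fun _ => 1)
    (hno : ∀ K : Subgroup G, K.Normal → P ≤ K → K = ⊤) :
    eN C N = 1 ∧ charDegree (χ : G → ℂ) = 1 := by
  set x := charDegree (χ : G → ℂ) with hxdef
  set e := eN C N with hedef
  set q := Nat.card P with hqdef
  have he : 0 < e := Nat.pos_of_ne_zero Subgroup.index_ne_zero_of_finite
  have hker : ∀ ξ : IrrCharacter G, (∀ u ∈ P, (ξ : G → ℂ) u = (ξ : G → ℂ) 1) →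
      ξ = principalIrr G := fun ξ h => by
    haveI : (irrKer ξ).Normal := ⟨fun n hn g => by
      rw [mem_irrKer] at hn ⊢
      rwa [irr_isClassFunction ξ n g]⟩
    have := hno (irrKer ξ) inferInstance fun u hu => mem_irrKer.mpr (h u hu)
    exact Subtype.ext ((irrKer_eq_top_iff ξ).mp this)
  obtain ⟨a, hres, ha, hdeg⟩ := exists_decomp (isCharacter_res C (irr_isCharacter χ))
  rw [charDegree_res] at hdeg
  rcases support s χ (lt_of_le_of_lt (Nat.le_add_right _ _) hx) hres ha hdeg with
    htriv | ⟨φχ, hφχ, hex, haφ, hsq⟩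
  · exact absurd (congrArg Subtype.val (hker χ htriv)) h1
  -- the character `χ χ̄`
  set ψ : G → ℂ := (χ : G → ℂ) * fun g => conj ((χ : G → ℂ) g) with hψ
  have hψc : IsCharacter G ψ :=
    isCharacter_mul (irr_isCharacter χ) (isCharacter_conj (irr_isCharacter χ))
  have hψcl := isClassFunction_of_isCharacter hψc
  have hψ1 : ψ 1 = ((x * x : ℕ) : ℂ) := by
    simp only [hψ, Pi.mul_apply, ← cast_irrDegree χ, hxdef, Complex.conj_natCast, Nat.cast_mul]
  have hψdeg : charDegree ψ = x * x := CfsgLib.LinearTwist.charDegree_eq_of_apply_one hψ1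
  have hψC : classInner (fun c : C => ψ c) (principalIrr C : C → ℂ) = (e : ℂ) := by
    have hcl : IsClassFunction C (fun c : C => (χ : G → ℂ) c) :=
      isClassFunction_of_isCharacter (isCharacter_res C (irr_isCharacter χ))
    have hn := classInner_self_eq_sum_sq hcl (m := fun φ => (a φ : ℤ))
      (fun φ => by rw [ha φ]; simp)
    have h2 : (∑ φ, (a φ : ℤ) ^ 2) = (e : ℤ) := by exact_mod_cast hsq
    rw [h2, Int.cast_natCast] at hn
    rw [← hn]
    simp [classInner, hψ, principalIrr]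
  have hψG : classInner ψ (principalIrr G : G → ℂ) = 1 := by
    rw [← classInner_irr_self χ.2]
    simp [classInner, hψ, principalIrr]
  obtain ⟨m, hψdec, hm, -⟩ := exists_decomp hψc
  obtain ⟨b, hbdec, hb, hbdeg⟩ := exists_decomp (isCharacter_res C hψc)
  rw [charDegree_res, hψdeg] at hbdeg
  choose A hAdec hA hAdeg using fun ξ : IrrCharacter G =>
    exists_decomp (isCharacter_res C (irr_isCharacter ξ))
  have hbA : ∀ φ, b φ = ∑ ξ, m ξ * A ξ φ := fun φ => by
    have e1 : (fun c : C => ψ c) = ∑ ξ : IrrCharacter G, (m ξ : ℂ) • (fun c : C => (ξ : G → ℂ) c) := by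
      funext c
      simp only [Finset.sum_apply, Pi.smul_apply]
      rw [hψdec]
      simp only [Finset.sum_apply, Pi.smul_apply]
    have h := hb φ
    rw [e1, classInner_sum_left] at h
    simp only [classInner_smul_left, hA] at h
    exact_mod_cast h.symm
  have hbpos : ∀ ξ φ, m ξ ≠ 0 → A ξ φ ≠ 0 → b φ ≠ 0 := fun ξ φ h h' h0 => by
    rw [hbA, Finset.sum_eq_zero_iff] at h0
    exact (Nat.mul_ne_zero h h') (h0 ξ (Finset.mem_univ _))
  have hbinv : ∀ {φ φ' : IrrCharacter C}, φ' ∈ orb s φ → b φ' = b φ := fun {φ φ'} h => by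
    obtain ⟨y, rfl⟩ := mem_orb.mp h
    have h' := mult_cc s hψcl y φ
    rw [hb, hb] at h'
    exact_mod_cast h'
  have hb1 : b (principalIrr C) = e := by
    have := hb (principalIrr C)
    rw [hψC] at this
    exact_mod_cast this.symm
  have hm1 : m (principalIrr G) = 1 := by
    have := hm (principalIrr G)
    rw [hψG] at this
    exact_mod_cast this.symm
  by_cases he1 : e = 1
  · refine ⟨he1, ?_⟩
    have horb : orb s φχ = {φχ} := (Finset.eq_of_subset_of_card_le
      (Finset.singleton_subset_iff.mpr (self_mem_orb s φχ))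
      (by rw [card_orb s hφχ, Finset.card_singleton]; exact he1.le)).symm
    have hresφ : ∀ c : C, (χ : G → ℂ) c = (φχ : C → ℂ) c := fun c => by
      rw [show (χ : G → ℂ) c = (∑ φ, (a φ : ℂ) • (φ : C → ℂ)) c from congrFun hres c]
      simp only [Finset.sum_apply, Pi.smul_apply, smul_eq_mul]
      rw [Finset.sum_eq_single φχ (fun φ _ hne => by simp [haφ, horb, hne]) (by simp)]
      simp [haφ, horb]
    obtain ⟨l, hl⟩ := central_hom s φχ
    have hψu : ∀ u ∈ P, ψ u = ψ 1 := fun u hu => by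
      set v : P.subgroupOf C := ⟨⟨u, s.hPC hu⟩, hu⟩
      have h2 : (χ : G → ℂ) u = (l v : ℂ) * (χ : G → ℂ) 1 := by
        have := hl v 1
        rw [mul_one, ← hresφ, ← hresφ, OneMemClass.coe_one] at this
        exact this
      have h3 : (l v : ℂ) * conj (l v : ℂ) = 1 := by
        have hn : ‖(l v : ℂ)‖ = 1 := by
          refine Complex.norm_eq_one_of_pow_eq_one (n := Nat.card (P.subgroupOf C)) ?_ Nat.card_pos.ne'
          rw [← Units.val_pow_eq_pow_val, ← map_pow, pow_card_eq_one', map_one, Units.val_one]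
        rw [Complex.mul_conj, Complex.normSq_eq_norm_sq, hn, one_pow, Complex.ofReal_one]
      simp only [hψ, Pi.mul_apply, h2, map_mul]
      linear_combination ((χ : G → ℂ) 1 * conj ((χ : G → ℂ) 1)) * h3
    have hall : ∀ ξ : IrrCharacter G, m ξ ≠ 0 → ξ = principalIrr G := fun ξ hξ => hker ξ fun u hu => by
      have h2 : ∑ ζ : IrrCharacter G, (m ζ : ℝ) * (((ζ : G → ℂ) 1).re - ((ζ : G → ℂ) u).re) = 0 := by
        have h := congrArg Complex.re (hψu u hu)
        rw [hψdec] at h
        simp only [Finset.sum_apply, Pi.smul_apply, smul_eq_mul, Complex.re_sum, Complex.mul_re,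
          Complex.natCast_re, Complex.natCast_im, zero_mul, sub_zero] at h
        simp only [mul_sub, Finset.sum_sub_distrib, h, sub_self]
      have h3 := (Finset.sum_eq_zero_iff_of_nonneg fun ζ _ => mul_nonneg (Nat.cast_nonneg _)
        (sub_nonneg.mpr (CfsgLib.OddOrder.CharTools.re_le (irr_isCharacter ζ) u).1)).mp h2 ξ
          (Finset.mem_univ _)
      have h4 := (mul_eq_zero.mp h3).resolve_left (by exact_mod_cast hξ)
      simpa using (CfsgLib.OddOrder.CharTools.re_le (irr_isCharacter ξ) u).2 (sub_eq_zero.mp h4).symm 1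
    have h5 : ψ 1 = 1 := by
      rw [hψdec, Finset.sum_apply, Finset.sum_eq_single (principalIrr G)
        (fun ξ _ hne => by
          have : m ξ = 0 := by by_contra h; exact hne (hall ξ h)
          simp [this]) (by simp)]
      simp only [Pi.smul_apply, hm1]
      simp [principalIrr]
    rw [hψ1] at h5
    have h6 : x * x = 1 := by exact_mod_cast h5
    exact Nat.eq_one_of_dvd_one (h6 ▸ dvd_mul_right x x)
  exfalso
  -- a constituent meeting the principal character of `C`
  obtain ⟨ξ, hξ1, hmξ, hAξ1⟩ : ∃ ξ, ξ ≠ principalIrr G ∧ m ξ ≠ 0 ∧ A ξ (principalIrr C) ≠ 0 := by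
    by_contra hcon
    push Not at hcon
    have h := hbA (principalIrr C)
    have hA1 : A (principalIrr G) (principalIrr C) = 1 := by
      have := hA (principalIrr G) (principalIrr C)
      rw [show (fun c : C => (principalIrr G : G → ℂ) c) = (principalIrr C : C → ℂ) from rfl,
        classInner_irr_self (principalIrr C).2] at this
      exact_mod_cast this.symm
    rw [hb1, Finset.sum_eq_single (principalIrr G) (fun ξ _ hne => by
      rcases Nat.eq_zero_or_pos (m ξ) with h0 | h0
      · simp [h0]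
      · simp [hcon ξ hne h0.ne']) (by simp), hm1, hA1] at h
    exact he1 h
  obtain ⟨φ₀, hAξ0, hφ₀⟩ : ∃ φ₀, A ξ φ₀ ≠ 0 ∧ ¬ TrivOn P φ₀ := by
    by_contra hcon
    push Not at hcon
    exact hξ1 (hker ξ fun u hu => triv_res (hAdec ξ) s.hPC hcon hu)
  have htrivone : TrivOn P (principalIrr C) := fun _ _ => rfl
  -- counting
  set S := (Finset.univ : Finset (IrrCharacter C)).filter
    (fun φ => b φ ≠ 0 ∧ φ ≠ principalIrr C) with hS
  have hScard : S.card + e ≤ x * x := by
    have hsub : insert (principalIrr C) S ⊆ Finset.univ := Finset.subset_univ _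
    calc S.card + e ≤ (∑ φ ∈ S, b φ * charDegree (φ : C → ℂ)) + e := by
          refine Nat.add_le_add_right ?_ _
          rw [Finset.card_eq_sum_ones]
          refine Finset.sum_le_sum fun φ hφ => ?_
          exact Nat.one_le_iff_ne_zero.mpr (Nat.mul_ne_zero (Finset.mem_filter.mp hφ).2.1
            (irrDegree_pos φ).ne')
      _ = ∑ φ ∈ insert (principalIrr C) S, b φ * charDegree (φ : C → ℂ) := by
          rw [Finset.sum_insert (by simp [hS]), add_comm, hb1,
            CfsgLib.LinearTwist.charDegree_eq_of_apply_one (n := 1) (by simp [principalIrr]), mul_one]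
      _ ≤ x * x := hbdeg ▸ Finset.sum_le_sum_of_subset hsub
  have hxq : x * x + 1 < q := by rw [sq] at hx; exact hx
  obtain ⟨I, hIcard, hI, hIφ₀⟩ := exists_twists s φ₀
  have hφ₀I := hIφ₀ hφ₀
  obtain ⟨I', hI'card, hI', -⟩ := exists_twists s (principalIrr C)
  obtain ⟨L, hL, hLb⟩ : ∃ L ∈ I', b L = 0 := by
    by_contra hcon
    push Not at hcon
    have : I'.card ≤ S.card := Finset.card_le_card fun φ hφ => Finset.mem_filter.mpr
      ⟨Finset.mem_univ _, hcon φ hφ, fun h => (hI' φ hφ).1 (h ▸ htrivone)⟩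
    omega
  have hLnt := (hI' L hL).1
  set B := I.filter (fun φ => b φ = 0)
  have hBcard : e < B.card := by
    have : I.card ≤ B.card + S.card := by
      rw [← Finset.card_filter_add_card_filter_not (s := I) (fun φ => b φ = 0)]
      refine Nat.add_le_add_left (Finset.card_le_card fun φ hφ => ?_) _
      rw [Finset.mem_filter] at hφ
      exact Finset.mem_filter.mpr ⟨Finset.mem_univ _, hφ.2,
        fun h => (hI φ hφ.1).1 (h ▸ htrivone)⟩
    omega
  have hfib : ∀ T : Finset (IrrCharacter C), (∀ φ ∈ T, ¬ TrivOn P φ) →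
      T.card ≤ e * (T.image (orb s)).card := fun T hT => by
    refine Finset.card_le_mul_card_image T e fun o ho => ?_
    obtain ⟨φ, hφ, rfl⟩ := Finset.mem_image.mp ho
    rw [hedef, ← card_orb s (hT φ hφ)]
    exact Finset.card_le_card fun ψ' hψ' => (Finset.mem_filter.mp hψ').2 ▸ self_mem_orb s ψ'
  set ι := {o // o ∈ I.image (orb s)}
  choose rep hrepI hrep using fun o : ι => Finset.mem_image.mp o.2
  let i₀ : ι := ⟨orb s φ₀, Finset.mem_image_of_mem _ hφ₀I⟩
  have hrep_orb : ∀ {o o' : ι}, rep o' ∈ orb s (rep o) ↔ o = o' := fun {o o'} =>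
    ⟨fun h => Subtype.ext (by rw [← hrep o, ← hrep o', orb_eq_of_mem s h]),
      fun h => h ▸ self_mem_orb s _⟩
  have hnt : ∀ o, ¬ TrivOn P (rep o) := fun o => (hI _ (hrepI o)).1
  have hne1 : ∀ o, principalIrr C ≠ rep o := fun o h => hnt o (h ▸ htrivone)
  have hreg : ∀ o o' : ι, ∀ k : C, k ^ mC P C = 1 →
      (rep o : C → ℂ) k = (rep o' : C → ℂ) k := fun o o' k hk => by
    rw [(hI _ (hrepI o)).2 k hk, (hI _ (hrepI o')).2 k hk]
  have hrep0 : rep i₀ ∈ orb s φ₀ := by
    rw [← show orb s (rep i₀) = orb s φ₀ from hrep i₀]; exact self_mem_orb s _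
  have hb0 : b (rep i₀) ≠ 0 := by rw [hbinv hrep0]; exact hbpos ξ φ₀ hmξ hAξ0
  set τ : ι → G → ℂ := fun o => indFun C ((rep o : C → ℂ) - (rep i₀ : C → ℂ)) with hτ
  have hτgen : ∀ o, IsGeneralizedCharacter G (τ o) := fun o =>
    ⟨_, _, CfsgLib.Induction.isCharacter_indFun C (irr_isCharacter (rep o)),
      CfsgLib.Induction.isCharacter_indFun C (irr_isCharacter (rep i₀)),
      CfsgLib.Induction.indFun_sub C _ _⟩
  have hτ0 : τ i₀ = 0 := by
    show indFun C ((rep i₀ : C → ℂ) - (rep i₀ : C → ℂ)) = 0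
    rw [CfsgLib.Induction.indFun_sub, sub_self]
  have hτone : ∀ o, τ o 1 = 0 := fun o => by
    rw [hτ]
    simp only
    rw [CfsgLib.Induction.indFun_one_apply, Pi.sub_apply, hreg o i₀ 1 (one_pow _), sub_self,
      mul_zero]
  have hCne : (Nat.card C : ℂ) ≠ 0 := Nat.cast_ne_zero.mpr Nat.card_pos.ne'
  have hτinner : ∀ o o', o ≠ i₀ → o' ≠ i₀ →
      classInner (τ o) (τ o') = if o = o' then 2 else 1 := fun o o' ho ho' => by
    simp only [hτ]
    rw [inner_ind_diff s _ _ _ _ (hreg o' i₀)]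
    simp only [J_eq s (hnt _), hrep_orb, if_neg ho, if_neg ho'.symm]
    by_cases h : o = o'
    · simp only [h, if_true]; field_simp; ring
    · simp only [h, if_false, if_true]; field_simp; ring
  obtain ⟨ε, hε, μ, hμinj, hμ⟩ := CfsgLib.CharExceptional.exceptional_family i₀ τ hτ0 hτgen hτone
    (fun o ho => by rw [hτinner o o ho ho, if_pos rfl])
    (fun o o' ho ho' hne => by rw [hτinner o o' ho ho', if_neg hne])
  have hcoef : ∀ (o : ι) (ζ : IrrCharacter G), classInner (τ o) (ζ : G → ℂ) =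
      (A ζ (rep o) : ℂ) - (A ζ (rep i₀) : ℂ) := fun o ζ => by
    simp only [hτ]
    rw [CfsgLib.Induction.classInner_indFun C _ (irr_isClassFunction ζ), classInner_sub_left,
      classInner_conj_symm (fun c : C => (ζ : G → ℂ) c),
      classInner_conj_symm (fun c : C => (ζ : G → ℂ) c), hA, hA, Complex.conj_natCast,
      Complex.conj_natCast]
  have hμcoef : ∀ (o : ι) (ζ : IrrCharacter G), (A ζ (rep o) : ℂ) - (A ζ (rep i₀) : ℂ) =
      ε * ((if μ o = ζ then 1 else 0) - (if μ i₀ = ζ then 1 else 0)) := fun o ζ => by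
    rw [← hcoef, hμ o, classInner_smul_left, classInner_sub_left, classInner_irr, classInner_irr]
  have hεne : ε ≠ 0 := by rcases hε with h | h <;> simp [h]
  obtain ⟨i, i', hii, hAi, hAi', hi0, hi'0⟩ : ∃ i i' : ι, i ≠ i' ∧ A ξ (rep i) = 0 ∧
      A ξ (rep i') = 0 ∧ i ≠ i₀ ∧ i' ≠ i₀ := by
    have h2 : 1 < (B.image (orb s)).card := by
      by_contra h
      have h' := hfib B fun φ hφ => (hI φ (Finset.mem_filter.mp hφ).1).1
      have : e * (B.image (orb s)).card ≤ e * 1 := Nat.mul_le_mul_left e (by omega)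
      omega
    obtain ⟨o, ho, o', ho', hne⟩ := Finset.one_lt_card.mp h2
    have key : ∀ o ∈ B.image (orb s), ∃ i : ι, (i : Finset _) = o ∧ A ξ (rep i) = 0 ∧ i ≠ i₀ := by
      intro o ho
      obtain ⟨β, hβ, rfl⟩ := Finset.mem_image.mp ho
      rw [Finset.mem_filter] at hβ
      let i : ι := ⟨orb s β, Finset.mem_image_of_mem _ hβ.1⟩
      have hri : rep i ∈ orb s β := by
        rw [← show orb s (rep i) = orb s β from hrep i]; exact self_mem_orb s _
      have hbi : b (rep i) = 0 := by rw [hbinv hri]; exact hβ.2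
      exact ⟨i, rfl, by_contra fun h => hbpos ξ _ hmξ h hbi, fun h => hb0 (h ▸ hbi)⟩
    obtain ⟨i, rfl, h1, h2⟩ := key o ho
    obtain ⟨i', rfl, h1', h2'⟩ := key o' ho'
    exact ⟨i, i', fun h => hne (congrArg Subtype.val h), h1, h1', h2, h2'⟩
  have hA0 : A ξ (rep i₀) ≠ 0 := by
    obtain ⟨y, hy⟩ := mem_orb.mp hrep0
    have h := mult_cc s (irr_isClassFunction ξ) y φ₀
    rw [hy, hA, hA] at h
    rw [show A ξ (rep i₀) = A ξ φ₀ by exact_mod_cast h]
    exact hAξ0
  have hμ0 : μ i₀ = ξ := by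
    by_contra hne
    have key : ∀ j, A ξ (rep j) = 0 → μ j = ξ := fun j hj => by
      by_contra h
      have := hμcoef j ξ
      rw [hj, if_neg h, if_neg hne] at this
      exact hA0 (by simpa using this)
    exact hii (hμinj ((key i hAi).trans (key i' hAi').symm))
  have hε1 : ε = 1 := by
    have := hμcoef i ξ
    rw [hAi, if_pos hμ0, if_neg (fun h => hi0 (hμinj (h.trans hμ0.symm)))] at this
    rcases hε with h | h
    · exact h
    · exfalso
      rw [h] at this
      have h2 : ((A ξ (rep i₀) + 1 : ℕ) : ℂ) = 0 := by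
        push_cast
        simp only [Nat.cast_zero] at this
        linear_combination -this
      exact Nat.succ_ne_zero _ (Nat.cast_eq_zero.mp h2)
  -- the test function
  have hLreg : ∀ k : C, k ^ mC P C = 1 → (principalIrr C : C → ℂ) k = (L : C → ℂ) k :=
    fun k hk => ((hI' L hL).2 k hk).symm
  have hL1 : principalIrr C ∉ orb s L := fun h => not_trivOn_of_mem_orb s h hLnt htrivone
  have h1L : principalIrr C ≠ L := fun h => hL1 (h ▸ self_mem_orb s L)
  set Γ : G → ℂ := indFun C ((principalIrr C : C → ℂ) - (L : C → ℂ)) with hΓ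
  have hΓgen : IsGeneralizedCharacter G Γ :=
    ⟨_, _, CfsgLib.Induction.isCharacter_indFun C (irr_isCharacter (principalIrr C)),
      CfsgLib.Induction.isCharacter_indFun C (irr_isCharacter L),
      CfsgLib.Induction.indFun_sub C _ _⟩
  obtain ⟨hΓcl, hΓint⟩ := isGeneralizedCharacter_iff.mp hΓgen
  choose z hz using hΓint
  have hΓnorm : classInner Γ Γ = (((e + 1 : ℕ) : ℤ) : ℂ) := by
    rw [hΓ, inner_ind_diff s _ _ _ _ hLreg, J_one, J_one, J_eq s hLnt, J_eq s hLnt, if_pos rfl,
      if_neg h1L, if_neg hL1, if_pos (self_mem_orb s L), card_N s]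
    push_cast
    field_simp
    ring
  have hzsum : ∑ ζ, z ζ ^ 2 = ((e + 1 : ℕ) : ℤ) := by
    have := classInner_self_eq_sum_sq hΓcl hz
    rw [hΓnorm] at this
    exact_mod_cast this.symm
  have hzA : ∀ ζ : IrrCharacter G, z ζ = (A ζ (principalIrr C) : ℤ) - A ζ L := fun ζ => by
    have h := hz ζ
    rw [hΓ, CfsgLib.Induction.classInner_indFun C _ (irr_isClassFunction ζ), classInner_sub_left,
      classInner_conj_symm (fun c : C => (ζ : G → ℂ) c),
      classInner_conj_symm (fun c : C => (ζ : G → ℂ) c), hA, hA, Complex.conj_natCast,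
      Complex.conj_natCast] at h
    exact_mod_cast h.symm
  have hzξ : z ξ = A ξ (principalIrr C) := by
    rw [hzA, show A ξ L = 0 from by_contra fun h => hbpos ξ L hmξ h hLb, Nat.cast_zero, sub_zero]
  have hz1 : z (principalIrr G) = 1 := by
    have h1 : (A (principalIrr G) (principalIrr C) : ℂ) = 1 := by
      rw [← hA, show (fun c : C => (principalIrr G : G → ℂ) c) = (principalIrr C : C → ℂ) from rfl,
        classInner_irr_self (principalIrr C).2]
    have h2 : (A (principalIrr G) L : ℂ) = 0 := by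
      rw [← hA, show (fun c : C => (principalIrr G : G → ℂ) c) = (principalIrr C : C → ℂ) from rfl,
        classInner_irr, if_neg h1L]
    rw [hzA, show A (principalIrr G) (principalIrr C) = 1 by exact_mod_cast h1,
      show A (principalIrr G) L = 0 by exact_mod_cast h2]
    norm_num
  have hzμ : ∀ o : ι, rep o ∉ orb s L → z (μ o) = A ξ (principalIrr C) := fun o ho => by
    by_cases hoi : o = i₀
    · rw [hoi, hμ0, hzξ]
    have h1 : classInner Γ (τ o) = 0 := by
      simp only [hτ, hΓ]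
      rw [inner_ind_diff s _ _ _ _ (hreg o i₀), J_one, J_one, J_eq s hLnt, J_eq s hLnt,
        if_neg (hne1 o), if_neg (hne1 i₀), if_neg ho,
        if_neg (fun h => hb0 (by rw [hbinv h]; exact hLb))]
      simp
    rw [hμ o, hε1, one_smul, classInner_sub_right, hz, hz, hμ0, hzξ] at h1
    have : (z (μ o) : ℂ) = ((A ξ (principalIrr C) : ℤ) : ℂ) := by linear_combination h1
    exact_mod_cast this
  -- at least `e` such characters
  set M := (Finset.univ : Finset ι).filter (fun o => rep o ∉ orb s L) with hM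
  have hMcard : e ≤ M.card := by
    have h1 := hfib I fun φ hφ => (hI φ hφ).1
    have h2 : Fintype.card ι ≤ M.card + 1 := by
      rw [← Finset.card_univ, ← Finset.card_filter_add_card_filter_not (s := Finset.univ)
        (fun o : ι => rep o ∉ orb s L)]
      refine Nat.add_le_add_left (Finset.card_le_one.mpr fun o ho o' ho' => ?_) _
      simp only [Finset.mem_filter, not_not] at ho ho'
      exact hrep_orb.mp (by rw [orb_eq_of_mem s ho.2]; exact ho'.2)
    rw [show Fintype.card ι = (I.image (orb s)).card from Fintype.card_coe _] at h2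
    by_contra hlt
    push Not at hlt
    have h3 : e * (I.image (orb s)).card ≤ e * e := Nat.mul_le_mul_left e (by omega)
    have h4 : e * e ≤ x * x := Nat.mul_le_mul hex hex
    omega
  set T := insert (principalIrr G) (M.image μ) with hT
  have hnot : principalIrr G ∉ M.image μ := fun h => by
    obtain ⟨o, -, ho⟩ := Finset.mem_image.mp h
    by_cases hoi : o = i₀
    · rw [hoi, hμ0] at ho; exact hξ1 ho
    have h0 : ∀ j, (A (principalIrr G) (rep j) : ℂ) = 0 := fun j => by
      rw [← hA, show (fun c : C => (principalIrr G : G → ℂ) c) = (principalIrr C : C → ℂ) from rfl,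
        classInner_irr, if_neg (hne1 j)]
    have := hμcoef o (principalIrr G)
    rw [h0, h0, if_pos ho, if_neg (fun h => hξ1 (hμ0 ▸ h)), hε1] at this
    norm_num at this
  have hTsum : ((e + 1 : ℕ) : ℤ) ≤ ∑ ζ ∈ T, z ζ ^ 2 := by
    rw [hT, Finset.sum_insert hnot, hz1, Finset.sum_image (fun a _ b _ h => hμinj h)]
    have : (e : ℤ) ≤ ∑ o ∈ M, z (μ o) ^ 2 := by
      calc (e : ℤ) ≤ (M.card : ℤ) := by exact_mod_cast hMcard
        _ = ∑ _o ∈ M, (1 : ℤ) := by simp
        _ ≤ _ := Finset.sum_le_sum fun o ho => by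
            rw [hzμ o (Finset.mem_filter.mp ho).2]
            have : (1 : ℤ) ≤ (A ξ (principalIrr C) : ℤ) := by
              exact_mod_cast Nat.one_le_iff_ne_zero.mpr hAξ1
            nlinarith
    push_cast
    linarith
  have hnonneg : ∀ ζ, 0 ≤ z ζ := fun ζ => by
    by_cases hζ : ζ ∈ T
    · rcases Finset.mem_insert.mp hζ with rfl | h
      · rw [hz1]; norm_num
      · obtain ⟨o, ho, rfl⟩ := Finset.mem_image.mp h
        rw [hzμ o (Finset.mem_filter.mp ho).2]; positivity
    · have h1 := Finset.sum_sdiff (f := fun ζ => z ζ ^ 2) (Finset.subset_univ T)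
      have h2 : z ζ ^ 2 ≤ ∑ η ∈ Finset.univ \ T, z η ^ 2 :=
        Finset.single_le_sum (f := fun η => z η ^ 2) (fun η _ => sq_nonneg _)
          (Finset.mem_sdiff.mpr ⟨Finset.mem_univ _, hζ⟩)
      have h3 : z ζ ^ 2 ≤ 0 := by linarith
      exact le_of_eq (pow_eq_zero_iff two_ne_zero |>.mp (le_antisymm h3 (sq_nonneg _))).symm
  have hΓ1 : Γ 1 = 0 := by
    rw [hΓ, CfsgLib.Induction.indFun_one_apply, Pi.sub_apply, hLreg 1 (one_pow _), sub_self, mul_zero]
  have hdec := congrFun (classFunction_eq_sum hΓcl) 1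
  rw [hΓ1] at hdec
  simp only [Finset.sum_apply, Pi.smul_apply, smul_eq_mul, hz, ← cast_irrDegree] at hdec
  have hdec' : ∑ ζ : IrrCharacter G, z ζ * (charDegree (ζ : G → ℂ) : ℤ) = 0 := by
    exact_mod_cast hdec.symm
  have h := (Finset.sum_eq_zero_iff_of_nonneg fun ζ _ =>
    mul_nonneg (hnonneg ζ) (Int.natCast_nonneg _)).mp hdec' (principalIrr G) (Finset.mem_univ _)
  rw [hz1, one_mul] at h
  exact (irrDegree_pos (principalIrr G)).ne' (by exact_mod_cast h)

end CfsgLib.SmallTI
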