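import Cfsg.Agent.Lib.Chars17.IrrBasic
import Cfsg.Agent.Lib.Chars17.Constituents
import Cfsg.Agent.Lib.Chars17.PGroupGalois
import Cfsg.Agent.Lib.Characters.Clifford
import Cfsg.Agent.Lib.Characters.Generalized
import Cfsg.Agent.Lib.Characters.LinearTwist
import Cfsg.Agent.Lib.OddChar.OrthProj
import Mathlib.GroupTheory.FiniteAbelian.Duality
import Mathlib.RingTheory.RootsOfUnity.AlgebraicallyClosed
import Mathlib.Analysis.Complex.Polynomial.Basic

/-!
Characters of a group with an abelian Sylow subgroup whose nonidentity elements all have the same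
centraliser: induction from the centraliser, norms, twists.
-/

set_option autoImplicit false

noncomputable section

namespace CfsgLib.SmallTI

open Cfsg CfsgLib.Characters CfsgLib.Chars17
open scoped ComplexConjugate

universe u

/-- The data: `P` central in `C`, of order prime to its index there, with centralisers `C` and
normaliser `N`. -/
structure Star {G : Type u} [Group G] (p : ℕ) (P C N : Subgroup G) : Prop where
  hp : p.Prime
  hne : P ≠ ⊥
  hPC : P ≤ C
  hCN : C ≤ N
  cen : ∀ c ∈ C, ∀ u ∈ P, c * u = u * c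
  cent : ∀ u ∈ P, u ≠ 1 → ∀ g : G, g * u = u * g → g ∈ C
  norm : ∀ x ∈ N, ∀ u ∈ P, x * u * x⁻¹ ∈ P
  mem_N : ∀ g : G, (∀ u ∈ P, g * u * g⁻¹ ∈ P) → g ∈ N
  isP : IsPGroup p P
  ndvd : ¬ p ∣ (P.subgroupOf C).index

variable {G : Type u} [Group G] [Fintype G] {p : ℕ} {P C N : Subgroup G} [Fintype C] [Fintype N]

/-- The index of `P` in `C`. -/
abbrev mC (P C : Subgroup G) : ℕ := (P.subgroupOf C).index

/-- The index of `C` in `N`. -/
abbrev eN (C N : Subgroup G) : ℕ := (C.subgroupOf N).index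

omit [Fintype G] [Fintype C] [Fintype N] in
theorem Star.conjC (s : Star p P C N) {x : G} (hx : x ∈ N) {c : G} (hc : c ∈ C) :
    x * c * x⁻¹ ∈ C := by
  obtain ⟨u, hu, hu1⟩ := (Subgroup.bot_or_exists_ne_one P).resolve_left s.hne
  refine s.cent u hu hu1 _ ?_
  have hv := s.norm x⁻¹ (N.inv_mem hx) u hu
  rw [inv_inv] at hv
  have h := s.cen c hc _ hv
  calc x * c * x⁻¹ * u = x * (c * (x⁻¹ * u * x)) * x⁻¹ := by group
    _ = x * ((x⁻¹ * u * x) * c) * x⁻¹ := by rw [h]
    _ = u * (x * c * x⁻¹) := by group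

omit [Fintype G] [Fintype C] [Fintype N] in
theorem Star.le_center (s : Star p P C N) : P.subgroupOf C ≤ Subgroup.center C := fun u hu => by
  rw [Subgroup.mem_center_iff]
  exact fun c => Subtype.ext (s.cen c c.2 u hu)

omit [Fintype G] [Fintype C] [Fintype N] in
theorem Star.normal (s : Star p P C N) : (P.subgroupOf C).Normal :=
  ⟨fun u hu c => by
    rw [(Subgroup.mem_center_iff.mp (s.le_center hu)) c, mul_inv_cancel_right]; exact hu⟩

omit [Fintype G] [Fintype C] [Fintype N] in
theorem card_sub (s : Star p P C N) : Nat.card (P.subgroupOf C) = Nat.card P :=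
  Nat.card_congr (Subgroup.subgroupOfEquivOfLe s.hPC).toEquiv

omit [Fintype G] [Fintype C] [Fintype N] in
theorem card_C (s : Star p P C N) : Nat.card C = Nat.card P * mC P C := by
  rw [← card_sub s, Subgroup.card_mul_index]

omit [Fintype G] [Fintype C] [Fintype N] in
theorem card_N (s : Star p P C N) : Nat.card N = eN C N * Nat.card C := by
  rw [← Nat.card_congr (Subgroup.subgroupOfEquivOfLe s.hCN).toEquiv, mul_comm,
    Subgroup.card_mul_index]

omit [Fintype C] [Fintype N] in
theorem coprime_m (s : Star p P C N) : Nat.Coprime (Nat.card P) (mC P C) := by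
  haveI := Fact.mk s.hp
  obtain ⟨k, hk⟩ := IsPGroup.iff_card.mp s.isP
  rw [hk]
  exact ((s.hp.coprime_iff_not_dvd).mpr s.ndvd).pow_left k

omit [Fintype G] [Fintype C] [Fintype N] in
theorem pow_m_mem (s : Star p P C N) (c : C) : c ^ mC P C ∈ P.subgroupOf C :=
  haveI := s.normal
  Subgroup.pow_index_mem _ c

omit [Fintype N] in
theorem mem_of_pow_card (s : Star p P C N) {y : G} (hy : y ∈ C) (h : y ^ Nat.card P = 1) :
    y ∈ P := by
  haveI := s.normal
  suffices hq : ((⟨y, hy⟩ : C) : C ⧸ P.subgroupOf C) = 1 from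
    Subgroup.mem_subgroupOf.mp ((QuotientGroup.eq_one_iff _).mp hq)
  have h1 : ((⟨y, hy⟩ : C) : C ⧸ P.subgroupOf C) ^ Nat.card P = 1 := by
    rw [← QuotientGroup.mk_pow, show (⟨y, hy⟩ : C) ^ Nat.card P = 1 from Subtype.ext (by simpa using h),
      QuotientGroup.mk_one]
  have h2 : ((⟨y, hy⟩ : C) : C ⧸ P.subgroupOf C) ^ mC P C = 1 := by
    rw [← QuotientGroup.mk_pow, QuotientGroup.eq_one_iff]
    exact pow_m_mem s _
  exact orderOf_eq_one_iff.mp (Nat.eq_one_of_dvd_coprimes (coprime_m s)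
    (orderOf_dvd_of_pow_eq_one h1) (orderOf_dvd_of_pow_eq_one h2))

omit [Fintype N] in
/-- Only elements of `N` fuse elements of `C` of order divisible by `p`. -/
theorem mem_N_of_conj (s : Star p P C N) {x : G} {c : C} (hc : c ^ mC P C ≠ 1)
    (h : x⁻¹ * c * x ∈ C) : x ∈ N := by
  set u : G := ((c ^ mC P C : C) : G) with hu
  have huP : u ∈ P := pow_m_mem s c
  have hu1 : u ≠ 1 := fun e => hc (Subtype.ext (by simpa [hu] using e))
  set v : G := x⁻¹ * u * x with hv
  have hvP : v ∈ P := by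
    have h1 := pow_m_mem s (⟨x⁻¹ * c * x, h⟩ : C)
    rw [Subgroup.mem_subgroupOf, Subgroup.coe_pow] at h1
    have e : (x⁻¹ * (c : G) * x) ^ mC P C = v := by
      rw [show x⁻¹ * (c : G) * x = MulAut.conj x⁻¹ (c : G) by simp, ← map_pow]
      simp [hv, hu]
    rw [← e]; exact h1
  refine s.mem_N x fun w hw => ?_
  have hz : x * w * x⁻¹ ∈ C := by
    refine s.cent u huP hu1 _ ?_
    have hcm := s.cen w (s.hPC hw) v hvP
    calc x * w * x⁻¹ * u = x * (w * v) * x⁻¹ := by rw [hv]; group
      _ = x * (v * w) * x⁻¹ := by rw [hcm]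
      _ = u * (x * w * x⁻¹) := by rw [hv]; group
  refine mem_of_pow_card s hz ?_
  rw [conj_pow, show w ^ Nat.card P = 1 from
    congrArg Subtype.val (pow_card_eq_one' (x := (⟨w, hw⟩ : P))), mul_one, mul_inv_cancel]

omit [Fintype C] [Fintype N] in
/-- Elements of `N` outside `C` act without fixed points on `P`. -/
theorem exists_commutator (s : Star p P C N) {x : G} (hx : x ∈ N) (hxC : x ∉ C) {u : G}
    (hu : u ∈ P) : ∃ w ∈ P, x * w * x⁻¹ * w⁻¹ = u := by
  let f : P → P := fun w =>
    ⟨x * w * x⁻¹ * (w : G)⁻¹, P.mul_mem (s.norm x hx w w.2) (P.inv_mem w.2)⟩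
  have hf : Function.Injective f := by
    intro a b hab
    have h : x * a * x⁻¹ * (a : G)⁻¹ = x * b * x⁻¹ * (b : G)⁻¹ := congrArg Subtype.val hab
    by_contra hne
    have hz : ((b : G)⁻¹ * a) ≠ 1 := fun e => hne (Subtype.ext (inv_mul_eq_one.mp e).symm)
    refine hxC (s.cent _ (P.mul_mem (P.inv_mem b.2) a.2) hz x ?_)
    have e1 : x * a * x⁻¹ = x * b * x⁻¹ * ((b : G)⁻¹ * a) := by
      rw [← mul_assoc, ← h, inv_mul_cancel_right]
    calc x * ((b : G)⁻¹ * a) = (x * b * x⁻¹)⁻¹ * (x * a * x⁻¹) * x := by group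
      _ = ((b : G)⁻¹ * a) * x := by rw [e1, inv_mul_cancel_left]
  obtain ⟨w, hw⟩ := Finite.surjective_of_injective hf ⟨u, hu⟩
  exact ⟨w, w.2, congrArg Subtype.val hw⟩

/-! ### Conjugation of functions on `C` -/

/-- Conjugation by an element of `N`. -/
def ccHom (s : Star p P C N) (x : N) : C →* C where
  toFun c := ⟨x * c * (x : G)⁻¹, s.conjC x.2 c.2⟩
  map_one' := Subtype.ext (by simp)
  map_mul' a b := Subtype.ext (by simp [mul_assoc])

omit [Fintype G] [Fintype C] [Fintype N] in
theorem ccHom_bijective (s : Star p P C N) (x : N) : Function.Bijective (ccHom s x) :=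
  Function.bijective_iff_has_inverse.mpr ⟨ccHom s x⁻¹, fun c => Subtype.ext (by simp [ccHom, mul_assoc]),
    fun c => Subtype.ext (by simp [ccHom, mul_assoc])⟩

/-- Conjugate of an irreducible character of `C`. -/
def cc (s : Star p P C N) (x : N) (φ : IrrCharacter C) : IrrCharacter C :=
  ⟨fun c => (φ : C → ℂ) (ccHom s x c),
    CfsgLib.Clifford.isIrrCharacter_pullback φ.2 (ccHom s x) (ccHom_bijective s x).2⟩

omit [Fintype G] [Fintype C] [Fintype N] in
theorem cc_apply (s : Star p P C N) (x : N) (φ : IrrCharacter C) (c : C) :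
    (cc s x φ : C → ℂ) c = (φ : C → ℂ) (ccHom s x c) := rfl

omit [Fintype G] [Fintype C] [Fintype N] in
theorem cc_mul (s : Star p P C N) (x y : N) (φ : IrrCharacter C) :
    cc s y (cc s x φ) = cc s (x * y) φ :=
  Subtype.ext (funext fun c => congrArg (φ : C → ℂ) (Subtype.ext (by simp [ccHom, mul_assoc])))

omit [Fintype G] [Fintype C] [Fintype N] in
theorem cc_one (s : Star p P C N) (φ : IrrCharacter C) : cc s 1 φ = φ :=
  Subtype.ext (funext fun c => congrArg (φ : C → ℂ) (Subtype.ext (by simp [ccHom])))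

omit [Fintype G] [Fintype C] [Fintype N] in
theorem cc_of_mem (s : Star p P C N) (x : N) (hx : (x : G) ∈ C) (φ : IrrCharacter C) :
    cc s x φ = φ :=
  Subtype.ext (funext fun c => by
    rw [cc_apply]
    have := irr_isClassFunction φ c ⟨x, hx⟩
    exact (congrArg (φ : C → ℂ) (Subtype.ext (by simp [ccHom]))).trans this)

/-- `P` is in the kernel of `φ`. -/
def TrivOn (P : Subgroup G) (φ : IrrCharacter C) : Prop :=
  ∀ u : C, (u : G) ∈ P → (φ : C → ℂ) u = (φ : C → ℂ) 1

omit [Fintype N] in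
theorem central_hom (s : Star p P C N) (φ : IrrCharacter C) :
    ∃ l : P.subgroupOf C →* ℂˣ, ∀ (u : P.subgroupOf C) (c : C),
      (φ : C → ℂ) ((u : C) * c) = (l u : ℂ) * (φ : C → ℂ) c := by
  obtain ⟨l, hl⟩ := PGalois.exists_central_hom φ
  exact ⟨l.comp (Subgroup.inclusion s.le_center), fun u c => hl (Subgroup.inclusion s.le_center u) c⟩

omit [Fintype N] in
theorem mem_C_of_cc_eq (s : Star p P C N) {φ : IrrCharacter C} (hφ : ¬ TrivOn P φ) {x : N}
    (h : cc s x φ = φ) : (x : G) ∈ C := by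
  by_contra hx
  apply hφ
  intro u hu
  obtain ⟨w, hw, e⟩ := exists_commutator s x.2 hx hu
  obtain ⟨l, hl⟩ := central_hom s φ
  set w' : P.subgroupOf C := ⟨⟨w, s.hPC hw⟩, hw⟩
  set z : P.subgroupOf C := ⟨⟨(x : G) * w * (x : G)⁻¹, s.hPC (s.norm x x.2 w hw)⟩, s.norm x x.2 w hw⟩
  have hzw : (φ : C → ℂ) z = (φ : C → ℂ) w' := congrFun (congrArg Subtype.val h) (w' : C)
  have hz := hl z 1
  have hw1 := hl w' 1
  rw [mul_one] at hz hw1
  rw [hz, hw1] at hzw
  have hl1 : l z = l w' := Units.ext (mul_right_cancel₀ (irr_one_ne_zero φ) hzw)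
  have hu' : u = ((z * w'⁻¹ : P.subgroupOf C) : C) := Subtype.ext (by simp [z, w', e])
  have h1 := hl (z * w'⁻¹) 1
  rw [mul_one] at h1
  rw [hu', h1, map_mul, map_inv, hl1, mul_inv_cancel, Units.val_one, one_mul]

omit [Fintype G] [Fintype C] [Fintype N] in
theorem trivOn_cc (s : Star p P C N) {φ : IrrCharacter C} (x : N) (h : TrivOn P (cc s x φ)) :
    TrivOn P φ := by
  intro u hu
  have hu' : (x : G)⁻¹ * u * x ∈ P := by simpa using s.norm _ (N.inv_mem x.2) u hu
  have h1 := h ⟨(x : G)⁻¹ * u * x, s.hPC hu'⟩ hu'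
  rw [cc_apply, cc_apply, map_one] at h1
  rw [← h1]
  exact congrArg (φ : C → ℂ) (Subtype.ext (by simp [ccHom, mul_assoc]))

open Classical in
/-- The orbit of a character of `C` under `N`. -/
def orb (s : Star p P C N) (φ : IrrCharacter C) : Finset (IrrCharacter C) :=
  Finset.univ.image fun x : N => cc s x φ

theorem mem_orb {s : Star p P C N} {φ ψ : IrrCharacter C} :
    ψ ∈ orb s φ ↔ ∃ x : N, cc s x φ = ψ := by
  classical
  simp [orb]

theorem self_mem_orb (s : Star p P C N) (φ : IrrCharacter C) : φ ∈ orb s φ :=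
  mem_orb.mpr ⟨1, cc_one s φ⟩

theorem orb_eq_of_mem (s : Star p P C N) {φ ψ : IrrCharacter C} (h : ψ ∈ orb s φ) :
    orb s ψ = orb s φ := by
  obtain ⟨y, rfl⟩ := mem_orb.mp h
  ext χ
  simp only [mem_orb]
  constructor
  · rintro ⟨x, rfl⟩; exact ⟨y * x, (cc_mul s y x φ).symm⟩
  · rintro ⟨x, rfl⟩; exact ⟨y⁻¹ * x, by rw [cc_mul, mul_inv_cancel_left]⟩

theorem not_trivOn_of_mem_orb (s : Star p P C N) {φ ψ : IrrCharacter C} (h : ψ ∈ orb s φ)
    (hφ : ¬ TrivOn P φ) : ¬ TrivOn P ψ := by
  obtain ⟨y, rfl⟩ := mem_orb.mp h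
  exact fun h' => hφ (trivOn_cc s y h')

open Classical in
theorem card_fibre (s : Star p P C N) {φ : IrrCharacter C} (hφ : ¬ TrivOn P φ) {ψ : IrrCharacter C}
    (hψ : ψ ∈ orb s φ) :
    (Finset.univ.filter fun x : N => cc s x φ = ψ).card = Nat.card C := by
  obtain ⟨x₀, rfl⟩ := mem_orb.mp hψ
  rw [Nat.card_eq_fintype_card, ← Finset.card_univ]
  refine (Finset.card_bij (fun (c : C) _ => (⟨c, s.hCN c.2⟩ : N) * x₀) ?_ ?_ ?_).symm
  · intro c _
    rw [Finset.mem_filter, ← cc_mul, cc_of_mem s (⟨c, s.hCN c.2⟩ : N) c.2]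
    exact ⟨Finset.mem_univ _, rfl⟩
  · intro a _ b _ hab
    exact Subtype.ext (congrArg Subtype.val (mul_right_cancel hab) :)
  · intro x hx
    rw [Finset.mem_filter] at hx
    have h : cc s (x * x₀⁻¹) φ = φ := by
      rw [← cc_mul, hx.2, cc_mul, mul_inv_cancel, cc_one]
    exact ⟨⟨_, mem_C_of_cc_eq s hφ h⟩, Finset.mem_univ _, Subtype.ext (by simp)⟩

theorem card_orb (s : Star p P C N) {φ : IrrCharacter C} (hφ : ¬ TrivOn P φ) :
    (orb s φ).card = eN C N := by
  classical
  have h := Finset.card_eq_sum_card_image (fun x : N => cc s x φ) Finset.univ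
  rw [Finset.sum_congr rfl fun ψ hψ =>
      card_fibre s hφ (mem_orb.mpr (by simpa using hψ)), Finset.sum_const, smul_eq_mul,
    Finset.card_univ, ← Nat.card_eq_fintype_card, card_N s] at h
  exact (Nat.eq_of_mul_eq_mul_right Nat.card_pos h).symm

/-- The sum of inner products with all conjugates. -/
def J (s : Star p P C N) (φ ψ : IrrCharacter C) : ℂ :=
  ∑ x : N, classInner (cc s x φ : C → ℂ) (ψ : C → ℂ)

open Classical in
theorem J_eq (s : Star p P C N) {φ : IrrCharacter C} (hφ : ¬ TrivOn P φ) (ψ : IrrCharacter C) :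
    J s φ ψ = if ψ ∈ orb s φ then (Nat.card C : ℂ) else 0 := by
  unfold J
  simp only [classInner_irr, Finset.sum_boole]
  split_ifs with h
  · rw [card_fibre s hφ h]
  · rw [Finset.filter_eq_empty_iff.mpr fun x _ e => h (mem_orb.mpr ⟨x, e⟩)]
    simp

open Classical in
theorem J_one (s : Star p P C N) (ψ : IrrCharacter C) :
    J s (principalIrr C) ψ = if principalIrr C = ψ then (Nat.card N : ℂ) else 0 := by
  unfold J
  have e : ∀ x : N, cc s x (principalIrr C) = principalIrr C := fun x => Subtype.ext rfl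
  simp only [e, classInner_irr, Finset.sum_const, Finset.card_univ, nsmul_eq_mul,
    ← Nat.card_eq_fintype_card]
  split_ifs <;> simp

/-- The induced functions from `C` have inner products computed in `N`. -/
theorem inner_ind (s : Star p P C N) {f g : C → ℂ} (hf : IsClassFunction C f)
    (hg : ∀ c : C, c ^ mC P C = 1 → g c = 0) :
    classInner (indFun C f) (indFun C g) =
      (Nat.card C : ℂ)⁻¹ * ∑ x : N, classInner (fun c => f (ccHom s x c)) g := by
  classical
  rw [CfsgLib.Induction.classInner_indFun_right C g (CfsgLib.Induction.isClassFunction_indFun C f)]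
  unfold classInner
  congr 1
  rw [← Finset.mul_sum, Finset.sum_comm, Finset.mul_sum]
  refine Finset.sum_congr rfl fun c _ => ?_
  rw [← Finset.sum_mul, ← mul_assoc]
  by_cases hc : c ^ mC P C = 1
  · rw [hg c hc, map_zero, mul_zero, mul_zero]
  · congr 1
    beta_reduce
    rw [CfsgLib.Induction.indFun_apply]
    congr 1
    rw [← Finset.sum_filter_of_ne (p := fun x => x ∈ N) (fun x _ hx => by
        by_contra hxN
        exact hx (CfsgLib.Induction.extendByZero_notMem C f fun hC => hxN (mem_N_of_conj s hc hC))),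
      Finset.sum_subtype (F := ‹Fintype N›) _ (fun x => by simp)]
    refine Fintype.sum_bijective (·⁻¹) (inv_involutive.bijective) _ _ fun x => ?_
    have hC : (x : G)⁻¹ * c * x ∈ C := by simpa using s.conjC (N.inv_mem x.2) c.2
    rw [CfsgLib.Induction.extendByZero_mem C f hC]
    exact congrArg f (Subtype.ext (by simp [ccHom]))

/-- Inner product of induced differences. -/
theorem inner_ind_diff (s : Star p P C N) (a b c d : IrrCharacter C)
    (hcd : ∀ k : C, k ^ mC P C = 1 → (c : C → ℂ) k = (d : C → ℂ) k) :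
    classInner (indFun C ((a : C → ℂ) - b)) (indFun C ((c : C → ℂ) - d)) =
      (Nat.card C : ℂ)⁻¹ * (J s a c - J s a d - (J s b c - J s b d)) := by
  rw [inner_ind s (isClassFunction_sub (irr_isClassFunction a) (irr_isClassFunction b))
    (fun k hk => by rw [Pi.sub_apply, hcd k hk, sub_self])]
  congr 1
  unfold J
  rw [← Finset.sum_sub_distrib, ← Finset.sum_sub_distrib, ← Finset.sum_sub_distrib]
  refine Finset.sum_congr rfl fun x _ => ?_
  rw [show (fun k => ((a : C → ℂ) - b) (ccHom s x k)) = (cc s x a : C → ℂ) - (cc s x b : C → ℂ)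
    from rfl, classInner_sub_left, classInner_sub_right, classInner_sub_right]

/-! ### Norm bound -/

open Classical in
theorem sum_singular_le (s : Star p P C N) (χ : IrrCharacter G) :
    (∑ c ∈ Finset.univ.filter (fun c : C => c ^ mC P C ≠ 1),
      Complex.normSq ((χ : G → ℂ) c)) ≤ (Nat.card N : ℝ) := by
  classical
  set f : G → ℝ := fun g => Complex.normSq ((χ : G → ℂ) g) with hf
  set S := Finset.univ.filter (fun c : C => c ^ mC P C ≠ 1)
  have hsum : ∑ g, f g = (Nat.card G : ℝ) := by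
    have h := classInner_irr_self χ.2
    rw [CfsgLib.OddChar.classInner_self_real, ← Complex.ofReal_one, Complex.ofReal_inj] at h
    field_simp at h
    linarith
  have h1 : (Nat.card G : ℝ) * ∑ c ∈ S, f c =
      ∑ z ∈ (Finset.univ : Finset G) ×ˢ S, f (z.1 * z.2 * z.1⁻¹) := by
    rw [Finset.sum_product]
    simp only [hf, irr_isClassFunction χ _ _, Finset.sum_const, Finset.card_univ, nsmul_eq_mul,
      ← Nat.card_eq_fintype_card]
  have h2 : ∑ z ∈ (Finset.univ : Finset G) ×ˢ S, f (z.1 * z.2 * z.1⁻¹) ≤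
      (Nat.card N : ℝ) * ∑ g, f g := by
    rw [← Finset.sum_fiberwise ((Finset.univ : Finset G) ×ˢ S) (fun z => z.1 * z.2 * z.1⁻¹),
      Finset.mul_sum]
    refine Finset.sum_le_sum fun g _ => ?_
    rw [Finset.sum_congr rfl fun z hz => congrArg f (Finset.mem_filter.mp hz).2, Finset.sum_const,
      nsmul_eq_mul]
    refine mul_le_mul_of_nonneg_right ?_ (Complex.normSq_nonneg _)
    rw [Nat.cast_le, Nat.card_eq_fintype_card, ← Finset.card_univ]
    set F := ((Finset.univ : Finset G) ×ˢ S).filter (fun z => z.1 * z.2 * z.1⁻¹ = g)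
    rcases F.eq_empty_or_nonempty with h | ⟨⟨x₀, c₀⟩, hz₀⟩
    · simp [h]
    have key : ∀ z ∈ F, x₀⁻¹ * z.1 ∈ N := by
      rintro ⟨x, c⟩ hz
      simp only [F, Finset.mem_filter, Finset.mem_product, S] at hz hz₀
      have e : (c : G) = x⁻¹ * g * x := by rw [← hz.2]; group
      have e₀ : (c₀ : G) = x₀⁻¹ * g * x₀ := by rw [← hz₀.2]; group
      have h' := mem_N_of_conj s (x := x⁻¹ * x₀) hz.1.2.2 (by
        rw [show (x⁻¹ * x₀)⁻¹ * (c : G) * (x⁻¹ * x₀) = c₀ by rw [e, e₀]; group]
        exact c₀.2)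
      simpa using N.inv_mem h'
    refine Finset.card_le_card_of_injOn (fun z => if h : x₀⁻¹ * z.1 ∈ N then ⟨_, h⟩ else 1)
      (fun _ _ => Finset.mem_univ _) ?_
    intro z hz z' hz' he
    simp only [Finset.mem_coe] at hz hz'
    simp only [dif_pos (key z hz), dif_pos (key z' hz')] at he
    have e1 : z.1 = z'.1 := mul_left_cancel (congrArg Subtype.val he)
    refine Prod.ext e1 (Subtype.ext ?_)
    have a := (Finset.mem_filter.mp hz).2
    rw [← (Finset.mem_filter.mp hz').2, e1] at a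
    exact mul_left_cancel (mul_right_cancel a)
  rw [hsum, ← h1] at h2
  have hpos : (0 : ℝ) < Nat.card G := by exact_mod_cast Nat.card_pos
  nlinarith [h2]

omit [Fintype N] in
theorem pow_m_injective (s : Star p P C N) :
    Function.Bijective (fun u : P.subgroupOf C => u ^ mC P C) :=
  (powCoprime (G := P.subgroupOf C) (by rw [card_sub s]; exact coprime_m s)).bijective

open Classical in
omit [Fintype N] in
theorem card_regular_le (s : Star p P C N) :
    (Finset.univ.filter (fun c : C => c ^ mC P C = 1)).card ≤ mC P C := by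
  set K := Finset.univ.filter (fun c : C => c ^ mC P C = 1)
  have h : (K ×ˢ (Finset.univ : Finset (P.subgroupOf C))).card ≤ (Finset.univ : Finset C).card := by
    refine Finset.card_le_card_of_injOn (fun z => z.1 * (z.2 : C)) (fun _ _ => Finset.mem_univ _) ?_
    intro z hz z' hz' he
    simp only [Finset.mem_coe, Finset.mem_product, K, Finset.mem_filter] at hz hz'
    have hc : ∀ (k : C) (u : P.subgroupOf C), k ^ mC P C = 1 →
        (k * (u : C)) ^ mC P C = ((u ^ mC P C : P.subgroupOf C) : C) := fun k u hk => by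
      rw [(show Commute k (u : C) from
        (Subgroup.mem_center_iff.mp (s.le_center u.2)) k).mul_pow, hk, one_mul, Subgroup.coe_pow]
    have h2 := congrArg (· ^ mC P C) he
    simp only [hc _ _ hz.1.2, hc _ _ hz'.1.2] at h2
    have h3 := (pow_m_injective s).1 (Subtype.ext h2)
    refine Prod.ext ?_ h3
    simp only [h3] at he
    exact mul_right_cancel he
  rw [Finset.card_product, Finset.card_univ, Finset.card_univ, ← Nat.card_eq_fintype_card,
    ← Nat.card_eq_fintype_card, card_sub s, card_C s, mul_comm (Nat.card P)] at h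
  exact Nat.le_of_mul_le_mul_right h Nat.card_pos

/-- An irreducible character of small degree has small norm on `C`. -/
theorem norm_le (s : Star p P C N) (χ : IrrCharacter G)
    (hx : charDegree (χ : G → ℂ) ^ 2 < Nat.card P) {k : ℕ}
    (hk : classInner (fun c : C => (χ : G → ℂ) c) (fun c : C => (χ : G → ℂ) c) = k) :
    k ≤ eN C N := by
  classical
  rw [CfsgLib.OddChar.classInner_self_real, ← Complex.ofReal_natCast, Complex.ofReal_inj] at hk
  rw [← Finset.sum_filter_add_sum_filter_not Finset.univ (fun c : C => c ^ mC P C = 1)] at hk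
  have h1 := sum_singular_le s χ
  have h2 : (∑ c ∈ Finset.univ.filter (fun c : C => c ^ mC P C = 1),
      Complex.normSq ((χ : G → ℂ) c)) ≤ (mC P C : ℝ) * (charDegree (χ : G → ℂ) : ℝ) ^ 2 := by
    refine le_trans (Finset.sum_le_card_nsmul _ _ ((charDegree (χ : G → ℂ) : ℝ) ^ 2) fun c _ => ?_) ?_
    · rw [Complex.normSq_eq_norm_sq]
      refine pow_le_pow_left₀ (norm_nonneg _) ?_ 2
      have := norm_irr_le χ (c : G)
      rwa [← cast_irrDegree, Complex.norm_natCast] at this
    · rw [nsmul_eq_mul]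
      exact mul_le_mul_of_nonneg_right (by exact_mod_cast card_regular_le s) (sq_nonneg _)
  have hC : (0 : ℝ) < Nat.card C := by exact_mod_cast Nat.card_pos
  have hC' : (Nat.card C : ℝ) = Nat.card P * mC P C := by exact_mod_cast card_C s
  have hN' : (Nat.card N : ℝ) = eN C N * Nat.card C := by exact_mod_cast card_N s
  have hx' : (charDegree (χ : G → ℂ) : ℝ) ^ 2 + 1 ≤ Nat.card P := by exact_mod_cast hx
  have hm : (0 : ℝ) < mC P C := by
    exact_mod_cast Nat.pos_of_ne_zero Subgroup.index_ne_zero_of_finite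
  have h3 : (k : ℝ) * Nat.card C < ((eN C N : ℝ) + 1) * Nat.card C := by
    rw [← hk]
    field_simp
    rw [hC'] at hN' ⊢
    nlinarith
  have h4 : k < eN C N + 1 := by exact_mod_cast lt_of_mul_lt_mul_right h3 hC.le
  omega

/-! ### Twists -/

omit [Fintype N] in
/-- The extension to `C` of a linear character of `P`. -/
def ext' (_s : Star p P C N) (l : P.subgroupOf C →* ℂˣ) : C →* ℂˣ :=
  MonoidHom.transfer l

omit [Fintype N] in
theorem ext'_apply (s : Star p P C N) (l : P.subgroupOf C →* ℂˣ) (c : C) :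
    ext' s l c = l ⟨c ^ mC P C, pow_m_mem s c⟩ := by
  refine MonoidHom.transfer_eq_pow l c fun k g₀ hk => ?_
  have h := Subgroup.mem_center_iff.mp (s.le_center hk) g₀
  rw [← mul_assoc, ← mul_assoc, mul_inv_cancel, one_mul] at h
  exact (mul_right_cancel h).symm

/-- A twist. -/
def tw (s : Star p P C N) (φ : IrrCharacter C) (l : P.subgroupOf C →* ℂˣ) : IrrCharacter C :=
  ⟨fun c => (φ : C → ℂ) c * (ext' s l c : ℂ), CfsgLib.LinearTwist.isIrr_mul_hom φ.2 _⟩

omit [Fintype N] in
theorem tw_regular (s : Star p P C N) (φ : IrrCharacter C) (l : P.subgroupOf C →* ℂˣ) {c : C}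
    (hc : c ^ mC P C = 1) : (tw s φ l : C → ℂ) c = (φ : C → ℂ) c := by
  show (φ : C → ℂ) c * _ = _
  rw [ext'_apply, show (⟨c ^ mC P C, pow_m_mem s c⟩ : P.subgroupOf C) = 1 from Subtype.ext hc,
    map_one, Units.val_one, mul_one]

omit [Fintype N] in
theorem eq_of_twist (s : Star p P C N) (φ : IrrCharacter C) {l l' : P.subgroupOf C →* ℂˣ}
    (h : ∀ u : P.subgroupOf C, (tw s φ l : C → ℂ) u = (tw s φ l' : C → ℂ) u) : l = l' := by
  obtain ⟨μ, hμ⟩ := central_hom s φ
  ext v
  obtain ⟨u, hu⟩ := (pow_m_injective s).2 v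
  have hne : (φ : C → ℂ) u ≠ 0 := by
    rw [← mul_one (u : C), hμ u 1]
    exact mul_ne_zero (μ u).ne_zero (irr_one_ne_zero φ)
  have h' := mul_left_cancel₀ hne (h u)
  rw [ext'_apply, ext'_apply] at h'
  rwa [show (⟨(u : C) ^ mC P C, pow_m_mem s _⟩ : P.subgroupOf C) = v from
    (Subtype.ext (by simp)).trans hu] at h'

omit [Fintype N] in
theorem card_homs (s : Star p P C N) : Nat.card (P.subgroupOf C →* ℂˣ) = Nat.card P := by
  letI : CommGroup (P.subgroupOf C) :=
    { (inferInstance : Group (P.subgroupOf C)) with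
      mul_comm := fun a b => Subtype.ext ((Subgroup.mem_center_iff.mp (s.le_center b.2)) a) }
  rw [CommGroup.card_monoidHom_of_hasEnoughRootsOfUnity, card_sub s]

omit [Fintype N] in
/-- The twists not trivial on `P`. -/
theorem exists_twists (s : Star p P C N) (φ : IrrCharacter C) :
    ∃ I : Finset (IrrCharacter C), Nat.card P ≤ I.card + 1 ∧
      (∀ ψ ∈ I, ¬ TrivOn P ψ ∧ ∀ c : C, c ^ mC P C = 1 → (ψ : C → ℂ) c = (φ : C → ℂ) c) ∧
      (¬ TrivOn P φ → φ ∈ I) := by
  classical
  haveI : Finite (P.subgroupOf C →* ℂˣ) := by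
    refine (Nat.card_pos_iff.mp ?_).2
    rw [card_homs s]; exact Nat.card_pos
  haveI : Fintype (P.subgroupOf C →* ℂˣ) := Fintype.ofFinite _
  set A := (Finset.univ : Finset (P.subgroupOf C →* ℂˣ)).filter fun l => ¬ TrivOn P (tw s φ l)
  refine ⟨A.image (tw s φ), ?_, ?_, fun hφ => ?_⟩
  · rw [Finset.card_image_of_injective _ fun l l' h => eq_of_twist s φ fun u => by rw [h],
      ← card_homs s, Nat.card_eq_fintype_card, ← Finset.card_univ,
      ← Finset.card_filter_add_card_filter_not (s := Finset.univ)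
        (fun l : P.subgroupOf C →* ℂˣ => ¬ TrivOn P (tw s φ l))]
    refine Nat.add_le_add_left (Finset.card_le_one.mpr fun l hl l' hl' => ?_) _
    simp only [Finset.mem_filter, not_not] at hl hl'
    refine eq_of_twist s φ fun u => ?_
    rw [hl.2 u u.2, hl'.2 u u.2, tw_regular s φ l (one_pow _), tw_regular s φ l' (one_pow _)]
  · intro ψ hψ
    obtain ⟨l, hl, rfl⟩ := Finset.mem_image.mp hψ
    exact ⟨(Finset.mem_filter.mp hl).2, fun c hc => tw_regular s φ l hc⟩
  · have e : tw s φ 1 = φ := Subtype.ext (funext fun c => by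
      show (φ : C → ℂ) c * _ = _
      simp [ext'_apply])
    refine Finset.mem_image.mpr ⟨1, Finset.mem_filter.mpr ⟨Finset.mem_univ _, ?_⟩, e⟩
    rwa [e]

end CfsgLib.SmallTI
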