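import Cfsg.Agent.Lib.Blocks12.SmallTI
import Mathlib.GroupTheory.Transfer
import Mathlib.GroupTheory.Abelianization.Defs

/-!
Leonard's theorems for a Sylow subgroup all of whose nonidentity elements have the same centraliser.
-/

set_option autoImplicit false

noncomputable section

namespace CfsgLib.SmallTI

open Cfsg CfsgLib.Characters CfsgLib.Chars17
open scoped commutatorElement

universe u

variable {G : Type u} [Group G] [Finite G] {p : ℕ}

theorem star_of_sylow (hp : p.Prime) (hpG : p ∣ Nat.card G) (P : Sylow p G)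
    (hstar : ∀ x ∈ (P : Subgroup G), x ≠ 1 →
      Subgroup.centralizer ({x} : Set G) = Subgroup.centralizer ((P : Subgroup G) : Set G)) :
    Star p (P : Subgroup G) (Subgroup.centralizer ((P : Subgroup G) : Set G))
      (Subgroup.normalizer ((P : Subgroup G) : Set G)) := by
  haveI := Fact.mk hp
  have hPC : (P : Subgroup G) ≤ Subgroup.centralizer ((P : Subgroup G) : Set G) := by
    intro u hu
    rw [Subgroup.mem_centralizer_iff]
    intro v hv
    by_cases h : v = 1
    · simp [h]
    have hv' : v ∈ Subgroup.centralizer ({v} : Set G) := Subgroup.mem_centralizer_iff.mpr (by simp)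
    rw [hstar v hv h] at hv'
    exact (Subgroup.mem_centralizer_iff.mp hv' u hu).symm
  refine ⟨hp, P.ne_bot_of_dvd_card hpG, hPC, ?_, ?_, ?_, ?_, ?_, P.isPGroup', ?_⟩
  · exact Subgroup.centralizer_le_normalizer _
  · exact fun c hc u hu => (Subgroup.mem_centralizer_iff.mp hc u hu).symm
  · intro u hu h g hg
    rw [← hstar u hu h, Subgroup.mem_centralizer_iff]
    simp only [Set.mem_singleton_iff, forall_eq]
    exact hg.symm
  · exact fun x hx u hu => (Subgroup.mem_normalizer_iff.mp hx u).mp hu
  · exact fun g hg => Subgroup.mem_normalizer_fintype hg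
  · exact fun h => P.not_dvd_index (h.trans (Subgroup.relIndex_dvd_index_of_le hPC))

/-- Leonard: a nonprincipal irreducible character of small degree. -/
theorem leonard_irr (hp : p.Prime) (hpG : p ∣ Nat.card G) (P : Sylow p G)
    (hstar : ∀ x ∈ (P : Subgroup G), x ≠ 1 →
      Subgroup.centralizer ({x} : Set G) = Subgroup.centralizer ((P : Subgroup G) : Set G))
    (χ : IrrCharacter G) (h1 : (χ : G → ℂ) ≠ fun _ => 1)
    (hdeg : charDegree (χ : G → ℂ) ^ 2 + 1 < Nat.card P)
    (hno : ∀ K : Subgroup G, K.Normal → (P : Subgroup G) ≤ K → K = ⊤) :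
    (∃ N : Subgroup G, N.Normal ∧ N.index = Nat.card P) ∧ charDegree (χ : G → ℂ) = 1 := by
  classical
  haveI := Fact.mk hp
  haveI := Fintype.ofFinite G
  obtain ⟨he, hx⟩ := degree_one (star_of_sylow hp hpG P hstar) χ hdeg h1 hno
  refine ⟨?_, hx⟩
  have hP : Subgroup.normalizer ((P : Subgroup G) : Set G) ≤
      Subgroup.centralizer ((P : Subgroup G) : Set G) :=
    Subgroup.subgroupOf_eq_top.mp (Subgroup.index_eq_one.mp he)
  exact ⟨(MonoidHom.transferSylow P hP).ker, inferInstance,
    (MonoidHom.ker_transferSylow_isComplement' P hP).symm.index_eq_card⟩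

end CfsgLib.SmallTI

namespace CfsgLib.SmallTI

open Cfsg CfsgLib.Characters CfsgLib.Chars17
open scoped commutatorElement

universe u

theorem leonard_faithful_aux (k : ℕ) : ∀ (G : Type u) [Group G] [Finite G], Nat.card G = k →
    ∀ (p : ℕ), p.Prime → p ∣ Nat.card G → ∀ P : Sylow p G,
      (∀ x ∈ (P : Subgroup G), x ≠ 1 →
        Subgroup.centralizer ({x} : Set G) = Subgroup.centralizer ((P : Subgroup G) : Set G)) →
      ∀ χ : G → ℂ, IsCharacter G χ → (∀ g : G, χ g = χ 1 → g = 1) →
        charDegree χ ^ 2 + 1 < Nat.card P → (P : Subgroup G).Normal := by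
  induction k using Nat.strong_induction_on with
  | _ k ih =>
    intro G _ _ hk p hp hpG P hstar χ hχ hfaith hdeg
    classical
    haveI := Fact.mk hp
    haveI := Fintype.ofFinite G
    by_cases hK : ∃ K : Subgroup G, K.Normal ∧ K ≠ ⊤ ∧ (P : Subgroup G) ≤ K
    · obtain ⟨K, hKn, hKne, hPK⟩ := hK
      haveI := hKn
      let Q : Sylow p K := P.subtype hPK
      have hQ : (Q : Subgroup K).map K.subtype = (P : Subgroup G) := by
        rw [Sylow.coe_subtype, Subgroup.map_subgroupOf_eq_of_le hPK]
      have hlt : Nat.card K < k := by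
        rw [← hk]
        refine lt_of_le_of_ne (Subgroup.card_le_card_group K) fun h => hKne ?_
        exact Subgroup.eq_top_of_card_eq K h
      have hcard : Nat.card Q = Nat.card P := by
        rw [← hQ, Subgroup.card_map_of_injective K.subtype_injective]
      have hpK : p ∣ Nat.card K := by
        have hd : p ∣ Nat.card P := P.dvd_card_of_dvd_card hpG
        exact hd.trans (Subgroup.card_dvd_of_le hPK)
      have hstar' : ∀ x ∈ (Q : Subgroup K), x ≠ 1 →
          Subgroup.centralizer ({x} : Set K) = Subgroup.centralizer ((Q : Subgroup K) : Set K) := by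
        intro x hx hx1
        have h := hstar (x : G) (hQ ▸ Subgroup.mem_map_of_mem _ hx) fun e => hx1 (Subtype.ext e)
        ext g
        have hg : (g : G) ∈ Subgroup.centralizer ({(x : G)} : Set G) ↔
            (g : G) ∈ Subgroup.centralizer ((P : Subgroup G) : Set G) := by rw [h]
        simp only [Subgroup.mem_centralizer_iff, Set.mem_singleton_iff, forall_eq,
          SetLike.mem_coe] at hg ⊢
        constructor
        · intro he v hv
          exact Subtype.ext (hg.mp (congrArg Subtype.val he) v (hQ ▸ Subgroup.mem_map_of_mem _ hv))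
        · intro he
          exact he x hx
      have hn := ih _ hlt K rfl p hp hpK Q hstar' (fun g => χ g) (isCharacter_res K hχ)
        (fun g hg => Subtype.ext (hfaith g (by simpa using hg)))
        (by rw [charDegree_res, hcard]; exact hdeg)
      haveI : (Q : Subgroup K).Characteristic := Q.characteristic_of_normal hn
      rw [← hQ]
      infer_instance
    push Not at hK
    obtain ⟨m, hdec, hm, -⟩ := exists_decomp hχ
    have hlin : ∀ ψ : IrrCharacter G, m ψ ≠ 0 → charDegree (ψ : G → ℂ) = 1 := by
      intro ψ hψ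
      by_cases h1 : (ψ : G → ℂ) = fun _ => 1
      · exact CfsgLib.LinearTwist.charDegree_eq_of_apply_one (n := 1) (by simp [h1])
      refine (leonard_irr hp hpG P hstar ψ h1 ?_ fun K hKn hPK => ?_).2
      · have hle := irrDegree_le_of_classInner_ne hχ ψ (by rw [hm ψ]; exact_mod_cast hψ)
        exact lt_of_le_of_lt (Nat.add_le_add_right (Nat.pow_le_pow_left hle 2) 1) hdeg
      · by_contra hne
        exact hK K hKn hne hPK
    have hcomm : ∀ g ∈ commutator G, g = 1 := fun g hg => hfaith g (by
      rw [hdec]
      simp only [Finset.sum_apply, Pi.smul_apply, smul_eq_mul]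
      refine Finset.sum_congr rfl fun ψ _ => ?_
      by_cases h : m ψ = 0
      · simp [h]
      · rw [(mem_irrKer.mp ((PGalois.charDegree_eq_one_iff ψ).mp (hlin ψ h) hg))])
    refine ⟨fun u hu g => ?_⟩
    have h : g * u * g⁻¹ * u⁻¹ = 1 := by
      rw [← commutatorElement_def]
      exact hcomm _ (Subgroup.commutator_mem_commutator (Subgroup.mem_top g) (Subgroup.mem_top u))
    rwa [show g * u * g⁻¹ = u from mul_inv_eq_one.mp h]

/-- Leonard: a faithful character of small degree makes `P` normal. -/
theorem leonard_faithful {G : Type u} [Group G] [Finite G] {p : ℕ} (hp : p.Prime)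
    (hpG : p ∣ Nat.card G) (P : Sylow p G)
    (hstar : ∀ x ∈ (P : Subgroup G), x ≠ 1 →
      Subgroup.centralizer ({x} : Set G) = Subgroup.centralizer ((P : Subgroup G) : Set G))
    (χ : G → ℂ) (hχ : IsCharacter G χ) (hfaith : ∀ g : G, χ g = χ 1 → g = 1)
    (hdeg : charDegree χ ^ 2 + 1 < Nat.card P) : (P : Subgroup G).Normal :=
  leonard_faithful_aux _ G rfl p hp hpG P hstar χ hχ hfaith hdeg

end CfsgLib.SmallTI
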