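import Cfsg.Agent.Lib.ModRep.Decomp
import Cfsg.Agent.Lib.ModRep.Integral
import Cfsg.Agent.Lib.Blocks12.Bounds
import Cfsg.Agent.Lib.BlockCover.DefectGroup

/-!
# The sum of the squared degrees of a block
-/

set_option autoImplicit false
set_option linter.unusedSectionVars false
set_option linter.style.haveILetI false

namespace CfsgLib.SquareSum

open Cfsg CfsgLib.Blocks CfsgLib.Characters CfsgLib.Contribution CfsgLib.ModRep
open scoped Classical

universe u

variable {G : Type u} [Group G] [Fintype G] {p : ℕ} [hp : Fact p.Prime] {M : Ideal AlgInt}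

/-- A Brauer character of a block is an integral combination over the block. -/
theorem exists_int_comb_block [M.IsMaximal] (hM : IsPModular p M) (S : Sys (BrauerPairs.ResK M) G)
    {B : Set (IrrCharacter G)} (hB : IsPBlock M B) {i : Fin S.s} (hi : i ∈ blockIdx S hM B) :
    ∃ a : IrrCharacter G → ℤ, (S.d i : ℤ) =
      ∑ ψ ∈ Finset.univ.filter (· ∈ B), a ψ * (charDegree (ψ : G → ℂ) : ℤ) := by
  obtain ⟨a, ha⟩ := exists_int_comb (hM := hM) (S.rep i)
  refine ⟨a, ?_⟩
  set φ := fun i => modChar hM (S.rep i)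
  set r := fun ψ : IrrCharacter G => pRegularPart p (ψ : G → ℂ)
  have hspan := span_blockIdx (hM := hM) S hB
  have hsplit : φ i = ∑ ψ ∈ Finset.univ.filter (· ∈ B), (a ψ : ℂ) • r ψ := by
    have hrest : φ i - ∑ ψ ∈ Finset.univ.filter (· ∈ B), (a ψ : ℂ) • r ψ =
        ∑ ψ ∈ Finset.univ.filter (fun ψ => ¬ ψ ∈ B), (a ψ : ℂ) • r ψ := by
      simp only [φ, ha]
      rw [← Finset.sum_filter_add_sum_filter_not Finset.univ (· ∈ B)]
      abel
    rw [← sub_eq_zero]
    refine Submodule.disjoint_def.1 ((modChar_linearIndependent (hM := hM) S).disjoint_span_image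
      (disjoint_compl_right (a := blockIdx S hM B))) _ ?_ ?_
    · refine Submodule.sub_mem _ (Submodule.subset_span ⟨i, hi, rfl⟩) ?_
      rw [← hspan]
      exact Submodule.sum_mem _ fun ψ hψ => Submodule.smul_mem _ _
        (Submodule.subset_span ⟨ψ, (Finset.mem_filter.1 hψ).2, rfl⟩)
    · rw [hrest]
      refine Submodule.sum_mem _ fun ψ hψ => Submodule.smul_mem _ _ ?_
      have hψB := (Finset.mem_filter.1 hψ).2
      have hB' : IsPBlock M (blockOf M (ψ : G → ℂ)) := isPBlock_blockOf ψ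
      have h1 : r ψ ∈ Submodule.span ℂ ((fun i => modChar hM (S.rep i)) ''
          blockIdx S hM (blockOf M (ψ : G → ℂ))) := by
        rw [← span_blockIdx (hM := hM) S hB']
        exact Submodule.subset_span ⟨ψ, mem_blockOf_self hM ψ, rfl⟩
      refine Submodule.span_mono (Set.image_mono ?_) h1
      intro j hj hjB
      apply hψB
      rw [isSimp_inBlock_unique (hM := hM) (S.isSimp_rep j) hB hB' hjB hj]
      exact mem_blockOf_self hM ψ
  have h1 := congrFun hsplit 1
  simp only [φ, r, Finset.sum_apply, Pi.smul_apply, smul_eq_mul, pRegularPart] at h1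
  rw [modChar_one, Module.finrank_fin_fun] at h1
  simp only [if_pos (show IsPRegular p (1 : G) by simpa [IsPRegular] using hp.out.ne_one),
    (CfsgLib.ClassCount.degree_eq _).1] at h1
  exact_mod_cast h1

/-- The factorization of the sum of the squared degrees. -/
theorem square_sum_factorization (hM : IsPModular p M) {B : Set (IrrCharacter G)}
    (hB : IsPBlock M B) {a d : ℕ} (ha : (Nat.card G).factorization p = a)
    (hd : blockDefect p B = d) {g : ℕ}
    (hg1 : ∀ χ ∈ B, g ∣ charDegree (χ : G → ℂ))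
    (hg2 : ∀ g' : ℕ, (∀ χ ∈ B, g' ∣ charDegree (χ : G → ℂ)) → g' ∣ g) :
    g.factorization p = a - d ∧ ∃ v : ℕ, 0 < v ∧ ¬ p ∣ v ∧ blockRank p B ≤ v ∧
      ∑ᶠ χ ∈ B, charDegree (χ : G → ℂ) ^ 2 = p ^ (2 * a - d) * (g / p ^ (a - d)) ^ 2 * v := by
  haveI := hM.2.1
  have hP := hp.out
  obtain ⟨χ₀, hχ₀, -, hv₀⟩ := exists_height_zero hM hB
  have hmd := minExp_add_defect hM hB
  rw [hd, ha] at hmd
  have hdeg : ∀ χ : IrrCharacter G, 0 < charDegree (χ : G → ℂ) := fun χ =>
    (CfsgLib.ClassCount.degree_eq χ).2.2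
  have hg0 : g ≠ 0 := fun h0 => (hdeg χ₀).ne' (Nat.eq_zero_of_zero_dvd (h0 ▸ hg1 χ₀ hχ₀))
  have hm : minExp p B = a - d := by omega
  have hge : p ^ (a - d) ∣ g := hg2 _ fun χ hχ =>
    hm ▸ (pow_dvd_pow p (minExp_le hχ)).trans (Nat.ordProj_dvd _ p)
  have hfac : g.factorization p = a - d := by
    refine le_antisymm ?_ ((hP.pow_dvd_iff_le_factorization hg0).1 hge)
    rw [← hm, ← hv₀]
    exact (Nat.factorization_le_iff_dvd hg0 (hdeg χ₀).ne').2 (hg1 χ₀ hχ₀) p
  refine ⟨hfac, ?_⟩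
  set u := g / p ^ (a - d) with hu
  have hgu : g = p ^ (a - d) * u := (Nat.mul_div_cancel' hge).symm
  have hpu : ¬ p ∣ u := by rw [hu, ← hfac]; exact Nat.not_dvd_ordCompl hP hg0
  haveI := BPStar.isAlgClosed_res hM
  obtain ⟨S⟩ := exists_sys (K := BrauerPairs.ResK M) (G := G)
  set n : Fin S.s → ℕ := fun i =>
    ∑ χ : IrrCharacter G, decomp hM S χ i * charDegree (χ : G → ℂ) with hn
  have hni : ∀ i ∈ blockIdx S hM B, p ^ a * u ∣ n i ∧ 0 < n i := by
    intro i hi
    obtain ⟨m, hm0, hma, -, hmeq⟩ := exists_pimChar_one hM S i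
    rw [ha] at hma
    have hmn : m = n i := hmeq
    refine ⟨Nat.Coprime.mul_dvd_of_dvd_of_dvd ((hP.coprime_iff_not_dvd.2 hpu).pow_left a)
      (hmn ▸ hma) (Finset.dvd_sum fun χ _ => ?_), hmn ▸ hm0⟩
    by_cases hχ : χ ∈ B
    · exact ((Dvd.intro_left _ hgu.symm).trans (hg1 χ hχ)).mul_left _
    · rw [decomp_eq_zero hM S hB fun h => hχ (h.2 hi), zero_mul]
      exact dvd_zero _
  have hdi : ∀ i ∈ blockIdx S hM B, g ∣ S.d i := by
    intro i hi
    obtain ⟨c, hc⟩ := exists_int_comb_block hM S hB hi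
    refine Int.natCast_dvd_natCast.1 (hc ▸ Finset.dvd_sum fun ψ hψ => ?_)
    exact (Int.natCast_dvd_natCast.2 (hg1 ψ (Finset.mem_filter.1 hψ).2)).mul_left _
  set I := Finset.univ.filter (· ∈ blockIdx S hM B) with hI
  set v := ∑ i ∈ I, S.d i / g * (n i / (p ^ a * u)) with hv
  have hterm : ∀ i ∈ I, S.d i * n i = p ^ (2 * a - d) * u ^ 2 * (S.d i / g * (n i / (p ^ a * u))) := by
    intro i hi
    have hi' := (Finset.mem_filter.1 hi).2
    calc S.d i * n i = (g * (S.d i / g)) * (p ^ a * u * (n i / (p ^ a * u))) := by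
          rw [Nat.mul_div_cancel' (hdi i hi'), Nat.mul_div_cancel' (hni i hi').1]
      _ = _ := by
          rw [hgu, show 2 * a - d = (a - d) + a by omega, pow_add]
          ring
  have hsum : ∑ᶠ χ ∈ B, charDegree (χ : G → ℂ) ^ 2 = p ^ (2 * a - d) * u ^ 2 * v := by
    rw [finsum_mem_eq_sum_of_inter_support_eq (t := Finset.univ.filter (· ∈ B)) _ (by simp),
      sum_sq_eq hM S hB, hv, Finset.mul_sum]
    exact Finset.sum_congr rfl hterm
  have hlv : blockRank p B ≤ v := by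
    rw [← ncard_blockIdx (hM := hM) S hB, Nat.card_eq_fintype_card, Fintype.card_subtype, ← hI,
      Finset.card_eq_sum_ones, hv]
    refine Finset.sum_le_sum fun i hi => ?_
    have hi' := (Finset.mem_filter.1 hi).2
    exact Nat.mul_pos (Nat.div_pos (Nat.le_of_dvd (S.pos i) (hdi i hi')) (Nat.pos_of_ne_zero hg0))
      (Nat.div_pos (Nat.le_of_dvd (hni i hi').2 (hni i hi').1)
        (Nat.pos_of_ne_zero (mul_ne_zero (pow_ne_zero _ hP.ne_zero) fun h0 => hpu (h0 ▸ dvd_zero p))))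
  have hv0 : 0 < v := by
    by_contra h0
    rw [show v = 0 by omega, mul_zero] at hsum
    rw [finsum_mem_eq_sum_of_inter_support_eq (t := Finset.univ.filter (· ∈ B)) _ (by simp),
      Finset.sum_eq_zero_iff] at hsum
    have := hsum χ₀ (by simp [hχ₀])
    exact (hdeg χ₀).ne' (by simpa using this)
  refine ⟨v, hv0, fun hpv => ?_, hlv, hsum⟩
  have h1 := sum_sq_valuation hM hB
  rw [hsum, hd, ha] at h1
  have hu0 : u ≠ 0 := fun h0 => hpu (h0 ▸ dvd_zero p)
  have h2 : p ^ (2 * a - d + 1) ∣ p ^ (2 * a - d) * u ^ 2 * v := by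
    obtain ⟨w, hw⟩ := hpv
    exact ⟨u ^ 2 * w, by rw [hw, pow_succ]; ring⟩
  have h3 := (hP.pow_dvd_iff_le_factorization
    (mul_ne_zero (mul_ne_zero (pow_ne_zero _ hP.ne_zero) (pow_ne_zero _ hu0)) hv0.ne')).1 h2
  omega

end CfsgLib.SquareSum
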