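import Cfsg.Agent.Lib.Blocks12.Bounds

/-! # The weighted Brauer–Feit bound -/

set_option autoImplicit false

namespace CfsgLib.Contribution

open Cfsg CfsgLib.Characters CfsgLib.Blocks

universe u

variable {G : Type u} [Group G] [Fintype G] [Fintype (ConjClasses G)] {p : ℕ} {M : Ideal AlgInt}
  {B : Set (IrrCharacter G)}

theorem weighted_bound (hM : IsPModular p M) (hB : IsPBlock M B) :
    4 * ∑ χ ∈ members B, p ^ (2 * blockHeight p B (χ : G → ℂ)) ≤
      p ^ (2 * blockDefect p B) + 4 := by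
  classical
  obtain ⟨χ, hχ, h0, hv⟩ := exists_height_zero hM hB
  have hm := mem_members.mpr hχ
  have hht : ∀ φ : IrrCharacter G, blockHeight p B (φ : G → ℂ) =
      (charDegree (φ : G → ℂ)).factorization p - minExp p B := fun φ => rfl
  have hterm : ∀ φ ∈ (members B).erase χ,
      ((p ^ (2 * blockHeight p B (φ : G → ℂ)) : ℕ) : ℤ) ≤ contribInt p B χ φ ^ 2 := by
    intro φ hφ
    have hφB := mem_members.mp (Finset.mem_of_mem_erase hφ)
    set h := blockHeight p B (φ : G → ℂ) with hh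
    obtain ⟨w, hw⟩ : p ^ h ∣ red p B φ := (pow_dvd_red hM.1 hφB).2 (by
      have := minExp_le (p := p) hφB
      rw [hh, hht]; omega)
    have e : (contribInt p B χ φ : ℂ) = (p : ℂ) ^ h * ((w : ℂ) * tfac p χ φ) := by
      rw [contribInt_cast hM hB χ hφB, contrib_eq hM hB χ hφB, hw]; push_cast; ring
    obtain ⟨z, hz⟩ := int_pow_dvd hM
      ((lRing hM).mul_mem (natCast_mem (lRing hM) w) (tfac_mem hM χ φ)) e
    have hz0 : z ≠ 0 := fun h1 => contribInt_zero_ne hM hB hχ h0 hφB (by rw [hz, h1, mul_zero])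
    have hz1 : (1 : ℤ) ≤ z ^ 2 := by
      have : 0 < z ^ 2 := by positivity
      omega
    rw [hz, mul_pow, ← pow_mul, mul_comm h 2]
    push_cast
    exact le_mul_of_one_le_right (by positivity) hz1
  have hrow := contribInt_row hM hB hχ
  rw [← Finset.add_sum_erase _ _ hm] at hrow
  have h1 : (((∑ φ ∈ (members B).erase χ, p ^ (2 * blockHeight p B (φ : G → ℂ))) : ℕ) : ℤ) ≤
      ∑ φ ∈ (members B).erase χ, contribInt p B χ φ ^ 2 := by
    rw [Nat.cast_sum]; exact Finset.sum_le_sum hterm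
  rw [← Finset.add_sum_erase _ _ hm, show blockHeight p B (χ : G → ℂ) = 0 by rw [hht, hv, Nat.sub_self],
    mul_zero, pow_zero]
  set S := ∑ φ ∈ (members B).erase χ, p ^ (2 * blockHeight p B (φ : G → ℂ))
  set m := contribInt p B χ χ
  set N : ℤ := (p : ℤ) ^ blockDefect p B with hN
  have h4 : (4 * (1 + (S : ℤ))) ≤ N * N + 4 := by nlinarith [sq_nonneg (2 * m - N)]
  have h5 : N * N = ((p ^ (2 * blockDefect p B) : ℕ) : ℤ) := by
    rw [hN, ← pow_add]; push_cast; ring_nf
  rw [h5] at h4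
  exact_mod_cast h4

end CfsgLib.Contribution
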